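import Mathlib
import Cfsg.Agent.Spor.MX.Glue
import Cfsg.Agent.Spor.MX.M11

/-! Generated by tools/mx: the chain M11 < M12 -/

set_option autoImplicit false
set_option maxRecDepth 100000
set_option linter.unusedVariables false
set_option exponentiation.threshold 100000

namespace Cfsg.Agent.Spor.MX

open Cfsg.Agent.Spor

universe u

noncomputable def m12_rels : LT :=
(.node (.node (.node (.node (.leaf [])
 (.leaf [nat_lit 0,nat_lit 3,nat_lit 2,nat_lit 0,nat_lit 3,nat_lit 2])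
) (.leaf [nat_lit 0,nat_lit 0,nat_lit 2,nat_lit 1,nat_lit 1,nat_lit 2,nat_lit 0,nat_lit 2,nat_lit 1,nat_lit 1,nat_lit 2,nat_lit 1,nat_lit 2,nat_lit 0,nat_lit 2,nat_lit 1,nat_lit 2])
) (.node (.node (.leaf [nat_lit 0,nat_lit 0,nat_lit 0,nat_lit 0,nat_lit 0,nat_lit 0,nat_lit 0,nat_lit 0,nat_lit 0,nat_lit 0,nat_lit 0])
 (.leaf [nat_lit 0,nat_lit 0,nat_lit 0,nat_lit 3,nat_lit 2,nat_lit 1,nat_lit 2,nat_lit 0,nat_lit 0,nat_lit 0,nat_lit 3,nat_lit 2,nat_lit 1,nat_lit 2])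
) (.leaf [nat_lit 0,nat_lit 0,nat_lit 0,nat_lit 2,nat_lit 0,nat_lit 2,nat_lit 1,nat_lit 1,nat_lit 2,nat_lit 0,nat_lit 0,nat_lit 0,nat_lit 2,nat_lit 1,nat_lit 2,nat_lit 0,nat_lit 2,nat_lit 1,nat_lit 1,nat_lit 1,nat_lit 2])
)) (.node (.node (.node (.leaf [nat_lit 0,nat_lit 1])
 (.leaf [nat_lit 0,nat_lit 2,nat_lit 0,nat_lit 3,nat_lit 0,nat_lit 3,nat_lit 1,nat_lit 3,nat_lit 1,nat_lit 2,nat_lit 1,nat_lit 2])
) (.leaf [nat_lit 0,nat_lit 0,nat_lit 2,nat_lit 0,nat_lit 0,nat_lit 2,nat_lit 0,nat_lit 0,nat_lit 2,nat_lit 0,nat_lit 0,nat_lit 2,nat_lit 0,nat_lit 0,nat_lit 2,nat_lit 0,nat_lit 0,nat_lit 2])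
) (.node (.leaf [nat_lit 2,nat_lit 2])
 (.leaf [nat_lit 3,nat_lit 3])
)))
noncomputable def m12_inv : ℕ → ℕ := getP (nat_lit 8) (nat_lit 255) (nat_lit 0x3020001)
noncomputable def m12_pi : ℕ → ℕ := getP (nat_lit 16) (nat_lit 65535) (nat_lit 0x7000300010001)

noncomputable def m12_L_t : BT :=
(.node (.node (.node (.leaf (nat_lit 0x80a02c028209240000000000001a6000000000001ffc004004050080027b0240b010003207a8000000000000113000010280100055c00000000001016800000000000002440000000000100c40000000000040148000000000038000))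
 (.leaf (nat_lit 0x100d800000000000401600000000000100d0000000000004004000000000000c0cc000000000003013000000000000c088000000000003002000000000000804400000000000200100000000000040c0000000000000000))
) (.leaf (nat_lit 0x100102808a20a20010000b001881b6000000000001ffc0000000000007ff0028000080052081c0b00001000001ca00000000000003c80a00002000881d4000000040b1202840000000000100e50000002c010002cc000000000038020))
) (.node (.leaf (nat_lit 0x200b01c0a9209a00300408000001f7028020040a00096c0000000000001740000b0080b42051400000000001019a000000000001ffc00000000000000d20000000000040418000000000000061000000000004020c000000000038010))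
 (.leaf (nat_lit 0xb0008d8000040a001c821a000000000001ffc0000000000007ff0000000000b0004cc00000000001022b000000000001ffc0000000000010189000000000004049c0002c0000408072000000000b000100000000000010031))
))

noncomputable def m12_L_rules : LT :=
(.node (.node (.node (.node (.leaf [nat_lit 0xb00002,nat_lit 9,nat_lit 6,nat_lit 1,nat_lit 3,nat_lit 1,nat_lit 3,nat_lit 1,nat_lit 2,nat_lit 1,nat_lit 2,nat_lit 0,nat_lit 2,nat_lit 0,nat_lit 3,nat_lit 0])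
 (.leaf [nat_lit 0xb00003,nat_lit 9,nat_lit 7,nat_lit 1,nat_lit 0,nat_lit 3,nat_lit 1,nat_lit 2,nat_lit 1,nat_lit 2,nat_lit 0,nat_lit 2,nat_lit 0,nat_lit 3,nat_lit 0,nat_lit 3])
) (.leaf [nat_lit 0x400,nat_lit 8,nat_lit 3,nat_lit 0,nat_lit 1,nat_lit 3,nat_lit 2,nat_lit 0,nat_lit 3,nat_lit 2])
) (.node (.node (.leaf [nat_lit 0,nat_lit 4,nat_lit 14,nat_lit 1,nat_lit 2,nat_lit 1,nat_lit 1,nat_lit 2,nat_lit 0,nat_lit 2,nat_lit 1,nat_lit 2,nat_lit 0,nat_lit 2,nat_lit 0,nat_lit 0,nat_lit 2,nat_lit 1,nat_lit 2,nat_lit 0,nat_lit 0])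
 (.leaf [nat_lit 0x2c0000002,nat_lit 10,nat_lit 2,nat_lit 1,nat_lit 2,nat_lit 3,nat_lit 1,nat_lit 1,nat_lit 1,nat_lit 2,nat_lit 0,nat_lit 2,nat_lit 3,nat_lit 1,nat_lit 1,nat_lit 1,nat_lit 2,nat_lit 0])
) (.leaf [nat_lit 0x40000000,nat_lit 10,nat_lit 6,nat_lit 0,nat_lit 2,nat_lit 0,nat_lit 0,nat_lit 0,nat_lit 3,nat_lit 2,nat_lit 1,nat_lit 2,nat_lit 0,nat_lit 0,nat_lit 0,nat_lit 3,nat_lit 2,nat_lit 1])
)) (.node (.node (.node (.leaf [nat_lit 0x400,nat_lit 8,nat_lit 2,nat_lit 0,nat_lit 2,nat_lit 0,nat_lit 3,nat_lit 2,nat_lit 0,nat_lit 3])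
 (.leaf [nat_lit 0x40000000,nat_lit 10,nat_lit 9,nat_lit 0,nat_lit 1,nat_lit 3,nat_lit 2,nat_lit 1,nat_lit 2,nat_lit 0,nat_lit 0,nat_lit 0,nat_lit 3,nat_lit 2,nat_lit 1,nat_lit 2,nat_lit 0,nat_lit 0])
) (.leaf [nat_lit 0,nat_lit 4,nat_lit 16,nat_lit 0,nat_lit 2,nat_lit 0,nat_lit 0,nat_lit 2,nat_lit 1,nat_lit 1,nat_lit 2,nat_lit 0,nat_lit 2,nat_lit 1,nat_lit 1,nat_lit 2,nat_lit 1,nat_lit 2,nat_lit 0,nat_lit 2,nat_lit 1])
) (.node (.leaf [nat_lit 0,nat_lit 4,nat_lit 8,nat_lit 0,nat_lit 0,nat_lit 1,nat_lit 2,nat_lit 1,nat_lit 2,nat_lit 0,nat_lit 2,nat_lit 1,nat_lit 2,nat_lit 0,nat_lit 0,nat_lit 2,nat_lit 1,nat_lit 1,nat_lit 2,nat_lit 0,nat_lit 2])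
 (.leaf [nat_lit 0x2c01,nat_lit 8,nat_lit 4,nat_lit 1,nat_lit 3,nat_lit 1,nat_lit 2,nat_lit 3,nat_lit 1,nat_lit 2])
)))

noncomputable def m12_L_R : LT :=
(.node (.node (.node (.leaf [nat_lit 7,nat_lit 2,nat_lit 0xa00003])
 (.leaf [nat_lit 8,nat_lit 10,nat_lit 0x1c0201409])
) (.leaf [nat_lit 5,nat_lit 6,nat_lit 0x200000004])
) (.node (.leaf [nat_lit 3,nat_lit 4,nat_lit 0x200001000])
 (.leaf [nat_lit 9,nat_lit 7,nat_lit 0x28020000b])
))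

noncomputable def m12_C : LC :=
  ⟨⟨fun x c => Nat.shiftRight (BT.get m12_L_t x) (Nat.mul (nat_lit 62) c),
  (nat_lit 4), (nat_lit 15), (nat_lit 32767), (nat_lit 15), (nat_lit 127), (nat_lit 32752), (nat_lit 0), (nat_lit 12), (nat_lit 4), (nat_lit 3), (nat_lit 0), (nat_lit 4), m12_inv, m12_L_rules, .leaf []⟩,
  (nat_lit 22), (nat_lit 0x3c0f03c0f), (nat_lit 0xfc3f0fc3f), (nat_lit 10), (nat_lit 4), (nat_lit 12), (nat_lit 7), (nat_lit 15), (nat_lit 63), (nat_lit 21), m12_pi, m12_rels, m12_L_R⟩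

noncomputable def m12_U_t : BT :=
(.node (.node (.node (.leaf (nat_lit 0xc20964001b6820a540028b4207e80011300055c10168000244100c404014838000))
 (.leaf (nat_lit 0x1ffc007ff001ffc007ff001ffc007ff001ffc007ff001ffc007ff001ffc007ff0))
) (.leaf (nat_lit 0xe20ae2881c6920b64002cb62085c001da0003c8881e4120284100e50002cc38020))
) (.node (.node (.leaf (nat_lit 0xd209e0002070009ac00174520514101aa000aa4000d20404180006104020c38010))
 (.leaf (nat_lit 0x100d8040160100d00400400c0cc0301300c08803002008044020010040c000000))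
) (.leaf (nat_lit 0x91ac822a000651c82e80004cc1023b320bd41018904049c0807200010010031))
))

noncomputable def m12_U_rules : LT :=
(.node (.node (.node (.node (.leaf [nat_lit 9,nat_lit 6,nat_lit 1,nat_lit 3,nat_lit 1,nat_lit 3,nat_lit 1,nat_lit 2,nat_lit 1,nat_lit 2,nat_lit 0,nat_lit 2,nat_lit 0,nat_lit 3,nat_lit 0])
 (.leaf [nat_lit 2,nat_lit 9,nat_lit 1,nat_lit 0,nat_lit 1,nat_lit 1,nat_lit 1,nat_lit 1,nat_lit 1,nat_lit 1,nat_lit 1,nat_lit 1,nat_lit 1,nat_lit 1])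
) (.node (.leaf [nat_lit 4,nat_lit 8,nat_lit 0,nat_lit 0,nat_lit 1,nat_lit 2,nat_lit 1,nat_lit 2,nat_lit 0,nat_lit 2,nat_lit 1,nat_lit 2,nat_lit 0,nat_lit 0,nat_lit 2,nat_lit 1,nat_lit 1,nat_lit 2,nat_lit 0,nat_lit 2])
 (.leaf [nat_lit 9,nat_lit 7,nat_lit 1,nat_lit 0,nat_lit 3,nat_lit 1,nat_lit 2,nat_lit 1,nat_lit 2,nat_lit 0,nat_lit 2,nat_lit 0,nat_lit 3,nat_lit 0,nat_lit 3])
)) (.node (.node (.leaf [nat_lit 4,nat_lit 14,nat_lit 1,nat_lit 2,nat_lit 1,nat_lit 1,nat_lit 2,nat_lit 0,nat_lit 2,nat_lit 1,nat_lit 2,nat_lit 0,nat_lit 2,nat_lit 0,nat_lit 0,nat_lit 2,nat_lit 1,nat_lit 2,nat_lit 0,nat_lit 0])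
 (.leaf [nat_lit 10,nat_lit 6,nat_lit 0,nat_lit 2,nat_lit 0,nat_lit 0,nat_lit 0,nat_lit 3,nat_lit 2,nat_lit 1,nat_lit 2,nat_lit 0,nat_lit 0,nat_lit 0,nat_lit 3,nat_lit 2,nat_lit 1])
) (.node (.leaf [nat_lit 4,nat_lit 16,nat_lit 0,nat_lit 2,nat_lit 0,nat_lit 0,nat_lit 2,nat_lit 1,nat_lit 1,nat_lit 2,nat_lit 0,nat_lit 2,nat_lit 1,nat_lit 1,nat_lit 2,nat_lit 1,nat_lit 2,nat_lit 0,nat_lit 2,nat_lit 1])
 (.leaf [nat_lit 10,nat_lit 2,nat_lit 1,nat_lit 2,nat_lit 3,nat_lit 1,nat_lit 1,nat_lit 1,nat_lit 2,nat_lit 0,nat_lit 2,nat_lit 3,nat_lit 1,nat_lit 1,nat_lit 1,nat_lit 2,nat_lit 0])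
))) (.node (.node (.node (.leaf [nat_lit 8,nat_lit 2,nat_lit 0,nat_lit 2,nat_lit 0,nat_lit 3,nat_lit 2,nat_lit 0,nat_lit 3])
 (.leaf [nat_lit 4,nat_lit 10,nat_lit 0,nat_lit 2,nat_lit 1,nat_lit 2,nat_lit 0,nat_lit 2,nat_lit 1,nat_lit 2,nat_lit 0,nat_lit 0,nat_lit 2,nat_lit 1,nat_lit 1,nat_lit 2,nat_lit 0,nat_lit 2,nat_lit 1,nat_lit 1])
) (.node (.leaf [nat_lit 8,nat_lit 3,nat_lit 0,nat_lit 1,nat_lit 3,nat_lit 2,nat_lit 0,nat_lit 3,nat_lit 2])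
 (.leaf [nat_lit 10,nat_lit 9,nat_lit 0,nat_lit 1,nat_lit 3,nat_lit 2,nat_lit 1,nat_lit 2,nat_lit 0,nat_lit 0,nat_lit 0,nat_lit 3,nat_lit 2,nat_lit 1,nat_lit 2,nat_lit 0,nat_lit 0])
)) (.node (.node (.leaf [nat_lit 9,nat_lit 8,nat_lit 1,nat_lit 3,nat_lit 1,nat_lit 2,nat_lit 1,nat_lit 2,nat_lit 0,nat_lit 2,nat_lit 0,nat_lit 3,nat_lit 0,nat_lit 3,nat_lit 1])
 (.leaf [nat_lit 8,nat_lit 4,nat_lit 1,nat_lit 3,nat_lit 1,nat_lit 2,nat_lit 3,nat_lit 1,nat_lit 2])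
) (.leaf [nat_lit 9,nat_lit 4,nat_lit 1,nat_lit 3,nat_lit 0,nat_lit 3,nat_lit 1,nat_lit 3,nat_lit 1,nat_lit 2,nat_lit 1,nat_lit 2,nat_lit 0,nat_lit 2,nat_lit 0])
)))

noncomputable def m12_U_subs : LT :=
(.leaf [nat_lit 0,nat_lit 0,nat_lit 0,nat_lit 4])


noncomputable def m12_U : TC :=
  ⟨fun x c => Nat.shiftRight (BT.get m12_U_t x) (Nat.mul (nat_lit 22) c),
  (nat_lit 4), (nat_lit 15), (nat_lit 32767), (nat_lit 15), (nat_lit 127), (nat_lit 32752), (nat_lit 12), (nat_lit 12), (nat_lit 4), (nat_lit 3), (nat_lit 4), (nat_lit 5), m12_inv, m12_U_rules, m12_U_subs⟩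

noncomputable def m12_A4 : LA :=
  ⟨(nat_lit 4), (nat_lit 0x3fcff3fcff), (nat_lit 255), (nat_lit 5), (nat_lit 1), BT.get (.node (.node (.leaf (nat_lit 0))
 (.leaf (nat_lit 0))
) (.node (.leaf (nat_lit 0))
 (.leaf (nat_lit 0x100000))
)), BT.get (.leaf (nat_lit 0x200400))
, BT.get (.leaf (nat_lit 2))
,
(.node (.node (.leaf [nat_lit 65536])
 (.leaf [])
) (.node (.leaf [nat_lit 196613])
 (.leaf [nat_lit 65536,nat_lit 65540,nat_lit 196613])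
)),
(.leaf [nat_lit 196608,nat_lit 196611,nat_lit 131076])
⟩

noncomputable def m12_A3 : LA :=
  ⟨(nat_lit 3), (nat_lit 0x3fcff3fcff), (nat_lit 255), (nat_lit 5), (nat_lit 0), BT.get (.node (.node (.leaf (nat_lit 0))
 (.leaf (nat_lit 0))
) (.node (.leaf (nat_lit 0))
 (.leaf (nat_lit 0x1))
)), BT.get (.leaf (nat_lit 0)), BT.get (.leaf (nat_lit 0)),
(.node (.node (.leaf [])
 (.leaf [nat_lit 131072])
) (.node (.leaf [nat_lit 131073,nat_lit 65538])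
 (.leaf [nat_lit 65538])
)),
(.leaf [])⟩

noncomputable def m12a_T_t0 : BT :=
(.node (.node (.node (.leaf (nat_lit 0x845cfb5d285aab494ca46b06239820))
 (.leaf (nat_lit 0xb5e9594e1173d8d52d0931c8510c01))
) (.leaf (nat_lit 0x8c1ac9caf67bab42912810d6a31c20))
) (.node (.leaf (nat_lit 0x94dac52ed7a54e67ba301892829020))
 (.leaf (nat_lit 0x6b2b44a23039af65aa727b8a408062))
))

noncomputable def m12a_T : ℕ → ℕ → ℕ := fun x i => Nat.land (Nat.shiftRight (BT.get m12a_T_t0 x) (Nat.mul (nat_lit 5) i)) (nat_lit 31)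

noncomputable def m12a_rz : LT :=
(.node (.node (.node (.node (.leaf [])
 (.leaf [nat_lit 0,nat_lit 3,nat_lit 2,nat_lit 0,nat_lit 3,nat_lit 2,nat_lit 4])
) (.leaf [nat_lit 0,nat_lit 0,nat_lit 2,nat_lit 1,nat_lit 1,nat_lit 2,nat_lit 0,nat_lit 2,nat_lit 1,nat_lit 1,nat_lit 2,nat_lit 1,nat_lit 2,nat_lit 0,nat_lit 2,nat_lit 1,nat_lit 2])
) (.node (.node (.leaf [nat_lit 0,nat_lit 0,nat_lit 0,nat_lit 0,nat_lit 0,nat_lit 0,nat_lit 0,nat_lit 0,nat_lit 0,nat_lit 0,nat_lit 0])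
 (.leaf [nat_lit 0,nat_lit 0,nat_lit 0,nat_lit 3,nat_lit 2,nat_lit 1,nat_lit 2,nat_lit 0,nat_lit 0,nat_lit 0,nat_lit 3,nat_lit 2,nat_lit 1,nat_lit 2,nat_lit 4])
) (.leaf [nat_lit 0,nat_lit 0,nat_lit 0,nat_lit 2,nat_lit 0,nat_lit 2,nat_lit 1,nat_lit 1,nat_lit 2,nat_lit 0,nat_lit 0,nat_lit 0,nat_lit 2,nat_lit 1,nat_lit 2,nat_lit 0,nat_lit 2,nat_lit 1,nat_lit 1,nat_lit 1,nat_lit 2])
)) (.node (.node (.node (.leaf [nat_lit 0,nat_lit 1])
 (.leaf [nat_lit 0,nat_lit 2,nat_lit 0,nat_lit 3,nat_lit 0,nat_lit 3,nat_lit 1,nat_lit 3,nat_lit 1,nat_lit 2,nat_lit 1,nat_lit 2])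
) (.leaf [nat_lit 0,nat_lit 0,nat_lit 2,nat_lit 0,nat_lit 0,nat_lit 2,nat_lit 0,nat_lit 0,nat_lit 2,nat_lit 0,nat_lit 0,nat_lit 2,nat_lit 0,nat_lit 0,nat_lit 2,nat_lit 0,nat_lit 0,nat_lit 2])
) (.node (.node (.leaf [nat_lit 2,nat_lit 2])
 (.leaf [nat_lit 4,nat_lit 4])
) (.leaf [nat_lit 3,nat_lit 3])
)))

theorem m12_b : m12_C.base = true := by decide +kernel

theorem m12_s0 : m12_C.slots (nat_lit 0) (nat_lit 12) = true := by decide +kernel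

theorem m12_U_c1 : m12_U.rules.all (ruleOK m12_U.m m12_U.inv m12_rels) = true := by decide +kernel
theorem m12_U_c2 : m12_U.subs.all (subOK m12_U.m m12_U.inv (LT.leaf [])) = true := by decide +kernel
theorem m12_U_c3 : m12_U.base = true := by decide +kernel

theorem m12_U_s0 : m12_U.slots (nat_lit 0) (nat_lit 12) = true := by decide +kernel

theorem m12_U_c6 : m12_U.rules.all (fun l => goodB (nat_lit 7) (nat_lit 4) m12_U.mH m12_rels (hdL l)) = true := by decide +kernel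

theorem m12_A4_ok : m12_A4.ok m12_C = true := by decide +kernel

theorem m12_A3_ok : m12_A3.ok m12_C = true := by decide +kernel

theorem m12a_a0 : allRange (nat_lit 0) (nat_lit 24) (cenB m12a_T (nat_lit 24) (nat_lit 4) [nat_lit 1,nat_lit 2] [nat_lit 0,nat_lit 0,nat_lit 3,nat_lit 2,nat_lit 1,nat_lit 3]) = true := by decide +kernel

theorem m12a_f0 : m12a_rz.all (fun w => fixesRange m12a_T w (nat_lit 0) (nat_lit 24)) = true := by decide +kernel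

theorem m12a_c : covB m12a_T 4 2 0 m12_rels m12a_rz [nat_lit 1,nat_lit 2] [nat_lit 0,nat_lit 0,nat_lit 3,nat_lit 2,nat_lit 1,nat_lit 3] = true := by decide +kernel

theorem m12_up : m12_C.Upto m12_C.T.N := ((LC.upto_zero m12_C).step _ m12_s0)

theorem m12_U_c4 : m12_U.Upto m12_U.N := ((TC.upto_zero m12_U).step _ m12_U_s0)
theorem m12_U_c5 : m12_U.UptoE m12_U.N := (TC.uptoE_n m12_U)

theorem m12_idx : Idx.{u} m12_rels (nat_lit 7) (nat_lit 4) m12_inv (nat_lit 3) (nat_lit 4) (nat_lit 12) :=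
  idx_of_tc m12_U_c1 m12_U_c2 m12_U_c3 m12_U_c4 m12_U_c5 m12_U_c6

theorem m12_low {G : Type u} [Group G] {g : ℕ → G} (h : ∀ i, evalW g (m12_rels.get i) = 1) : ∀ i, evalW g (m11_rels.get i) = 1 :=
  rels_of_sub (by decide +kernel) h

theorem m12_bnd {G : Type u} [Group G] {g : ℕ → G} (h : ∀ i, evalW g (m12_rels.get i) = 1) : Bnd g 4 95040 :=
  Bnd.step (C := m12_C) h (m11_bnd (m12_low h)) m12_b m12_idx

theorem m12_l4 {G : Type u} [Group G] {g : ℕ → G} (h : ∀ i, evalW g (m12_rels.get i) = 1) : Lifts 4 g 4 190080 :=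
  Lifts.step (C := m12_C) (L := m12_A4) h ((m11_l8 (m12_low h)).of_dvd (by decide)) m12_b m12_up m12_A4_ok m12_idx (by decide +kernel)

theorem m12_l3 {G : Type u} [Group G] {g : ℕ → G} (h : ∀ i, evalW g (m12_rels.get i) = 1) : Lifts 3 g 4 95040 :=
  Lifts.step (C := m12_C) (L := m12_A3) h ((m11_l9 (m12_low h)).of_dvd (by decide)) m12_b m12_up m12_A3_ok m12_idx (by decide +kernel)

theorem m12a_cover {G : Type} [Group G] {K : Subgroup G} {g : ℕ → G} (hg : Gen K g m12_rels 4 95040)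
    (h : Commute (evalW g [1, 2]) (evalW g [0, 0, 3, 2, 1, 3])) : 2 ∣ Monoid.exponent (Ch.Mult K) :=
  hg.cover (n := 24) (fun _ _ _ h => m12_bnd h) (range_append _ (allLt_of_zero _) m12a_a0 rfl) ((fixUpto_zero _ _).step _ m12a_f0) m12a_c h

end Cfsg.Agent.Spor.MX
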