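import Mathlib
import Cfsg.Agent.Spor.MX.M12
import Cfsg.Agent.Spor.MX.M24
import Cfsg.Agent.Spor.PC.Golay
import Cfsg.Agent.Spor.Dodecad
import Cfsg.Agent.Spor.Blocks

/-! Generated by tools/mx: letters in the Mathieu groups -/

set_option autoImplicit false
set_option maxRecDepth 100000
set_option linter.unusedVariables false
set_option exponentiation.threshold 100000

namespace Cfsg.Agent.Spor.MX

open Cfsg.Agent.Spor

universe u

noncomputable def m11w_S_t0 : BT :=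
(.node (.node (.node (.node (.leaf (nat_lit 0x894f478d4cbd886754295ca626a200))
 (.leaf (nat_lit 0x3c66fa8d697150455a4cb9a8d80820))
) (.node (.leaf (nat_lit 0xa38f1525e6bd84c2d6039c9646a020))
 (.leaf (nat_lit 0x89df3ac2eda150655992591c918820))
)) (.node (.node (.leaf (nat_lit 0xaceeab1a2c73c305d1223c8a41a1a0))
 (.leaf (nat_lit 0x8aa6fa22f2a96093ac8db31c618820))
) (.leaf (nat_lit 0x3aa65aa6c3a3c888ae0db99cc90820))
)) (.node (.node (.node (.leaf (nat_lit 0x7b95429ae19ac703c502ab2cd91120))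
 (.leaf (nat_lit 0x2ce27bb6b25a9267d20c70ec440820))
) (.node (.leaf (nat_lit 0x7b95739a898d86c2ce42ac16443420))
 (.leaf (nat_lit 0x2ccea5b1c9b448d7d506a42f218820))
)) (.node (.node (.leaf (nat_lit 0xb5e9598ce42b9a65a9098b1f090820))
 (.leaf (nat_lit 0x2bd47b11c65c5929d209aa2ed18820))
) (.leaf (nat_lit 0x9962ab42a959e487b9a3a32e430820))
)))

noncomputable def m11w_S_t : BT :=
m11w_S_t0

noncomputable def m11w_S : ℕ → ℕ → ℕ := fun x i => Nat.land (Nat.shiftRight (BT.get m11w_S_t x) (Nat.mul (nat_lit 5) i)) (nat_lit 31)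

noncomputable def m11w_defs : LT :=
(.node (.node (.node (.node (.leaf [nat_lit 0])
 (.leaf [nat_lit 1,nat_lit 6])
) (.node (.leaf [nat_lit 0,nat_lit 1,nat_lit 2,nat_lit 0,nat_lit 0])
 (.leaf [nat_lit 1,nat_lit 10])
)) (.node (.node (.leaf [nat_lit 0])
 (.leaf [nat_lit 0,nat_lit 9,nat_lit 6,nat_lit 7])
) (.leaf [nat_lit 0,nat_lit 5,nat_lit 3,nat_lit 4,nat_lit 3,nat_lit 4,nat_lit 4])
)) (.node (.node (.node (.leaf [nat_lit 0])
 (.leaf [nat_lit 1,nat_lit 7])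
) (.node (.leaf [nat_lit 1,nat_lit 4])
 (.leaf [nat_lit 1,nat_lit 11])
)) (.node (.node (.leaf [nat_lit 0,nat_lit 0,nat_lit 2,nat_lit 1])
 (.leaf [nat_lit 0,nat_lit 6,nat_lit 7,nat_lit 6])
) (.leaf [nat_lit 0,nat_lit 5,nat_lit 3,nat_lit 5,nat_lit 3,nat_lit 5,nat_lit 3,nat_lit 4,nat_lit 3,nat_lit 4])
)))
noncomputable def m11w_iota : ℕ → ℕ := getP (nat_lit 8) (nat_lit 255) (nat_lit 0x20100050408060d0b0c0a)
noncomputable def m11w_inv : ℕ → ℕ := getP (nat_lit 8) (nat_lit 255) (nat_lit 0xa08090607040502030001)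
noncomputable def m11w_hws : LT := .leaf []

noncomputable def m11w_T_t0 : BT :=
(.node (.node (.node (.node (.leaf (nat_lit 0x8aa6fa22f2a96093ac8db31c618820))
 (.leaf (nat_lit 0x894f478d4cbd886754295ca626a200))
) (.leaf (nat_lit 0x3aa65aa6c3a3c888ae0db99cc90820))
) (.node (.node (.leaf (nat_lit 0x2bd47b11c65c5929d209aa2ed18820))
 (.leaf (nat_lit 0xaceeab1a2c73c305d1223c8a41a1a0))
) (.leaf (nat_lit 0xa38f1525e6bd84c2d6039c9646a020))
)) (.node (.node (.node (.leaf (nat_lit 0x89df3ac2eda150655992591c918820))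
 (.leaf (nat_lit 0x7b95429ae19ac703c502ab2cd91120))
) (.leaf (nat_lit 0x3c66fa8d697150455a4cb9a8d80820))
) (.node (.leaf (nat_lit 0x2ccea5b1c9b448d7d506a42f218820))
 (.leaf (nat_lit 0x7b95739a898d86c2ce42ac16443420))
)))

noncomputable def m11w_T_t : BT :=
m11w_T_t0

noncomputable def m11w_T : ℕ → ℕ → ℕ := fun x i => Nat.land (Nat.shiftRight (BT.get m11w_T_t x) (Nat.mul (nat_lit 5) i)) (nat_lit 31)

noncomputable def m11w_E_t0 : BT :=
(.node (.node (.leaf (nat_lit 0x301002090000082b0900000823020030300301c170740000))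
 (.leaf (nat_lit 0x2050020400000c030200000c170100303003034000000000))
) (.node (.leaf (nat_lit 0x300003010000081b0400000c0e070030200302c1d0000000))
 (.leaf (nat_lit 0x202003020000080f01000008030300201001000000000000))
))

noncomputable def m11w_E_t : BT :=
m11w_E_t0

noncomputable def m11w_E : ℕ → ℕ → ℕ := fun x i => Nat.land (Nat.shiftRight (BT.get m11w_E_t x) (Nat.mul (nat_lit 10) i)) (nat_lit 1023)

noncomputable def m12w_S_t0 : BT :=
(.node (.node (.node (.node (.leaf (nat_lit 0x894f478d4cbd886754295ca626a200))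
 (.leaf (nat_lit 0x89caf71ac9acdb252c90b8e8860820))
) (.node (.leaf (nat_lit 0xa38f1525e6bd84c2d6039c9646a020))
 (.leaf (nat_lit 0x89df3ac2eda150655992591c918820))
)) (.node (.node (.leaf (nat_lit 0xaceeab1a2c73c305d1223c8a41a1a0))
 (.leaf (nat_lit 0x9be27b25d0ba9122d4c4a316368820))
) (.node (.leaf (nat_lit 0x9aeb1ba2847a98db3932380b018826))
 (.leaf (nat_lit 0x8aa6fa22f2a96093ac8db31c618820))
))) (.node (.node (.node (.leaf (nat_lit 0x7b95429ae19ac703c502ab2cd91120))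
 (.leaf (nat_lit 0x7cd47bb2b0b44662ba4da256820820))
) (.node (.leaf (nat_lit 0x7b95739a898d86c2ce42ac16443420))
 (.leaf (nat_lit 0x2bd47b11c65c5929d209aa2ed18820))
)) (.node (.node (.leaf (nat_lit 0xa4eb7b4a20395a35a888789c961830))
 (.leaf (nat_lit 0x2ccea5b1c9b448d7d506a42f218820))
) (.leaf (nat_lit 0x3c5e5732e8a4da352e04b4aa930820))
)))

noncomputable def m12w_S_t : BT :=
m12w_S_t0

noncomputable def m12w_S : ℕ → ℕ → ℕ := fun x i => Nat.land (Nat.shiftRight (BT.get m12w_S_t x) (Nat.mul (nat_lit 5) i)) (nat_lit 31)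

noncomputable def m12w_defs : LT :=
(.node (.node (.node (.node (.leaf [nat_lit 0])
 (.leaf [nat_lit 1,nat_lit 7])
) (.node (.leaf [nat_lit 0,nat_lit 1,nat_lit 2,nat_lit 0,nat_lit 0])
 (.leaf [nat_lit 0,nat_lit 9,nat_lit 7,nat_lit 10])
)) (.node (.node (.leaf [nat_lit 0])
 (.leaf [nat_lit 1,nat_lit 9])
) (.node (.leaf [nat_lit 0,nat_lit 4,nat_lit 3,nat_lit 5])
 (.leaf [nat_lit 1,nat_lit 12])
))) (.node (.node (.node (.leaf [nat_lit 0])
 (.leaf [nat_lit 0,nat_lit 6,nat_lit 8,nat_lit 6,nat_lit 7,nat_lit 6,nat_lit 7,nat_lit 6,nat_lit 7,nat_lit 6])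
) (.node (.leaf [nat_lit 1,nat_lit 4])
 (.leaf [nat_lit 1,nat_lit 11])
)) (.node (.node (.leaf [nat_lit 0])
 (.leaf [nat_lit 0,nat_lit 7,nat_lit 10,nat_lit 7])
) (.leaf [nat_lit 0,nat_lit 3,nat_lit 4,nat_lit 3,nat_lit 4,nat_lit 3,nat_lit 5,nat_lit 3])
)))
noncomputable def m12w_iota : ℕ → ℕ := getP (nat_lit 8) (nat_lit 255) (nat_lit 0x2010003060a090e0c0d0b)
noncomputable def m12w_inv : ℕ → ℕ := getP (nat_lit 8) (nat_lit 255) (nat_lit 0xa08090706040502030001)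
noncomputable def m12w_hws : LT := .leaf []

noncomputable def m12w_T_t0 : BT :=
(.node (.node (.node (.node (.leaf (nat_lit 0x2ccea5b1c9b448d7d506a42f218820))
 (.leaf (nat_lit 0x894f478d4cbd886754295ca626a200))
) (.leaf (nat_lit 0x7cd47bb2b0b44662ba4da256820820))
) (.node (.node (.leaf (nat_lit 0x89df3ac2eda150655992591c918820))
 (.leaf (nat_lit 0xaceeab1a2c73c305d1223c8a41a1a0))
) (.leaf (nat_lit 0x9aeb1ba2847a98db3932380b018826))
)) (.node (.node (.node (.leaf (nat_lit 0x2bd47b11c65c5929d209aa2ed18820))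
 (.leaf (nat_lit 0x7b95429ae19ac703c502ab2cd91120))
) (.leaf (nat_lit 0x9be27b25d0ba9122d4c4a316368820))
) (.node (.leaf (nat_lit 0x8aa6fa22f2a96093ac8db31c618820))
 (.leaf (nat_lit 0xa4eb7b4a20395a35a888789c961830))
)))

noncomputable def m12w_T_t : BT :=
m12w_T_t0

noncomputable def m12w_T : ℕ → ℕ → ℕ := fun x i => Nat.land (Nat.shiftRight (BT.get m12w_T_t x) (Nat.mul (nat_lit 5) i)) (nat_lit 31)

noncomputable def m12w_E_t0 : BT :=
(.node (.node (.node (.leaf (nat_lit 0xc08002090000010530900000104301000c000030660b01c80307))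
 (.leaf (nat_lit 0x804003030000010030100000101b020008080010000000000000))
) (.leaf (nat_lit 0x10080030100000201b0200000182b000008180030380800000100))
) (.node (.leaf (nat_lit 0x10080030100000201b0200000182b0000081c0030380840000306))
 (.leaf (nat_lit 0xc04003020000010230000000181b05000c080020520000000000))
))

noncomputable def m12w_E_t : BT :=
m12w_E_t0

noncomputable def m12w_E : ℕ → ℕ → ℕ := fun x i => Nat.land (Nat.shiftRight (BT.get m12w_E_t x) (Nat.mul (nat_lit 11) i)) (nat_lit 2047)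

noncomputable def m23w_S_t0 : BT :=
(.node (.node (.node (.node (.node (.leaf (nat_lit 0xb9d53906cf136a62416c4168e18229))
 (.leaf (nat_lit 0xbd58a410b37c4f66a6905c9c618820))
) (.leaf (nat_lit 0xbb24b852c43a26a08da9a962e309e0))
) (.node (.leaf (nat_lit 0xb964b346c414d15734695328181de0))
 (.leaf (nat_lit 0xbc5557a08e3b4ab61a724d203b0820))
)) (.node (.node (.node (.leaf (nat_lit 0xb9ab419630135c72254865a4b9bc20))
 (.leaf (nat_lit 0xbb5135bdd63160aa1ea964a2418820))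
) (.leaf (nat_lit 0xb8e864a2c59c1cb654f27a9b120820))
) (.node (.leaf (nat_lit 0xbc4f26d4b309136a310e78cd050960))
 (.leaf (nat_lit 0xbc0ea332364b892451ebaccad18820))
))) (.node (.node (.node (.node (.leaf (nat_lit 0xbc5a5a4c2a811c84d407b30cb1be42))
 (.leaf (nat_lit 0xba4eca91d491550b216d99a2f18820))
) (.leaf (nat_lit 0xb954449e4e82c73359b5a3d1160820))
) (.node (.leaf (nat_lit 0xbc585756430ad46a1d0d14ed04bc80))
 (.leaf (nat_lit 0xbb2c9819c8795753d1536923218820))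
)) (.node (.node (.node (.leaf (nat_lit 0xbd8f42c8c978dac09200ac66a70968))
 (.leaf (nat_lit 0xbc12ba18ad946c79b11553dc418820))
) (.leaf (nat_lit 0xba9076448f341237566592ed468820))
) (.node (.leaf (nat_lit 0xbc13171e9664c2f5aaa3918a4409a0))
 (.leaf (nat_lit 0xbae703bcac245144b6caa99d218820))
))))

noncomputable def m23w_S_t : BT :=
m23w_S_t0

noncomputable def m23w_S : ℕ → ℕ → ℕ := fun x i => Nat.land (Nat.shiftRight (BT.get m23w_S_t x) (Nat.mul (nat_lit 5) i)) (nat_lit 31)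

noncomputable def m23w_defs : LT :=
(.node (.node (.node (.node (.node (.leaf [nat_lit 0])
 (.leaf [nat_lit 1,nat_lit 13])
) (.leaf [nat_lit 1,nat_lit 6])
) (.node (.leaf [nat_lit 0,nat_lit 3,nat_lit 1,nat_lit 1,nat_lit 2,nat_lit 1,nat_lit 1,nat_lit 3])
 (.leaf [nat_lit 1,nat_lit 10])
)) (.node (.node (.node (.leaf [nat_lit 0])
 (.leaf [nat_lit 0,nat_lit 16,nat_lit 15])
) (.leaf [nat_lit 0,nat_lit 7,nat_lit 6,nat_lit 6,nat_lit 7,nat_lit 6,nat_lit 7,nat_lit 8])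
) (.node (.leaf [nat_lit 0,nat_lit 2,nat_lit 5])
 (.leaf [nat_lit 0,nat_lit 11,nat_lit 10,nat_lit 10,nat_lit 9])
))) (.node (.node (.node (.node (.leaf [nat_lit 0])
 (.leaf [nat_lit 1,nat_lit 15])
) (.leaf [nat_lit 0,nat_lit 8,nat_lit 8,nat_lit 8,nat_lit 7,nat_lit 8,nat_lit 8])
) (.node (.leaf [nat_lit 1,nat_lit 4])
 (.leaf [nat_lit 0,nat_lit 10,nat_lit 11,nat_lit 12,nat_lit 11])
)) (.node (.node (.node (.leaf [nat_lit 0])
 (.leaf [nat_lit 1,nat_lit 18])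
) (.leaf [nat_lit 1,nat_lit 9])
) (.node (.leaf [nat_lit 0,nat_lit 2,nat_lit 4,nat_lit 2,nat_lit 5,nat_lit 2])
 (.leaf [nat_lit 0,nat_lit 11,nat_lit 12,nat_lit 9,nat_lit 10,nat_lit 11])
))))
noncomputable def m23w_iota : ℕ → ℕ := getP (nat_lit 8) (nat_lit 255) (nat_lit 0x3010002070b09100d0e1312)
noncomputable def m23w_inv : ℕ → ℕ := getP (nat_lit 8) (nat_lit 255) (nat_lit 0xb090a080705060304020001)
noncomputable def m23w_hws : LT := .leaf []

noncomputable def m23w_T_t0 : BT :=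
(.node (.node (.node (.node (.leaf (nat_lit 0xbb5135bdd63160aa1ea964a2418820))
 (.leaf (nat_lit 0xb9ab419630135c72254865a4b9bc20))
) (.leaf (nat_lit 0xbd58a410b37c4f66a6905c9c618820))
) (.node (.node (.leaf (nat_lit 0xbc0ea332364b892451ebaccad18820))
 (.leaf (nat_lit 0xbc5a5a4c2a811c84d407b30cb1be42))
) (.leaf (nat_lit 0xba9076448f341237566592ed468820))
)) (.node (.node (.node (.leaf (nat_lit 0xbc12ba18ad946c79b11553dc418820))
 (.leaf (nat_lit 0xb9d53906cf136a62416c4168e18229))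
) (.leaf (nat_lit 0xb954449e4e82c73359b5a3d1160820))
) (.node (.node (.leaf (nat_lit 0xbb2c9819c8795753d1536923218820))
 (.leaf (nat_lit 0xbd8f42c8c978dac09200ac66a70968))
) (.leaf (nat_lit 0xbc13171e9664c2f5aaa3918a4409a0))
)))

noncomputable def m23w_T_t : BT :=
m23w_T_t0

noncomputable def m23w_T : ℕ → ℕ → ℕ := fun x i => Nat.land (Nat.shiftRight (BT.get m23w_T_t x) (Nat.mul (nat_lit 5) i)) (nat_lit 31)

noncomputable def m23w_E_t0 : BT :=
(.node (.node (.node (.leaf (nat_lit 0x101180b0360b00203b0b6050218330a614c110520b61300582c0b60e82603900))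
 (.leaf (nat_lit 0xc0201c0160481000301602001013026090020140460680c0010000000000000))
) (.leaf (nat_lit 0xc0201c058070120330180b01903c0460901582c0460700e0330260c00080000))
) (.node (.node (.leaf (nat_lit 0x102200c03804c0202b0641101a0330780b0118140080cc060440480a40283800))
 (.leaf (nat_lit 0x10080000080000000000000000000000008000000000000000))
) (.leaf (nat_lit 0xc0d8240260cc0a02b0180301902a06608c0582c016010020330220000000000))
))

noncomputable def m23w_E_t : BT :=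
m23w_E_t0

noncomputable def m23w_E : ℕ → ℕ → ℕ := fun x i => Nat.land (Nat.shiftRight (BT.get m23w_E_t x) (Nat.mul (nat_lit 11) i)) (nat_lit 2047)

noncomputable def m24w_S_t0 : BT :=
(.node (.node (.node (.node (.node (.leaf (nat_lit 0x894f478d4cbd886754295ca626a200))
 (.leaf (nat_lit 0xa960f64daa24906bae274ba9618820))
) (.node (.leaf (nat_lit 0xbaeae9c1522d18db4464399e848820))
 (.leaf (nat_lit 0x7520f4cee6b450a69e4b654a418820))
)) (.node (.node (.leaf (nat_lit 0x80eb48ca7773dac0284538504b24cb))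
 (.leaf (nat_lit 0xbc12ba18ad946c79b11553dc418820))
) (.leaf (nat_lit 0x35aa99be11938aa4328b05da418827))
)) (.node (.node (.node (.leaf (nat_lit 0xaceeab1a2c73c305d1223c8a41a1a0))
 (.leaf (nat_lit 0x321b52cacebae8a81e7163d2418820))
) (.leaf (nat_lit 0x89ccf012cb4546e6d0ac82933b8832))
) (.node (.node (.leaf (nat_lit 0xbc5941b6d073e5502909398449942b))
 (.leaf (nat_lit 0xbb5135bdd63160aa1ea964a2418820))
) (.leaf (nat_lit 0x592e593935a1a33540ed432cf18820))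
))) (.node (.node (.node (.node (.leaf (nat_lit 0x7b95429ae19ac703c502ab2cd91120))
 (.leaf (nat_lit 0x2490f740e58aa766aeb73518918820))
) (.leaf (nat_lit 0x1c5ca202e7a3168818afb553268833))
) (.node (.node (.leaf (nat_lit 0x7ce261148d501cbaa468b9e56a3030))
 (.leaf (nat_lit 0x7c68d4c90b342a7730b655e6418820))
) (.leaf (nat_lit 0xb9a2fab68e9a15001564924ec18836))
)) (.node (.node (.node (.leaf (nat_lit 0x50ea69ca275b98d7dca885121b0880))
 (.leaf (nat_lit 0x2a695835d34464c32acf3aee418820))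
) (.leaf (nat_lit 0xb827179eaca42444b4ce2d9481882b))
) (.node (.node (.leaf (nat_lit 0x39163b16a0bb60263d48352514cc2e))
 (.leaf (nat_lit 0x8bcd6925d5a5d674326d540a418820))
) (.leaf (nat_lit 0x431266d9f2a4d655389589e1718820))
))))

noncomputable def m24w_S_t : BT :=
m24w_S_t0

noncomputable def m24w_S : ℕ → ℕ → ℕ := fun x i => Nat.land (Nat.shiftRight (BT.get m24w_S_t x) (Nat.mul (nat_lit 5) i)) (nat_lit 31)

noncomputable def m24w_defs : LT :=
(.node (.node (.node (.node (.node (.leaf [nat_lit 0])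
 (.leaf [nat_lit 1,nat_lit 14])
) (.node (.leaf [nat_lit 0,nat_lit 5,nat_lit 6,nat_lit 7,nat_lit 6,nat_lit 5,nat_lit 6,nat_lit 7])
 (.leaf [nat_lit 1,nat_lit 23])
)) (.node (.node (.leaf [nat_lit 0])
 (.leaf [nat_lit 0,nat_lit 16,nat_lit 16,nat_lit 15,nat_lit 14])
) (.leaf [nat_lit 0,nat_lit 9,nat_lit 8,nat_lit 10])
)) (.node (.node (.node (.leaf [nat_lit 0])
 (.leaf [nat_lit 0,nat_lit 16,nat_lit 15,nat_lit 16,nat_lit 17])
) (.leaf [nat_lit 1,nat_lit 9])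
) (.node (.node (.leaf [nat_lit 0,nat_lit 2,nat_lit 4,nat_lit 2])
 (.leaf [nat_lit 1,nat_lit 20])
) (.leaf [nat_lit 0,nat_lit 11,nat_lit 11,nat_lit 12,nat_lit 11,nat_lit 12,nat_lit 13,nat_lit 13])
))) (.node (.node (.node (.node (.leaf [nat_lit 0])
 (.leaf [nat_lit 1,nat_lit 15])
) (.leaf [nat_lit 0,nat_lit 7,nat_lit 6,nat_lit 7,nat_lit 6,nat_lit 7,nat_lit 7])
) (.node (.node (.leaf [nat_lit 0,nat_lit 3,nat_lit 1,nat_lit 4,nat_lit 1])
 (.leaf [nat_lit 1,nat_lit 18])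
) (.leaf [nat_lit 1,nat_lit 11])
)) (.node (.node (.node (.leaf [nat_lit 0])
 (.leaf [nat_lit 0,nat_lit 17,nat_lit 16,nat_lit 15,nat_lit 16,nat_lit 17,nat_lit 14])
) (.leaf [nat_lit 0,nat_lit 10,nat_lit 8,nat_lit 10,nat_lit 10,nat_lit 8,nat_lit 9,nat_lit 8])
) (.node (.node (.leaf [nat_lit 1,nat_lit 5])
 (.leaf [nat_lit 0,nat_lit 19,nat_lit 20,nat_lit 19])
) (.leaf [nat_lit 0,nat_lit 12,nat_lit 11,nat_lit 11,nat_lit 12,nat_lit 11,nat_lit 12])
))))
noncomputable def m24w_iota : ℕ → ℕ := getP (nat_lit 8) (nat_lit 255) (nat_lit 0x40302010006080c100e1512131817)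
noncomputable def m24w_inv : ℕ → ℕ := getP (nat_lit 8) (nat_lit 255) (nat_lit 0xe0d0c0a0b09080705060304020001)
noncomputable def m24w_hws : LT := .leaf []

noncomputable def m24w_T_t0 : BT :=
(.node (.node (.node (.node (.leaf (nat_lit 0x8bcd6925d5a5d674326d540a418820))
 (.leaf (nat_lit 0xbaeae9c1522d18db4464399e848820))
) (.node (.leaf (nat_lit 0x7c68d4c90b342a7730b655e6418820))
 (.leaf (nat_lit 0xaceeab1a2c73c305d1223c8a41a1a0))
)) (.node (.node (.leaf (nat_lit 0x2a695835d34464c32acf3aee418820))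
 (.leaf (nat_lit 0x894f478d4cbd886754295ca626a200))
) (.node (.leaf (nat_lit 0xa960f64daa24906bae274ba9618820))
 (.leaf (nat_lit 0x80eb48ca7773dac0284538504b24cb))
))) (.node (.node (.node (.leaf (nat_lit 0x7520f4cee6b450a69e4b654a418820))
 (.leaf (nat_lit 0xbc5941b6d073e5502909398449942b))
) (.node (.leaf (nat_lit 0x592e593935a1a33540ed432cf18820))
 (.leaf (nat_lit 0x50ea69ca275b98d7dca885121b0880))
)) (.node (.node (.leaf (nat_lit 0x321b52cacebae8a81e7163d2418820))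
 (.leaf (nat_lit 0x7b95429ae19ac703c502ab2cd91120))
) (.leaf (nat_lit 0x35aa99be11938aa4328b05da418827))
)))

noncomputable def m24w_T_t : BT :=
m24w_T_t0

noncomputable def m24w_T : ℕ → ℕ → ℕ := fun x i => Nat.land (Nat.shiftRight (BT.get m24w_T_t x) (Nat.mul (nat_lit 5) i)) (nat_lit 31)

noncomputable def m24w_E_t0 : BT :=
(.node (.node (.node (.leaf (nat_lit 0x61cc0980b07604c2183a0b60cc110630b606c150530961a83981a0d610c3880409))
 (.leaf (nat_lit 0x6088160130180300181c0140d00201c068014198130280ac0d8290000000000000))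
) (.node (.leaf (nat_lit 0x804c0a01307602c0182c0280f01a014058110050440460d40181c0620000000407))
 (.leaf (nat_lit 0x1000000000000020100000000000000000000000004000000000000000000))
)) (.node (.node (.leaf (nat_lit 0x604c1a02b0560700200c0261100183c0580d4218240980d01104c0681040000509))
 (.leaf (nat_lit 0x404c0a00401406c0180b02606c020100080800102403000c108000000000000000))
) (.leaf (nat_lit 0xa0b00e80c0780d0020240680541200b0080ac0582b0640f01601d0500000000100))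
))

noncomputable def m24w_E_t : BT :=
m24w_E_t0

noncomputable def m24w_E : ℕ → ℕ → ℕ := fun x i => Nat.land (Nat.shiftRight (BT.get m24w_E_t x) (Nat.mul (nat_lit 11) i)) (nat_lit 2047)

theorem m11w_slp0 : allLt (nat_lit 11) (fun i => force (Nat.add (nat_lit 3) i) (slpOK m11w_S m11w_defs (nat_lit 24))) = true := by decide +kernel

theorem m11w_ren : allLt (nat_lit 11) (fun x => force (m11w_iota x) fun y => band (blt y (nat_lit 14)) (allRange (nat_lit 0) (nat_lit 24) fun i => Nat.beq (m11w_S y i) (m11w_T x i))) = true := by decide +kernel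

theorem m11w_L3_o : band (allRange (nat_lit 0) (nat_lit 24) (orbOK m11w_T (nat_lit 4) (m11w_E (nat_lit 3)) (Nat.beq (nat_lit 4)))) (band (Nat.ble (nat_lit 8) (count2 (nat_lit 24) fun p => Nat.ble 256 (m11w_E (nat_lit 3) p))) (allLt (nat_lit 0) (fun x => Nat.beq (m11w_T x (nat_lit 4)) (nat_lit 4)))) = true := by decide +kernel

theorem m11w_L2_o : band (allRange (nat_lit 0) (nat_lit 24) (orbOK m11w_T (nat_lit 6) (m11w_E (nat_lit 2)) (Nat.beq (nat_lit 3)))) (band (Nat.ble (nat_lit 9) (count2 (nat_lit 24) fun p => Nat.ble 256 (m11w_E (nat_lit 2) p))) (allLt (nat_lit 4) (fun x => Nat.beq (m11w_T x (nat_lit 3)) (nat_lit 3)))) = true := by decide +kernel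

theorem m11w_L1_o : band (allRange (nat_lit 0) (nat_lit 24) (orbOK m11w_T (nat_lit 8) (m11w_E (nat_lit 1)) (Nat.beq (nat_lit 2)))) (band (Nat.ble (nat_lit 10) (count2 (nat_lit 24) fun p => Nat.ble 256 (m11w_E (nat_lit 1) p))) (allLt (nat_lit 6) (fun x => Nat.beq (m11w_T x (nat_lit 2)) (nat_lit 2)))) = true := by decide +kernel

theorem m11w_L0_o : band (allRange (nat_lit 0) (nat_lit 24) (orbOK m11w_T (nat_lit 11) (m11w_E (nat_lit 0)) (Nat.beq (nat_lit 1)))) (band (Nat.ble (nat_lit 11) (count2 (nat_lit 24) fun p => Nat.ble 256 (m11w_E (nat_lit 0) p))) (allLt (nat_lit 8) (fun x => Nat.beq (m11w_T x (nat_lit 1)) (nat_lit 1)))) = true := by decide +kernel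

theorem m12w_slp0 : allLt (nat_lit 11) (fun i => force (Nat.add (nat_lit 4) i) (slpOK m12w_S m12w_defs (nat_lit 24))) = true := by decide +kernel

theorem m12w_ren : allLt (nat_lit 11) (fun x => force (m12w_iota x) fun y => band (blt y (nat_lit 15)) (allRange (nat_lit 0) (nat_lit 24) fun i => Nat.beq (m12w_S y i) (m12w_T x i))) = true := by decide +kernel

theorem m12w_L4_o : band (allRange (nat_lit 0) (nat_lit 24) (orbOK m12w_T (nat_lit 4) (m12w_E (nat_lit 4)) (Nat.beq (nat_lit 4)))) (band (Nat.ble (nat_lit 8) (count2 (nat_lit 24) fun p => Nat.ble 256 (m12w_E (nat_lit 4) p))) (allLt (nat_lit 0) (fun x => Nat.beq (m12w_T x (nat_lit 4)) (nat_lit 4)))) = true := by decide +kernel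

theorem m12w_L3_o : band (allRange (nat_lit 0) (nat_lit 24) (orbOK m12w_T (nat_lit 6) (m12w_E (nat_lit 3)) (Nat.beq (nat_lit 3)))) (band (Nat.ble (nat_lit 9) (count2 (nat_lit 24) fun p => Nat.ble 256 (m12w_E (nat_lit 3) p))) (allLt (nat_lit 4) (fun x => Nat.beq (m12w_T x (nat_lit 3)) (nat_lit 3)))) = true := by decide +kernel

theorem m12w_L2_o : band (allRange (nat_lit 0) (nat_lit 24) (orbOK m12w_T (nat_lit 7) (m12w_E (nat_lit 2)) (Nat.beq (nat_lit 0)))) (band (Nat.ble (nat_lit 10) (count2 (nat_lit 24) fun p => Nat.ble 256 (m12w_E (nat_lit 2) p))) (allLt (nat_lit 6) (fun x => Nat.beq (m12w_T x (nat_lit 0)) (nat_lit 0)))) = true := by decide +kernel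

theorem m12w_L1_o : band (allRange (nat_lit 0) (nat_lit 24) (orbOK m12w_T (nat_lit 8) (m12w_E (nat_lit 1)) (Nat.beq (nat_lit 2)))) (band (Nat.ble (nat_lit 11) (count2 (nat_lit 24) fun p => Nat.ble 256 (m12w_E (nat_lit 1) p))) (allLt (nat_lit 7) (fun x => Nat.beq (m12w_T x (nat_lit 2)) (nat_lit 2)))) = true := by decide +kernel

theorem m12w_L0_o : band (allRange (nat_lit 0) (nat_lit 24) (orbOK m12w_T (nat_lit 11) (m12w_E (nat_lit 0)) (Nat.beq (nat_lit 1)))) (band (Nat.ble (nat_lit 12) (count2 (nat_lit 24) fun p => Nat.ble 256 (m12w_E (nat_lit 0) p))) (allLt (nat_lit 8) (fun x => Nat.beq (m12w_T x (nat_lit 1)) (nat_lit 1)))) = true := by decide +kernel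

theorem m23w_slp0 : allLt (nat_lit 16) (fun i => force (Nat.add (nat_lit 4) i) (slpOK m23w_S m23w_defs (nat_lit 24))) = true := by decide +kernel

theorem m23w_ren : allLt (nat_lit 12) (fun x => force (m23w_iota x) fun y => band (blt y (nat_lit 20)) (allRange (nat_lit 0) (nat_lit 24) fun i => Nat.beq (m23w_S y i) (m23w_T x i))) = true := by decide +kernel

theorem m23w_L5_o : band (allRange (nat_lit 0) (nat_lit 24) (orbOK m23w_T (nat_lit 2) (m23w_E (nat_lit 5)) (Nat.beq (nat_lit 5)))) (band (Nat.ble (nat_lit 3) (count2 (nat_lit 24) fun p => Nat.ble 256 (m23w_E (nat_lit 5) p))) (allLt (nat_lit 0) (fun x => Nat.beq (m23w_T x (nat_lit 5)) (nat_lit 5)))) = true := by decide +kernel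

theorem m23w_L4_o : band (allRange (nat_lit 0) (nat_lit 24) (orbOK m23w_T (nat_lit 5) (m23w_E (nat_lit 4)) (Nat.beq (nat_lit 4)))) (band (Nat.ble (nat_lit 16) (count2 (nat_lit 24) fun p => Nat.ble 256 (m23w_E (nat_lit 4) p))) (allLt (nat_lit 2) (fun x => Nat.beq (m23w_T x (nat_lit 4)) (nat_lit 4)))) = true := by decide +kernel

theorem m23w_L3_o : band (allRange (nat_lit 0) (nat_lit 24) (orbOK m23w_T (nat_lit 7) (m23w_E (nat_lit 3)) (Nat.beq (nat_lit 3)))) (band (Nat.ble (nat_lit 20) (count2 (nat_lit 24) fun p => Nat.ble 256 (m23w_E (nat_lit 3) p))) (allLt (nat_lit 5) (fun x => Nat.beq (m23w_T x (nat_lit 3)) (nat_lit 3)))) = true := by decide +kernel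

theorem m23w_L2_o : band (allRange (nat_lit 0) (nat_lit 24) (orbOK m23w_T (nat_lit 8) (m23w_E (nat_lit 2)) (Nat.beq (nat_lit 1)))) (band (Nat.ble (nat_lit 21) (count2 (nat_lit 24) fun p => Nat.ble 256 (m23w_E (nat_lit 2) p))) (allLt (nat_lit 7) (fun x => Nat.beq (m23w_T x (nat_lit 1)) (nat_lit 1)))) = true := by decide +kernel

theorem m23w_L1_o : band (allRange (nat_lit 0) (nat_lit 24) (orbOK m23w_T (nat_lit 9) (m23w_E (nat_lit 1)) (Nat.beq (nat_lit 2)))) (band (Nat.ble (nat_lit 22) (count2 (nat_lit 24) fun p => Nat.ble 256 (m23w_E (nat_lit 1) p))) (allLt (nat_lit 8) (fun x => Nat.beq (m23w_T x (nat_lit 2)) (nat_lit 2)))) = true := by decide +kernel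

theorem m23w_L0_o : band (allRange (nat_lit 0) (nat_lit 24) (orbOK m23w_T (nat_lit 12) (m23w_E (nat_lit 0)) (Nat.beq (nat_lit 0)))) (band (Nat.ble (nat_lit 23) (count2 (nat_lit 24) fun p => Nat.ble 256 (m23w_E (nat_lit 0) p))) (allLt (nat_lit 9) (fun x => Nat.beq (m23w_T x (nat_lit 0)) (nat_lit 0)))) = true := by decide +kernel

theorem m24w_slp0 : allLt (nat_lit 20) (fun i => force (Nat.add (nat_lit 5) i) (slpOK m24w_S m24w_defs (nat_lit 24))) = true := by decide +kernel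

theorem m24w_ren : allLt (nat_lit 15) (fun x => force (m24w_iota x) fun y => band (blt y (nat_lit 25)) (allRange (nat_lit 0) (nat_lit 24) fun i => Nat.beq (m24w_S y i) (m24w_T x i))) = true := by decide +kernel

theorem m24w_L6_o : band (allRange (nat_lit 0) (nat_lit 24) (orbOK m24w_T (nat_lit 2) (m24w_E (nat_lit 6)) (Nat.beq (nat_lit 6)))) (band (Nat.ble (nat_lit 3) (count2 (nat_lit 24) fun p => Nat.ble 256 (m24w_E (nat_lit 6) p))) (allLt (nat_lit 0) (fun x => Nat.beq (m24w_T x (nat_lit 6)) (nat_lit 6)))) = true := by decide +kernel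

theorem m24w_L5_o : band (allRange (nat_lit 0) (nat_lit 24) (orbOK m24w_T (nat_lit 5) (m24w_E (nat_lit 5)) (Nat.beq (nat_lit 5)))) (band (Nat.ble (nat_lit 16) (count2 (nat_lit 24) fun p => Nat.ble 256 (m24w_E (nat_lit 5) p))) (allLt (nat_lit 2) (fun x => Nat.beq (m24w_T x (nat_lit 5)) (nat_lit 5)))) = true := by decide +kernel

theorem m24w_L4_o : band (allRange (nat_lit 0) (nat_lit 24) (orbOK m24w_T (nat_lit 7) (m24w_E (nat_lit 4)) (Nat.beq (nat_lit 4)))) (band (Nat.ble (nat_lit 20) (count2 (nat_lit 24) fun p => Nat.ble 256 (m24w_E (nat_lit 4) p))) (allLt (nat_lit 5) (fun x => Nat.beq (m24w_T x (nat_lit 4)) (nat_lit 4)))) = true := by decide +kernel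

theorem m24w_L3_o : band (allRange (nat_lit 0) (nat_lit 24) (orbOK m24w_T (nat_lit 8) (m24w_E (nat_lit 3)) (Nat.beq (nat_lit 0)))) (band (Nat.ble (nat_lit 21) (count2 (nat_lit 24) fun p => Nat.ble 256 (m24w_E (nat_lit 3) p))) (allLt (nat_lit 7) (fun x => Nat.beq (m24w_T x (nat_lit 0)) (nat_lit 0)))) = true := by decide +kernel

theorem m24w_L2_o : band (allRange (nat_lit 0) (nat_lit 24) (orbOK m24w_T (nat_lit 9) (m24w_E (nat_lit 2)) (Nat.beq (nat_lit 3)))) (band (Nat.ble (nat_lit 22) (count2 (nat_lit 24) fun p => Nat.ble 256 (m24w_E (nat_lit 2) p))) (allLt (nat_lit 8) (fun x => Nat.beq (m24w_T x (nat_lit 3)) (nat_lit 3)))) = true := by decide +kernel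

theorem m24w_L1_o : band (allRange (nat_lit 0) (nat_lit 24) (orbOK m24w_T (nat_lit 10) (m24w_E (nat_lit 1)) (Nat.beq (nat_lit 2)))) (band (Nat.ble (nat_lit 23) (count2 (nat_lit 24) fun p => Nat.ble 256 (m24w_E (nat_lit 1) p))) (allLt (nat_lit 9) (fun x => Nat.beq (m24w_T x (nat_lit 2)) (nat_lit 2)))) = true := by decide +kernel

theorem m24w_L0_o : band (allRange (nat_lit 0) (nat_lit 24) (orbOK m24w_T (nat_lit 15) (m24w_E (nat_lit 0)) (Nat.beq (nat_lit 1)))) (band (Nat.ble (nat_lit 24) (count2 (nat_lit 24) fun p => Nat.ble 256 (m24w_E (nat_lit 0) p))) (allLt (nat_lit 10) (fun x => Nat.beq (m24w_T x (nat_lit 1)) (nat_lit 1)))) = true := by decide +kernel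

/-- The letters: a strong generating set, deepest stabiliser first. -/
noncomputable def m11w_g {G : Type*} [Group G] (a : ℕ → G) : ℕ → G := fun x => slp a 3 m11w_defs (m11w_iota x)

theorem m11w_tabs {G α : Type*} [Group G] [MulAction G α] {e : ℕ → α} {a : ℕ → G} (h0 : Tabs e 24 m11w_S a 3) : Tabs e 24 m11w_T (m11w_g a) 11 :=
  Tabs.rename (ι := m11w_iota) (g := slp a 3 m11w_defs) ((Tabs.slp_base m11w_defs h0).slp_add (by decide) _ m11w_slp0) m11w_ren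

theorem m11w_gen {G : Type*} [Group G] (a : ℕ → G) : genLt (m11w_g a) 11 = genLt a 3 :=
  genLt_slp_eq a m11w_defs (back := getP 8 255 (nat_lit 0xa0908)) (by decide +kernel)

theorem m11w_low3 {G α : Type*} [Group G] [MulAction G α] {e : ℕ → α} {a : ℕ → G} (he : Set.InjOn e (Set.Iio 24)) (h0 : Tabs e 24 m11w_S a 3) :
    LowLevel (genLt (m11w_g a) 4) (genLt (m11w_g a) 0) (e 4) 8 :=
  Tabs.lowLevel (m11w_tabs h0) he (by decide) (by decide) (by decide) m11w_L3_o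

theorem m11w_ge3 {G α : Type*} [Group G] [MulAction G α] {e : ℕ → α} {a : ℕ → G} (he : Set.InjOn e (Set.Iio 24)) (h0 : Tabs e 24 m11w_S a 3) :
    Finite (genLt (m11w_g a) 4) → 8 ≤ Nat.card (genLt (m11w_g a) 4) := fun hK =>
  (m11w_low3 he h0).card hK (one_le_card_fin _)

theorem m11w_fix3 {G α : Type*} [Group G] [MulAction G α] {e : ℕ → α} {a : ℕ → G} (he : Set.InjOn e (Set.Iio 24)) (h0 : Tabs e 24 m11w_S a 3) :
    ∀ X : Subgroup G, Finite X → (genLt (m11w_g a) 4) ≤ X → 8 * Nat.card (fixB e X [4]) ≤ Nat.card X :=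
  (m11w_low3 he h0).card_fix (card_fix_nil _ _)

theorem m11w_low2 {G α : Type*} [Group G] [MulAction G α] {e : ℕ → α} {a : ℕ → G} (he : Set.InjOn e (Set.Iio 24)) (h0 : Tabs e 24 m11w_S a 3) :
    LowLevel (genLt (m11w_g a) 6) (genLt (m11w_g a) 4) (e 3) 9 :=
  Tabs.lowLevel (m11w_tabs h0) he (by decide) (by decide) (by decide) m11w_L2_o

theorem m11w_ge2 {G α : Type*} [Group G] [MulAction G α] {e : ℕ → α} {a : ℕ → G} (he : Set.InjOn e (Set.Iio 24)) (h0 : Tabs e 24 m11w_S a 3) :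
    Finite (genLt (m11w_g a) 6) → 72 ≤ Nat.card (genLt (m11w_g a) 6) := fun hK =>
  (m11w_low2 he h0).card hK (m11w_ge3 he h0)

theorem m11w_fix2 {G α : Type*} [Group G] [MulAction G α] {e : ℕ → α} {a : ℕ → G} (he : Set.InjOn e (Set.Iio 24)) (h0 : Tabs e 24 m11w_S a 3) :
    ∀ X : Subgroup G, Finite X → (genLt (m11w_g a) 6) ≤ X → 72 * Nat.card (fixB e X [3, 4]) ≤ Nat.card X :=
  (m11w_low2 he h0).card_fix (m11w_fix3 he h0)

theorem m11w_low1 {G α : Type*} [Group G] [MulAction G α] {e : ℕ → α} {a : ℕ → G} (he : Set.InjOn e (Set.Iio 24)) (h0 : Tabs e 24 m11w_S a 3) :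
    LowLevel (genLt (m11w_g a) 8) (genLt (m11w_g a) 6) (e 2) 10 :=
  Tabs.lowLevel (m11w_tabs h0) he (by decide) (by decide) (by decide) m11w_L1_o

theorem m11w_ge1 {G α : Type*} [Group G] [MulAction G α] {e : ℕ → α} {a : ℕ → G} (he : Set.InjOn e (Set.Iio 24)) (h0 : Tabs e 24 m11w_S a 3) :
    Finite (genLt (m11w_g a) 8) → 720 ≤ Nat.card (genLt (m11w_g a) 8) := fun hK =>
  (m11w_low1 he h0).card hK (m11w_ge2 he h0)

theorem m11w_fix1 {G α : Type*} [Group G] [MulAction G α] {e : ℕ → α} {a : ℕ → G} (he : Set.InjOn e (Set.Iio 24)) (h0 : Tabs e 24 m11w_S a 3) :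
    ∀ X : Subgroup G, Finite X → (genLt (m11w_g a) 8) ≤ X → 720 * Nat.card (fixB e X [2, 3, 4]) ≤ Nat.card X :=
  (m11w_low1 he h0).card_fix (m11w_fix2 he h0)

theorem m11w_low0 {G α : Type*} [Group G] [MulAction G α] {e : ℕ → α} {a : ℕ → G} (he : Set.InjOn e (Set.Iio 24)) (h0 : Tabs e 24 m11w_S a 3) :
    LowLevel (genLt (m11w_g a) 11) (genLt (m11w_g a) 8) (e 1) 11 :=
  Tabs.lowLevel (m11w_tabs h0) he (by decide) (by decide) (by decide) m11w_L0_o

theorem m11w_ge0 {G α : Type*} [Group G] [MulAction G α] {e : ℕ → α} {a : ℕ → G} (he : Set.InjOn e (Set.Iio 24)) (h0 : Tabs e 24 m11w_S a 3) :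
    Finite (genLt (m11w_g a) 11) → 7920 ≤ Nat.card (genLt (m11w_g a) 11) := fun hK =>
  (m11w_low0 he h0).card hK (m11w_ge1 he h0)

theorem m11w_fix0 {G α : Type*} [Group G] [MulAction G α] {e : ℕ → α} {a : ℕ → G} (he : Set.InjOn e (Set.Iio 24)) (h0 : Tabs e 24 m11w_S a 3) :
    ∀ X : Subgroup G, Finite X → (genLt (m11w_g a) 11) ≤ X → 7920 * Nat.card (fixB e X [1, 2, 3, 4]) ≤ Nat.card X :=
  (m11w_low0 he h0).card_fix (m11w_fix1 he h0)

theorem m11w_ub0 {G α : Type*} [Group G] [MulAction G α] {e : ℕ → α} {a : ℕ → G} (he : Set.InjOn e (Set.Iio 24)) (h0 : Tabs e 24 m11w_S a 3) (hub : Nat.card (genLt a 3) ≠ 0 ∧ Nat.card (genLt a 3) ≤ 7920) :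
    Nat.card (genLt (m11w_g a) 11) ≠ 0 ∧ Nat.card (genLt (m11w_g a) 11) ≤ 7920 := by rw [m11w_gen]; exact hub

theorem m11w_level0 {G α : Type*} [Group G] [MulAction G α] {e : ℕ → α} {a : ℕ → G} (he : Set.InjOn e (Set.Iio 24)) (h0 : Tabs e 24 m11w_S a 3) (hub : Nat.card (genLt a 3) ≠ 0 ∧ Nat.card (genLt a 3) ≤ 7920) :
    Level (genLt (m11w_g a) 11) (genLt (m11w_g a) 8) (e 1) 11 :=
  ((m11w_low0 he h0).level (c := 720) (m11w_ub0 he h0 hub) (m11w_ge1 he h0)).1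

theorem m11w_ub1 {G α : Type*} [Group G] [MulAction G α] {e : ℕ → α} {a : ℕ → G} (he : Set.InjOn e (Set.Iio 24)) (h0 : Tabs e 24 m11w_S a 3) (hub : Nat.card (genLt a 3) ≠ 0 ∧ Nat.card (genLt a 3) ≤ 7920) :
    Nat.card (genLt (m11w_g a) 8) ≠ 0 ∧ Nat.card (genLt (m11w_g a) 8) ≤ 720 :=
  ((m11w_low0 he h0).level (c := 720) (m11w_ub0 he h0 hub) (m11w_ge1 he h0)).2

theorem m11w_level1 {G α : Type*} [Group G] [MulAction G α] {e : ℕ → α} {a : ℕ → G} (he : Set.InjOn e (Set.Iio 24)) (h0 : Tabs e 24 m11w_S a 3) (hub : Nat.card (genLt a 3) ≠ 0 ∧ Nat.card (genLt a 3) ≤ 7920) :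
    Level (genLt (m11w_g a) 8) (genLt (m11w_g a) 6) (e 2) 10 :=
  ((m11w_low1 he h0).level (c := 72) (m11w_ub1 he h0 hub) (m11w_ge2 he h0)).1

theorem m11w_ub2 {G α : Type*} [Group G] [MulAction G α] {e : ℕ → α} {a : ℕ → G} (he : Set.InjOn e (Set.Iio 24)) (h0 : Tabs e 24 m11w_S a 3) (hub : Nat.card (genLt a 3) ≠ 0 ∧ Nat.card (genLt a 3) ≤ 7920) :
    Nat.card (genLt (m11w_g a) 6) ≠ 0 ∧ Nat.card (genLt (m11w_g a) 6) ≤ 72 :=
  ((m11w_low1 he h0).level (c := 72) (m11w_ub1 he h0 hub) (m11w_ge2 he h0)).2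

theorem m11w_level2 {G α : Type*} [Group G] [MulAction G α] {e : ℕ → α} {a : ℕ → G} (he : Set.InjOn e (Set.Iio 24)) (h0 : Tabs e 24 m11w_S a 3) (hub : Nat.card (genLt a 3) ≠ 0 ∧ Nat.card (genLt a 3) ≤ 7920) :
    Level (genLt (m11w_g a) 6) (genLt (m11w_g a) 4) (e 3) 9 :=
  ((m11w_low2 he h0).level (c := 8) (m11w_ub2 he h0 hub) (m11w_ge3 he h0)).1

theorem m11w_ub3 {G α : Type*} [Group G] [MulAction G α] {e : ℕ → α} {a : ℕ → G} (he : Set.InjOn e (Set.Iio 24)) (h0 : Tabs e 24 m11w_S a 3) (hub : Nat.card (genLt a 3) ≠ 0 ∧ Nat.card (genLt a 3) ≤ 7920) :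
    Nat.card (genLt (m11w_g a) 4) ≠ 0 ∧ Nat.card (genLt (m11w_g a) 4) ≤ 8 :=
  ((m11w_low2 he h0).level (c := 8) (m11w_ub2 he h0 hub) (m11w_ge3 he h0)).2

theorem m11w_level3 {G α : Type*} [Group G] [MulAction G α] {e : ℕ → α} {a : ℕ → G} (he : Set.InjOn e (Set.Iio 24)) (h0 : Tabs e 24 m11w_S a 3) (hub : Nat.card (genLt a 3) ≠ 0 ∧ Nat.card (genLt a 3) ≤ 7920) :
    Level (genLt (m11w_g a) 4) (genLt (m11w_g a) 0) (e 4) 8 :=
  ((m11w_low3 he h0).level (c := 1) (m11w_ub3 he h0 hub) (one_le_card_fin _)).1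

theorem m11w_card3 {G α : Type*} [Group G] [MulAction G α] {e : ℕ → α} {a : ℕ → G} (he : Set.InjOn e (Set.Iio 24)) (h0 : Tabs e 24 m11w_S a 3) (hub : Nat.card (genLt a 3) ≠ 0 ∧ Nat.card (genLt a 3) ≤ 7920) :
    Nat.card (genLt (m11w_g a) 4) = 8 :=
  (m11w_level3 he h0 hub).card (card_genLt_zero _)

theorem m11w_base3 {G α : Type*} [Group G] [MulAction G α] {e : ℕ → α} {a : ℕ → G} (he : Set.InjOn e (Set.Iio 24)) (h0 : Tabs e 24 m11w_S a 3) (hub : Nat.card (genLt a 3) ≠ 0 ∧ Nat.card (genLt a 3) ≤ 7920) :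
    IsBase e (genLt (m11w_g a) 4) [4] :=
  (m11w_level3 he h0 hub).base (isBase_genLt_zero _ _)

theorem m11w_card2 {G α : Type*} [Group G] [MulAction G α] {e : ℕ → α} {a : ℕ → G} (he : Set.InjOn e (Set.Iio 24)) (h0 : Tabs e 24 m11w_S a 3) (hub : Nat.card (genLt a 3) ≠ 0 ∧ Nat.card (genLt a 3) ≤ 7920) :
    Nat.card (genLt (m11w_g a) 6) = 72 :=
  (m11w_level2 he h0 hub).card (m11w_card3 he h0 hub)

theorem m11w_base2 {G α : Type*} [Group G] [MulAction G α] {e : ℕ → α} {a : ℕ → G} (he : Set.InjOn e (Set.Iio 24)) (h0 : Tabs e 24 m11w_S a 3) (hub : Nat.card (genLt a 3) ≠ 0 ∧ Nat.card (genLt a 3) ≤ 7920) :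
    IsBase e (genLt (m11w_g a) 6) [3, 4] :=
  (m11w_level2 he h0 hub).base (m11w_base3 he h0 hub)

theorem m11w_card1 {G α : Type*} [Group G] [MulAction G α] {e : ℕ → α} {a : ℕ → G} (he : Set.InjOn e (Set.Iio 24)) (h0 : Tabs e 24 m11w_S a 3) (hub : Nat.card (genLt a 3) ≠ 0 ∧ Nat.card (genLt a 3) ≤ 7920) :
    Nat.card (genLt (m11w_g a) 8) = 720 :=
  (m11w_level1 he h0 hub).card (m11w_card2 he h0 hub)

theorem m11w_base1 {G α : Type*} [Group G] [MulAction G α] {e : ℕ → α} {a : ℕ → G} (he : Set.InjOn e (Set.Iio 24)) (h0 : Tabs e 24 m11w_S a 3) (hub : Nat.card (genLt a 3) ≠ 0 ∧ Nat.card (genLt a 3) ≤ 7920) :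
    IsBase e (genLt (m11w_g a) 8) [2, 3, 4] :=
  (m11w_level1 he h0 hub).base (m11w_base2 he h0 hub)

theorem m11w_card0 {G α : Type*} [Group G] [MulAction G α] {e : ℕ → α} {a : ℕ → G} (he : Set.InjOn e (Set.Iio 24)) (h0 : Tabs e 24 m11w_S a 3) (hub : Nat.card (genLt a 3) ≠ 0 ∧ Nat.card (genLt a 3) ≤ 7920) :
    Nat.card (genLt (m11w_g a) 11) = 7920 :=
  (m11w_level0 he h0 hub).card (m11w_card1 he h0 hub)

theorem m11w_base0 {G α : Type*} [Group G] [MulAction G α] {e : ℕ → α} {a : ℕ → G} (he : Set.InjOn e (Set.Iio 24)) (h0 : Tabs e 24 m11w_S a 3) (hub : Nat.card (genLt a 3) ≠ 0 ∧ Nat.card (genLt a 3) ≤ 7920) :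
    IsBase e (genLt (m11w_g a) 11) [1, 2, 3, 4] :=
  (m11w_level0 he h0 hub).base (m11w_base1 he h0 hub)

theorem m11w_hinv {G α : Type*} [Group G] [MulAction G α] {e : ℕ → α} {a : ℕ → G} (he : Set.InjOn e (Set.Iio 24)) (h0 : Tabs e 24 m11w_S a 3) (hub : Nat.card (genLt a 3) ≠ 0 ∧ Nat.card (genLt a 3) ≤ 7920) : ∀ x < 11, m11w_g a x * m11w_g a (m11w_inv x) = 1 :=
  (m11w_tabs h0).hinv_of_base (m11w_base0 he h0 hub) (by decide +kernel)

theorem m11w_card {G α : Type*} [Group G] [MulAction G α] {e : ℕ → α} {a : ℕ → G} (he : Set.InjOn e (Set.Iio 24)) (h0 : Tabs e 24 m11w_S a 3) (hub : Nat.card (genLt a 3) ≠ 0 ∧ Nat.card (genLt a 3) ≤ 7920) :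
    Nat.card (genLt a 3) = 7920 := by
  rw [← m11w_gen]; exact m11w_card0 he h0 hub

theorem m11_gen : ∃ g : ℕ → Spor.M11, Tabs Golay.ptOf 24 m11w_S g 3 ∧ Gen ⊤ g m11_rels 3 7920 := by
  obtain ⟨g, hg⟩ := PC.exists_tabs (H := Spor.M11) (t := m11w_S_t) (m := 3) fun x hx =>
    PC.inH_M11 ((allLt_iff _ fun x => PC.isM11 (m11w_S_t.get x)).1 (by decide +kernel) x hx)
  have hc : Nat.card (⊤ : Subgroup Spor.M11) = 7920 := by rw [Subgroup.card_top, Dod.card_SporM11]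
  have hK : ∀ x < 3, g x ∈ (⊤ : Subgroup Spor.M11) := fun _ _ => Subgroup.mem_top _
  exact ⟨g, hg, gen_of_base hg (genLt_eq_of_card hK hc (m11w_card PC.ptOf_injOn hg (card_genLt_le hK hc)))
    (PC.isBase_range _) hc (by decide +kernel)⟩
/-- The letters: a strong generating set, deepest stabiliser first. -/
noncomputable def m12w_g {G : Type*} [Group G] (a : ℕ → G) : ℕ → G := fun x => slp a 4 m12w_defs (m12w_iota x)

theorem m12w_tabs {G α : Type*} [Group G] [MulAction G α] {e : ℕ → α} {a : ℕ → G} (h0 : Tabs e 24 m12w_S a 4) : Tabs e 24 m12w_T (m12w_g a) 11 :=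
  Tabs.rename (ι := m12w_iota) (g := slp a 4 m12w_defs) ((Tabs.slp_base m12w_defs h0).slp_add (by decide) _ m12w_slp0) m12w_ren

theorem m12w_gen {G : Type*} [Group G] (a : ℕ → G) : genLt (m12w_g a) 11 = genLt a 4 :=
  genLt_slp_eq a m12w_defs (back := getP 8 255 (nat_lit 0x70a0908)) (by decide +kernel)

theorem m12w_low4 {G α : Type*} [Group G] [MulAction G α] {e : ℕ → α} {a : ℕ → G} (he : Set.InjOn e (Set.Iio 24)) (h0 : Tabs e 24 m12w_S a 4) :
    LowLevel (genLt (m12w_g a) 4) (genLt (m12w_g a) 0) (e 4) 8 :=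
  Tabs.lowLevel (m12w_tabs h0) he (by decide) (by decide) (by decide) m12w_L4_o

theorem m12w_ge4 {G α : Type*} [Group G] [MulAction G α] {e : ℕ → α} {a : ℕ → G} (he : Set.InjOn e (Set.Iio 24)) (h0 : Tabs e 24 m12w_S a 4) :
    Finite (genLt (m12w_g a) 4) → 8 ≤ Nat.card (genLt (m12w_g a) 4) := fun hK =>
  (m12w_low4 he h0).card hK (one_le_card_fin _)

theorem m12w_fix4 {G α : Type*} [Group G] [MulAction G α] {e : ℕ → α} {a : ℕ → G} (he : Set.InjOn e (Set.Iio 24)) (h0 : Tabs e 24 m12w_S a 4) :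
    ∀ X : Subgroup G, Finite X → (genLt (m12w_g a) 4) ≤ X → 8 * Nat.card (fixB e X [4]) ≤ Nat.card X :=
  (m12w_low4 he h0).card_fix (card_fix_nil _ _)

theorem m12w_low3 {G α : Type*} [Group G] [MulAction G α] {e : ℕ → α} {a : ℕ → G} (he : Set.InjOn e (Set.Iio 24)) (h0 : Tabs e 24 m12w_S a 4) :
    LowLevel (genLt (m12w_g a) 6) (genLt (m12w_g a) 4) (e 3) 9 :=
  Tabs.lowLevel (m12w_tabs h0) he (by decide) (by decide) (by decide) m12w_L3_o

theorem m12w_ge3 {G α : Type*} [Group G] [MulAction G α] {e : ℕ → α} {a : ℕ → G} (he : Set.InjOn e (Set.Iio 24)) (h0 : Tabs e 24 m12w_S a 4) :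
    Finite (genLt (m12w_g a) 6) → 72 ≤ Nat.card (genLt (m12w_g a) 6) := fun hK =>
  (m12w_low3 he h0).card hK (m12w_ge4 he h0)

theorem m12w_fix3 {G α : Type*} [Group G] [MulAction G α] {e : ℕ → α} {a : ℕ → G} (he : Set.InjOn e (Set.Iio 24)) (h0 : Tabs e 24 m12w_S a 4) :
    ∀ X : Subgroup G, Finite X → (genLt (m12w_g a) 6) ≤ X → 72 * Nat.card (fixB e X [3, 4]) ≤ Nat.card X :=
  (m12w_low3 he h0).card_fix (m12w_fix4 he h0)

theorem m12w_low2 {G α : Type*} [Group G] [MulAction G α] {e : ℕ → α} {a : ℕ → G} (he : Set.InjOn e (Set.Iio 24)) (h0 : Tabs e 24 m12w_S a 4) :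
    LowLevel (genLt (m12w_g a) 7) (genLt (m12w_g a) 6) (e 0) 10 :=
  Tabs.lowLevel (m12w_tabs h0) he (by decide) (by decide) (by decide) m12w_L2_o

theorem m12w_ge2 {G α : Type*} [Group G] [MulAction G α] {e : ℕ → α} {a : ℕ → G} (he : Set.InjOn e (Set.Iio 24)) (h0 : Tabs e 24 m12w_S a 4) :
    Finite (genLt (m12w_g a) 7) → 720 ≤ Nat.card (genLt (m12w_g a) 7) := fun hK =>
  (m12w_low2 he h0).card hK (m12w_ge3 he h0)

theorem m12w_fix2 {G α : Type*} [Group G] [MulAction G α] {e : ℕ → α} {a : ℕ → G} (he : Set.InjOn e (Set.Iio 24)) (h0 : Tabs e 24 m12w_S a 4) :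
    ∀ X : Subgroup G, Finite X → (genLt (m12w_g a) 7) ≤ X → 720 * Nat.card (fixB e X [0, 3, 4]) ≤ Nat.card X :=
  (m12w_low2 he h0).card_fix (m12w_fix3 he h0)

theorem m12w_low1 {G α : Type*} [Group G] [MulAction G α] {e : ℕ → α} {a : ℕ → G} (he : Set.InjOn e (Set.Iio 24)) (h0 : Tabs e 24 m12w_S a 4) :
    LowLevel (genLt (m12w_g a) 8) (genLt (m12w_g a) 7) (e 2) 11 :=
  Tabs.lowLevel (m12w_tabs h0) he (by decide) (by decide) (by decide) m12w_L1_o

theorem m12w_ge1 {G α : Type*} [Group G] [MulAction G α] {e : ℕ → α} {a : ℕ → G} (he : Set.InjOn e (Set.Iio 24)) (h0 : Tabs e 24 m12w_S a 4) :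
    Finite (genLt (m12w_g a) 8) → 7920 ≤ Nat.card (genLt (m12w_g a) 8) := fun hK =>
  (m12w_low1 he h0).card hK (m12w_ge2 he h0)

theorem m12w_fix1 {G α : Type*} [Group G] [MulAction G α] {e : ℕ → α} {a : ℕ → G} (he : Set.InjOn e (Set.Iio 24)) (h0 : Tabs e 24 m12w_S a 4) :
    ∀ X : Subgroup G, Finite X → (genLt (m12w_g a) 8) ≤ X → 7920 * Nat.card (fixB e X [2, 0, 3, 4]) ≤ Nat.card X :=
  (m12w_low1 he h0).card_fix (m12w_fix2 he h0)

theorem m12w_low0 {G α : Type*} [Group G] [MulAction G α] {e : ℕ → α} {a : ℕ → G} (he : Set.InjOn e (Set.Iio 24)) (h0 : Tabs e 24 m12w_S a 4) :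
    LowLevel (genLt (m12w_g a) 11) (genLt (m12w_g a) 8) (e 1) 12 :=
  Tabs.lowLevel (m12w_tabs h0) he (by decide) (by decide) (by decide) m12w_L0_o

theorem m12w_ge0 {G α : Type*} [Group G] [MulAction G α] {e : ℕ → α} {a : ℕ → G} (he : Set.InjOn e (Set.Iio 24)) (h0 : Tabs e 24 m12w_S a 4) :
    Finite (genLt (m12w_g a) 11) → 95040 ≤ Nat.card (genLt (m12w_g a) 11) := fun hK =>
  (m12w_low0 he h0).card hK (m12w_ge1 he h0)

theorem m12w_fix0 {G α : Type*} [Group G] [MulAction G α] {e : ℕ → α} {a : ℕ → G} (he : Set.InjOn e (Set.Iio 24)) (h0 : Tabs e 24 m12w_S a 4) :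
    ∀ X : Subgroup G, Finite X → (genLt (m12w_g a) 11) ≤ X → 95040 * Nat.card (fixB e X [1, 2, 0, 3, 4]) ≤ Nat.card X :=
  (m12w_low0 he h0).card_fix (m12w_fix1 he h0)

theorem m12w_ub0 {G α : Type*} [Group G] [MulAction G α] {e : ℕ → α} {a : ℕ → G} (he : Set.InjOn e (Set.Iio 24)) (h0 : Tabs e 24 m12w_S a 4) (hub : Nat.card (genLt a 4) ≠ 0 ∧ Nat.card (genLt a 4) ≤ 95040) :
    Nat.card (genLt (m12w_g a) 11) ≠ 0 ∧ Nat.card (genLt (m12w_g a) 11) ≤ 95040 := by rw [m12w_gen]; exact hub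

theorem m12w_level0 {G α : Type*} [Group G] [MulAction G α] {e : ℕ → α} {a : ℕ → G} (he : Set.InjOn e (Set.Iio 24)) (h0 : Tabs e 24 m12w_S a 4) (hub : Nat.card (genLt a 4) ≠ 0 ∧ Nat.card (genLt a 4) ≤ 95040) :
    Level (genLt (m12w_g a) 11) (genLt (m12w_g a) 8) (e 1) 12 :=
  ((m12w_low0 he h0).level (c := 7920) (m12w_ub0 he h0 hub) (m12w_ge1 he h0)).1

theorem m12w_ub1 {G α : Type*} [Group G] [MulAction G α] {e : ℕ → α} {a : ℕ → G} (he : Set.InjOn e (Set.Iio 24)) (h0 : Tabs e 24 m12w_S a 4) (hub : Nat.card (genLt a 4) ≠ 0 ∧ Nat.card (genLt a 4) ≤ 95040) :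
    Nat.card (genLt (m12w_g a) 8) ≠ 0 ∧ Nat.card (genLt (m12w_g a) 8) ≤ 7920 :=
  ((m12w_low0 he h0).level (c := 7920) (m12w_ub0 he h0 hub) (m12w_ge1 he h0)).2

theorem m12w_level1 {G α : Type*} [Group G] [MulAction G α] {e : ℕ → α} {a : ℕ → G} (he : Set.InjOn e (Set.Iio 24)) (h0 : Tabs e 24 m12w_S a 4) (hub : Nat.card (genLt a 4) ≠ 0 ∧ Nat.card (genLt a 4) ≤ 95040) :
    Level (genLt (m12w_g a) 8) (genLt (m12w_g a) 7) (e 2) 11 :=
  ((m12w_low1 he h0).level (c := 720) (m12w_ub1 he h0 hub) (m12w_ge2 he h0)).1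

theorem m12w_ub2 {G α : Type*} [Group G] [MulAction G α] {e : ℕ → α} {a : ℕ → G} (he : Set.InjOn e (Set.Iio 24)) (h0 : Tabs e 24 m12w_S a 4) (hub : Nat.card (genLt a 4) ≠ 0 ∧ Nat.card (genLt a 4) ≤ 95040) :
    Nat.card (genLt (m12w_g a) 7) ≠ 0 ∧ Nat.card (genLt (m12w_g a) 7) ≤ 720 :=
  ((m12w_low1 he h0).level (c := 720) (m12w_ub1 he h0 hub) (m12w_ge2 he h0)).2

theorem m12w_level2 {G α : Type*} [Group G] [MulAction G α] {e : ℕ → α} {a : ℕ → G} (he : Set.InjOn e (Set.Iio 24)) (h0 : Tabs e 24 m12w_S a 4) (hub : Nat.card (genLt a 4) ≠ 0 ∧ Nat.card (genLt a 4) ≤ 95040) :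
    Level (genLt (m12w_g a) 7) (genLt (m12w_g a) 6) (e 0) 10 :=
  ((m12w_low2 he h0).level (c := 72) (m12w_ub2 he h0 hub) (m12w_ge3 he h0)).1

theorem m12w_ub3 {G α : Type*} [Group G] [MulAction G α] {e : ℕ → α} {a : ℕ → G} (he : Set.InjOn e (Set.Iio 24)) (h0 : Tabs e 24 m12w_S a 4) (hub : Nat.card (genLt a 4) ≠ 0 ∧ Nat.card (genLt a 4) ≤ 95040) :
    Nat.card (genLt (m12w_g a) 6) ≠ 0 ∧ Nat.card (genLt (m12w_g a) 6) ≤ 72 :=
  ((m12w_low2 he h0).level (c := 72) (m12w_ub2 he h0 hub) (m12w_ge3 he h0)).2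

theorem m12w_level3 {G α : Type*} [Group G] [MulAction G α] {e : ℕ → α} {a : ℕ → G} (he : Set.InjOn e (Set.Iio 24)) (h0 : Tabs e 24 m12w_S a 4) (hub : Nat.card (genLt a 4) ≠ 0 ∧ Nat.card (genLt a 4) ≤ 95040) :
    Level (genLt (m12w_g a) 6) (genLt (m12w_g a) 4) (e 3) 9 :=
  ((m12w_low3 he h0).level (c := 8) (m12w_ub3 he h0 hub) (m12w_ge4 he h0)).1

theorem m12w_ub4 {G α : Type*} [Group G] [MulAction G α] {e : ℕ → α} {a : ℕ → G} (he : Set.InjOn e (Set.Iio 24)) (h0 : Tabs e 24 m12w_S a 4) (hub : Nat.card (genLt a 4) ≠ 0 ∧ Nat.card (genLt a 4) ≤ 95040) :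
    Nat.card (genLt (m12w_g a) 4) ≠ 0 ∧ Nat.card (genLt (m12w_g a) 4) ≤ 8 :=
  ((m12w_low3 he h0).level (c := 8) (m12w_ub3 he h0 hub) (m12w_ge4 he h0)).2

theorem m12w_level4 {G α : Type*} [Group G] [MulAction G α] {e : ℕ → α} {a : ℕ → G} (he : Set.InjOn e (Set.Iio 24)) (h0 : Tabs e 24 m12w_S a 4) (hub : Nat.card (genLt a 4) ≠ 0 ∧ Nat.card (genLt a 4) ≤ 95040) :
    Level (genLt (m12w_g a) 4) (genLt (m12w_g a) 0) (e 4) 8 :=
  ((m12w_low4 he h0).level (c := 1) (m12w_ub4 he h0 hub) (one_le_card_fin _)).1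

theorem m12w_card4 {G α : Type*} [Group G] [MulAction G α] {e : ℕ → α} {a : ℕ → G} (he : Set.InjOn e (Set.Iio 24)) (h0 : Tabs e 24 m12w_S a 4) (hub : Nat.card (genLt a 4) ≠ 0 ∧ Nat.card (genLt a 4) ≤ 95040) :
    Nat.card (genLt (m12w_g a) 4) = 8 :=
  (m12w_level4 he h0 hub).card (card_genLt_zero _)

theorem m12w_base4 {G α : Type*} [Group G] [MulAction G α] {e : ℕ → α} {a : ℕ → G} (he : Set.InjOn e (Set.Iio 24)) (h0 : Tabs e 24 m12w_S a 4) (hub : Nat.card (genLt a 4) ≠ 0 ∧ Nat.card (genLt a 4) ≤ 95040) :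
    IsBase e (genLt (m12w_g a) 4) [4] :=
  (m12w_level4 he h0 hub).base (isBase_genLt_zero _ _)

theorem m12w_card3 {G α : Type*} [Group G] [MulAction G α] {e : ℕ → α} {a : ℕ → G} (he : Set.InjOn e (Set.Iio 24)) (h0 : Tabs e 24 m12w_S a 4) (hub : Nat.card (genLt a 4) ≠ 0 ∧ Nat.card (genLt a 4) ≤ 95040) :
    Nat.card (genLt (m12w_g a) 6) = 72 :=
  (m12w_level3 he h0 hub).card (m12w_card4 he h0 hub)

theorem m12w_base3 {G α : Type*} [Group G] [MulAction G α] {e : ℕ → α} {a : ℕ → G} (he : Set.InjOn e (Set.Iio 24)) (h0 : Tabs e 24 m12w_S a 4) (hub : Nat.card (genLt a 4) ≠ 0 ∧ Nat.card (genLt a 4) ≤ 95040) :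
    IsBase e (genLt (m12w_g a) 6) [3, 4] :=
  (m12w_level3 he h0 hub).base (m12w_base4 he h0 hub)

theorem m12w_card2 {G α : Type*} [Group G] [MulAction G α] {e : ℕ → α} {a : ℕ → G} (he : Set.InjOn e (Set.Iio 24)) (h0 : Tabs e 24 m12w_S a 4) (hub : Nat.card (genLt a 4) ≠ 0 ∧ Nat.card (genLt a 4) ≤ 95040) :
    Nat.card (genLt (m12w_g a) 7) = 720 :=
  (m12w_level2 he h0 hub).card (m12w_card3 he h0 hub)

theorem m12w_base2 {G α : Type*} [Group G] [MulAction G α] {e : ℕ → α} {a : ℕ → G} (he : Set.InjOn e (Set.Iio 24)) (h0 : Tabs e 24 m12w_S a 4) (hub : Nat.card (genLt a 4) ≠ 0 ∧ Nat.card (genLt a 4) ≤ 95040) :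
    IsBase e (genLt (m12w_g a) 7) [0, 3, 4] :=
  (m12w_level2 he h0 hub).base (m12w_base3 he h0 hub)

theorem m12w_card1 {G α : Type*} [Group G] [MulAction G α] {e : ℕ → α} {a : ℕ → G} (he : Set.InjOn e (Set.Iio 24)) (h0 : Tabs e 24 m12w_S a 4) (hub : Nat.card (genLt a 4) ≠ 0 ∧ Nat.card (genLt a 4) ≤ 95040) :
    Nat.card (genLt (m12w_g a) 8) = 7920 :=
  (m12w_level1 he h0 hub).card (m12w_card2 he h0 hub)

theorem m12w_base1 {G α : Type*} [Group G] [MulAction G α] {e : ℕ → α} {a : ℕ → G} (he : Set.InjOn e (Set.Iio 24)) (h0 : Tabs e 24 m12w_S a 4) (hub : Nat.card (genLt a 4) ≠ 0 ∧ Nat.card (genLt a 4) ≤ 95040) :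
    IsBase e (genLt (m12w_g a) 8) [2, 0, 3, 4] :=
  (m12w_level1 he h0 hub).base (m12w_base2 he h0 hub)

theorem m12w_card0 {G α : Type*} [Group G] [MulAction G α] {e : ℕ → α} {a : ℕ → G} (he : Set.InjOn e (Set.Iio 24)) (h0 : Tabs e 24 m12w_S a 4) (hub : Nat.card (genLt a 4) ≠ 0 ∧ Nat.card (genLt a 4) ≤ 95040) :
    Nat.card (genLt (m12w_g a) 11) = 95040 :=
  (m12w_level0 he h0 hub).card (m12w_card1 he h0 hub)

theorem m12w_base0 {G α : Type*} [Group G] [MulAction G α] {e : ℕ → α} {a : ℕ → G} (he : Set.InjOn e (Set.Iio 24)) (h0 : Tabs e 24 m12w_S a 4) (hub : Nat.card (genLt a 4) ≠ 0 ∧ Nat.card (genLt a 4) ≤ 95040) :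
    IsBase e (genLt (m12w_g a) 11) [1, 2, 0, 3, 4] :=
  (m12w_level0 he h0 hub).base (m12w_base1 he h0 hub)

theorem m12w_hinv {G α : Type*} [Group G] [MulAction G α] {e : ℕ → α} {a : ℕ → G} (he : Set.InjOn e (Set.Iio 24)) (h0 : Tabs e 24 m12w_S a 4) (hub : Nat.card (genLt a 4) ≠ 0 ∧ Nat.card (genLt a 4) ≤ 95040) : ∀ x < 11, m12w_g a x * m12w_g a (m12w_inv x) = 1 :=
  (m12w_tabs h0).hinv_of_base (m12w_base0 he h0 hub) (by decide +kernel)

theorem m12w_card {G α : Type*} [Group G] [MulAction G α] {e : ℕ → α} {a : ℕ → G} (he : Set.InjOn e (Set.Iio 24)) (h0 : Tabs e 24 m12w_S a 4) (hub : Nat.card (genLt a 4) ≠ 0 ∧ Nat.card (genLt a 4) ≤ 95040) :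
    Nat.card (genLt a 4) = 95040 := by
  rw [← m12w_gen]; exact m12w_card0 he h0 hub

theorem m12_gen : ∃ g : ℕ → Spor.M12, Tabs Golay.ptOf 24 m12w_S g 4 ∧ Gen ⊤ g m12_rels 4 95040 := by
  obtain ⟨g, hg⟩ := PC.exists_tabs (H := Spor.M12) (t := m12w_S_t) (m := 4) fun x hx =>
    PC.inH_M12 ((allLt_iff _ fun x => PC.isM12 (m12w_S_t.get x)).1 (by decide +kernel) x hx)
  have hc : Nat.card (⊤ : Subgroup Spor.M12) = 95040 := by rw [Subgroup.card_top, Dod.card_SporM12]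
  have hK : ∀ x < 4, g x ∈ (⊤ : Subgroup Spor.M12) := fun _ _ => Subgroup.mem_top _
  exact ⟨g, hg, gen_of_base hg (genLt_eq_of_card hK hc (m12w_card PC.ptOf_injOn hg (card_genLt_le hK hc)))
    (PC.isBase_range _) hc (by decide +kernel)⟩
/-- The letters: a strong generating set, deepest stabiliser first. -/
noncomputable def m23w_g {G : Type*} [Group G] (a : ℕ → G) : ℕ → G := fun x => slp a 4 m23w_defs (m23w_iota x)

theorem m23w_tabs {G α : Type*} [Group G] [MulAction G α] {e : ℕ → α} {a : ℕ → G} (h0 : Tabs e 24 m23w_S a 4) : Tabs e 24 m23w_T (m23w_g a) 12 :=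
  Tabs.rename (ι := m23w_iota) (g := slp a 4 m23w_defs) ((Tabs.slp_base m23w_defs h0).slp_add (by decide) _ m23w_slp0) m23w_ren

theorem m23w_gen {G : Type*} [Group G] (a : ℕ → G) : genLt (m23w_g a) 12 = genLt a 4 :=
  genLt_slp_eq a m23w_defs (back := getP 8 255 (nat_lit 0xb080a09)) (by decide +kernel)

theorem m23w_low5 {G α : Type*} [Group G] [MulAction G α] {e : ℕ → α} {a : ℕ → G} (he : Set.InjOn e (Set.Iio 24)) (h0 : Tabs e 24 m23w_S a 4) :
    LowLevel (genLt (m23w_g a) 2) (genLt (m23w_g a) 0) (e 5) 3 :=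
  Tabs.lowLevel (m23w_tabs h0) he (by decide) (by decide) (by decide) m23w_L5_o

theorem m23w_ge5 {G α : Type*} [Group G] [MulAction G α] {e : ℕ → α} {a : ℕ → G} (he : Set.InjOn e (Set.Iio 24)) (h0 : Tabs e 24 m23w_S a 4) :
    Finite (genLt (m23w_g a) 2) → 3 ≤ Nat.card (genLt (m23w_g a) 2) := fun hK =>
  (m23w_low5 he h0).card hK (one_le_card_fin _)

theorem m23w_fix5 {G α : Type*} [Group G] [MulAction G α] {e : ℕ → α} {a : ℕ → G} (he : Set.InjOn e (Set.Iio 24)) (h0 : Tabs e 24 m23w_S a 4) :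
    ∀ X : Subgroup G, Finite X → (genLt (m23w_g a) 2) ≤ X → 3 * Nat.card (fixB e X [5]) ≤ Nat.card X :=
  (m23w_low5 he h0).card_fix (card_fix_nil _ _)

theorem m23w_low4 {G α : Type*} [Group G] [MulAction G α] {e : ℕ → α} {a : ℕ → G} (he : Set.InjOn e (Set.Iio 24)) (h0 : Tabs e 24 m23w_S a 4) :
    LowLevel (genLt (m23w_g a) 5) (genLt (m23w_g a) 2) (e 4) 16 :=
  Tabs.lowLevel (m23w_tabs h0) he (by decide) (by decide) (by decide) m23w_L4_o

theorem m23w_ge4 {G α : Type*} [Group G] [MulAction G α] {e : ℕ → α} {a : ℕ → G} (he : Set.InjOn e (Set.Iio 24)) (h0 : Tabs e 24 m23w_S a 4) :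
    Finite (genLt (m23w_g a) 5) → 48 ≤ Nat.card (genLt (m23w_g a) 5) := fun hK =>
  (m23w_low4 he h0).card hK (m23w_ge5 he h0)

theorem m23w_fix4 {G α : Type*} [Group G] [MulAction G α] {e : ℕ → α} {a : ℕ → G} (he : Set.InjOn e (Set.Iio 24)) (h0 : Tabs e 24 m23w_S a 4) :
    ∀ X : Subgroup G, Finite X → (genLt (m23w_g a) 5) ≤ X → 48 * Nat.card (fixB e X [4, 5]) ≤ Nat.card X :=
  (m23w_low4 he h0).card_fix (m23w_fix5 he h0)

theorem m23w_low3 {G α : Type*} [Group G] [MulAction G α] {e : ℕ → α} {a : ℕ → G} (he : Set.InjOn e (Set.Iio 24)) (h0 : Tabs e 24 m23w_S a 4) :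
    LowLevel (genLt (m23w_g a) 7) (genLt (m23w_g a) 5) (e 3) 20 :=
  Tabs.lowLevel (m23w_tabs h0) he (by decide) (by decide) (by decide) m23w_L3_o

theorem m23w_ge3 {G α : Type*} [Group G] [MulAction G α] {e : ℕ → α} {a : ℕ → G} (he : Set.InjOn e (Set.Iio 24)) (h0 : Tabs e 24 m23w_S a 4) :
    Finite (genLt (m23w_g a) 7) → 960 ≤ Nat.card (genLt (m23w_g a) 7) := fun hK =>
  (m23w_low3 he h0).card hK (m23w_ge4 he h0)

theorem m23w_fix3 {G α : Type*} [Group G] [MulAction G α] {e : ℕ → α} {a : ℕ → G} (he : Set.InjOn e (Set.Iio 24)) (h0 : Tabs e 24 m23w_S a 4) :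
    ∀ X : Subgroup G, Finite X → (genLt (m23w_g a) 7) ≤ X → 960 * Nat.card (fixB e X [3, 4, 5]) ≤ Nat.card X :=
  (m23w_low3 he h0).card_fix (m23w_fix4 he h0)

theorem m23w_low2 {G α : Type*} [Group G] [MulAction G α] {e : ℕ → α} {a : ℕ → G} (he : Set.InjOn e (Set.Iio 24)) (h0 : Tabs e 24 m23w_S a 4) :
    LowLevel (genLt (m23w_g a) 8) (genLt (m23w_g a) 7) (e 1) 21 :=
  Tabs.lowLevel (m23w_tabs h0) he (by decide) (by decide) (by decide) m23w_L2_o

theorem m23w_ge2 {G α : Type*} [Group G] [MulAction G α] {e : ℕ → α} {a : ℕ → G} (he : Set.InjOn e (Set.Iio 24)) (h0 : Tabs e 24 m23w_S a 4) :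
    Finite (genLt (m23w_g a) 8) → 20160 ≤ Nat.card (genLt (m23w_g a) 8) := fun hK =>
  (m23w_low2 he h0).card hK (m23w_ge3 he h0)

theorem m23w_fix2 {G α : Type*} [Group G] [MulAction G α] {e : ℕ → α} {a : ℕ → G} (he : Set.InjOn e (Set.Iio 24)) (h0 : Tabs e 24 m23w_S a 4) :
    ∀ X : Subgroup G, Finite X → (genLt (m23w_g a) 8) ≤ X → 20160 * Nat.card (fixB e X [1, 3, 4, 5]) ≤ Nat.card X :=
  (m23w_low2 he h0).card_fix (m23w_fix3 he h0)

theorem m23w_low1 {G α : Type*} [Group G] [MulAction G α] {e : ℕ → α} {a : ℕ → G} (he : Set.InjOn e (Set.Iio 24)) (h0 : Tabs e 24 m23w_S a 4) :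
    LowLevel (genLt (m23w_g a) 9) (genLt (m23w_g a) 8) (e 2) 22 :=
  Tabs.lowLevel (m23w_tabs h0) he (by decide) (by decide) (by decide) m23w_L1_o

theorem m23w_ge1 {G α : Type*} [Group G] [MulAction G α] {e : ℕ → α} {a : ℕ → G} (he : Set.InjOn e (Set.Iio 24)) (h0 : Tabs e 24 m23w_S a 4) :
    Finite (genLt (m23w_g a) 9) → 443520 ≤ Nat.card (genLt (m23w_g a) 9) := fun hK =>
  (m23w_low1 he h0).card hK (m23w_ge2 he h0)

theorem m23w_fix1 {G α : Type*} [Group G] [MulAction G α] {e : ℕ → α} {a : ℕ → G} (he : Set.InjOn e (Set.Iio 24)) (h0 : Tabs e 24 m23w_S a 4) :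
    ∀ X : Subgroup G, Finite X → (genLt (m23w_g a) 9) ≤ X → 443520 * Nat.card (fixB e X [2, 1, 3, 4, 5]) ≤ Nat.card X :=
  (m23w_low1 he h0).card_fix (m23w_fix2 he h0)

theorem m23w_low0 {G α : Type*} [Group G] [MulAction G α] {e : ℕ → α} {a : ℕ → G} (he : Set.InjOn e (Set.Iio 24)) (h0 : Tabs e 24 m23w_S a 4) :
    LowLevel (genLt (m23w_g a) 12) (genLt (m23w_g a) 9) (e 0) 23 :=
  Tabs.lowLevel (m23w_tabs h0) he (by decide) (by decide) (by decide) m23w_L0_o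

theorem m23w_ge0 {G α : Type*} [Group G] [MulAction G α] {e : ℕ → α} {a : ℕ → G} (he : Set.InjOn e (Set.Iio 24)) (h0 : Tabs e 24 m23w_S a 4) :
    Finite (genLt (m23w_g a) 12) → 10200960 ≤ Nat.card (genLt (m23w_g a) 12) := fun hK =>
  (m23w_low0 he h0).card hK (m23w_ge1 he h0)

theorem m23w_fix0 {G α : Type*} [Group G] [MulAction G α] {e : ℕ → α} {a : ℕ → G} (he : Set.InjOn e (Set.Iio 24)) (h0 : Tabs e 24 m23w_S a 4) :
    ∀ X : Subgroup G, Finite X → (genLt (m23w_g a) 12) ≤ X → 10200960 * Nat.card (fixB e X [0, 2, 1, 3, 4, 5]) ≤ Nat.card X :=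
  (m23w_low0 he h0).card_fix (m23w_fix1 he h0)

theorem m23w_ub0 {G α : Type*} [Group G] [MulAction G α] {e : ℕ → α} {a : ℕ → G} (he : Set.InjOn e (Set.Iio 24)) (h0 : Tabs e 24 m23w_S a 4) (hub : Nat.card (genLt a 4) ≠ 0 ∧ Nat.card (genLt a 4) ≤ 10200960) :
    Nat.card (genLt (m23w_g a) 12) ≠ 0 ∧ Nat.card (genLt (m23w_g a) 12) ≤ 10200960 := by rw [m23w_gen]; exact hub

theorem m23w_level0 {G α : Type*} [Group G] [MulAction G α] {e : ℕ → α} {a : ℕ → G} (he : Set.InjOn e (Set.Iio 24)) (h0 : Tabs e 24 m23w_S a 4) (hub : Nat.card (genLt a 4) ≠ 0 ∧ Nat.card (genLt a 4) ≤ 10200960) :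
    Level (genLt (m23w_g a) 12) (genLt (m23w_g a) 9) (e 0) 23 :=
  ((m23w_low0 he h0).level (c := 443520) (m23w_ub0 he h0 hub) (m23w_ge1 he h0)).1

theorem m23w_ub1 {G α : Type*} [Group G] [MulAction G α] {e : ℕ → α} {a : ℕ → G} (he : Set.InjOn e (Set.Iio 24)) (h0 : Tabs e 24 m23w_S a 4) (hub : Nat.card (genLt a 4) ≠ 0 ∧ Nat.card (genLt a 4) ≤ 10200960) :
    Nat.card (genLt (m23w_g a) 9) ≠ 0 ∧ Nat.card (genLt (m23w_g a) 9) ≤ 443520 :=
  ((m23w_low0 he h0).level (c := 443520) (m23w_ub0 he h0 hub) (m23w_ge1 he h0)).2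

theorem m23w_level1 {G α : Type*} [Group G] [MulAction G α] {e : ℕ → α} {a : ℕ → G} (he : Set.InjOn e (Set.Iio 24)) (h0 : Tabs e 24 m23w_S a 4) (hub : Nat.card (genLt a 4) ≠ 0 ∧ Nat.card (genLt a 4) ≤ 10200960) :
    Level (genLt (m23w_g a) 9) (genLt (m23w_g a) 8) (e 2) 22 :=
  ((m23w_low1 he h0).level (c := 20160) (m23w_ub1 he h0 hub) (m23w_ge2 he h0)).1

theorem m23w_ub2 {G α : Type*} [Group G] [MulAction G α] {e : ℕ → α} {a : ℕ → G} (he : Set.InjOn e (Set.Iio 24)) (h0 : Tabs e 24 m23w_S a 4) (hub : Nat.card (genLt a 4) ≠ 0 ∧ Nat.card (genLt a 4) ≤ 10200960) :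
    Nat.card (genLt (m23w_g a) 8) ≠ 0 ∧ Nat.card (genLt (m23w_g a) 8) ≤ 20160 :=
  ((m23w_low1 he h0).level (c := 20160) (m23w_ub1 he h0 hub) (m23w_ge2 he h0)).2

theorem m23w_level2 {G α : Type*} [Group G] [MulAction G α] {e : ℕ → α} {a : ℕ → G} (he : Set.InjOn e (Set.Iio 24)) (h0 : Tabs e 24 m23w_S a 4) (hub : Nat.card (genLt a 4) ≠ 0 ∧ Nat.card (genLt a 4) ≤ 10200960) :
    Level (genLt (m23w_g a) 8) (genLt (m23w_g a) 7) (e 1) 21 :=
  ((m23w_low2 he h0).level (c := 960) (m23w_ub2 he h0 hub) (m23w_ge3 he h0)).1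

theorem m23w_ub3 {G α : Type*} [Group G] [MulAction G α] {e : ℕ → α} {a : ℕ → G} (he : Set.InjOn e (Set.Iio 24)) (h0 : Tabs e 24 m23w_S a 4) (hub : Nat.card (genLt a 4) ≠ 0 ∧ Nat.card (genLt a 4) ≤ 10200960) :
    Nat.card (genLt (m23w_g a) 7) ≠ 0 ∧ Nat.card (genLt (m23w_g a) 7) ≤ 960 :=
  ((m23w_low2 he h0).level (c := 960) (m23w_ub2 he h0 hub) (m23w_ge3 he h0)).2

theorem m23w_level3 {G α : Type*} [Group G] [MulAction G α] {e : ℕ → α} {a : ℕ → G} (he : Set.InjOn e (Set.Iio 24)) (h0 : Tabs e 24 m23w_S a 4) (hub : Nat.card (genLt a 4) ≠ 0 ∧ Nat.card (genLt a 4) ≤ 10200960) :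
    Level (genLt (m23w_g a) 7) (genLt (m23w_g a) 5) (e 3) 20 :=
  ((m23w_low3 he h0).level (c := 48) (m23w_ub3 he h0 hub) (m23w_ge4 he h0)).1

theorem m23w_ub4 {G α : Type*} [Group G] [MulAction G α] {e : ℕ → α} {a : ℕ → G} (he : Set.InjOn e (Set.Iio 24)) (h0 : Tabs e 24 m23w_S a 4) (hub : Nat.card (genLt a 4) ≠ 0 ∧ Nat.card (genLt a 4) ≤ 10200960) :
    Nat.card (genLt (m23w_g a) 5) ≠ 0 ∧ Nat.card (genLt (m23w_g a) 5) ≤ 48 :=
  ((m23w_low3 he h0).level (c := 48) (m23w_ub3 he h0 hub) (m23w_ge4 he h0)).2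

theorem m23w_level4 {G α : Type*} [Group G] [MulAction G α] {e : ℕ → α} {a : ℕ → G} (he : Set.InjOn e (Set.Iio 24)) (h0 : Tabs e 24 m23w_S a 4) (hub : Nat.card (genLt a 4) ≠ 0 ∧ Nat.card (genLt a 4) ≤ 10200960) :
    Level (genLt (m23w_g a) 5) (genLt (m23w_g a) 2) (e 4) 16 :=
  ((m23w_low4 he h0).level (c := 3) (m23w_ub4 he h0 hub) (m23w_ge5 he h0)).1

theorem m23w_ub5 {G α : Type*} [Group G] [MulAction G α] {e : ℕ → α} {a : ℕ → G} (he : Set.InjOn e (Set.Iio 24)) (h0 : Tabs e 24 m23w_S a 4) (hub : Nat.card (genLt a 4) ≠ 0 ∧ Nat.card (genLt a 4) ≤ 10200960) :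
    Nat.card (genLt (m23w_g a) 2) ≠ 0 ∧ Nat.card (genLt (m23w_g a) 2) ≤ 3 :=
  ((m23w_low4 he h0).level (c := 3) (m23w_ub4 he h0 hub) (m23w_ge5 he h0)).2

theorem m23w_level5 {G α : Type*} [Group G] [MulAction G α] {e : ℕ → α} {a : ℕ → G} (he : Set.InjOn e (Set.Iio 24)) (h0 : Tabs e 24 m23w_S a 4) (hub : Nat.card (genLt a 4) ≠ 0 ∧ Nat.card (genLt a 4) ≤ 10200960) :
    Level (genLt (m23w_g a) 2) (genLt (m23w_g a) 0) (e 5) 3 :=
  ((m23w_low5 he h0).level (c := 1) (m23w_ub5 he h0 hub) (one_le_card_fin _)).1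

theorem m23w_card5 {G α : Type*} [Group G] [MulAction G α] {e : ℕ → α} {a : ℕ → G} (he : Set.InjOn e (Set.Iio 24)) (h0 : Tabs e 24 m23w_S a 4) (hub : Nat.card (genLt a 4) ≠ 0 ∧ Nat.card (genLt a 4) ≤ 10200960) :
    Nat.card (genLt (m23w_g a) 2) = 3 :=
  (m23w_level5 he h0 hub).card (card_genLt_zero _)

theorem m23w_base5 {G α : Type*} [Group G] [MulAction G α] {e : ℕ → α} {a : ℕ → G} (he : Set.InjOn e (Set.Iio 24)) (h0 : Tabs e 24 m23w_S a 4) (hub : Nat.card (genLt a 4) ≠ 0 ∧ Nat.card (genLt a 4) ≤ 10200960) :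
    IsBase e (genLt (m23w_g a) 2) [5] :=
  (m23w_level5 he h0 hub).base (isBase_genLt_zero _ _)

theorem m23w_card4 {G α : Type*} [Group G] [MulAction G α] {e : ℕ → α} {a : ℕ → G} (he : Set.InjOn e (Set.Iio 24)) (h0 : Tabs e 24 m23w_S a 4) (hub : Nat.card (genLt a 4) ≠ 0 ∧ Nat.card (genLt a 4) ≤ 10200960) :
    Nat.card (genLt (m23w_g a) 5) = 48 :=
  (m23w_level4 he h0 hub).card (m23w_card5 he h0 hub)

theorem m23w_base4 {G α : Type*} [Group G] [MulAction G α] {e : ℕ → α} {a : ℕ → G} (he : Set.InjOn e (Set.Iio 24)) (h0 : Tabs e 24 m23w_S a 4) (hub : Nat.card (genLt a 4) ≠ 0 ∧ Nat.card (genLt a 4) ≤ 10200960) :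
    IsBase e (genLt (m23w_g a) 5) [4, 5] :=
  (m23w_level4 he h0 hub).base (m23w_base5 he h0 hub)

theorem m23w_card3 {G α : Type*} [Group G] [MulAction G α] {e : ℕ → α} {a : ℕ → G} (he : Set.InjOn e (Set.Iio 24)) (h0 : Tabs e 24 m23w_S a 4) (hub : Nat.card (genLt a 4) ≠ 0 ∧ Nat.card (genLt a 4) ≤ 10200960) :
    Nat.card (genLt (m23w_g a) 7) = 960 :=
  (m23w_level3 he h0 hub).card (m23w_card4 he h0 hub)

theorem m23w_base3 {G α : Type*} [Group G] [MulAction G α] {e : ℕ → α} {a : ℕ → G} (he : Set.InjOn e (Set.Iio 24)) (h0 : Tabs e 24 m23w_S a 4) (hub : Nat.card (genLt a 4) ≠ 0 ∧ Nat.card (genLt a 4) ≤ 10200960) :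
    IsBase e (genLt (m23w_g a) 7) [3, 4, 5] :=
  (m23w_level3 he h0 hub).base (m23w_base4 he h0 hub)

theorem m23w_card2 {G α : Type*} [Group G] [MulAction G α] {e : ℕ → α} {a : ℕ → G} (he : Set.InjOn e (Set.Iio 24)) (h0 : Tabs e 24 m23w_S a 4) (hub : Nat.card (genLt a 4) ≠ 0 ∧ Nat.card (genLt a 4) ≤ 10200960) :
    Nat.card (genLt (m23w_g a) 8) = 20160 :=
  (m23w_level2 he h0 hub).card (m23w_card3 he h0 hub)

theorem m23w_base2 {G α : Type*} [Group G] [MulAction G α] {e : ℕ → α} {a : ℕ → G} (he : Set.InjOn e (Set.Iio 24)) (h0 : Tabs e 24 m23w_S a 4) (hub : Nat.card (genLt a 4) ≠ 0 ∧ Nat.card (genLt a 4) ≤ 10200960) :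
    IsBase e (genLt (m23w_g a) 8) [1, 3, 4, 5] :=
  (m23w_level2 he h0 hub).base (m23w_base3 he h0 hub)

theorem m23w_card1 {G α : Type*} [Group G] [MulAction G α] {e : ℕ → α} {a : ℕ → G} (he : Set.InjOn e (Set.Iio 24)) (h0 : Tabs e 24 m23w_S a 4) (hub : Nat.card (genLt a 4) ≠ 0 ∧ Nat.card (genLt a 4) ≤ 10200960) :
    Nat.card (genLt (m23w_g a) 9) = 443520 :=
  (m23w_level1 he h0 hub).card (m23w_card2 he h0 hub)

theorem m23w_base1 {G α : Type*} [Group G] [MulAction G α] {e : ℕ → α} {a : ℕ → G} (he : Set.InjOn e (Set.Iio 24)) (h0 : Tabs e 24 m23w_S a 4) (hub : Nat.card (genLt a 4) ≠ 0 ∧ Nat.card (genLt a 4) ≤ 10200960) :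
    IsBase e (genLt (m23w_g a) 9) [2, 1, 3, 4, 5] :=
  (m23w_level1 he h0 hub).base (m23w_base2 he h0 hub)

theorem m23w_card0 {G α : Type*} [Group G] [MulAction G α] {e : ℕ → α} {a : ℕ → G} (he : Set.InjOn e (Set.Iio 24)) (h0 : Tabs e 24 m23w_S a 4) (hub : Nat.card (genLt a 4) ≠ 0 ∧ Nat.card (genLt a 4) ≤ 10200960) :
    Nat.card (genLt (m23w_g a) 12) = 10200960 :=
  (m23w_level0 he h0 hub).card (m23w_card1 he h0 hub)

theorem m23w_base0 {G α : Type*} [Group G] [MulAction G α] {e : ℕ → α} {a : ℕ → G} (he : Set.InjOn e (Set.Iio 24)) (h0 : Tabs e 24 m23w_S a 4) (hub : Nat.card (genLt a 4) ≠ 0 ∧ Nat.card (genLt a 4) ≤ 10200960) :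
    IsBase e (genLt (m23w_g a) 12) [0, 2, 1, 3, 4, 5] :=
  (m23w_level0 he h0 hub).base (m23w_base1 he h0 hub)

theorem m23w_hinv {G α : Type*} [Group G] [MulAction G α] {e : ℕ → α} {a : ℕ → G} (he : Set.InjOn e (Set.Iio 24)) (h0 : Tabs e 24 m23w_S a 4) (hub : Nat.card (genLt a 4) ≠ 0 ∧ Nat.card (genLt a 4) ≤ 10200960) : ∀ x < 12, m23w_g a x * m23w_g a (m23w_inv x) = 1 :=
  (m23w_tabs h0).hinv_of_base (m23w_base0 he h0 hub) (by decide +kernel)

theorem m23w_card {G α : Type*} [Group G] [MulAction G α] {e : ℕ → α} {a : ℕ → G} (he : Set.InjOn e (Set.Iio 24)) (h0 : Tabs e 24 m23w_S a 4) (hub : Nat.card (genLt a 4) ≠ 0 ∧ Nat.card (genLt a 4) ≤ 10200960) :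
    Nat.card (genLt a 4) = 10200960 := by
  rw [← m23w_gen]; exact m23w_card0 he h0 hub

theorem m23_gen : ∃ g : ℕ → Spor.M23, Tabs Golay.ptOf 24 m23w_S g 4 ∧ Gen ⊤ g m23_rels 4 10200960 := by
  obtain ⟨g, hg⟩ := PC.exists_tabs (H := Spor.M23) (t := m23w_S_t) (m := 4) fun x hx =>
    PC.inH_M23 ((allLt_iff _ fun x => PC.isM23 (m23w_S_t.get x)).1 (by decide +kernel) x hx)
  have hc : Nat.card (⊤ : Subgroup Spor.M23) = 10200960 := by rw [Subgroup.card_top, Golay.card_M23]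
  have hK : ∀ x < 4, g x ∈ (⊤ : Subgroup Spor.M23) := fun _ _ => Subgroup.mem_top _
  exact ⟨g, hg, gen_of_base hg (genLt_eq_of_card hK hc (m23w_card PC.ptOf_injOn hg (card_genLt_le hK hc)))
    (PC.isBase_range _) hc (by decide +kernel)⟩
/-- The letters: a strong generating set, deepest stabiliser first. -/
noncomputable def m24w_g {G : Type*} [Group G] (a : ℕ → G) : ℕ → G := fun x => slp a 5 m24w_defs (m24w_iota x)

theorem m24w_tabs {G α : Type*} [Group G] [MulAction G α] {e : ℕ → α} {a : ℕ → G} (h0 : Tabs e 24 m24w_S a 5) : Tabs e 24 m24w_T (m24w_g a) 15 :=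
  Tabs.rename (ι := m24w_iota) (g := slp a 5 m24w_defs) ((Tabs.slp_base m24w_defs h0).slp_add (by decide) _ m24w_slp0) m24w_ren

theorem m24w_gen {G : Type*} [Group G] (a : ℕ → G) : genLt (m24w_g a) 15 = genLt a 5 :=
  genLt_slp_eq a m24w_defs (back := getP 8 255 (nat_lit 0xe0d0c0b0a)) (by decide +kernel)

theorem m24w_low6 {G α : Type*} [Group G] [MulAction G α] {e : ℕ → α} {a : ℕ → G} (he : Set.InjOn e (Set.Iio 24)) (h0 : Tabs e 24 m24w_S a 5) :
    LowLevel (genLt (m24w_g a) 2) (genLt (m24w_g a) 0) (e 6) 3 :=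
  Tabs.lowLevel (m24w_tabs h0) he (by decide) (by decide) (by decide) m24w_L6_o

theorem m24w_ge6 {G α : Type*} [Group G] [MulAction G α] {e : ℕ → α} {a : ℕ → G} (he : Set.InjOn e (Set.Iio 24)) (h0 : Tabs e 24 m24w_S a 5) :
    Finite (genLt (m24w_g a) 2) → 3 ≤ Nat.card (genLt (m24w_g a) 2) := fun hK =>
  (m24w_low6 he h0).card hK (one_le_card_fin _)

theorem m24w_fix6 {G α : Type*} [Group G] [MulAction G α] {e : ℕ → α} {a : ℕ → G} (he : Set.InjOn e (Set.Iio 24)) (h0 : Tabs e 24 m24w_S a 5) :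
    ∀ X : Subgroup G, Finite X → (genLt (m24w_g a) 2) ≤ X → 3 * Nat.card (fixB e X [6]) ≤ Nat.card X :=
  (m24w_low6 he h0).card_fix (card_fix_nil _ _)

theorem m24w_low5 {G α : Type*} [Group G] [MulAction G α] {e : ℕ → α} {a : ℕ → G} (he : Set.InjOn e (Set.Iio 24)) (h0 : Tabs e 24 m24w_S a 5) :
    LowLevel (genLt (m24w_g a) 5) (genLt (m24w_g a) 2) (e 5) 16 :=
  Tabs.lowLevel (m24w_tabs h0) he (by decide) (by decide) (by decide) m24w_L5_o

theorem m24w_ge5 {G α : Type*} [Group G] [MulAction G α] {e : ℕ → α} {a : ℕ → G} (he : Set.InjOn e (Set.Iio 24)) (h0 : Tabs e 24 m24w_S a 5) :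
    Finite (genLt (m24w_g a) 5) → 48 ≤ Nat.card (genLt (m24w_g a) 5) := fun hK =>
  (m24w_low5 he h0).card hK (m24w_ge6 he h0)

theorem m24w_fix5 {G α : Type*} [Group G] [MulAction G α] {e : ℕ → α} {a : ℕ → G} (he : Set.InjOn e (Set.Iio 24)) (h0 : Tabs e 24 m24w_S a 5) :
    ∀ X : Subgroup G, Finite X → (genLt (m24w_g a) 5) ≤ X → 48 * Nat.card (fixB e X [5, 6]) ≤ Nat.card X :=
  (m24w_low5 he h0).card_fix (m24w_fix6 he h0)

theorem m24w_low4 {G α : Type*} [Group G] [MulAction G α] {e : ℕ → α} {a : ℕ → G} (he : Set.InjOn e (Set.Iio 24)) (h0 : Tabs e 24 m24w_S a 5) :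
    LowLevel (genLt (m24w_g a) 7) (genLt (m24w_g a) 5) (e 4) 20 :=
  Tabs.lowLevel (m24w_tabs h0) he (by decide) (by decide) (by decide) m24w_L4_o

theorem m24w_ge4 {G α : Type*} [Group G] [MulAction G α] {e : ℕ → α} {a : ℕ → G} (he : Set.InjOn e (Set.Iio 24)) (h0 : Tabs e 24 m24w_S a 5) :
    Finite (genLt (m24w_g a) 7) → 960 ≤ Nat.card (genLt (m24w_g a) 7) := fun hK =>
  (m24w_low4 he h0).card hK (m24w_ge5 he h0)

theorem m24w_fix4 {G α : Type*} [Group G] [MulAction G α] {e : ℕ → α} {a : ℕ → G} (he : Set.InjOn e (Set.Iio 24)) (h0 : Tabs e 24 m24w_S a 5) :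
    ∀ X : Subgroup G, Finite X → (genLt (m24w_g a) 7) ≤ X → 960 * Nat.card (fixB e X [4, 5, 6]) ≤ Nat.card X :=
  (m24w_low4 he h0).card_fix (m24w_fix5 he h0)

theorem m24w_low3 {G α : Type*} [Group G] [MulAction G α] {e : ℕ → α} {a : ℕ → G} (he : Set.InjOn e (Set.Iio 24)) (h0 : Tabs e 24 m24w_S a 5) :
    LowLevel (genLt (m24w_g a) 8) (genLt (m24w_g a) 7) (e 0) 21 :=
  Tabs.lowLevel (m24w_tabs h0) he (by decide) (by decide) (by decide) m24w_L3_o

theorem m24w_ge3 {G α : Type*} [Group G] [MulAction G α] {e : ℕ → α} {a : ℕ → G} (he : Set.InjOn e (Set.Iio 24)) (h0 : Tabs e 24 m24w_S a 5) :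
    Finite (genLt (m24w_g a) 8) → 20160 ≤ Nat.card (genLt (m24w_g a) 8) := fun hK =>
  (m24w_low3 he h0).card hK (m24w_ge4 he h0)

theorem m24w_fix3 {G α : Type*} [Group G] [MulAction G α] {e : ℕ → α} {a : ℕ → G} (he : Set.InjOn e (Set.Iio 24)) (h0 : Tabs e 24 m24w_S a 5) :
    ∀ X : Subgroup G, Finite X → (genLt (m24w_g a) 8) ≤ X → 20160 * Nat.card (fixB e X [0, 4, 5, 6]) ≤ Nat.card X :=
  (m24w_low3 he h0).card_fix (m24w_fix4 he h0)

theorem m24w_low2 {G α : Type*} [Group G] [MulAction G α] {e : ℕ → α} {a : ℕ → G} (he : Set.InjOn e (Set.Iio 24)) (h0 : Tabs e 24 m24w_S a 5) :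
    LowLevel (genLt (m24w_g a) 9) (genLt (m24w_g a) 8) (e 3) 22 :=
  Tabs.lowLevel (m24w_tabs h0) he (by decide) (by decide) (by decide) m24w_L2_o

theorem m24w_ge2 {G α : Type*} [Group G] [MulAction G α] {e : ℕ → α} {a : ℕ → G} (he : Set.InjOn e (Set.Iio 24)) (h0 : Tabs e 24 m24w_S a 5) :
    Finite (genLt (m24w_g a) 9) → 443520 ≤ Nat.card (genLt (m24w_g a) 9) := fun hK =>
  (m24w_low2 he h0).card hK (m24w_ge3 he h0)

theorem m24w_fix2 {G α : Type*} [Group G] [MulAction G α] {e : ℕ → α} {a : ℕ → G} (he : Set.InjOn e (Set.Iio 24)) (h0 : Tabs e 24 m24w_S a 5) :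
    ∀ X : Subgroup G, Finite X → (genLt (m24w_g a) 9) ≤ X → 443520 * Nat.card (fixB e X [3, 0, 4, 5, 6]) ≤ Nat.card X :=
  (m24w_low2 he h0).card_fix (m24w_fix3 he h0)

theorem m24w_low1 {G α : Type*} [Group G] [MulAction G α] {e : ℕ → α} {a : ℕ → G} (he : Set.InjOn e (Set.Iio 24)) (h0 : Tabs e 24 m24w_S a 5) :
    LowLevel (genLt (m24w_g a) 10) (genLt (m24w_g a) 9) (e 2) 23 :=
  Tabs.lowLevel (m24w_tabs h0) he (by decide) (by decide) (by decide) m24w_L1_o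

theorem m24w_ge1 {G α : Type*} [Group G] [MulAction G α] {e : ℕ → α} {a : ℕ → G} (he : Set.InjOn e (Set.Iio 24)) (h0 : Tabs e 24 m24w_S a 5) :
    Finite (genLt (m24w_g a) 10) → 10200960 ≤ Nat.card (genLt (m24w_g a) 10) := fun hK =>
  (m24w_low1 he h0).card hK (m24w_ge2 he h0)

theorem m24w_fix1 {G α : Type*} [Group G] [MulAction G α] {e : ℕ → α} {a : ℕ → G} (he : Set.InjOn e (Set.Iio 24)) (h0 : Tabs e 24 m24w_S a 5) :
    ∀ X : Subgroup G, Finite X → (genLt (m24w_g a) 10) ≤ X → 10200960 * Nat.card (fixB e X [2, 3, 0, 4, 5, 6]) ≤ Nat.card X :=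
  (m24w_low1 he h0).card_fix (m24w_fix2 he h0)

theorem m24w_low0 {G α : Type*} [Group G] [MulAction G α] {e : ℕ → α} {a : ℕ → G} (he : Set.InjOn e (Set.Iio 24)) (h0 : Tabs e 24 m24w_S a 5) :
    LowLevel (genLt (m24w_g a) 15) (genLt (m24w_g a) 10) (e 1) 24 :=
  Tabs.lowLevel (m24w_tabs h0) he (by decide) (by decide) (by decide) m24w_L0_o

theorem m24w_ge0 {G α : Type*} [Group G] [MulAction G α] {e : ℕ → α} {a : ℕ → G} (he : Set.InjOn e (Set.Iio 24)) (h0 : Tabs e 24 m24w_S a 5) :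
    Finite (genLt (m24w_g a) 15) → 244823040 ≤ Nat.card (genLt (m24w_g a) 15) := fun hK =>
  (m24w_low0 he h0).card hK (m24w_ge1 he h0)

theorem m24w_fix0 {G α : Type*} [Group G] [MulAction G α] {e : ℕ → α} {a : ℕ → G} (he : Set.InjOn e (Set.Iio 24)) (h0 : Tabs e 24 m24w_S a 5) :
    ∀ X : Subgroup G, Finite X → (genLt (m24w_g a) 15) ≤ X → 244823040 * Nat.card (fixB e X [1, 2, 3, 0, 4, 5, 6]) ≤ Nat.card X :=
  (m24w_low0 he h0).card_fix (m24w_fix1 he h0)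

theorem m24w_ub0 {G α : Type*} [Group G] [MulAction G α] {e : ℕ → α} {a : ℕ → G} (he : Set.InjOn e (Set.Iio 24)) (h0 : Tabs e 24 m24w_S a 5) (hub : Nat.card (genLt a 5) ≠ 0 ∧ Nat.card (genLt a 5) ≤ 244823040) :
    Nat.card (genLt (m24w_g a) 15) ≠ 0 ∧ Nat.card (genLt (m24w_g a) 15) ≤ 244823040 := by rw [m24w_gen]; exact hub

theorem m24w_level0 {G α : Type*} [Group G] [MulAction G α] {e : ℕ → α} {a : ℕ → G} (he : Set.InjOn e (Set.Iio 24)) (h0 : Tabs e 24 m24w_S a 5) (hub : Nat.card (genLt a 5) ≠ 0 ∧ Nat.card (genLt a 5) ≤ 244823040) :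
    Level (genLt (m24w_g a) 15) (genLt (m24w_g a) 10) (e 1) 24 :=
  ((m24w_low0 he h0).level (c := 10200960) (m24w_ub0 he h0 hub) (m24w_ge1 he h0)).1

theorem m24w_ub1 {G α : Type*} [Group G] [MulAction G α] {e : ℕ → α} {a : ℕ → G} (he : Set.InjOn e (Set.Iio 24)) (h0 : Tabs e 24 m24w_S a 5) (hub : Nat.card (genLt a 5) ≠ 0 ∧ Nat.card (genLt a 5) ≤ 244823040) :
    Nat.card (genLt (m24w_g a) 10) ≠ 0 ∧ Nat.card (genLt (m24w_g a) 10) ≤ 10200960 :=
  ((m24w_low0 he h0).level (c := 10200960) (m24w_ub0 he h0 hub) (m24w_ge1 he h0)).2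

theorem m24w_level1 {G α : Type*} [Group G] [MulAction G α] {e : ℕ → α} {a : ℕ → G} (he : Set.InjOn e (Set.Iio 24)) (h0 : Tabs e 24 m24w_S a 5) (hub : Nat.card (genLt a 5) ≠ 0 ∧ Nat.card (genLt a 5) ≤ 244823040) :
    Level (genLt (m24w_g a) 10) (genLt (m24w_g a) 9) (e 2) 23 :=
  ((m24w_low1 he h0).level (c := 443520) (m24w_ub1 he h0 hub) (m24w_ge2 he h0)).1

theorem m24w_ub2 {G α : Type*} [Group G] [MulAction G α] {e : ℕ → α} {a : ℕ → G} (he : Set.InjOn e (Set.Iio 24)) (h0 : Tabs e 24 m24w_S a 5) (hub : Nat.card (genLt a 5) ≠ 0 ∧ Nat.card (genLt a 5) ≤ 244823040) :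
    Nat.card (genLt (m24w_g a) 9) ≠ 0 ∧ Nat.card (genLt (m24w_g a) 9) ≤ 443520 :=
  ((m24w_low1 he h0).level (c := 443520) (m24w_ub1 he h0 hub) (m24w_ge2 he h0)).2

theorem m24w_level2 {G α : Type*} [Group G] [MulAction G α] {e : ℕ → α} {a : ℕ → G} (he : Set.InjOn e (Set.Iio 24)) (h0 : Tabs e 24 m24w_S a 5) (hub : Nat.card (genLt a 5) ≠ 0 ∧ Nat.card (genLt a 5) ≤ 244823040) :
    Level (genLt (m24w_g a) 9) (genLt (m24w_g a) 8) (e 3) 22 :=
  ((m24w_low2 he h0).level (c := 20160) (m24w_ub2 he h0 hub) (m24w_ge3 he h0)).1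

theorem m24w_ub3 {G α : Type*} [Group G] [MulAction G α] {e : ℕ → α} {a : ℕ → G} (he : Set.InjOn e (Set.Iio 24)) (h0 : Tabs e 24 m24w_S a 5) (hub : Nat.card (genLt a 5) ≠ 0 ∧ Nat.card (genLt a 5) ≤ 244823040) :
    Nat.card (genLt (m24w_g a) 8) ≠ 0 ∧ Nat.card (genLt (m24w_g a) 8) ≤ 20160 :=
  ((m24w_low2 he h0).level (c := 20160) (m24w_ub2 he h0 hub) (m24w_ge3 he h0)).2

theorem m24w_level3 {G α : Type*} [Group G] [MulAction G α] {e : ℕ → α} {a : ℕ → G} (he : Set.InjOn e (Set.Iio 24)) (h0 : Tabs e 24 m24w_S a 5) (hub : Nat.card (genLt a 5) ≠ 0 ∧ Nat.card (genLt a 5) ≤ 244823040) :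
    Level (genLt (m24w_g a) 8) (genLt (m24w_g a) 7) (e 0) 21 :=
  ((m24w_low3 he h0).level (c := 960) (m24w_ub3 he h0 hub) (m24w_ge4 he h0)).1

theorem m24w_ub4 {G α : Type*} [Group G] [MulAction G α] {e : ℕ → α} {a : ℕ → G} (he : Set.InjOn e (Set.Iio 24)) (h0 : Tabs e 24 m24w_S a 5) (hub : Nat.card (genLt a 5) ≠ 0 ∧ Nat.card (genLt a 5) ≤ 244823040) :
    Nat.card (genLt (m24w_g a) 7) ≠ 0 ∧ Nat.card (genLt (m24w_g a) 7) ≤ 960 :=
  ((m24w_low3 he h0).level (c := 960) (m24w_ub3 he h0 hub) (m24w_ge4 he h0)).2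

theorem m24w_level4 {G α : Type*} [Group G] [MulAction G α] {e : ℕ → α} {a : ℕ → G} (he : Set.InjOn e (Set.Iio 24)) (h0 : Tabs e 24 m24w_S a 5) (hub : Nat.card (genLt a 5) ≠ 0 ∧ Nat.card (genLt a 5) ≤ 244823040) :
    Level (genLt (m24w_g a) 7) (genLt (m24w_g a) 5) (e 4) 20 :=
  ((m24w_low4 he h0).level (c := 48) (m24w_ub4 he h0 hub) (m24w_ge5 he h0)).1

theorem m24w_ub5 {G α : Type*} [Group G] [MulAction G α] {e : ℕ → α} {a : ℕ → G} (he : Set.InjOn e (Set.Iio 24)) (h0 : Tabs e 24 m24w_S a 5) (hub : Nat.card (genLt a 5) ≠ 0 ∧ Nat.card (genLt a 5) ≤ 244823040) :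
    Nat.card (genLt (m24w_g a) 5) ≠ 0 ∧ Nat.card (genLt (m24w_g a) 5) ≤ 48 :=
  ((m24w_low4 he h0).level (c := 48) (m24w_ub4 he h0 hub) (m24w_ge5 he h0)).2

theorem m24w_level5 {G α : Type*} [Group G] [MulAction G α] {e : ℕ → α} {a : ℕ → G} (he : Set.InjOn e (Set.Iio 24)) (h0 : Tabs e 24 m24w_S a 5) (hub : Nat.card (genLt a 5) ≠ 0 ∧ Nat.card (genLt a 5) ≤ 244823040) :
    Level (genLt (m24w_g a) 5) (genLt (m24w_g a) 2) (e 5) 16 :=
  ((m24w_low5 he h0).level (c := 3) (m24w_ub5 he h0 hub) (m24w_ge6 he h0)).1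

theorem m24w_ub6 {G α : Type*} [Group G] [MulAction G α] {e : ℕ → α} {a : ℕ → G} (he : Set.InjOn e (Set.Iio 24)) (h0 : Tabs e 24 m24w_S a 5) (hub : Nat.card (genLt a 5) ≠ 0 ∧ Nat.card (genLt a 5) ≤ 244823040) :
    Nat.card (genLt (m24w_g a) 2) ≠ 0 ∧ Nat.card (genLt (m24w_g a) 2) ≤ 3 :=
  ((m24w_low5 he h0).level (c := 3) (m24w_ub5 he h0 hub) (m24w_ge6 he h0)).2

theorem m24w_level6 {G α : Type*} [Group G] [MulAction G α] {e : ℕ → α} {a : ℕ → G} (he : Set.InjOn e (Set.Iio 24)) (h0 : Tabs e 24 m24w_S a 5) (hub : Nat.card (genLt a 5) ≠ 0 ∧ Nat.card (genLt a 5) ≤ 244823040) :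
    Level (genLt (m24w_g a) 2) (genLt (m24w_g a) 0) (e 6) 3 :=
  ((m24w_low6 he h0).level (c := 1) (m24w_ub6 he h0 hub) (one_le_card_fin _)).1

theorem m24w_card6 {G α : Type*} [Group G] [MulAction G α] {e : ℕ → α} {a : ℕ → G} (he : Set.InjOn e (Set.Iio 24)) (h0 : Tabs e 24 m24w_S a 5) (hub : Nat.card (genLt a 5) ≠ 0 ∧ Nat.card (genLt a 5) ≤ 244823040) :
    Nat.card (genLt (m24w_g a) 2) = 3 :=
  (m24w_level6 he h0 hub).card (card_genLt_zero _)

theorem m24w_base6 {G α : Type*} [Group G] [MulAction G α] {e : ℕ → α} {a : ℕ → G} (he : Set.InjOn e (Set.Iio 24)) (h0 : Tabs e 24 m24w_S a 5) (hub : Nat.card (genLt a 5) ≠ 0 ∧ Nat.card (genLt a 5) ≤ 244823040) :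
    IsBase e (genLt (m24w_g a) 2) [6] :=
  (m24w_level6 he h0 hub).base (isBase_genLt_zero _ _)

theorem m24w_card5 {G α : Type*} [Group G] [MulAction G α] {e : ℕ → α} {a : ℕ → G} (he : Set.InjOn e (Set.Iio 24)) (h0 : Tabs e 24 m24w_S a 5) (hub : Nat.card (genLt a 5) ≠ 0 ∧ Nat.card (genLt a 5) ≤ 244823040) :
    Nat.card (genLt (m24w_g a) 5) = 48 :=
  (m24w_level5 he h0 hub).card (m24w_card6 he h0 hub)

theorem m24w_base5 {G α : Type*} [Group G] [MulAction G α] {e : ℕ → α} {a : ℕ → G} (he : Set.InjOn e (Set.Iio 24)) (h0 : Tabs e 24 m24w_S a 5) (hub : Nat.card (genLt a 5) ≠ 0 ∧ Nat.card (genLt a 5) ≤ 244823040) :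
    IsBase e (genLt (m24w_g a) 5) [5, 6] :=
  (m24w_level5 he h0 hub).base (m24w_base6 he h0 hub)

theorem m24w_card4 {G α : Type*} [Group G] [MulAction G α] {e : ℕ → α} {a : ℕ → G} (he : Set.InjOn e (Set.Iio 24)) (h0 : Tabs e 24 m24w_S a 5) (hub : Nat.card (genLt a 5) ≠ 0 ∧ Nat.card (genLt a 5) ≤ 244823040) :
    Nat.card (genLt (m24w_g a) 7) = 960 :=
  (m24w_level4 he h0 hub).card (m24w_card5 he h0 hub)

theorem m24w_base4 {G α : Type*} [Group G] [MulAction G α] {e : ℕ → α} {a : ℕ → G} (he : Set.InjOn e (Set.Iio 24)) (h0 : Tabs e 24 m24w_S a 5) (hub : Nat.card (genLt a 5) ≠ 0 ∧ Nat.card (genLt a 5) ≤ 244823040) :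
    IsBase e (genLt (m24w_g a) 7) [4, 5, 6] :=
  (m24w_level4 he h0 hub).base (m24w_base5 he h0 hub)

theorem m24w_card3 {G α : Type*} [Group G] [MulAction G α] {e : ℕ → α} {a : ℕ → G} (he : Set.InjOn e (Set.Iio 24)) (h0 : Tabs e 24 m24w_S a 5) (hub : Nat.card (genLt a 5) ≠ 0 ∧ Nat.card (genLt a 5) ≤ 244823040) :
    Nat.card (genLt (m24w_g a) 8) = 20160 :=
  (m24w_level3 he h0 hub).card (m24w_card4 he h0 hub)

theorem m24w_base3 {G α : Type*} [Group G] [MulAction G α] {e : ℕ → α} {a : ℕ → G} (he : Set.InjOn e (Set.Iio 24)) (h0 : Tabs e 24 m24w_S a 5) (hub : Nat.card (genLt a 5) ≠ 0 ∧ Nat.card (genLt a 5) ≤ 244823040) :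
    IsBase e (genLt (m24w_g a) 8) [0, 4, 5, 6] :=
  (m24w_level3 he h0 hub).base (m24w_base4 he h0 hub)

theorem m24w_card2 {G α : Type*} [Group G] [MulAction G α] {e : ℕ → α} {a : ℕ → G} (he : Set.InjOn e (Set.Iio 24)) (h0 : Tabs e 24 m24w_S a 5) (hub : Nat.card (genLt a 5) ≠ 0 ∧ Nat.card (genLt a 5) ≤ 244823040) :
    Nat.card (genLt (m24w_g a) 9) = 443520 :=
  (m24w_level2 he h0 hub).card (m24w_card3 he h0 hub)

theorem m24w_base2 {G α : Type*} [Group G] [MulAction G α] {e : ℕ → α} {a : ℕ → G} (he : Set.InjOn e (Set.Iio 24)) (h0 : Tabs e 24 m24w_S a 5) (hub : Nat.card (genLt a 5) ≠ 0 ∧ Nat.card (genLt a 5) ≤ 244823040) :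
    IsBase e (genLt (m24w_g a) 9) [3, 0, 4, 5, 6] :=
  (m24w_level2 he h0 hub).base (m24w_base3 he h0 hub)

theorem m24w_card1 {G α : Type*} [Group G] [MulAction G α] {e : ℕ → α} {a : ℕ → G} (he : Set.InjOn e (Set.Iio 24)) (h0 : Tabs e 24 m24w_S a 5) (hub : Nat.card (genLt a 5) ≠ 0 ∧ Nat.card (genLt a 5) ≤ 244823040) :
    Nat.card (genLt (m24w_g a) 10) = 10200960 :=
  (m24w_level1 he h0 hub).card (m24w_card2 he h0 hub)

theorem m24w_base1 {G α : Type*} [Group G] [MulAction G α] {e : ℕ → α} {a : ℕ → G} (he : Set.InjOn e (Set.Iio 24)) (h0 : Tabs e 24 m24w_S a 5) (hub : Nat.card (genLt a 5) ≠ 0 ∧ Nat.card (genLt a 5) ≤ 244823040) :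
    IsBase e (genLt (m24w_g a) 10) [2, 3, 0, 4, 5, 6] :=
  (m24w_level1 he h0 hub).base (m24w_base2 he h0 hub)

theorem m24w_card0 {G α : Type*} [Group G] [MulAction G α] {e : ℕ → α} {a : ℕ → G} (he : Set.InjOn e (Set.Iio 24)) (h0 : Tabs e 24 m24w_S a 5) (hub : Nat.card (genLt a 5) ≠ 0 ∧ Nat.card (genLt a 5) ≤ 244823040) :
    Nat.card (genLt (m24w_g a) 15) = 244823040 :=
  (m24w_level0 he h0 hub).card (m24w_card1 he h0 hub)

theorem m24w_base0 {G α : Type*} [Group G] [MulAction G α] {e : ℕ → α} {a : ℕ → G} (he : Set.InjOn e (Set.Iio 24)) (h0 : Tabs e 24 m24w_S a 5) (hub : Nat.card (genLt a 5) ≠ 0 ∧ Nat.card (genLt a 5) ≤ 244823040) :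
    IsBase e (genLt (m24w_g a) 15) [1, 2, 3, 0, 4, 5, 6] :=
  (m24w_level0 he h0 hub).base (m24w_base1 he h0 hub)

theorem m24w_hinv {G α : Type*} [Group G] [MulAction G α] {e : ℕ → α} {a : ℕ → G} (he : Set.InjOn e (Set.Iio 24)) (h0 : Tabs e 24 m24w_S a 5) (hub : Nat.card (genLt a 5) ≠ 0 ∧ Nat.card (genLt a 5) ≤ 244823040) : ∀ x < 15, m24w_g a x * m24w_g a (m24w_inv x) = 1 :=
  (m24w_tabs h0).hinv_of_base (m24w_base0 he h0 hub) (by decide +kernel)

theorem m24w_card {G α : Type*} [Group G] [MulAction G α] {e : ℕ → α} {a : ℕ → G} (he : Set.InjOn e (Set.Iio 24)) (h0 : Tabs e 24 m24w_S a 5) (hub : Nat.card (genLt a 5) ≠ 0 ∧ Nat.card (genLt a 5) ≤ 244823040) :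
    Nat.card (genLt a 5) = 244823040 := by
  rw [← m24w_gen]; exact m24w_card0 he h0 hub

theorem m24_gen : ∃ g : ℕ → Cfsg.M24, Tabs Golay.ptOf 24 m24w_S g 5 ∧ Gen ⊤ g m24_rels 5 244823040 := by
  obtain ⟨g, hg⟩ := PC.exists_tabs (H := Cfsg.M24) (t := m24w_S_t) (m := 5) fun x hx =>
    Golay.inH_M24 ((allLt_iff _ fun x => Golay.isM24 (m24w_S_t.get x)).1 (by decide +kernel) x hx)
  have hc : Nat.card (⊤ : Subgroup Cfsg.M24) = 244823040 := by rw [Subgroup.card_top, Golay.card_M24]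
  have hK : ∀ x < 5, g x ∈ (⊤ : Subgroup Cfsg.M24) := fun _ _ => Subgroup.mem_top _
  exact ⟨g, hg, gen_of_base hg (genLt_eq_of_card hK hc (m24w_card PC.ptOf_injOn hg (card_genLt_le hK hc)))
    (PC.isBase_range _) hc (by decide +kernel)⟩

end Cfsg.Agent.Spor.MX
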