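import Mathlib
import Cfsg.Agent.Spor.MX.Fi22
import Cfsg.Agent.Spor.MX.Glue2
import Cfsg.Agent.Spor.Fi22.Main

/-! Generated by tools/mx: letters in Fi22 -/

set_option autoImplicit false
set_option maxRecDepth 100000
set_option linter.unusedVariables false
set_option exponentiation.threshold 100000

namespace Cfsg.Agent.Spor.MX

open Cfsg.Agent.Spor

universe u

noncomputable def f22_ws : LT :=
(.node (.node (.node (.leaf [nat_lit 3,nat_lit 8,nat_lit 2,nat_lit 4,nat_lit 3,nat_lit 7,nat_lit 0,nat_lit 5,nat_lit 0,nat_lit 4,nat_lit 5,nat_lit 4,nat_lit 3,nat_lit 3,nat_lit 4,nat_lit 3,nat_lit 1,nat_lit 0])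
 (.leaf [nat_lit 7,nat_lit 5,nat_lit 1,nat_lit 2,nat_lit 7,nat_lit 4,nat_lit 7,nat_lit 4,nat_lit 5,nat_lit 4,nat_lit 2,nat_lit 1,nat_lit 5,nat_lit 3,nat_lit 4,nat_lit 3,nat_lit 1,nat_lit 0,nat_lit 4,nat_lit 0,nat_lit 2,nat_lit 0])
) (.leaf [nat_lit 1,nat_lit 7,nat_lit 5,nat_lit 9,nat_lit 6,nat_lit 2,nat_lit 2,nat_lit 5,nat_lit 2,nat_lit 2,nat_lit 0,nat_lit 4,nat_lit 0,nat_lit 4,nat_lit 0,nat_lit 3,nat_lit 0])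
) (.node (.node (.leaf [nat_lit 3,nat_lit 9,nat_lit 6,nat_lit 3,nat_lit 1,nat_lit 5,nat_lit 3,nat_lit 1,nat_lit 5,nat_lit 4,nat_lit 0,nat_lit 4,nat_lit 3,nat_lit 4,nat_lit 3,nat_lit 1,nat_lit 0,nat_lit 2,nat_lit 0])
 (.leaf [nat_lit 2,nat_lit 10,nat_lit 14,nat_lit 12,nat_lit 0,nat_lit 10,nat_lit 1,nat_lit 3,nat_lit 5,nat_lit 4,nat_lit 8,nat_lit 6,nat_lit 3,nat_lit 1,nat_lit 4,nat_lit 5,nat_lit 0,nat_lit 4,nat_lit 0,nat_lit 4,nat_lit 3,nat_lit 1,nat_lit 0,nat_lit 3])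
) (.leaf [nat_lit 8,nat_lit 7,nat_lit 5,nat_lit 9,nat_lit 6,nat_lit 4,nat_lit 5,nat_lit 1,nat_lit 4,nat_lit 5,nat_lit 1,nat_lit 3,nat_lit 4,nat_lit 1,nat_lit 0,nat_lit 2])
))

noncomputable def f22_back : LT :=
(.node (.node (.node (.node (.leaf [nat_lit 0,nat_lit 0,nat_lit 2,nat_lit 0,nat_lit 0,nat_lit 2,nat_lit 0,nat_lit 0,nat_lit 2,nat_lit 0,nat_lit 0,nat_lit 2,nat_lit 0,nat_lit 2,nat_lit 0,nat_lit 2,nat_lit 0,nat_lit 0,nat_lit 2,nat_lit 1,nat_lit 3,nat_lit 1,nat_lit 2,nat_lit 0,nat_lit 2,nat_lit 3,nat_lit 4,nat_lit 0,nat_lit 4,nat_lit 0,nat_lit 3,nat_lit 4,nat_lit 1,nat_lit 1,nat_lit 2,nat_lit 1,nat_lit 4])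
 (.leaf [nat_lit 1,nat_lit 1,nat_lit 2,nat_lit 1,nat_lit 2,nat_lit 0,nat_lit 0,nat_lit 2,nat_lit 0,nat_lit 2,nat_lit 0,nat_lit 0,nat_lit 2,nat_lit 1,nat_lit 2,nat_lit 0,nat_lit 0,nat_lit 2,nat_lit 0,nat_lit 3,nat_lit 1,nat_lit 3,nat_lit 2,nat_lit 0,nat_lit 3,nat_lit 0,nat_lit 3,nat_lit 4,nat_lit 0,nat_lit 0,nat_lit 3,nat_lit 1,nat_lit 2,nat_lit 4,nat_lit 0,nat_lit 4,nat_lit 1])
) (.node (.leaf [nat_lit 0,nat_lit 0,nat_lit 2,nat_lit 0,nat_lit 2,nat_lit 1,nat_lit 1,nat_lit 2,nat_lit 1,nat_lit 1,nat_lit 2,nat_lit 1,nat_lit 1,nat_lit 2,nat_lit 1,nat_lit 2,nat_lit 1,nat_lit 2,nat_lit 1,nat_lit 2,nat_lit 3,nat_lit 2,nat_lit 0,nat_lit 0,nat_lit 3,nat_lit 0,nat_lit 0,nat_lit 3,nat_lit 4,nat_lit 0,nat_lit 2,nat_lit 3,nat_lit 4,nat_lit 0,nat_lit 2,nat_lit 3,nat_lit 1,nat_lit 1])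
 (.leaf [nat_lit 1,nat_lit 2,nat_lit 1,nat_lit 2,nat_lit 1,nat_lit 1,nat_lit 2,nat_lit 1,nat_lit 1,nat_lit 2,nat_lit 1,nat_lit 2,nat_lit 0,nat_lit 0,nat_lit 2,nat_lit 0,nat_lit 0,nat_lit 2,nat_lit 0,nat_lit 3,nat_lit 0,nat_lit 2,nat_lit 1,nat_lit 1,nat_lit 3,nat_lit 2,nat_lit 1,nat_lit 2,nat_lit 4,nat_lit 1,nat_lit 2,nat_lit 4,nat_lit 0,nat_lit 3,nat_lit 0,nat_lit 0,nat_lit 3,nat_lit 0,nat_lit 4])
)) (.node (.node (.leaf [nat_lit 1,nat_lit 2,nat_lit 0,nat_lit 0,nat_lit 2,nat_lit 1,nat_lit 2,nat_lit 0,nat_lit 0,nat_lit 2,nat_lit 0,nat_lit 0,nat_lit 2,nat_lit 0,nat_lit 0,nat_lit 2,nat_lit 3,nat_lit 0,nat_lit 0,nat_lit 3,nat_lit 1,nat_lit 1,nat_lit 3,nat_lit 4,nat_lit 0,nat_lit 2,nat_lit 1,nat_lit 1,nat_lit 2,nat_lit 3,nat_lit 4,nat_lit 1,nat_lit 1])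
 (.leaf [nat_lit 0,nat_lit 0,nat_lit 2,nat_lit 1,nat_lit 1,nat_lit 2,nat_lit 1,nat_lit 2,nat_lit 1,nat_lit 1,nat_lit 2,nat_lit 0,nat_lit 2,nat_lit 0,nat_lit 0,nat_lit 2,nat_lit 1,nat_lit 2,nat_lit 1,nat_lit 1,nat_lit 2,nat_lit 0,nat_lit 0,nat_lit 2,nat_lit 3,nat_lit 2,nat_lit 1,nat_lit 3,nat_lit 2,nat_lit 1,nat_lit 3,nat_lit 2,nat_lit 4,nat_lit 0,nat_lit 0,nat_lit 3,nat_lit 0,nat_lit 0,nat_lit 2,nat_lit 5,nat_lit 0,nat_lit 0,nat_lit 3,nat_lit 2,nat_lit 1,nat_lit 4,nat_lit 1,nat_lit 5])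
) (.node (.leaf [nat_lit 0,nat_lit 0,nat_lit 2,nat_lit 0,nat_lit 2,nat_lit 0,nat_lit 0,nat_lit 2,nat_lit 1,nat_lit 2,nat_lit 1,nat_lit 1,nat_lit 2,nat_lit 0,nat_lit 3,nat_lit 0,nat_lit 0,nat_lit 3,nat_lit 0,nat_lit 2,nat_lit 1,nat_lit 1,nat_lit 4,nat_lit 0,nat_lit 2,nat_lit 3,nat_lit 4,nat_lit 0,nat_lit 0,nat_lit 3,nat_lit 2,nat_lit 0,nat_lit 4,nat_lit 0,nat_lit 4])
 (.leaf [nat_lit 2,nat_lit 1,nat_lit 1,nat_lit 2,nat_lit 1,nat_lit 2,nat_lit 0,nat_lit 0,nat_lit 2,nat_lit 0,nat_lit 2,nat_lit 1,nat_lit 1,nat_lit 2,nat_lit 1,nat_lit 1,nat_lit 2,nat_lit 1,nat_lit 1,nat_lit 2,nat_lit 3,nat_lit 2,nat_lit 0,nat_lit 0,nat_lit 3,nat_lit 0,nat_lit 3,nat_lit 2,nat_lit 1,nat_lit 4,nat_lit 0,nat_lit 2,nat_lit 3,nat_lit 4,nat_lit 0,nat_lit 0,nat_lit 3,nat_lit 2,nat_lit 0,nat_lit 4,nat_lit 0,nat_lit 4])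
))) (.node (.node (.node (.leaf [nat_lit 0,nat_lit 2,nat_lit 1,nat_lit 2,nat_lit 1,nat_lit 1,nat_lit 2,nat_lit 0,nat_lit 0,nat_lit 2,nat_lit 0,nat_lit 2,nat_lit 1,nat_lit 1,nat_lit 2,nat_lit 1,nat_lit 1,nat_lit 2,nat_lit 1,nat_lit 1,nat_lit 3,nat_lit 1,nat_lit 2,nat_lit 3,nat_lit 1,nat_lit 3,nat_lit 1,nat_lit 1,nat_lit 4,nat_lit 1,nat_lit 2,nat_lit 3,nat_lit 4,nat_lit 0,nat_lit 3,nat_lit 4,nat_lit 0,nat_lit 4])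
 (.leaf [nat_lit 1,nat_lit 2,nat_lit 0,nat_lit 2,nat_lit 1,nat_lit 2,nat_lit 1,nat_lit 1,nat_lit 2,nat_lit 1,nat_lit 2,nat_lit 1,nat_lit 1,nat_lit 3,nat_lit 0,nat_lit 3,nat_lit 2,nat_lit 0,nat_lit 4,nat_lit 1,nat_lit 4,nat_lit 1,nat_lit 3,nat_lit 1,nat_lit 2,nat_lit 0,nat_lit 4])
) (.node (.leaf [nat_lit 0,nat_lit 0,nat_lit 2,nat_lit 1,nat_lit 1,nat_lit 2,nat_lit 1,nat_lit 2,nat_lit 1,nat_lit 1,nat_lit 2,nat_lit 0,nat_lit 0,nat_lit 2,nat_lit 3,nat_lit 0,nat_lit 2,nat_lit 3,nat_lit 2,nat_lit 1,nat_lit 3,nat_lit 2,nat_lit 4,nat_lit 0,nat_lit 0,nat_lit 3,nat_lit 2,nat_lit 1,nat_lit 3])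
 (.leaf [nat_lit 0,nat_lit 0,nat_lit 2,nat_lit 0,nat_lit 0,nat_lit 2,nat_lit 0,nat_lit 2,nat_lit 0,nat_lit 0,nat_lit 2,nat_lit 1,nat_lit 2,nat_lit 1,nat_lit 2,nat_lit 3,nat_lit 2,nat_lit 1,nat_lit 3,nat_lit 2,nat_lit 0,nat_lit 0,nat_lit 4,nat_lit 1,nat_lit 4,nat_lit 1,nat_lit 3,nat_lit 1,nat_lit 2,nat_lit 0,nat_lit 4,nat_lit 0])
)) (.node (.node (.leaf [nat_lit 1,nat_lit 1,nat_lit 2,nat_lit 0,nat_lit 0,nat_lit 2,nat_lit 0,nat_lit 2,nat_lit 1,nat_lit 2,nat_lit 1,nat_lit 2,nat_lit 1,nat_lit 2,nat_lit 1,nat_lit 1,nat_lit 2,nat_lit 1,nat_lit 3,nat_lit 1,nat_lit 1,nat_lit 3,nat_lit 0,nat_lit 3,nat_lit 2,nat_lit 4,nat_lit 0,nat_lit 4,nat_lit 1,nat_lit 1,nat_lit 3,nat_lit 4,nat_lit 0,nat_lit 0])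
 (.leaf [nat_lit 2,nat_lit 1,nat_lit 1,nat_lit 2,nat_lit 1,nat_lit 2,nat_lit 0,nat_lit 0,nat_lit 2,nat_lit 0,nat_lit 2,nat_lit 1,nat_lit 1,nat_lit 2,nat_lit 1,nat_lit 1,nat_lit 2,nat_lit 1,nat_lit 1,nat_lit 2,nat_lit 3,nat_lit 2,nat_lit 0,nat_lit 0,nat_lit 3,nat_lit 0,nat_lit 3,nat_lit 2,nat_lit 1,nat_lit 4,nat_lit 0,nat_lit 2,nat_lit 3,nat_lit 4,nat_lit 0,nat_lit 0,nat_lit 3,nat_lit 2,nat_lit 0,nat_lit 4,nat_lit 0])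
) (.leaf [nat_lit 2,nat_lit 1,nat_lit 1,nat_lit 2,nat_lit 1,nat_lit 2,nat_lit 0,nat_lit 0,nat_lit 2,nat_lit 1,nat_lit 1,nat_lit 2,nat_lit 1,nat_lit 2,nat_lit 1,nat_lit 3,nat_lit 1,nat_lit 2,nat_lit 3,nat_lit 2,nat_lit 0,nat_lit 0,nat_lit 4,nat_lit 0,nat_lit 2,nat_lit 1,nat_lit 3,nat_lit 1,nat_lit 1,nat_lit 4,nat_lit 0,nat_lit 4,nat_lit 0])
)))

/-- The letters of the chain. -/
noncomputable def f22_g : ℕ → Cfsg.Spor.Fi22 := fun x => evalW MFi22.k (f22_ws.get x)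

theorem f22_k0 : allRange (nat_lit 0) (nat_lit 15) (backB MFi22.ch_T f22_ws f22_back [nat_lit 0,nat_lit 2,nat_lit 3,nat_lit 5,nat_lit 17,nat_lit 1]) = true := by decide +kernel

theorem f22_r1 : fixAll (tabW MFi22.ch_T f22_ws) f22_rels (nat_lit 1) = true := by decide +kernel

theorem f22_r17 : fixAll (tabW MFi22.ch_T f22_ws) f22_rels (nat_lit 17) = true := by decide +kernel

theorem f22_r5 : fixAll (tabW MFi22.ch_T f22_ws) f22_rels (nat_lit 5) = true := by decide +kernel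

theorem f22_r3 : fixAll (tabW MFi22.ch_T f22_ws) f22_rels (nat_lit 3) = true := by decide +kernel

theorem f22_r2 : fixAll (tabW MFi22.ch_T f22_ws) f22_rels (nat_lit 2) = true := by decide +kernel

theorem f22_r0 : fixAll (tabW MFi22.ch_T f22_ws) f22_rels (nat_lit 0) = true := by decide +kernel

theorem f22_tabs : Tabs (finE 3510) 3510 (tabW MFi22.ch_T f22_ws) f22_g 6 := tabs_tabW MFi22.tabs (by decide +kernel) 6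

theorem f22_eq : genLt f22_g 6 = genLt MFi22.k 15 :=
  genLt_tabW MFi22.tabs MFi22.basek (back := f22_back) (by decide +kernel) (range_append _ (allLt_of_zero _) f22_k0 rfl)

theorem f22_base : IsBase (finE 3510) (genLt f22_g 6) [0, 2, 3, 5, 17, 1] := f22_eq ▸ MFi22.basek

theorem f22_gen : Gen ⊤ f22_g f22_rels 6 64561751654400 :=
  gen_of_fixAll f22_tabs (f22_eq.trans MFi22.topk) (MFi22.topk ▸ MFi22.basek) (Subgroup.card_top.trans MFi22.card) (by decide +kernel) (forall_mem_cons' f22_r0 (forall_mem_cons' f22_r2 (forall_mem_cons' f22_r3 (forall_mem_cons' f22_r5 (forall_mem_cons' f22_r17 (forall_mem_cons' f22_r1 forall_mem_nil'))))))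


end Cfsg.Agent.Spor.MX
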