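import Mathlib
import Cfsg.Agent.Spor.MX.S62

/-! Generated by tools/mx: the chain S6(2) < O8+(2) and two double covers -/

set_option autoImplicit false
set_option maxRecDepth 100000
set_option linter.unusedVariables false
set_option exponentiation.threshold 100000

namespace Cfsg.Agent.Spor.MX

open Cfsg.Agent.Spor

universe u

noncomputable def o8p_rels : LT :=
(.node (.node (.node (.node (.node (.leaf [])
 (.leaf [nat_lit 0,nat_lit 0,nat_lit 0,nat_lit 3,nat_lit 1,nat_lit 3,nat_lit 2,nat_lit 1,nat_lit 1,nat_lit 2,nat_lit 0,nat_lit 4,nat_lit 1,nat_lit 1,nat_lit 4,nat_lit 1,nat_lit 4,nat_lit 0,nat_lit 4,nat_lit 3])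
) (.leaf [nat_lit 0,nat_lit 2,nat_lit 3,nat_lit 2,nat_lit 1,nat_lit 2,nat_lit 0,nat_lit 3,nat_lit 1,nat_lit 2])
) (.node (.leaf [nat_lit 0,nat_lit 0,nat_lit 2,nat_lit 1,nat_lit 1,nat_lit 2,nat_lit 0,nat_lit 0,nat_lit 2,nat_lit 1,nat_lit 2,nat_lit 1,nat_lit 2])
 (.leaf [nat_lit 0,nat_lit 0,nat_lit 3,nat_lit 1,nat_lit 1,nat_lit 3,nat_lit 1,nat_lit 3,nat_lit 0,nat_lit 2,nat_lit 1,nat_lit 3,nat_lit 0,nat_lit 2,nat_lit 3])
)) (.node (.node (.node (.leaf [nat_lit 0,nat_lit 0,nat_lit 0,nat_lit 0,nat_lit 0,nat_lit 0,nat_lit 0])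
 (.leaf [nat_lit 0,nat_lit 0,nat_lit 0,nat_lit 2,nat_lit 0,nat_lit 2,nat_lit 0,nat_lit 0,nat_lit 2,nat_lit 0,nat_lit 3,nat_lit 2,nat_lit 3,nat_lit 0,nat_lit 4,nat_lit 1,nat_lit 2,nat_lit 1,nat_lit 4,nat_lit 2,nat_lit 4,nat_lit 0,nat_lit 2])
) (.leaf [nat_lit 0,nat_lit 0,nat_lit 0,nat_lit 2,nat_lit 1,nat_lit 3,nat_lit 0,nat_lit 2,nat_lit 1,nat_lit 1,nat_lit 1,nat_lit 3,nat_lit 2,nat_lit 3])
) (.node (.leaf [nat_lit 3,nat_lit 3])
 (.leaf [nat_lit 0,nat_lit 0,nat_lit 2,nat_lit 4,nat_lit 2,nat_lit 1,nat_lit 2,nat_lit 0,nat_lit 4,nat_lit 2,nat_lit 4,nat_lit 1,nat_lit 3,nat_lit 2,nat_lit 3,nat_lit 1,nat_lit 2])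
))) (.node (.node (.node (.node (.leaf [nat_lit 0,nat_lit 1])
 (.leaf [nat_lit 0,nat_lit 0,nat_lit 2,nat_lit 0,nat_lit 2,nat_lit 0,nat_lit 3,nat_lit 0,nat_lit 2,nat_lit 1,nat_lit 2,nat_lit 3,nat_lit 4,nat_lit 0,nat_lit 2,nat_lit 1,nat_lit 1,nat_lit 3,nat_lit 0,nat_lit 0,nat_lit 4])
) (.leaf [nat_lit 0,nat_lit 2,nat_lit 1,nat_lit 3,nat_lit 2,nat_lit 3,nat_lit 0,nat_lit 2,nat_lit 1,nat_lit 3,nat_lit 2,nat_lit 3])
) (.node (.leaf [nat_lit 0,nat_lit 0,nat_lit 2,nat_lit 0,nat_lit 0,nat_lit 2,nat_lit 0,nat_lit 2,nat_lit 0,nat_lit 0,nat_lit 2,nat_lit 0,nat_lit 0,nat_lit 2,nat_lit 0,nat_lit 2,nat_lit 0,nat_lit 0,nat_lit 2,nat_lit 0,nat_lit 0,nat_lit 2,nat_lit 0,nat_lit 2])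
 (.leaf [nat_lit 4,nat_lit 4])
)) (.node (.node (.leaf [nat_lit 2,nat_lit 2])
 (.leaf [nat_lit 0,nat_lit 0,nat_lit 0,nat_lit 2,nat_lit 1,nat_lit 1,nat_lit 1,nat_lit 2,nat_lit 3,nat_lit 1,nat_lit 3,nat_lit 0,nat_lit 3,nat_lit 2])
) (.node (.leaf [nat_lit 2,nat_lit 3,nat_lit 2,nat_lit 3,nat_lit 2,nat_lit 3,nat_lit 2,nat_lit 3])
 (.leaf [nat_lit 0,nat_lit 0,nat_lit 0,nat_lit 2,nat_lit 0,nat_lit 0,nat_lit 0,nat_lit 2,nat_lit 1,nat_lit 3,nat_lit 0,nat_lit 2,nat_lit 0,nat_lit 2,nat_lit 4,nat_lit 3,nat_lit 4,nat_lit 2])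
))))
noncomputable def o8p_inv : ℕ → ℕ := getP (nat_lit 8) (nat_lit 255) (nat_lit 0x403020001)
noncomputable def o8p_pi : ℕ → ℕ := getP (nat_lit 16) (nat_lit 65535) (nat_lit 0xd0006000300010001)

noncomputable def o8p_L_t : BT :=
(.node (.node (.node (.leaf (nat_lit 0x2fef000000000000000000000000021ab00c401c403b000e002c01d40033f5000000000000000000000000020a600b8017c0010051003800f292357600e001d80398077001400280036b800000000000000000000000001f6100ec01cc000006400040064002f62000a000c001007200e601dc0030bb00000000000000000000000001dda00000000000000000000000001d5900ec00000000005000401cc002e7400000000000000000000000001c5600d601d403b0010001a01bc0031330000000000000000000000001ffc00000000000000000000000001ffc000000000000000000000002221a2000ec000403b000d000401b80028d40000000000000000000000001ffc000000000000000000000000001851000000000000000000000000420f90000000000000000000000001ffc00000000000000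000000000001ffc000140014003000a00da017800336300000000000000000ee000992148f000000000000000000000000013cd0000000000000000000000001ffc00000000000000000000000001ffc000080014000000f00e801900029f000ec01dc0010074000400040027aa00b601a40390065003c00b40034640000000000000000000000001ffc00000000000000000000000001ffc0000000040000000000001dd220f5300ee01d800000750002001400269e00000000000000000000000000d880000000000000000000000001ffc000000000000000000000000000c8700000000000000000000000041bae00000000000000000000000041b2d00000000000000000000000000b06000000000000000000000000418a9000000000000000000000000417a700000000000000000000000000e18000200000000000000001d87208c900040008000000500ec01c40024ca000000000000000000000000007840000000000000000000000004121f0000000000000000000000001ffc00000000000000000000000004111d000000000000002000001d80023ce0000000000000000000000000050300000000000000000000000040bd500000000000000000000000040a5200000000000000000000000040950000000000000000000000000406cc0000000000000000000000000028100000000000000000000000040345000000000000000000000000401c2000000000000000000000000e0000))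
 (.leaf (nat_lit 0x1ffc00000000000000000000000001ffc00000000000000000000000001ffc00000000000000000000000001ffc00000000000000000000000001ffc00000000000000000000000001ffc00000000000000000000000001ffc00000000000000000000000001ffc00000000000000000000000001ffc00000000000000000000000001ffc00000000000000000000000001ffc00000000000000000000000001ffc00000000000000000000000001ffc00000000000000000000000001ffc00000000000000000000000001ffc00000000000000000000000001ffc00000000000000000000000001ffc00000000000000000000000001ffc00000000000000000000000001ffc00000000000000000000000001ffc00000000000000000000000001ffc0000000000000000000001dc001750000000000000000000001dc0016ce000000000000000000001dc00164d00000000000000000000000041fb60000000000000000000000001ffc00000000000000000000000001ffc000160020000000800dc01980031950000000000000000000000001ffc00000000000000000000000001ffc00000000000000000000000001ffc00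00000000000000000001dc0010c9000000000000000000001dc0010080000000000000000000000001ffc00000000000000000000000001ffc00000000000000000000000001ffc0000000000000000000001dc000d070000000000000000000000001ffc000da01c0000007000140044e231600000000000000000000000001ffc00000000000000000000000001ffc00000000000000000000000001ffc00000000000000000000000001ffc000000000000000000000000041726000000000000000000001dc000884000000000000000000000000416a5000000000000000000000000416240000000000000000000000001ffc0000000000000000000001dc0006830000000000000000000000001ffc00000000000000000000000004109c00000000000000000000000040fdb00000000000000000000000040cd70000000000000000000000001ffc00000000000000000000000001ffc00000000000000000000000004084f0000000000000000000000004064b0000000000000000000000001ffc0000000000000000000001dc00014000000000000000000000000040101))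
) (.leaf (nat_lit 0xec01d0000006f0004003612303b00020000000000000ee0002d221f100a8018c03b0064004800b6b234e80000000000000000000000001ffc00000000000000000000000001ffc0005e007c000003800900088c235ee000001d8000006d00000034002cea00ec01dc03b00020004000e722eb400040000000007700ec0006722db30000000000000000000000001ffc000ee000000000000002000000223a00000000000000000000000001cd600ea01cc000006d0006004062292c0092016400000400060015800363600040000000007300ec0014c227d500060014000000b00ea01a000296f000000000000000000000000019d300000008000000b000001ae122cb500040000000007400ec0011f2242900480054001001400a8012c00353900da01dc039000600180019d232a400a60174000003c004a015dc2376600020008000007400ee0009b2256500160004003007200d801c80032e70000000000000000000000000144d0000000000000000000000001ffc000ec01dc03b00020004000d522d21000000000000000000000000012cc0000000000000000000000001ffc0000000000000000000000000011ca000001d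c001007300000009522ad10000000000000000000000001ffc00000000000000000000000001ffc000020004000000000ee01dc00159800000000000000000000000000e8800ee01dc00000000002000512155a0000000000000000000000001ffc000000000000000000000000041cb000ec00000000005000401cc00282d00040004001007600ec01d4c22a14000000000000000000000000419ab00040000000007100ec001ca225920000000403b0005000001d8002b1d0000000000000750000000c9215d00000000000000760002000000230e00000000000000200ee00006222cf00000000000000000000000041423000000000000000000000000412a00000000000000000000000001ffc00000000000000000000000004119e0000000000000000000000000058300000000000000000000000040e5900040000000007300ec0014222c470000000000000000000000000040200040000000007700ec00041223450000000000000000000000000030100000000000000000000000040549000000000000000000000000403c6000000000000000000000000402c4000000000000000000000000e0080))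
) (.node (.node (.leaf (nat_lit 0xe601d403b0006000a0006f230730000000000000000000000001ffc00000000000000000000000000212700100008002800100dc01baa236760000000000000000000000001ffc00038006403b002700b800f00035b7002c001c001006a00c4000e8233b900040000000007300ec0014522e30001a000c001006800d600266230ee0000000000000000000000001ffc00000000000000000000000001ffc000e801cc00000690008005232299f00000000000000000000000042fbb00000000000000000000000001bd500000000000000000000000001b540000000000000000000000001ffc00000000000000000000000004217a0004000403b000400ec01de02275e000000000000000000000000018d20000000000000000000000001ffc0000000000000000000000000017d1000000000000000000000000420780000000000000000000000001ffc0003a003c003001300b4012da2341d00dc01cc039006e00160069a2332400040014000001400ec017d022f3400000000000000000000000041f3500000000000000000000000001a6b0000000000000000000000000124c00020008000000300ee01c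d6226590000000000000000000000000114a0000000000000000000000001ffc00000000003b80000000000932104b00000000000000000000000041db200000000000000000000000041d3100000000000000000000001020dd00000000000000000000000001ffc000000000000000000000000041c2f00000000000000000000000000c07000401dc001006b00ec0028b228aa000001dc000000000000004000f9a00000000000000000000000000a860000000000000000000000004182800000000000000000000000000985000000000000000000201d80014e300000000000007600000008522389000000000000000000000000413a2000000000000000000000000007040000000000000000000000001ffc000ec01d800000730004001c42248e00ee000000000000000000800090f00000000000000000000000040d5800000000000000000000000040c5600000000000000000000000040ad3000000000000000000000000003820000000000000000000000004074d000000000000000000000000404c80000000000000000000000000020100000000000000000000000040243000000000000000000000000e0040))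
 (.leaf (nat_lit 0x1806f0000000000000000000000001806b0000000000000000000000001802700000000000000000000000018066000000000000000000000000140e40000000000000000000000001412300000000000000000000000014061000000000000000000000000140e0000000000000000000000000140dd0000000000000000000000001405a0000000000000000000000001405900000000000000000000000014096000000000000000000000000140560000000000000000000000001401500000000000000000000000014014000000000000000000000000140d300000000000000000000000014093000000000000000000000000140d2000000000000000000000000140120000000000000000000000001405100000000000000000000000014011000000000000000000000000141100000000000000000000000001010e0000000000000000000000001010d0000000000000000000000001008d0000000000000000000000001004d000000000000000000000000100cc0000000000000000000000001008c0000000000000000000000001000c0000000000000000000000001008a0000000000000000000000001000a0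000000000000000000000001010900000000000000000000000010108000000000000000000000000100c80000000000000000000000001008800000000000000000000000010048000000000000000000000000101070000000000000000000000001004700000000000000000000000010007000000000000000000000000100c60000000000000000000000001004600000000000000000000000010006000000000000000000000000100c5000000000000000000000000100050000000000000000000000000c1040000000000000000000000000c0c40000000000000000000000000c0440000000000000000000000000c0040000000000000000000000000c1030000000000000000000000000c0c30000000000000000000000000c0830000000000000000000000000c0430000000000000000000000000c0c20000000000000000000000000c0820000000000000000000000000c0020000000000000000000000000808100000000000000000000000008041000000000000000000000000080010000000000000000000000000410000000000000000000000000000000))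
) (.leaf (nat_lit 0x1ffc0000000000000001000001dee2253a00ec000403b0011000401aac22bed007400ac0028065007601688236f5000000000000000000000000020240000000000000000000000001ffc0007c01340398013007a007800373800000000000000000000000001ee000000000000000000000000001e5d00040000000007300ec0016522872000201dc000006800ee0044002a9f00e401d40390006000c0026422ef0000001dc00000760000000c0027190000000000000000000000001ffc0000401dc001006700ec0038002c3900000000000000000000000001ad300040004000000300ec01d0002298000000000000000000000000019520000000000000000000000001ffc000e601d403b006a000a0055e22de200ec01d0000006f000400343231e700ea01d8000006e00060030002ba500060008000000a00ea01b1422b6600000000000000000000000041ff70000000000000000000000001ffc00000000000000000000000001ffc00000000000000000000000000134c00000000000000000000000041eb400ee000400000100002019d822a710000000000000750000000d72261e00000000000000000000000041e33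00120010000007200de0009422d570000000000000000000000001ffc000000000000000000000000000f08000000040000002000001d4f226ef00ec01dc00000750004001082226b0000000000000000000000001ffc0001601dc001006a00da002cf2349600c801bc03b007000280054d2320d00000000000000000000000000b8600000000000000000000000041aac0000000000000000000000004192a00000000000000000000000000a0500040000000007400ec00103225d00000000000000770000000482150f0000000000000000000000000080400280024001000800c8018c003255000000000000000000000000413210000000000000000000000001ffc0000000000000000000000000006030000000000000750000000c32244900000000000000000000000040eda0000000000000000000000000048200000000000000000000000040b54000000000000000000000000409d1000000000000000000000000407ce000000000000000000000000405ca0000000000000000000000004044700000000000007700000004020181000000000000000000000000e00c0))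
))

noncomputable def o8p_L_rules : LT :=
(.node (.node (.node (.node (.node (.node (.leaf [nat_lit 0x1dc0000002,nat_lit 15,nat_lit 2,nat_lit 1,nat_lit 3,nat_lit 4,nat_lit 2,nat_lit 1,nat_lit 2,nat_lit 1,nat_lit 3,nat_lit 0,nat_lit 2,nat_lit 1,nat_lit 1,nat_lit 1,nat_lit 2,nat_lit 1,nat_lit 1,nat_lit 1,nat_lit 2,nat_lit 4])
 (.leaf [nat_lit 0xee00000000004,nat_lit 16,nat_lit 15,nat_lit 1,nat_lit 1,nat_lit 3,nat_lit 1,nat_lit 1,nat_lit 1,nat_lit 3,nat_lit 4,nat_lit 1,nat_lit 4,nat_lit 0,nat_lit 4,nat_lit 0,nat_lit 0,nat_lit 4,nat_lit 1,nat_lit 2,nat_lit 0,nat_lit 0,nat_lit 2,nat_lit 3])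
) (.leaf [nat_lit 0,nat_lit 2,nat_lit 5,nat_lit 0,nat_lit 1,nat_lit 0,nat_lit 0,nat_lit 0,nat_lit 0,nat_lit 0,nat_lit 0])
) (.node (.node (.leaf [nat_lit 0,nat_lit 8,nat_lit 2,nat_lit 1,nat_lit 3,nat_lit 1,nat_lit 2,nat_lit 0,nat_lit 2,nat_lit 3,nat_lit 2,nat_lit 1,nat_lit 2,nat_lit 0])
 (.leaf [nat_lit 0,nat_lit 9,nat_lit 9,nat_lit 1,nat_lit 1,nat_lit 2,nat_lit 1,nat_lit 3,nat_lit 2,nat_lit 3,nat_lit 0,nat_lit 2,nat_lit 1,nat_lit 3,nat_lit 2,nat_lit 3])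
) (.leaf [nat_lit 0,nat_lit 12,nat_lit 3,nat_lit 1,nat_lit 3,nat_lit 0,nat_lit 2,nat_lit 1,nat_lit 3,nat_lit 0,nat_lit 3,nat_lit 0,nat_lit 0,nat_lit 3,nat_lit 1,nat_lit 1,nat_lit 3,nat_lit 2,nat_lit 1])
)) (.node (.node (.node (.leaf [nat_lit 0,nat_lit 12,nat_lit 11,nat_lit 1,nat_lit 1,nat_lit 3,nat_lit 1,nat_lit 1,nat_lit 3,nat_lit 2,nat_lit 1,nat_lit 3,nat_lit 0,nat_lit 2,nat_lit 1,nat_lit 3,nat_lit 0,nat_lit 3,nat_lit 0])
 (.leaf [nat_lit 0,nat_lit 10,nat_lit 8,nat_lit 1,nat_lit 3,nat_lit 0,nat_lit 2,nat_lit 1,nat_lit 1,nat_lit 1,nat_lit 3,nat_lit 2,nat_lit 3,nat_lit 0,nat_lit 0,nat_lit 0,nat_lit 2,nat_lit 1])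
) (.leaf [nat_lit 0x40000000,nat_lit 15,nat_lit 15,nat_lit 0,nat_lit 3,nat_lit 4,nat_lit 2,nat_lit 0,nat_lit 0,nat_lit 0,nat_lit 2,nat_lit 0,nat_lit 0,nat_lit 0,nat_lit 2,nat_lit 1,nat_lit 3,nat_lit 0,nat_lit 2,nat_lit 0,nat_lit 2,nat_lit 4])
) (.node (.node (.leaf [nat_lit 0,nat_lit 10,nat_lit 6,nat_lit 1,nat_lit 2,nat_lit 1,nat_lit 3,nat_lit 0,nat_lit 2,nat_lit 1,nat_lit 1,nat_lit 1,nat_lit 3,nat_lit 2,nat_lit 3,nat_lit 0,nat_lit 0,nat_lit 0])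
 (.leaf [nat_lit 0,nat_lit 12,nat_lit 12,nat_lit 1,nat_lit 3,nat_lit 1,nat_lit 1,nat_lit 3,nat_lit 2,nat_lit 1,nat_lit 3,nat_lit 0,nat_lit 2,nat_lit 1,nat_lit 3,nat_lit 0,nat_lit 3,nat_lit 0,nat_lit 0])
) (.leaf [nat_lit 0,nat_lit 10,nat_lit 10,nat_lit 1,nat_lit 2,nat_lit 1,nat_lit 1,nat_lit 1,nat_lit 3,nat_lit 2,nat_lit 3,nat_lit 0,nat_lit 0,nat_lit 0,nat_lit 2,nat_lit 1,nat_lit 3,nat_lit 0])
))) (.node (.node (.node (.node (.leaf [nat_lit 0,nat_lit 10,nat_lit 1,nat_lit 1,nat_lit 2,nat_lit 3,nat_lit 0,nat_lit 0,nat_lit 0,nat_lit 2,nat_lit 1,nat_lit 3,nat_lit 0,nat_lit 2,nat_lit 1,nat_lit 1,nat_lit 1,nat_lit 3])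
 (.leaf [nat_lit 0,nat_lit 4,nat_lit 9,nat_lit 0,nat_lit 0,nat_lit 2,nat_lit 1,nat_lit 2,nat_lit 0,nat_lit 0,nat_lit 2,nat_lit 1,nat_lit 1,nat_lit 2,nat_lit 0,nat_lit 0,nat_lit 2])
) (.leaf [nat_lit 0x1000000000000000,nat_lit 17,nat_lit 16,nat_lit 0,nat_lit 0,nat_lit 3,nat_lit 0,nat_lit 0,nat_lit 4,nat_lit 0,nat_lit 0,nat_lit 2,nat_lit 0,nat_lit 2,nat_lit 0,nat_lit 3,nat_lit 0,nat_lit 2,nat_lit 1,nat_lit 2,nat_lit 3,nat_lit 4,nat_lit 0,nat_lit 2,nat_lit 1])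
) (.node (.node (.leaf [nat_lit 0,nat_lit 4,nat_lit 2,nat_lit 1,nat_lit 2,nat_lit 0,nat_lit 2,nat_lit 1,nat_lit 1,nat_lit 2,nat_lit 0,nat_lit 0,nat_lit 2,nat_lit 1,nat_lit 1,nat_lit 2,nat_lit 0])
 (.leaf [nat_lit 0xee00000000004,nat_lit 16,nat_lit 6,nat_lit 1,nat_lit 1,nat_lit 0,nat_lit 4,nat_lit 1,nat_lit 2,nat_lit 0,nat_lit 0,nat_lit 2,nat_lit 3,nat_lit 0,nat_lit 3,nat_lit 1,nat_lit 1,nat_lit 1,nat_lit 3,nat_lit 4,nat_lit 1,nat_lit 4,nat_lit 0,nat_lit 4])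
) (.leaf [nat_lit 0,nat_lit 11,nat_lit 7,nat_lit 1,nat_lit 1,nat_lit 0,nat_lit 0,nat_lit 2,nat_lit 1,nat_lit 1,nat_lit 1,nat_lit 2,nat_lit 3,nat_lit 1,nat_lit 3,nat_lit 0,nat_lit 3,nat_lit 2])
)) (.node (.node (.node (.leaf [nat_lit 0,nat_lit 9,nat_lit 1,nat_lit 1,nat_lit 2,nat_lit 3,nat_lit 0,nat_lit 2,nat_lit 1,nat_lit 3,nat_lit 2,nat_lit 3,nat_lit 0,nat_lit 2,nat_lit 1,nat_lit 3])
 (.leaf [nat_lit 0x40000000,nat_lit 15,nat_lit 2,nat_lit 0,nat_lit 1,nat_lit 2,nat_lit 0,nat_lit 0,nat_lit 0,nat_lit 2,nat_lit 1,nat_lit 3,nat_lit 0,nat_lit 2,nat_lit 0,nat_lit 2,nat_lit 4,nat_lit 3,nat_lit 4,nat_lit 2,nat_lit 0,nat_lit 0])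
) (.leaf [nat_lit 0,nat_lit 8,nat_lit 5,nat_lit 1,nat_lit 1,nat_lit 2,nat_lit 3,nat_lit 2,nat_lit 1,nat_lit 2,nat_lit 0,nat_lit 3,nat_lit 1,nat_lit 2])
) (.node (.node (.leaf [nat_lit 0x1000000000000077,nat_lit 17,nat_lit 20,nat_lit 0,nat_lit 4,nat_lit 0,nat_lit 0,nat_lit 2,nat_lit 0,nat_lit 2,nat_lit 0,nat_lit 3,nat_lit 0,nat_lit 2,nat_lit 1,nat_lit 2,nat_lit 3,nat_lit 4,nat_lit 0,nat_lit 2,nat_lit 1,nat_lit 1,nat_lit 3,nat_lit 0,nat_lit 0])
 (.leaf [nat_lit 0,nat_lit 12,nat_lit 7,nat_lit 0,nat_lit 3,nat_lit 0,nat_lit 2,nat_lit 1,nat_lit 3,nat_lit 0,nat_lit 2,nat_lit 3,nat_lit 0,nat_lit 0,nat_lit 3,nat_lit 1,nat_lit 1,nat_lit 3,nat_lit 1])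
) (.leaf [nat_lit 0x1dc0000002,nat_lit 15,nat_lit 8,nat_lit 1,nat_lit 3,nat_lit 0,nat_lit 2,nat_lit 1,nat_lit 1,nat_lit 1,nat_lit 2,nat_lit 1,nat_lit 1,nat_lit 1,nat_lit 2,nat_lit 4,nat_lit 3,nat_lit 4,nat_lit 2,nat_lit 1,nat_lit 2,nat_lit 1])
)))) (.node (.node (.node (.node (.node (.leaf [nat_lit 0x77000000000000002,nat_lit 17,nat_lit 18,nat_lit 1,nat_lit 2,nat_lit 1,nat_lit 1,nat_lit 4,nat_lit 1,nat_lit 1,nat_lit 3,nat_lit 0,nat_lit 0,nat_lit 2,nat_lit 1,nat_lit 4,nat_lit 3,nat_lit 2,nat_lit 0,nat_lit 2,nat_lit 1,nat_lit 3,nat_lit 1,nat_lit 2,nat_lit 1])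
 (.leaf [nat_lit 0,nat_lit 8,nat_lit 4,nat_lit 1,nat_lit 2,nat_lit 0,nat_lit 2,nat_lit 3,nat_lit 2,nat_lit 1,nat_lit 2,nat_lit 0,nat_lit 3,nat_lit 1])
) (.leaf [nat_lit 0,nat_lit 4,nat_lit 7,nat_lit 1,nat_lit 2,nat_lit 0,nat_lit 0,nat_lit 2,nat_lit 1,nat_lit 1,nat_lit 2,nat_lit 0,nat_lit 2,nat_lit 0,nat_lit 2,nat_lit 1,nat_lit 1])
) (.node (.node (.leaf [nat_lit 0x1dc0000002,nat_lit 15,nat_lit 14,nat_lit 1,nat_lit 2,nat_lit 1,nat_lit 1,nat_lit 1,nat_lit 2,nat_lit 4,nat_lit 3,nat_lit 4,nat_lit 2,nat_lit 1,nat_lit 2,nat_lit 1,nat_lit 3,nat_lit 0,nat_lit 2,nat_lit 1,nat_lit 1,nat_lit 1])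
 (.leaf [nat_lit 0x8000,nat_lit 14,nat_lit 11,nat_lit 0,nat_lit 0,nat_lit 3,nat_lit 2,nat_lit 3,nat_lit 1,nat_lit 2,nat_lit 0,nat_lit 0,nat_lit 2,nat_lit 4,nat_lit 2,nat_lit 1,nat_lit 2,nat_lit 0,nat_lit 4,nat_lit 2,nat_lit 4])
) (.leaf [nat_lit 0x3b8003,nat_lit 14,nat_lit 9,nat_lit 1,nat_lit 0,nat_lit 2,nat_lit 0,nat_lit 2,nat_lit 4,nat_lit 2,nat_lit 1,nat_lit 1,nat_lit 2,nat_lit 0,nat_lit 3,nat_lit 2,nat_lit 3,nat_lit 0,nat_lit 4,nat_lit 2,nat_lit 4])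
)) (.node (.node (.node (.leaf [nat_lit 0,nat_lit 8,nat_lit 1,nat_lit 1,nat_lit 1,nat_lit 3,nat_lit 1,nat_lit 2,nat_lit 0,nat_lit 2,nat_lit 3,nat_lit 2,nat_lit 1,nat_lit 2])
 (.leaf [nat_lit 0,nat_lit 12,nat_lit 7,nat_lit 1,nat_lit 3,nat_lit 0,nat_lit 3,nat_lit 0,nat_lit 0,nat_lit 3,nat_lit 1,nat_lit 1,nat_lit 3,nat_lit 2,nat_lit 1,nat_lit 3,nat_lit 0,nat_lit 2,nat_lit 1])
) (.leaf [nat_lit 0,nat_lit 8,nat_lit 8,nat_lit 1,nat_lit 2,nat_lit 1,nat_lit 2,nat_lit 0,nat_lit 3,nat_lit 1,nat_lit 2,nat_lit 0,nat_lit 2,nat_lit 3])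
) (.node (.node (.leaf [nat_lit 0,nat_lit 12,nat_lit 9,nat_lit 1,nat_lit 3,nat_lit 0,nat_lit 0,nat_lit 3,nat_lit 1,nat_lit 1,nat_lit 3,nat_lit 2,nat_lit 1,nat_lit 3,nat_lit 0,nat_lit 2,nat_lit 1,nat_lit 3,nat_lit 0])
 (.leaf [nat_lit 0,nat_lit 4,nat_lit 12,nat_lit 0,nat_lit 2,nat_lit 0,nat_lit 0,nat_lit 2,nat_lit 1,nat_lit 1,nat_lit 2,nat_lit 0,nat_lit 0,nat_lit 2,nat_lit 1,nat_lit 2,nat_lit 1])
) (.leaf [nat_lit 0x1dc0000002,nat_lit 15,nat_lit 4,nat_lit 1,nat_lit 2,nat_lit 1,nat_lit 2,nat_lit 1,nat_lit 3,nat_lit 0,nat_lit 2,nat_lit 1,nat_lit 1,nat_lit 1,nat_lit 2,nat_lit 1,nat_lit 1,nat_lit 1,nat_lit 2,nat_lit 4,nat_lit 3,nat_lit 4])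
))) (.node (.node (.node (.node (.leaf [nat_lit 0,nat_lit 11,nat_lit 3,nat_lit 1,nat_lit 3,nat_lit 0,nat_lit 3,nat_lit 2,nat_lit 0,nat_lit 0,nat_lit 0,nat_lit 2,nat_lit 1,nat_lit 1,nat_lit 1,nat_lit 2,nat_lit 3,nat_lit 1])
 (.leaf [nat_lit 0,nat_lit 10,nat_lit 5,nat_lit 1,nat_lit 1,nat_lit 2,nat_lit 1,nat_lit 3,nat_lit 0,nat_lit 2,nat_lit 1,nat_lit 1,nat_lit 1,nat_lit 3,nat_lit 2,nat_lit 3,nat_lit 0,nat_lit 0])
) (.leaf [nat_lit 0xee00000000004,nat_lit 16,nat_lit 4,nat_lit 1,nat_lit 1,nat_lit 4,nat_lit 0,nat_lit 0,nat_lit 4,nat_lit 1,nat_lit 2,nat_lit 0,nat_lit 0,nat_lit 2,nat_lit 3,nat_lit 0,nat_lit 3,nat_lit 1,nat_lit 1,nat_lit 1,nat_lit 3,nat_lit 4,nat_lit 1,nat_lit 4])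
) (.node (.node (.leaf [nat_lit 0,nat_lit 10,nat_lit 4,nat_lit 1,nat_lit 1,nat_lit 0,nat_lit 2,nat_lit 1,nat_lit 3,nat_lit 0,nat_lit 2,nat_lit 1,nat_lit 1,nat_lit 1,nat_lit 3,nat_lit 2,nat_lit 3,nat_lit 0])
 (.leaf [nat_lit 0,nat_lit 4,nat_lit 0,nat_lit 1,nat_lit 2,nat_lit 0,nat_lit 2,nat_lit 0,nat_lit 2,nat_lit 1,nat_lit 1,nat_lit 2,nat_lit 0,nat_lit 0,nat_lit 2,nat_lit 1,nat_lit 1])
) (.leaf [nat_lit 0x3b8003,nat_lit 14,nat_lit 7,nat_lit 1,nat_lit 2,nat_lit 4,nat_lit 1,nat_lit 2,nat_lit 0,nat_lit 2,nat_lit 4,nat_lit 2,nat_lit 1,nat_lit 1,nat_lit 2,nat_lit 0,nat_lit 3,nat_lit 2,nat_lit 3,nat_lit 0,nat_lit 4])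
)) (.node (.node (.node (.leaf [nat_lit 0x8000000000000000000,nat_lit 18,nat_lit 17,nat_lit 0,nat_lit 0,nat_lit 4,nat_lit 2,nat_lit 4,nat_lit 0,nat_lit 2,nat_lit 0,nat_lit 0,nat_lit 0,nat_lit 2,nat_lit 0,nat_lit 2,nat_lit 0,nat_lit 0,nat_lit 2,nat_lit 0,nat_lit 3,nat_lit 2,nat_lit 3,nat_lit 0,nat_lit 4,nat_lit 1,nat_lit 2])
 (.leaf [nat_lit 0,nat_lit 7,nat_lit 1,nat_lit 1,nat_lit 2,nat_lit 3,nat_lit 2,nat_lit 3,nat_lit 2,nat_lit 3,nat_lit 2,nat_lit 3])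
) (.leaf [nat_lit 0,nat_lit 7,nat_lit 2,nat_lit 1,nat_lit 3,nat_lit 2,nat_lit 3,nat_lit 2,nat_lit 3,nat_lit 2,nat_lit 3,nat_lit 2])
) (.node (.node (.leaf [nat_lit 0,nat_lit 12,nat_lit 0,nat_lit 1,nat_lit 3,nat_lit 2,nat_lit 1,nat_lit 3,nat_lit 0,nat_lit 2,nat_lit 1,nat_lit 3,nat_lit 0,nat_lit 3,nat_lit 0,nat_lit 0,nat_lit 3,nat_lit 1,nat_lit 1])
 (.leaf [nat_lit 0,nat_lit 10,nat_lit 3,nat_lit 1,nat_lit 1,nat_lit 0,nat_lit 0,nat_lit 2,nat_lit 1,nat_lit 3,nat_lit 0,nat_lit 2,nat_lit 1,nat_lit 1,nat_lit 1,nat_lit 3,nat_lit 2,nat_lit 3])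
) (.leaf [nat_lit 0,nat_lit 4,nat_lit 10,nat_lit 1,nat_lit 2,nat_lit 1,nat_lit 1,nat_lit 2,nat_lit 0,nat_lit 2,nat_lit 0,nat_lit 2,nat_lit 1,nat_lit 1,nat_lit 2,nat_lit 0,nat_lit 0])
)))))

noncomputable def o8p_L_R : LT :=
(.node (.node (.node (.node (.leaf [nat_lit 6,nat_lit 1,nat_lit 0x1d80000002])
 (.leaf [nat_lit 11,nat_lit 24,nat_lit 0x1800600ec006403a805d])
) (.leaf [nat_lit 14,nat_lit 8,nat_lit 0x8002000001d00008077])
) (.node (.leaf [nat_lit 3,nat_lit 5,nat_lit 0x20000000001d803a0002])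
 (.leaf [nat_lit 9,nat_lit 42,nat_lit 0x40002000801980380008])
)) (.node (.node (.node (.leaf [nat_lit 5,nat_lit 26,nat_lit 0x3a8000000001bc0018009])
 (.leaf [nat_lit 14,nat_lit 54,nat_lit 0x3002500e600c003b0027])
) (.leaf [nat_lit 11,nat_lit 30,nat_lit 0x398072000001c4002800d])
) (.node (.leaf [nat_lit 3,nat_lit 37,nat_lit 0x10004000001c003b0004])
 (.leaf [nat_lit 11,nat_lit 25,nat_lit 0x20001000401c403a0002])
)))

noncomputable def o8p_C : LC :=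
  ⟨⟨fun x c => Nat.shiftRight (BT.get o8p_L_t x) (Nat.mul (nat_lit 116) c),
  (nat_lit 6), (nat_lit 63), (nat_lit 131071), (nat_lit 17), (nat_lit 511), (nat_lit 131008), (nat_lit 0), (nat_lit 60), (nat_lit 5), (nat_lit 4), (nat_lit 0), (nat_lit 5), o8p_inv, o8p_L_rules, .leaf []⟩,
  (nat_lit 26), (nat_lit 0x3f807f00fe01fc03f807f), (nat_lit 0x7f80ff01fe03fc07f80ff), (nat_lit 15), (nat_lit 6), (nat_lit 120), (nat_lit 13), (nat_lit 127), (nat_lit 255), (nat_lit 24), o8p_pi, o8p_rels, o8p_L_R⟩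

noncomputable def o8p_U_t : BT :=
(.node (.node (.node (.leaf (nat_lit 0xa2528f0aa524eb0011edce651d650012676e2514edd650edf00120750011472da5076c00108ee605026800927f70010b6fd64f8c3000fdea000923e0011071000c163c64ad580006d390011cf4000ca41c84ed450006935c64e253604b3d40011873bc4f1c60009a56000632fb849d57000a2d9000602a0008cab000f0d2b04da4caa4ec420005b262e4d7b2364d4d10005825a24de61904bde6000dcc700093e7904b2cd000fa69964ccdd000efcf0004f1f0004e1e0004d1c904aa240004b1a2e4c3a70008ad5000481900094ca7e4c1c4000bd3c0088e6476442a90086be20007c16684e3e000867de0003d13604cace00864db0003a1200863da000a9ae000abba000992c4e43290000310e000a517000bab80007e3f000d1c900859d00002b0c00854cb00079b70009b2d00851c8000dfb4364239500077a300020090001f082e4892100849c00001c0700846bd000a3b100844bb00018060083eb60083bb300838b0000211d144128a000740b00010040082da8000262000827a2000720f0000b030081d9b0081a98008169400813910080e8d00005010080685008038201c0000))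
 (.leaf (nat_lit 0xea52b7478526f146521f00012bf70011750001166900127760012275dc510ee001116f00103c800100c4784ff657c4fc5262515f2000f6bf000d740000913d000ffeb000c04e000b1397c4c7ca0006b360006a35000f3567c4e8d10006734000ddcc000f5beba4afd3844c2c74648d55000612c4c4f2df0008dd80005e28000b05a000fcea000e95e00916f3784e5c5a44bfe44649e31844dd5c8a4d5c3000c862000d3a6009036d000c359000501f000e64f009006c000d64b000bc3b8e4db308a4d6e7008f668844f55b00890e600046167c4bbc2000b5b7784b0e30004114704b53a0086ae100869e000866dd624c6a30003b120009ecd000dbc10003811000370f000360e00860d74c4a11c000a8a700095980085dd4464a82a444d349000cc1e0002a0b000c7333c49f1d000270a00025090084fc6344cba50009fa2000a1ab000b20d0001d072c4b91528495290001a0600845bc000b99900840b800016050083ab200837af000120400836ae00835ad0e4b19b0000e0300829a400826a100824a00000a020081c9a0081997008159300811900080d8c008098800002800080201))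
) (.node (.leaf (nat_lit 0x3a529ee12523e86651f750011b581a518eca0512e10010d500010c4ea050a6f0012a771a5056b001197300105ed000fbc1000f840001247666492e7d24d94b000903c984b762ce46dc4000b7e40011372ca4e9e0ae4ea46000e854c44e4b50006633be4f3b22449c31044af590091af4204a03d0008437a048b55b24e7de0005d27ae4ee43a84e3510090cf1000e7340090bf0064a44d0005624000d9e6a0487ca0005321984cec80005120000eadf9246fc50006e63000eed20004c1b008fb6a008f7e900049191247cba000a0d70088fe52047a180007d3e0004215000b8a866483d66a472b6000e55d664e6cf00865dc000f45b0009cda5a497ad584a7af564752e0009830000320e000a7173a484aa0002f0d484b8380085cd30002c0c424ce2500855cc000290b3a4801200852c900850c7000349d0002209324341f000ae880084bc21a4d89a00848bf0007abb244a6ab2047e9600841b91c475941a4b49300080a21843511000708f124701000831ac0082ea90082ba600828a30000c03008219e064ae1c04483070000802024710500006010080b8a0080786008058401c0100))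
 (.leaf (nat_lit 0x3806b00381de00380dc0030158003025000301d00030150003014e00301cc00301cb0030248003024400301c100301410030140003023f00300be003023d003013c003003a00300b900300380030236003023500300b50030035003023400301330030032003003000300af00281ad002822c00280aa00281a90028228002812700281a600280a6002802600281a500280a500281a40028124002802400281a2002812100280210028120002821f002809f002809e002809c002811b002809a002801a00281190028099002801800282160028016002819500281150028214002819400280140028193002809300280130028212002809200280120028211002020f002020e002010e002008e002018d002010d002000d002018c002010c002008c002020b002010b002000b002020a002020900201890020109002008900200880020008002020700200870020007002020600201860020086002000600202050020185002000500182040018184001808400180040018203001818300181030018083001820200181820018102001800200101010010081001000100082000000000))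
)) (.node (.node (.leaf (nat_lit 0x1286be4525f3e851ff03e51c6238517dce4513efe050fe600129773e50aea6e5086d001157200107ee00125765c4fd68d84f9c800102ecd44934a000be4c0011df40008eba504c0e50006c38000decd000e4360010f710006835000cd470091e75000653200064308c4a257000ade40009dd8b6499da1048a3f000b45d000e2deac4f054000d54f0005a26a64ef46000cb33000b349000dad300055249e4943d9a4d1270005221384dc4b000f25b000ede0000c23c000f969000ecd28c4c9e10004a1a8647da800891e70004718804bcbb00045167a4ab2e0086ce3724ba296e479230003f1400868df644df200003c13000d8505c4a317000391200862d9544a92f5049aa250498ad2248c550085fd600043390002e0d000c4400085ad100857ce000aac23e4771e000280b000899b384258c0084ec50084dc422420910084cc30001e080084ac100847be0001b07224a4aa1e47bb7000241f00017060083cb400839b10001405000332c104718a00830ab0000f040082aa50c4738f00013100081f9d0081e9c0081b99008179500007020080f8e0080a890000401008048301c0080))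
 (.leaf (nat_lit 0x3ff80003ff80003ff80003ff80003ff80003ff80003ff80003ff80003ff80003ff80003ff80003ff80003ff80003ff80003ff80003ff80003ff80003ff80003ff80003ff80003ff80003ff80003ff80003ff80003ff80003ff80003ff80003ff80003ff80003ff80003ff80003ff80003ff80003ff80003ff80003ff80003ff80003ff80003ff80003ff80003ff80003ff80003ff80003ff80003ff80003ff80003ff80003ff80003ff80003ff80003ff80003ff80003ff80003ff80003ff80003ff80003ff80003ff80003ff80003ff80003ff80003ff80003ff80003ff80003ff80003ff80003ff80003ff80003ff80003ff80003ff80003ff80003ff80003ff80003ff80003ff80003ff80003ff80003ff80003ff80003ff80003ff80003ff80003ff80003ff80003ff80003ff80003ff80003ff80003ff80003ff80003ff80003ff80003ff80003ff80003ff80003ff80003ff80003ff80003ff80003ff80003ff80003ff80003ff80003ff80003ff80003ff80003ff80003ff80003ff80003ff80003ff80003ff80003ff80003ff80003ff80003ff80003ff80003ff80003ff80))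
) (.leaf (nat_lit 0x7452af7001235e88520dd4051bf40011a7000112509c50de9de519f300109cc00106cb005046a305014e000fec100104ed0010e71004f768000ebe0cc4fae6000c53d1648f64d0474e39c4d462000c647cc4eb670a4d05f00922f60012175c24e043c04f4db6c4823b164a5d6000622d000bf3c000a6590005f29b44f154304c8b30005c26884e13400911f2000592500101ec0005724009096f009066e00054229c4cf48000cfc9304c5e130486b29447b450007fa8000e0dc404d0c2008fe6b264d2208848bbf000789e824c4e5744bed700082da00044150006f1d744bb3800040146c485360003e13000e1d1000c95300087465e4882b0a4963000081ae304812f00861d8524ac1700088b1000300d0085ed54a47f440002d0c0085bd200858cf00856cd40476a300853ca304859a000d2c000023092a4783e1646eb9304b61b000b69c00086212a49b99264968e000acac000190600843ba0083fb70083db500015050a476111643390000110400097180082faa0082ca70000d030a4730a008229f084cd88000090200818960081492008108f0080c8b0080887004030101c0180))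
))

noncomputable def o8p_U_rules : LT :=
(.node (.node (.node (.node (.node (.node (.node (.leaf [nat_lit 15,nat_lit 2,nat_lit 1,nat_lit 3,nat_lit 4,nat_lit 2,nat_lit 1,nat_lit 2,nat_lit 1,nat_lit 3,nat_lit 0,nat_lit 2,nat_lit 1,nat_lit 1,nat_lit 1,nat_lit 2,nat_lit 1,nat_lit 1,nat_lit 1,nat_lit 2,nat_lit 4])
 (.leaf [nat_lit 18,nat_lit 13,nat_lit 0,nat_lit 1,nat_lit 4,nat_lit 1,nat_lit 2,nat_lit 1,nat_lit 4,nat_lit 2,nat_lit 4,nat_lit 0,nat_lit 2,nat_lit 0,nat_lit 0,nat_lit 0,nat_lit 2,nat_lit 0,nat_lit 2,nat_lit 0,nat_lit 0,nat_lit 2,nat_lit 0,nat_lit 3,nat_lit 2,nat_lit 3])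
) (.node (.leaf [nat_lit 7,nat_lit 2,nat_lit 1,nat_lit 3,nat_lit 2,nat_lit 3,nat_lit 2,nat_lit 3,nat_lit 2,nat_lit 3,nat_lit 2])
 (.leaf [nat_lit 12,nat_lit 5,nat_lit 0,nat_lit 3,nat_lit 1,nat_lit 3,nat_lit 0,nat_lit 2,nat_lit 1,nat_lit 3,nat_lit 0,nat_lit 2,nat_lit 3,nat_lit 0,nat_lit 0,nat_lit 3,nat_lit 1,nat_lit 1])
)) (.node (.node (.leaf [nat_lit 10,nat_lit 6,nat_lit 1,nat_lit 2,nat_lit 1,nat_lit 3,nat_lit 0,nat_lit 2,nat_lit 1,nat_lit 1,nat_lit 1,nat_lit 3,nat_lit 2,nat_lit 3,nat_lit 0,nat_lit 0,nat_lit 0])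
 (.leaf [nat_lit 7,nat_lit 1,nat_lit 1,nat_lit 2,nat_lit 3,nat_lit 2,nat_lit 3,nat_lit 2,nat_lit 3,nat_lit 2,nat_lit 3])
) (.node (.leaf [nat_lit 16,nat_lit 2,nat_lit 1,nat_lit 0,nat_lit 4,nat_lit 0,nat_lit 4,nat_lit 0,nat_lit 0,nat_lit 4,nat_lit 1,nat_lit 2,nat_lit 0,nat_lit 0,nat_lit 2,nat_lit 3,nat_lit 0,nat_lit 3,nat_lit 1,nat_lit 1,nat_lit 1,nat_lit 3,nat_lit 4])
 (.leaf [nat_lit 4,nat_lit 9,nat_lit 1,nat_lit 1,nat_lit 2,nat_lit 1,nat_lit 1,nat_lit 2,nat_lit 0,nat_lit 2,nat_lit 0,nat_lit 2,nat_lit 1,nat_lit 1,nat_lit 2,nat_lit 0])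
))) (.node (.node (.node (.leaf [nat_lit 8,nat_lit 1,nat_lit 1,nat_lit 1,nat_lit 3,nat_lit 1,nat_lit 2,nat_lit 0,nat_lit 2,nat_lit 3,nat_lit 2,nat_lit 1,nat_lit 2])
 (.leaf [nat_lit 18,nat_lit 15,nat_lit 0,nat_lit 0,nat_lit 2,nat_lit 1,nat_lit 4,nat_lit 2,nat_lit 4,nat_lit 0,nat_lit 2,nat_lit 0,nat_lit 0,nat_lit 0,nat_lit 2,nat_lit 0,nat_lit 2,nat_lit 0,nat_lit 0,nat_lit 2,nat_lit 0,nat_lit 3,nat_lit 2,nat_lit 3,nat_lit 0,nat_lit 4])
) (.node (.leaf [nat_lit 11,nat_lit 7,nat_lit 1,nat_lit 1,nat_lit 0,nat_lit 0,nat_lit 2,nat_lit 1,nat_lit 1,nat_lit 1,nat_lit 2,nat_lit 3,nat_lit 1,nat_lit 3,nat_lit 0,nat_lit 3,nat_lit 2])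
 (.leaf [nat_lit 12,nat_lit 7,nat_lit 0,nat_lit 3,nat_lit 0,nat_lit 2,nat_lit 1,nat_lit 3,nat_lit 0,nat_lit 2,nat_lit 3,nat_lit 0,nat_lit 0,nat_lit 3,nat_lit 1,nat_lit 1,nat_lit 3,nat_lit 1])
)) (.node (.node (.leaf [nat_lit 15,nat_lit 15,nat_lit 0,nat_lit 3,nat_lit 4,nat_lit 2,nat_lit 0,nat_lit 0,nat_lit 0,nat_lit 2,nat_lit 0,nat_lit 0,nat_lit 0,nat_lit 2,nat_lit 1,nat_lit 3,nat_lit 0,nat_lit 2,nat_lit 0,nat_lit 2,nat_lit 4])
 (.leaf [nat_lit 4,nat_lit 4,nat_lit 0,nat_lit 0,nat_lit 2,nat_lit 0,nat_lit 0,nat_lit 2,nat_lit 1,nat_lit 2,nat_lit 1,nat_lit 2,nat_lit 0,nat_lit 0,nat_lit 2,nat_lit 1])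
) (.leaf [nat_lit 18,nat_lit 14,nat_lit 0,nat_lit 4,nat_lit 1,nat_lit 2,nat_lit 1,nat_lit 4,nat_lit 2,nat_lit 4,nat_lit 0,nat_lit 2,nat_lit 0,nat_lit 0,nat_lit 0,nat_lit 2,nat_lit 0,nat_lit 2,nat_lit 0,nat_lit 0,nat_lit 2,nat_lit 0,nat_lit 3,nat_lit 2,nat_lit 3,nat_lit 0])
))) (.node (.node (.node (.node (.leaf [nat_lit 14,nat_lit 4,nat_lit 1,nat_lit 3,nat_lit 0,nat_lit 4,nat_lit 2,nat_lit 4,nat_lit 1,nat_lit 2,nat_lit 0,nat_lit 2,nat_lit 4,nat_lit 2,nat_lit 1,nat_lit 1,nat_lit 2,nat_lit 0,nat_lit 3,nat_lit 2])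
 (.leaf [nat_lit 10,nat_lit 8,nat_lit 1,nat_lit 3,nat_lit 0,nat_lit 2,nat_lit 1,nat_lit 1,nat_lit 1,nat_lit 3,nat_lit 2,nat_lit 3,nat_lit 0,nat_lit 0,nat_lit 0,nat_lit 2,nat_lit 1])
) (.node (.leaf [nat_lit 18,nat_lit 19,nat_lit 1,nat_lit 2,nat_lit 1,nat_lit 1,nat_lit 1,nat_lit 2,nat_lit 1,nat_lit 4,nat_lit 2,nat_lit 4,nat_lit 0,nat_lit 2,nat_lit 0,nat_lit 4,nat_lit 1,nat_lit 3,nat_lit 2,nat_lit 3,nat_lit 1,nat_lit 2,nat_lit 1,nat_lit 1,nat_lit 2,nat_lit 1])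
 (.leaf [nat_lit 15,nat_lit 13,nat_lit 1,nat_lit 0,nat_lit 2,nat_lit 1,nat_lit 1,nat_lit 1,nat_lit 2,nat_lit 4,nat_lit 3,nat_lit 4,nat_lit 2,nat_lit 1,nat_lit 2,nat_lit 1,nat_lit 3,nat_lit 0,nat_lit 2,nat_lit 1,nat_lit 1])
)) (.node (.node (.leaf [nat_lit 17,nat_lit 20,nat_lit 0,nat_lit 4,nat_lit 0,nat_lit 0,nat_lit 2,nat_lit 0,nat_lit 2,nat_lit 0,nat_lit 3,nat_lit 0,nat_lit 2,nat_lit 1,nat_lit 2,nat_lit 3,nat_lit 4,nat_lit 0,nat_lit 2,nat_lit 1,nat_lit 1,nat_lit 3,nat_lit 0,nat_lit 0])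
 (.leaf [nat_lit 12,nat_lit 13,nat_lit 0,nat_lit 2,nat_lit 3,nat_lit 0,nat_lit 0,nat_lit 3,nat_lit 1,nat_lit 1,nat_lit 3,nat_lit 1,nat_lit 3,nat_lit 0,nat_lit 2,nat_lit 1,nat_lit 3,nat_lit 0])
) (.node (.leaf [nat_lit 16,nat_lit 15,nat_lit 0,nat_lit 0,nat_lit 4,nat_lit 0,nat_lit 4,nat_lit 3,nat_lit 0,nat_lit 0,nat_lit 0,nat_lit 3,nat_lit 1,nat_lit 3,nat_lit 2,nat_lit 1,nat_lit 1,nat_lit 2,nat_lit 0,nat_lit 4,nat_lit 1,nat_lit 1,nat_lit 4])
 (.leaf [nat_lit 4,nat_lit 8,nat_lit 1,nat_lit 1,nat_lit 0,nat_lit 2,nat_lit 1,nat_lit 1,nat_lit 2,nat_lit 0,nat_lit 2,nat_lit 0,nat_lit 2,nat_lit 1,nat_lit 1,nat_lit 2])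
))) (.node (.node (.node (.leaf [nat_lit 15,nat_lit 14,nat_lit 1,nat_lit 2,nat_lit 1,nat_lit 1,nat_lit 1,nat_lit 2,nat_lit 4,nat_lit 3,nat_lit 4,nat_lit 2,nat_lit 1,nat_lit 2,nat_lit 1,nat_lit 3,nat_lit 0,nat_lit 2,nat_lit 1,nat_lit 1,nat_lit 1])
 (.leaf [nat_lit 17,nat_lit 14,nat_lit 0,nat_lit 2,nat_lit 1,nat_lit 1,nat_lit 3,nat_lit 0,nat_lit 0,nat_lit 4,nat_lit 0,nat_lit 0,nat_lit 2,nat_lit 0,nat_lit 2,nat_lit 0,nat_lit 3,nat_lit 0,nat_lit 2,nat_lit 1,nat_lit 2,nat_lit 3,nat_lit 4,nat_lit 0])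
) (.node (.leaf [nat_lit 10,nat_lit 10,nat_lit 1,nat_lit 2,nat_lit 1,nat_lit 1,nat_lit 1,nat_lit 3,nat_lit 2,nat_lit 3,nat_lit 0,nat_lit 0,nat_lit 0,nat_lit 2,nat_lit 1,nat_lit 3,nat_lit 0])
 (.leaf [nat_lit 10,nat_lit 9,nat_lit 1,nat_lit 1,nat_lit 2,nat_lit 1,nat_lit 1,nat_lit 1,nat_lit 3,nat_lit 2,nat_lit 3,nat_lit 0,nat_lit 0,nat_lit 0,nat_lit 2,nat_lit 1,nat_lit 3])
)) (.node (.node (.leaf [nat_lit 16,nat_lit 4,nat_lit 1,nat_lit 1,nat_lit 4,nat_lit 0,nat_lit 0,nat_lit 4,nat_lit 1,nat_lit 2,nat_lit 0,nat_lit 0,nat_lit 2,nat_lit 3,nat_lit 0,nat_lit 3,nat_lit 1,nat_lit 1,nat_lit 1,nat_lit 3,nat_lit 4,nat_lit 1,nat_lit 4])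
 (.leaf [nat_lit 14,nat_lit 11,nat_lit 0,nat_lit 0,nat_lit 3,nat_lit 2,nat_lit 3,nat_lit 1,nat_lit 2,nat_lit 0,nat_lit 0,nat_lit 2,nat_lit 4,nat_lit 2,nat_lit 1,nat_lit 2,nat_lit 0,nat_lit 4,nat_lit 2,nat_lit 4])
) (.leaf [nat_lit 15,nat_lit 1,nat_lit 1,nat_lit 4,nat_lit 3,nat_lit 4,nat_lit 2,nat_lit 1,nat_lit 2,nat_lit 1,nat_lit 3,nat_lit 0,nat_lit 2,nat_lit 1,nat_lit 1,nat_lit 1,nat_lit 2,nat_lit 1,nat_lit 1,nat_lit 1,nat_lit 2])
)))) (.node (.node (.node (.node (.node (.leaf [nat_lit 10,nat_lit 1,nat_lit 1,nat_lit 2,nat_lit 3,nat_lit 0,nat_lit 0,nat_lit 0,nat_lit 2,nat_lit 1,nat_lit 3,nat_lit 0,nat_lit 2,nat_lit 1,nat_lit 1,nat_lit 1,nat_lit 3])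
 (.leaf [nat_lit 18,nat_lit 4,nat_lit 1,nat_lit 4,nat_lit 0,nat_lit 2,nat_lit 0,nat_lit 4,nat_lit 1,nat_lit 3,nat_lit 2,nat_lit 3,nat_lit 1,nat_lit 2,nat_lit 1,nat_lit 1,nat_lit 2,nat_lit 1,nat_lit 2,nat_lit 1,nat_lit 1,nat_lit 1,nat_lit 2,nat_lit 1,nat_lit 4,nat_lit 2])
) (.node (.leaf [nat_lit 14,nat_lit 3,nat_lit 0,nat_lit 4,nat_lit 2,nat_lit 1,nat_lit 2,nat_lit 0,nat_lit 4,nat_lit 2,nat_lit 4,nat_lit 1,nat_lit 3,nat_lit 2,nat_lit 3,nat_lit 1,nat_lit 2,nat_lit 0,nat_lit 0,nat_lit 2])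
 (.leaf [nat_lit 16,nat_lit 9,nat_lit 0,nat_lit 2,nat_lit 0,nat_lit 4,nat_lit 1,nat_lit 1,nat_lit 4,nat_lit 1,nat_lit 4,nat_lit 0,nat_lit 4,nat_lit 3,nat_lit 0,nat_lit 0,nat_lit 0,nat_lit 3,nat_lit 1,nat_lit 3,nat_lit 2,nat_lit 1,nat_lit 1])
)) (.node (.node (.leaf [nat_lit 4,nat_lit 0,nat_lit 1,nat_lit 2,nat_lit 0,nat_lit 2,nat_lit 0,nat_lit 2,nat_lit 1,nat_lit 1,nat_lit 2,nat_lit 0,nat_lit 0,nat_lit 2,nat_lit 1,nat_lit 1])
 (.leaf [nat_lit 16,nat_lit 5,nat_lit 1,nat_lit 4,nat_lit 0,nat_lit 0,nat_lit 4,nat_lit 1,nat_lit 2,nat_lit 0,nat_lit 0,nat_lit 2,nat_lit 3,nat_lit 0,nat_lit 3,nat_lit 1,nat_lit 1,nat_lit 1,nat_lit 3,nat_lit 4,nat_lit 1,nat_lit 4,nat_lit 0])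
) (.node (.leaf [nat_lit 17,nat_lit 18,nat_lit 0,nat_lit 1,nat_lit 0,nat_lit 4,nat_lit 0,nat_lit 0,nat_lit 2,nat_lit 0,nat_lit 2,nat_lit 0,nat_lit 3,nat_lit 0,nat_lit 2,nat_lit 1,nat_lit 2,nat_lit 3,nat_lit 4,nat_lit 0,nat_lit 2,nat_lit 1,nat_lit 1,nat_lit 3])
 (.leaf [nat_lit 11,nat_lit 4,nat_lit 1,nat_lit 1,nat_lit 3,nat_lit 2,nat_lit 0,nat_lit 0,nat_lit 0,nat_lit 2,nat_lit 1,nat_lit 1,nat_lit 1,nat_lit 2,nat_lit 3,nat_lit 1,nat_lit 3])
))) (.node (.node (.node (.leaf [nat_lit 18,nat_lit 17,nat_lit 0,nat_lit 0,nat_lit 4,nat_lit 2,nat_lit 4,nat_lit 0,nat_lit 2,nat_lit 0,nat_lit 0,nat_lit 0,nat_lit 2,nat_lit 0,nat_lit 2,nat_lit 0,nat_lit 0,nat_lit 2,nat_lit 0,nat_lit 3,nat_lit 2,nat_lit 3,nat_lit 0,nat_lit 4,nat_lit 1,nat_lit 2])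
 (.leaf [nat_lit 12,nat_lit 7,nat_lit 1,nat_lit 3,nat_lit 0,nat_lit 3,nat_lit 0,nat_lit 0,nat_lit 3,nat_lit 1,nat_lit 1,nat_lit 3,nat_lit 2,nat_lit 1,nat_lit 3,nat_lit 0,nat_lit 2,nat_lit 1])
) (.node (.leaf [nat_lit 15,nat_lit 12,nat_lit 0,nat_lit 1,nat_lit 2,nat_lit 4,nat_lit 3,nat_lit 4,nat_lit 2,nat_lit 0,nat_lit 0,nat_lit 0,nat_lit 2,nat_lit 0,nat_lit 0,nat_lit 0,nat_lit 2,nat_lit 1,nat_lit 3,nat_lit 0,nat_lit 2])
 (.leaf [nat_lit 10,nat_lit 3,nat_lit 1,nat_lit 1,nat_lit 0,nat_lit 0,nat_lit 2,nat_lit 1,nat_lit 3,nat_lit 0,nat_lit 2,nat_lit 1,nat_lit 1,nat_lit 1,nat_lit 3,nat_lit 2,nat_lit 3])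
)) (.node (.node (.leaf [nat_lit 16,nat_lit 18,nat_lit 0,nat_lit 4,nat_lit 3,nat_lit 0,nat_lit 0,nat_lit 0,nat_lit 3,nat_lit 1,nat_lit 3,nat_lit 2,nat_lit 1,nat_lit 1,nat_lit 2,nat_lit 0,nat_lit 4,nat_lit 1,nat_lit 1,nat_lit 4,nat_lit 1,nat_lit 4,nat_lit 0])
 (.leaf [nat_lit 16,nat_lit 0,nat_lit 1,nat_lit 3,nat_lit 4,nat_lit 1,nat_lit 4,nat_lit 0,nat_lit 4,nat_lit 0,nat_lit 0,nat_lit 4,nat_lit 1,nat_lit 2,nat_lit 0,nat_lit 0,nat_lit 2,nat_lit 3,nat_lit 0,nat_lit 3,nat_lit 1,nat_lit 1,nat_lit 1])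
) (.leaf [nat_lit 11,nat_lit 1,nat_lit 1,nat_lit 3,nat_lit 1,nat_lit 3,nat_lit 0,nat_lit 3,nat_lit 2,nat_lit 0,nat_lit 0,nat_lit 0,nat_lit 2,nat_lit 1,nat_lit 1,nat_lit 1,nat_lit 2])
))) (.node (.node (.node (.node (.leaf [nat_lit 12,nat_lit 11,nat_lit 1,nat_lit 1,nat_lit 3,nat_lit 1,nat_lit 1,nat_lit 3,nat_lit 2,nat_lit 1,nat_lit 3,nat_lit 0,nat_lit 2,nat_lit 1,nat_lit 3,nat_lit 0,nat_lit 3,nat_lit 0])
 (.leaf [nat_lit 16,nat_lit 6,nat_lit 1,nat_lit 1,nat_lit 0,nat_lit 4,nat_lit 1,nat_lit 2,nat_lit 0,nat_lit 0,nat_lit 2,nat_lit 3,nat_lit 0,nat_lit 3,nat_lit 1,nat_lit 1,nat_lit 1,nat_lit 3,nat_lit 4,nat_lit 1,nat_lit 4,nat_lit 0,nat_lit 4])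
) (.node (.leaf [nat_lit 16,nat_lit 3,nat_lit 1,nat_lit 4,nat_lit 0,nat_lit 4,nat_lit 0,nat_lit 0,nat_lit 4,nat_lit 1,nat_lit 2,nat_lit 0,nat_lit 0,nat_lit 2,nat_lit 3,nat_lit 0,nat_lit 3,nat_lit 1,nat_lit 1,nat_lit 1,nat_lit 3,nat_lit 4,nat_lit 1])
 (.leaf [nat_lit 17,nat_lit 11,nat_lit 0,nat_lit 3,nat_lit 4,nat_lit 0,nat_lit 2,nat_lit 1,nat_lit 1,nat_lit 3,nat_lit 0,nat_lit 0,nat_lit 4,nat_lit 0,nat_lit 0,nat_lit 2,nat_lit 0,nat_lit 2,nat_lit 0,nat_lit 3,nat_lit 0,nat_lit 2,nat_lit 1,nat_lit 2])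
)) (.node (.node (.leaf [nat_lit 15,nat_lit 16,nat_lit 0,nat_lit 4,nat_lit 2,nat_lit 0,nat_lit 0,nat_lit 0,nat_lit 2,nat_lit 0,nat_lit 0,nat_lit 0,nat_lit 2,nat_lit 1,nat_lit 3,nat_lit 0,nat_lit 2,nat_lit 0,nat_lit 2,nat_lit 4,nat_lit 3])
 (.leaf [nat_lit 14,nat_lit 11,nat_lit 1,nat_lit 1,nat_lit 2,nat_lit 4,nat_lit 2,nat_lit 1,nat_lit 1,nat_lit 2,nat_lit 0,nat_lit 3,nat_lit 2,nat_lit 3,nat_lit 0,nat_lit 4,nat_lit 2,nat_lit 4,nat_lit 1,nat_lit 2])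
) (.leaf [nat_lit 12,nat_lit 12,nat_lit 1,nat_lit 3,nat_lit 1,nat_lit 1,nat_lit 3,nat_lit 2,nat_lit 1,nat_lit 3,nat_lit 0,nat_lit 2,nat_lit 1,nat_lit 3,nat_lit 0,nat_lit 3,nat_lit 0,nat_lit 0])
)) (.node (.node (.node (.leaf [nat_lit 4,nat_lit 2,nat_lit 1,nat_lit 2,nat_lit 0,nat_lit 2,nat_lit 1,nat_lit 1,nat_lit 2,nat_lit 0,nat_lit 0,nat_lit 2,nat_lit 1,nat_lit 1,nat_lit 2,nat_lit 0])
 (.leaf [nat_lit 8,nat_lit 7,nat_lit 1,nat_lit 3,nat_lit 2,nat_lit 1,nat_lit 2,nat_lit 0,nat_lit 3,nat_lit 1,nat_lit 2,nat_lit 0,nat_lit 2])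
) (.node (.leaf [nat_lit 17,nat_lit 13,nat_lit 0,nat_lit 1,nat_lit 2,nat_lit 1,nat_lit 1,nat_lit 3,nat_lit 0,nat_lit 0,nat_lit 4,nat_lit 0,nat_lit 0,nat_lit 2,nat_lit 0,nat_lit 2,nat_lit 0,nat_lit 3,nat_lit 0,nat_lit 2,nat_lit 1,nat_lit 2,nat_lit 3,nat_lit 4])
 (.leaf [nat_lit 15,nat_lit 3,nat_lit 1,nat_lit 4,nat_lit 2,nat_lit 1,nat_lit 2,nat_lit 1,nat_lit 3,nat_lit 0,nat_lit 2,nat_lit 1,nat_lit 1,nat_lit 1,nat_lit 2,nat_lit 1,nat_lit 1,nat_lit 1,nat_lit 2,nat_lit 4,nat_lit 3])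
)) (.node (.node (.leaf [nat_lit 17,nat_lit 12,nat_lit 0,nat_lit 4,nat_lit 0,nat_lit 2,nat_lit 1,nat_lit 1,nat_lit 3,nat_lit 0,nat_lit 0,nat_lit 4,nat_lit 0,nat_lit 0,nat_lit 2,nat_lit 0,nat_lit 2,nat_lit 0,nat_lit 3,nat_lit 0,nat_lit 2,nat_lit 1,nat_lit 2,nat_lit 3])
 (.leaf [nat_lit 10,nat_lit 12,nat_lit 1,nat_lit 0,nat_lit 1,nat_lit 3,nat_lit 2,nat_lit 3,nat_lit 0,nat_lit 0,nat_lit 0,nat_lit 2,nat_lit 1,nat_lit 3,nat_lit 0,nat_lit 2,nat_lit 1])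
) (.leaf [nat_lit 14,nat_lit 13,nat_lit 1,nat_lit 4,nat_lit 2,nat_lit 1,nat_lit 1,nat_lit 2,nat_lit 0,nat_lit 3,nat_lit 2,nat_lit 3,nat_lit 0,nat_lit 4,nat_lit 2,nat_lit 4,nat_lit 1,nat_lit 2,nat_lit 0,nat_lit 2])
))))) (.node (.node (.node (.node (.node (.node (.leaf [nat_lit 17,nat_lit 18,nat_lit 1,nat_lit 2,nat_lit 1,nat_lit 1,nat_lit 4,nat_lit 1,nat_lit 1,nat_lit 3,nat_lit 0,nat_lit 0,nat_lit 2,nat_lit 1,nat_lit 4,nat_lit 3,nat_lit 2,nat_lit 0,nat_lit 2,nat_lit 1,nat_lit 3,nat_lit 1,nat_lit 2,nat_lit 1])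
 (.leaf [nat_lit 10,nat_lit 2,nat_lit 1,nat_lit 3,nat_lit 0,nat_lit 0,nat_lit 0,nat_lit 2,nat_lit 1,nat_lit 3,nat_lit 0,nat_lit 2,nat_lit 1,nat_lit 1,nat_lit 1,nat_lit 3,nat_lit 2])
) (.node (.leaf [nat_lit 14,nat_lit 0,nat_lit 1,nat_lit 2,nat_lit 0,nat_lit 3,nat_lit 2,nat_lit 3,nat_lit 0,nat_lit 4,nat_lit 2,nat_lit 4,nat_lit 1,nat_lit 2,nat_lit 0,nat_lit 2,nat_lit 4,nat_lit 2,nat_lit 1,nat_lit 1])
 (.leaf [nat_lit 9,nat_lit 6,nat_lit 1,nat_lit 3,nat_lit 2,nat_lit 3,nat_lit 0,nat_lit 2,nat_lit 1,nat_lit 3,nat_lit 2,nat_lit 3,nat_lit 0,nat_lit 2,nat_lit 1])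
)) (.node (.node (.leaf [nat_lit 2,nat_lit 5,nat_lit 0,nat_lit 1,nat_lit 0,nat_lit 0,nat_lit 0,nat_lit 0,nat_lit 0,nat_lit 0])
 (.leaf [nat_lit 2,nat_lit 3,nat_lit 1,nat_lit 0,nat_lit 1,nat_lit 1,nat_lit 1,nat_lit 1,nat_lit 1,nat_lit 1])
) (.node (.leaf [nat_lit 16,nat_lit 1,nat_lit 1,nat_lit 4,nat_lit 1,nat_lit 4,nat_lit 0,nat_lit 4,nat_lit 0,nat_lit 0,nat_lit 4,nat_lit 1,nat_lit 2,nat_lit 0,nat_lit 0,nat_lit 2,nat_lit 3,nat_lit 0,nat_lit 3,nat_lit 1,nat_lit 1,nat_lit 1,nat_lit 3])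
 (.leaf [nat_lit 11,nat_lit 2,nat_lit 1,nat_lit 0,nat_lit 3,nat_lit 0,nat_lit 3,nat_lit 2,nat_lit 0,nat_lit 0,nat_lit 0,nat_lit 2,nat_lit 1,nat_lit 1,nat_lit 1,nat_lit 2,nat_lit 3])
))) (.node (.node (.node (.leaf [nat_lit 9,nat_lit 1,nat_lit 1,nat_lit 2,nat_lit 3,nat_lit 0,nat_lit 2,nat_lit 1,nat_lit 3,nat_lit 2,nat_lit 3,nat_lit 0,nat_lit 2,nat_lit 1,nat_lit 3])
 (.leaf [nat_lit 8,nat_lit 0,nat_lit 1,nat_lit 2,nat_lit 0,nat_lit 3,nat_lit 1,nat_lit 2,nat_lit 0,nat_lit 2,nat_lit 3,nat_lit 2,nat_lit 1])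
) (.node (.leaf [nat_lit 10,nat_lit 0,nat_lit 1,nat_lit 3,nat_lit 2,nat_lit 3,nat_lit 0,nat_lit 0,nat_lit 0,nat_lit 2,nat_lit 1,nat_lit 3,nat_lit 0,nat_lit 2,nat_lit 1,nat_lit 1,nat_lit 1])
 (.leaf [nat_lit 4,nat_lit 8,nat_lit 0,nat_lit 2,nat_lit 1,nat_lit 2,nat_lit 1,nat_lit 2,nat_lit 0,nat_lit 0,nat_lit 2,nat_lit 1,nat_lit 1,nat_lit 2,nat_lit 0,nat_lit 0])
)) (.node (.node (.leaf [nat_lit 4,nat_lit 7,nat_lit 1,nat_lit 2,nat_lit 0,nat_lit 0,nat_lit 2,nat_lit 1,nat_lit 1,nat_lit 2,nat_lit 0,nat_lit 2,nat_lit 0,nat_lit 2,nat_lit 1,nat_lit 1])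
 (.leaf [nat_lit 4,nat_lit 4,nat_lit 1,nat_lit 2,nat_lit 1,nat_lit 1,nat_lit 2,nat_lit 0,nat_lit 0,nat_lit 2,nat_lit 1,nat_lit 1,nat_lit 2,nat_lit 0,nat_lit 2,nat_lit 0])
) (.leaf [nat_lit 15,nat_lit 10,nat_lit 0,nat_lit 1,nat_lit 2,nat_lit 0,nat_lit 2,nat_lit 4,nat_lit 3,nat_lit 4,nat_lit 2,nat_lit 0,nat_lit 0,nat_lit 0,nat_lit 2,nat_lit 0,nat_lit 0,nat_lit 0,nat_lit 2,nat_lit 1,nat_lit 3])
))) (.node (.node (.node (.node (.leaf [nat_lit 11,nat_lit 3,nat_lit 1,nat_lit 3,nat_lit 0,nat_lit 3,nat_lit 2,nat_lit 0,nat_lit 0,nat_lit 0,nat_lit 2,nat_lit 1,nat_lit 1,nat_lit 1,nat_lit 2,nat_lit 3,nat_lit 1])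
 (.leaf [nat_lit 16,nat_lit 14,nat_lit 0,nat_lit 4,nat_lit 1,nat_lit 4,nat_lit 0,nat_lit 4,nat_lit 3,nat_lit 0,nat_lit 0,nat_lit 0,nat_lit 3,nat_lit 1,nat_lit 3,nat_lit 2,nat_lit 1,nat_lit 1,nat_lit 2,nat_lit 0,nat_lit 4,nat_lit 1,nat_lit 1])
) (.node (.leaf [nat_lit 12,nat_lit 3,nat_lit 1,nat_lit 3,nat_lit 0,nat_lit 2,nat_lit 1,nat_lit 3,nat_lit 0,nat_lit 3,nat_lit 0,nat_lit 0,nat_lit 3,nat_lit 1,nat_lit 1,nat_lit 3,nat_lit 2,nat_lit 1])
 (.leaf [nat_lit 14,nat_lit 2,nat_lit 0,nat_lit 2,nat_lit 4,nat_lit 2,nat_lit 1,nat_lit 2,nat_lit 0,nat_lit 4,nat_lit 2,nat_lit 4,nat_lit 1,nat_lit 3,nat_lit 2,nat_lit 3,nat_lit 1,nat_lit 2,nat_lit 0,nat_lit 0])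
)) (.node (.node (.leaf [nat_lit 12,nat_lit 0,nat_lit 1,nat_lit 3,nat_lit 2,nat_lit 1,nat_lit 3,nat_lit 0,nat_lit 2,nat_lit 1,nat_lit 3,nat_lit 0,nat_lit 3,nat_lit 0,nat_lit 0,nat_lit 3,nat_lit 1,nat_lit 1])
 (.leaf [nat_lit 9,nat_lit 11,nat_lit 1,nat_lit 0,nat_lit 3,nat_lit 2,nat_lit 3,nat_lit 0,nat_lit 2,nat_lit 1,nat_lit 3,nat_lit 2,nat_lit 3,nat_lit 0,nat_lit 2])
) (.node (.leaf [nat_lit 4,nat_lit 10,nat_lit 1,nat_lit 2,nat_lit 1,nat_lit 1,nat_lit 2,nat_lit 0,nat_lit 2,nat_lit 0,nat_lit 2,nat_lit 1,nat_lit 1,nat_lit 2,nat_lit 0,nat_lit 0])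
 (.leaf [nat_lit 14,nat_lit 10,nat_lit 0,nat_lit 4,nat_lit 1,nat_lit 3,nat_lit 2,nat_lit 3,nat_lit 1,nat_lit 2,nat_lit 0,nat_lit 0,nat_lit 2,nat_lit 4,nat_lit 2,nat_lit 1,nat_lit 2,nat_lit 0,nat_lit 4,nat_lit 2])
))) (.node (.node (.node (.leaf [nat_lit 18,nat_lit 3,nat_lit 1,nat_lit 2,nat_lit 4,nat_lit 0,nat_lit 2,nat_lit 0,nat_lit 4,nat_lit 1,nat_lit 3,nat_lit 2,nat_lit 3,nat_lit 1,nat_lit 2,nat_lit 1,nat_lit 1,nat_lit 2,nat_lit 1,nat_lit 2,nat_lit 1,nat_lit 1,nat_lit 1,nat_lit 2,nat_lit 1,nat_lit 4])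
 (.leaf [nat_lit 12,nat_lit 4,nat_lit 1,nat_lit 1,nat_lit 2,nat_lit 1,nat_lit 3,nat_lit 0,nat_lit 3,nat_lit 0,nat_lit 0,nat_lit 3,nat_lit 1,nat_lit 1,nat_lit 3,nat_lit 2,nat_lit 1,nat_lit 3])
) (.node (.leaf [nat_lit 15,nat_lit 4,nat_lit 1,nat_lit 2,nat_lit 1,nat_lit 2,nat_lit 1,nat_lit 3,nat_lit 0,nat_lit 2,nat_lit 1,nat_lit 1,nat_lit 1,nat_lit 2,nat_lit 1,nat_lit 1,nat_lit 1,nat_lit 2,nat_lit 4,nat_lit 3,nat_lit 4])
 (.leaf [nat_lit 12,nat_lit 6,nat_lit 0,nat_lit 0,nat_lit 3,nat_lit 0,nat_lit 2,nat_lit 1,nat_lit 3,nat_lit 0,nat_lit 2,nat_lit 3,nat_lit 0,nat_lit 0,nat_lit 3,nat_lit 1,nat_lit 1,nat_lit 3])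
)) (.node (.node (.leaf [nat_lit 8,nat_lit 8,nat_lit 1,nat_lit 2,nat_lit 1,nat_lit 2,nat_lit 0,nat_lit 3,nat_lit 1,nat_lit 2,nat_lit 0,nat_lit 2,nat_lit 3])
 (.leaf [nat_lit 14,nat_lit 8,nat_lit 1,nat_lit 4,nat_lit 1,nat_lit 2,nat_lit 0,nat_lit 2,nat_lit 4,nat_lit 2,nat_lit 1,nat_lit 1,nat_lit 2,nat_lit 0,nat_lit 3,nat_lit 2,nat_lit 3,nat_lit 0,nat_lit 4,nat_lit 2])
) (.leaf [nat_lit 5,nat_lit 4,nat_lit 0,nat_lit 1,nat_lit 2,nat_lit 0,nat_lit 2,nat_lit 0,nat_lit 0,nat_lit 2,nat_lit 0,nat_lit 0,nat_lit 2,nat_lit 0,nat_lit 2,nat_lit 0,nat_lit 0,nat_lit 2,nat_lit 0,nat_lit 0,nat_lit 2,nat_lit 0,nat_lit 2,nat_lit 0,nat_lit 0,nat_lit 2,nat_lit 0])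
)))) (.node (.node (.node (.node (.node (.leaf [nat_lit 18,nat_lit 19,nat_lit 0,nat_lit 2,nat_lit 4,nat_lit 0,nat_lit 2,nat_lit 0,nat_lit 0,nat_lit 0,nat_lit 2,nat_lit 0,nat_lit 2,nat_lit 0,nat_lit 0,nat_lit 2,nat_lit 0,nat_lit 3,nat_lit 2,nat_lit 3,nat_lit 0,nat_lit 4,nat_lit 1,nat_lit 2,nat_lit 1,nat_lit 4])
 (.leaf [nat_lit 10,nat_lit 5,nat_lit 1,nat_lit 1,nat_lit 2,nat_lit 1,nat_lit 3,nat_lit 0,nat_lit 2,nat_lit 1,nat_lit 1,nat_lit 1,nat_lit 3,nat_lit 2,nat_lit 3,nat_lit 0,nat_lit 0])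
) (.node (.leaf [nat_lit 15,nat_lit 14,nat_lit 0,nat_lit 4,nat_lit 3,nat_lit 4,nat_lit 2,nat_lit 0,nat_lit 0,nat_lit 0,nat_lit 2,nat_lit 0,nat_lit 0,nat_lit 0,nat_lit 2,nat_lit 1,nat_lit 3,nat_lit 0,nat_lit 2,nat_lit 0,nat_lit 2])
 (.leaf [nat_lit 12,nat_lit 13,nat_lit 1,nat_lit 0,nat_lit 1,nat_lit 3,nat_lit 2,nat_lit 1,nat_lit 3,nat_lit 0,nat_lit 2,nat_lit 1,nat_lit 3,nat_lit 0,nat_lit 3,nat_lit 0,nat_lit 0,nat_lit 3])
)) (.node (.node (.leaf [nat_lit 12,nat_lit 9,nat_lit 1,nat_lit 3,nat_lit 0,nat_lit 0,nat_lit 3,nat_lit 1,nat_lit 1,nat_lit 3,nat_lit 2,nat_lit 1,nat_lit 3,nat_lit 0,nat_lit 2,nat_lit 1,nat_lit 3,nat_lit 0])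
 (.leaf [nat_lit 14,nat_lit 1,nat_lit 1,nat_lit 1,nat_lit 3,nat_lit 2,nat_lit 3,nat_lit 0,nat_lit 4,nat_lit 2,nat_lit 4,nat_lit 1,nat_lit 2,nat_lit 0,nat_lit 2,nat_lit 4,nat_lit 2,nat_lit 1,nat_lit 1,nat_lit 2])
) (.node (.leaf [nat_lit 8,nat_lit 4,nat_lit 1,nat_lit 2,nat_lit 0,nat_lit 2,nat_lit 3,nat_lit 2,nat_lit 1,nat_lit 2,nat_lit 0,nat_lit 3,nat_lit 1])
 (.leaf [nat_lit 8,nat_lit 3,nat_lit 1,nat_lit 0,nat_lit 2,nat_lit 0,nat_lit 2,nat_lit 3,nat_lit 2,nat_lit 1,nat_lit 2,nat_lit 0,nat_lit 3])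
))) (.node (.node (.node (.leaf [nat_lit 8,nat_lit 2,nat_lit 1,nat_lit 3,nat_lit 1,nat_lit 2,nat_lit 0,nat_lit 2,nat_lit 3,nat_lit 2,nat_lit 1,nat_lit 2,nat_lit 0])
 (.leaf [nat_lit 16,nat_lit 13,nat_lit 0,nat_lit 0,nat_lit 4,nat_lit 1,nat_lit 4,nat_lit 0,nat_lit 4,nat_lit 3,nat_lit 0,nat_lit 0,nat_lit 0,nat_lit 3,nat_lit 1,nat_lit 3,nat_lit 2,nat_lit 1,nat_lit 1,nat_lit 2,nat_lit 0,nat_lit 4,nat_lit 1])
) (.node (.leaf [nat_lit 14,nat_lit 7,nat_lit 1,nat_lit 2,nat_lit 4,nat_lit 1,nat_lit 2,nat_lit 0,nat_lit 2,nat_lit 4,nat_lit 2,nat_lit 1,nat_lit 1,nat_lit 2,nat_lit 0,nat_lit 3,nat_lit 2,nat_lit 3,nat_lit 0,nat_lit 4])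
 (.leaf [nat_lit 8,nat_lit 9,nat_lit 1,nat_lit 0,nat_lit 2,nat_lit 0,nat_lit 3,nat_lit 1,nat_lit 2,nat_lit 0,nat_lit 2,nat_lit 3,nat_lit 2])
)) (.node (.node (.leaf [nat_lit 17,nat_lit 16,nat_lit 0,nat_lit 0,nat_lit 3,nat_lit 0,nat_lit 0,nat_lit 4,nat_lit 0,nat_lit 0,nat_lit 2,nat_lit 0,nat_lit 2,nat_lit 0,nat_lit 3,nat_lit 0,nat_lit 2,nat_lit 1,nat_lit 2,nat_lit 3,nat_lit 4,nat_lit 0,nat_lit 2,nat_lit 1])
 (.leaf [nat_lit 9,nat_lit 9,nat_lit 1,nat_lit 1,nat_lit 2,nat_lit 1,nat_lit 3,nat_lit 2,nat_lit 3,nat_lit 0,nat_lit 2,nat_lit 1,nat_lit 3,nat_lit 2,nat_lit 3])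
) (.leaf [nat_lit 4,nat_lit 9,nat_lit 0,nat_lit 0,nat_lit 2,nat_lit 1,nat_lit 2,nat_lit 0,nat_lit 0,nat_lit 2,nat_lit 1,nat_lit 1,nat_lit 2,nat_lit 0,nat_lit 0,nat_lit 2])
))) (.node (.node (.node (.node (.leaf [nat_lit 16,nat_lit 8,nat_lit 1,nat_lit 4,nat_lit 1,nat_lit 2,nat_lit 0,nat_lit 0,nat_lit 2,nat_lit 3,nat_lit 0,nat_lit 3,nat_lit 1,nat_lit 1,nat_lit 1,nat_lit 3,nat_lit 4,nat_lit 1,nat_lit 4,nat_lit 0,nat_lit 4,nat_lit 0,nat_lit 0])
 (.leaf [nat_lit 16,nat_lit 16,nat_lit 0,nat_lit 4,nat_lit 0,nat_lit 4,nat_lit 3,nat_lit 0,nat_lit 0,nat_lit 0,nat_lit 3,nat_lit 1,nat_lit 3,nat_lit 2,nat_lit 1,nat_lit 1,nat_lit 2,nat_lit 0,nat_lit 4,nat_lit 1,nat_lit 1,nat_lit 4,nat_lit 1])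
) (.node (.leaf [nat_lit 14,nat_lit 9,nat_lit 1,nat_lit 0,nat_lit 2,nat_lit 0,nat_lit 2,nat_lit 4,nat_lit 2,nat_lit 1,nat_lit 1,nat_lit 2,nat_lit 0,nat_lit 3,nat_lit 2,nat_lit 3,nat_lit 0,nat_lit 4,nat_lit 2,nat_lit 4])
 (.leaf [nat_lit 4,nat_lit 12,nat_lit 0,nat_lit 2,nat_lit 0,nat_lit 0,nat_lit 2,nat_lit 1,nat_lit 1,nat_lit 2,nat_lit 0,nat_lit 0,nat_lit 2,nat_lit 1,nat_lit 2,nat_lit 1])
)) (.node (.node (.leaf [nat_lit 16,nat_lit 12,nat_lit 0,nat_lit 0,nat_lit 1,nat_lit 4,nat_lit 1,nat_lit 4,nat_lit 0,nat_lit 4,nat_lit 3,nat_lit 0,nat_lit 0,nat_lit 0,nat_lit 3,nat_lit 1,nat_lit 3,nat_lit 2,nat_lit 1,nat_lit 1,nat_lit 2,nat_lit 0,nat_lit 4])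
 (.leaf [nat_lit 17,nat_lit 10,nat_lit 1,nat_lit 2,nat_lit 0,nat_lit 2,nat_lit 1,nat_lit 3,nat_lit 1,nat_lit 2,nat_lit 1,nat_lit 2,nat_lit 1,nat_lit 1,nat_lit 4,nat_lit 1,nat_lit 1,nat_lit 3,nat_lit 0,nat_lit 0,nat_lit 2,nat_lit 1,nat_lit 4,nat_lit 3])
) (.leaf [nat_lit 16,nat_lit 15,nat_lit 1,nat_lit 1,nat_lit 3,nat_lit 1,nat_lit 1,nat_lit 1,nat_lit 3,nat_lit 4,nat_lit 1,nat_lit 4,nat_lit 0,nat_lit 4,nat_lit 0,nat_lit 0,nat_lit 4,nat_lit 1,nat_lit 2,nat_lit 0,nat_lit 0,nat_lit 2,nat_lit 3])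
)) (.node (.node (.node (.leaf [nat_lit 10,nat_lit 4,nat_lit 1,nat_lit 1,nat_lit 0,nat_lit 2,nat_lit 1,nat_lit 3,nat_lit 0,nat_lit 2,nat_lit 1,nat_lit 1,nat_lit 1,nat_lit 3,nat_lit 2,nat_lit 3,nat_lit 0])
 (.leaf [nat_lit 15,nat_lit 2,nat_lit 0,nat_lit 1,nat_lit 2,nat_lit 0,nat_lit 0,nat_lit 0,nat_lit 2,nat_lit 1,nat_lit 3,nat_lit 0,nat_lit 2,nat_lit 0,nat_lit 2,nat_lit 4,nat_lit 3,nat_lit 4,nat_lit 2,nat_lit 0,nat_lit 0])
) (.node (.leaf [nat_lit 15,nat_lit 8,nat_lit 1,nat_lit 3,nat_lit 0,nat_lit 2,nat_lit 1,nat_lit 1,nat_lit 1,nat_lit 2,nat_lit 1,nat_lit 1,nat_lit 1,nat_lit 2,nat_lit 4,nat_lit 3,nat_lit 4,nat_lit 2,nat_lit 1,nat_lit 2,nat_lit 1])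
 (.leaf [nat_lit 11,nat_lit 5,nat_lit 1,nat_lit 3,nat_lit 2,nat_lit 0,nat_lit 0,nat_lit 0,nat_lit 2,nat_lit 1,nat_lit 1,nat_lit 1,nat_lit 2,nat_lit 3,nat_lit 1,nat_lit 3,nat_lit 0])
)) (.node (.node (.leaf [nat_lit 8,nat_lit 5,nat_lit 1,nat_lit 1,nat_lit 2,nat_lit 3,nat_lit 2,nat_lit 1,nat_lit 2,nat_lit 0,nat_lit 3,nat_lit 1,nat_lit 2])
 (.leaf [nat_lit 18,nat_lit 3,nat_lit 0,nat_lit 2,nat_lit 0,nat_lit 2,nat_lit 0,nat_lit 0,nat_lit 2,nat_lit 0,nat_lit 3,nat_lit 2,nat_lit 3,nat_lit 0,nat_lit 4,nat_lit 1,nat_lit 2,nat_lit 1,nat_lit 4,nat_lit 2,nat_lit 4,nat_lit 0,nat_lit 2,nat_lit 0,nat_lit 0,nat_lit 0])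
) (.leaf [nat_lit 15,nat_lit 15,nat_lit 1,nat_lit 0,nat_lit 1,nat_lit 1,nat_lit 2,nat_lit 4,nat_lit 3,nat_lit 4,nat_lit 2,nat_lit 1,nat_lit 2,nat_lit 1,nat_lit 3,nat_lit 0,nat_lit 2,nat_lit 1,nat_lit 1,nat_lit 1,nat_lit 2])
))))))

noncomputable def o8p_U_subs : LT :=
(.leaf [nat_lit 0,nat_lit 0,nat_lit 0,nat_lit 5])


noncomputable def o8p_U : TC :=
  ⟨fun x c => Nat.shiftRight (BT.get o8p_U_t x) (Nat.mul (nat_lit 28) c),
  (nat_lit 7), (nat_lit 127), (nat_lit 262143), (nat_lit 18), (nat_lit 1023), (nat_lit 262016), (nat_lit 120), (nat_lit 120), (nat_lit 5), (nat_lit 4), (nat_lit 5), (nat_lit 6), o8p_inv, o8p_U_rules, o8p_U_subs⟩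

noncomputable def o8p_A8 : LA :=
  ⟨(nat_lit 8), (nat_lit 0x7ff8fff1ffe3ffc7ff8fff), (nat_lit 4095), (nat_lit 10), (nat_lit 1), BT.get (.node (.node (.node (.leaf (nat_lit 0))
 (.leaf (nat_lit 0x28000))
) (.leaf (nat_lit 0))
) (.node (.leaf (nat_lit 0))
 (.leaf (nat_lit 0))
)), BT.get (.leaf (nat_lit 0x10001))
, BT.get (.leaf (nat_lit 2))
,
(.node (.node (.node (.leaf [nat_lit 458762])
 (.leaf [nat_lit 393217,nat_lit 65540,nat_lit 196615,nat_lit 458760,nat_lit 131082])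
) (.leaf [nat_lit 131072,nat_lit 327681,nat_lit 65540,nat_lit 131079,nat_lit 131080,nat_lit 131082])
) (.node (.node (.leaf [])
 (.leaf [nat_lit 131072,nat_lit 262145,nat_lit 327684,nat_lit 131079,nat_lit 131080,nat_lit 458762])
) (.leaf [nat_lit 262144,nat_lit 393217,nat_lit 458756,nat_lit 458759,nat_lit 196616,nat_lit 327689,nat_lit 65546])
)),
(.leaf [nat_lit 458752,nat_lit 65537,nat_lit 131076,nat_lit 458760,nat_lit 131081])
⟩

noncomputable def o8p_A3 : LA :=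
  ⟨(nat_lit 3), (nat_lit 0xfff9fff3ffe7ffcfff9fff), (nat_lit 8191), (nat_lit 10), (nat_lit 0), BT.get (.node (.node (.node (.leaf (nat_lit 0))
 (.leaf (nat_lit 0x1))
) (.leaf (nat_lit 0))
) (.node (.leaf (nat_lit 0))
 (.leaf (nat_lit 0))
)), BT.get (.leaf (nat_lit 0)), BT.get (.leaf (nat_lit 0)),
(.node (.node (.node (.leaf [])
 (.leaf [nat_lit 131072,nat_lit 131074,nat_lit 131075])
) (.leaf [nat_lit 131072])
) (.node (.node (.leaf [nat_lit 65539,nat_lit 65540])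
 (.leaf [nat_lit 65536,nat_lit 131074,nat_lit 65539,nat_lit 65540])
) (.leaf [nat_lit 65538,nat_lit 131075,nat_lit 131078])
)),
(.leaf [])⟩

noncomputable def o8p_A5 : LA :=
  ⟨(nat_lit 5), (nat_lit 0x7ff8fff1ffe3ffc7ff8fff), (nat_lit 4095), (nat_lit 10), (nat_lit 0), BT.get (.node (.node (.node (.leaf (nat_lit 0))
 (.leaf (nat_lit 0x2))
) (.leaf (nat_lit 0))
) (.node (.leaf (nat_lit 0))
 (.leaf (nat_lit 0))
)), BT.get (.leaf (nat_lit 0)), BT.get (.leaf (nat_lit 0)),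
(.node (.node (.node (.leaf [])
 (.leaf [nat_lit 196608,nat_lit 262145,nat_lit 65539])
) (.leaf [nat_lit 196608])
) (.node (.node (.leaf [nat_lit 262147,nat_lit 131076])
 (.leaf [nat_lit 65536,nat_lit 131073,nat_lit 262147,nat_lit 131076])
) (.leaf [nat_lit 262145,nat_lit 131075,nat_lit 65542])
)),
(.leaf [])⟩

noncomputable def o8a_W_t0 : BT :=
(.node (.node (.node (.leaf (nat_lit 0x6b73f0625cefe6f76aed72ee76e8c86c4a4c743ae538cdb6f13547753230d76458dabf5dded44f2646b3c9d3243d27214b5b60bce952e11a2867183b162e63a9a3145f201350971259af222dd556390dc0514ec21e0b1b8c4544114308413e072a379f063431052c0a2b04258f901d1c1915020e09010300))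
 (.leaf (nat_lit 0x74f170f7506976f56eef4844e552f23fc03d6b4e394a3635d651344cbed347d52c5f58285aeadef3c5e431dcc3e226edd91f4fec4bbb3067e85be6164237e314bae1e0dda312cdc1110f0ed79c2718d4aac99e0b331d0a09c625a22b0d0795a906bc19b805b2af04aead9b03a4a1a0029a9793908c880081))
) (.leaf (nat_lit 0x6ee87558ec61504e6f77ebf3ed4140f6e74b3ce2c4e47260c654353332b1d974bdb7d55e27435171b4704d2466ca214820dfc5e3521b6a6919bad76598be1528d6365dcf5c5bdaad2faeb00e97aa0d38530c254c0b1249471d091f08421a3fbbab9639941322910f102c292623031e1c870285010a060400))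
) (.node (.leaf (nat_lit 0xf06b5c65766ddff5f2ecee68776fc3ea3ef1e3583974c14535d3547346d62f57d92aabd2cc4226325125e1664767cde95d4f1f1e1ca41aa7d5194ac43c64296216e05e13ce5b125aae3a2c100e17b83f49500c4bb72d4834952309082140073db13b063633301d8a8b0428a0220f031b1814110d01050200))
 (.leaf (nat_lit 0x775e5df4f050e9f34c4bea4e41edf16860663de4e362c7675f7675c35b3bd62d3cd92954b326b472256c246f6e224849e132c528dc426b20bf9e65575a151db814b613d1d3462bb0aeaf5817310d55440c524f4da34a9a4009be391b1ca1198e2c063a373505119004982a27038a1f080216120f0b078100))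
))

noncomputable def o8a_W : ℕ → ℕ → ℕ := fun x i => Nat.land (Nat.shiftRight (BT.get o8a_W_t0 x) (Nat.mul (nat_lit 8) i)) (nat_lit 255)

noncomputable def o8b_W_t0 : BT :=
(.node (.node (.node (.leaf (nat_lit 0x6b73f0625cefe6f76aed72ee76e8c86c4a4c743ae538cdb6f13547753230d76458dabf5dded44f2646b3c9d3243d27214b5b60bce952e11a2867183b162e63a9a3145f201350971259af222dd556390dc0514ec21e0b1b8c4544114308413e072a379f063431052c0a2b04258f901d1c1915020e09010300))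
 (.leaf (nat_lit 0xb955d8742a237170d36b6dda6ed903683366c7a73f1add8f18cee15c5beceaf55756760eefc4a030cfde4d84949e9038e54601d24342893463222d13299bf7481f8c3540671796502fa43d2c86733b28e42625ae723e00d137ca881cba62195f32b115cb3c1211c9e0540db60b8ac19d07ab05cc69024521))
) (.leaf (nat_lit 0x6ee87558ec61504e6f77ebf3ed4140f6e74b3ce2c4e47260c654353332b1d974bdb7d55e27435171b4704d2466ca214820dfc5e3521b6a6919bad76598be1528d6365dcf5c5bdaad2faeb00e97aa0d38530c254c0b1249471d091f08421a3fbbab9639941322910f102c292623031e1c870285010a060400))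
) (.node (.leaf (nat_lit 0xf06b5c65766ddff5f2ecee68776fc3ea3ef1e3583974c14535d3547346d62f57d92aabd2cc4226325125e1664767cde95d4f1f1e1ca41aa7d5194ac43c64296216e05e13ce5b125aae3a2c100e17b83f49500c4bb72d4834952309082140073db13b063633301d8a8b0428a0220f031b1814110d01050200))
 (.leaf (nat_lit 0xf42e3af78451378fd5d83cc66b5714c5283065df000113c4e42f95dc3fda1fee6a09ef36d3ac72341e324d292d9d49c835ece8e04323c1055b25bd6d3b75221171544750334e27665e764bd28c2a4c6731173ea442390292594fca9c1b0790982696dd6961a03899f00e8dab0b88568a1a0640f383216263))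
))

noncomputable def o8b_W : ℕ → ℕ → ℕ := fun x i => Nat.land (Nat.shiftRight (BT.get o8b_W_t0 x) (Nat.mul (nat_lit 8) i)) (nat_lit 255)

theorem o8p_b : o8p_C.base = true := by decide +kernel

theorem o8p_s0 : o8p_C.slots (nat_lit 0) (nat_lit 60) = true := by decide +kernel

theorem o8p_U_c1 : o8p_U.rules.all (ruleOK o8p_U.m o8p_U.inv o8p_rels) = true := by decide +kernel
theorem o8p_U_c2 : o8p_U.subs.all (subOK o8p_U.m o8p_U.inv (LT.leaf [])) = true := by decide +kernel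
theorem o8p_U_c3 : o8p_U.base = true := by decide +kernel

theorem o8p_U_s0 : o8p_U.slots (nat_lit 0) (nat_lit 120) = true := by decide +kernel

theorem o8p_U_c6 : o8p_U.rules.all (fun l => goodB (nat_lit 13) (nat_lit 6) o8p_U.mH o8p_rels (hdL l)) = true := by decide +kernel

theorem o8p_A8_ok : o8p_A8.ok o8p_C = true := by decide +kernel

theorem o8p_A3_ok : o8p_A3.ok o8p_C = true := by decide +kernel

theorem o8p_A5_ok : o8p_A5.ok o8p_C = true := by decide +kernel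

theorem o8a_f0 : monoB o8a_W (nat_lit 127) (nat_lit 256) (nat_lit 120) (nat_lit 5) o8p_rels (nat_lit 0) (nat_lit 120) = true := by decide +kernel

theorem o8b_f0 : monoB o8b_W (nat_lit 127) (nat_lit 256) (nat_lit 120) (nat_lit 5) o8p_rels (nat_lit 0) (nat_lit 120) = true := by decide +kernel

theorem o8p_up : o8p_C.Upto o8p_C.T.N := ((LC.upto_zero o8p_C).step _ o8p_s0)

theorem o8p_U_c4 : o8p_U.Upto o8p_U.N := ((TC.upto_zero o8p_U).step _ o8p_U_s0)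
theorem o8p_U_c5 : o8p_U.UptoE o8p_U.N := (TC.uptoE_n o8p_U)

theorem o8p_idx : Idx.{u} o8p_rels (nat_lit 13) (nat_lit 6) o8p_inv (nat_lit 4) (nat_lit 5) (nat_lit 120) :=
  idx_of_tc o8p_U_c1 o8p_U_c2 o8p_U_c3 o8p_U_c4 o8p_U_c5 o8p_U_c6

theorem o8p_low {G : Type u} [Group G] {g : ℕ → G} (h : ∀ i, evalW g (o8p_rels.get i) = 1) : ∀ i, evalW g (s6_rels.get i) = 1 :=
  rels_of_sub (by decide +kernel) h

theorem o8p_bnd {G : Type u} [Group G] {g : ℕ → G} (h : ∀ i, evalW g (o8p_rels.get i) = 1) : Bnd g 5 174182400 :=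
  Bnd.step (C := o8p_C) h (s6_bnd (o8p_low h)) o8p_b o8p_idx

theorem o8p_l8 {G : Type u} [Group G] {g : ℕ → G} (h : ∀ i, evalW g (o8p_rels.get i) = 1) : Lifts 8 g 5 696729600 :=
  Lifts.step (C := o8p_C) (L := o8p_A8) h (s6_l8 (o8p_low h)) o8p_b o8p_up o8p_A8_ok o8p_idx (by decide +kernel)

theorem o8p_l3 {G : Type u} [Group G] {g : ℕ → G} (h : ∀ i, evalW g (o8p_rels.get i) = 1) : Lifts 3 g 5 174182400 :=
  Lifts.step (C := o8p_C) (L := o8p_A3) h ((s6_l27 (o8p_low h)).of_dvd (by decide)) o8p_b o8p_up o8p_A3_ok o8p_idx (by decide +kernel)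

theorem o8p_l5 {G : Type u} [Group G] {g : ℕ → G} (h : ∀ i, evalW g (o8p_rels.get i) = 1) : Lifts 5 g 5 174182400 :=
  Lifts.step (C := o8p_C) (L := o8p_A5) h (s6_l5 (o8p_low h)) o8p_b o8p_up o8p_A5_ok o8p_idx (by decide +kernel)

theorem o8a_cov : Cov o8p_rels (Multiplicative (ZMod 2)) fun v u t =>
    band (lettersLt 5 v) (lettersLt 5 u) = true ∧ monoWit o8a_W 127 256 v u (Multiplicative.toAdd t).val = true :=
  cov_of_mono (w := 7) (D := 120) (by decide +kernel) ((monoUpto_zero o8a_W (nat_lit 127) (nat_lit 256) (nat_lit 120) (nat_lit 5) o8p_rels).step _ o8a_f0)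

theorem o8b_cov : Cov o8p_rels (Multiplicative (ZMod 2)) fun v u t =>
    band (lettersLt 5 v) (lettersLt 5 u) = true ∧ monoWit o8b_W 127 256 v u (Multiplicative.toAdd t).val = true :=
  cov_of_mono (w := 7) (D := 120) (by decide +kernel) ((monoUpto_zero o8b_W (nat_lit 127) (nat_lit 256) (nat_lit 120) (nat_lit 5) o8p_rels).step _ o8b_f0)

theorem o8p_chi {G : Type u} [Group G] {K : Subgroup G} {g : ℕ → G} (hg : Gen K g o8p_rels 5 174182400)
    (h0 : Commute (evalW g [0, 0, 0, 2, 1, 1, 1]) (evalW g [0, 0, 2, 0, 2, 0, 0, 0, 2, 1, 1, 1, 2, 0, 3, 2, 3, 0, 3, 4, 0, 3]))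
    (h1 : Commute (evalW g [1, 1, 1, 2, 0, 2, 0, 0, 3]) (evalW g [0, 0, 2, 1, 1, 2, 1, 1, 2, 1, 2, 1, 2, 3, 0, 0, 3, 0, 2, 3])) :
    ∃ χ : Ch.Mult K →* Multiplicative (ZMod 2) × Multiplicative (ZMod 2), Function.Surjective χ := by
  obtain ⟨χ, hχ⟩ := hg.exists_char (o8p_bnd (wp_rels _)) (o8a_cov.prod o8b_cov)
  exact ⟨χ, surjective_of_two (hχ [0, 0, 0, 2, 1, 1, 1] [0, 0, 2, 0, 2, 0, 0, 0, 2, 1, 1, 1, 2, 0, 3, 2, 3, 0, 3, 4, 0, 3] (Multiplicative.ofAdd 1, Multiplicative.ofAdd 1)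
      ⟨⟨by decide +kernel, by decide +kernel⟩, by decide +kernel, by decide +kernel⟩ (by decide +kernel) h0)
    (hχ [1, 1, 1, 2, 0, 2, 0, 0, 3] [0, 0, 2, 1, 1, 2, 1, 1, 2, 1, 2, 1, 2, 3, 0, 0, 3, 0, 2, 3] (Multiplicative.ofAdd 0, Multiplicative.ofAdd 1)
      ⟨⟨by decide +kernel, by decide +kernel⟩, by decide +kernel, by decide +kernel⟩ (by decide +kernel) h1) (by decide +kernel)⟩


end Cfsg.Agent.Spor.MX
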