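import Mathlib
import Cfsg.Agent.Spor.Comp.Pres

/-! Generated by tools/pg: stabiliser chain o8k -/

set_option autoImplicit false
set_option maxRecDepth 100000
set_option linter.unusedVariables false
set_option exponentiation.threshold 100000

namespace Cfsg.Agent.Spor.MX

open Cfsg.Agent.Spor

noncomputable def o8k_S_t0 : BT :=
(.node (.node (.node (.node (.node (.leaf (nat_lit 0x57826867258cf0795b958c5aa746499a100a441a766c73a5c4cbb26c7c558da518e38cc3a4787775599ba24cf5e4f9640a4ab73ef970c4818a391e835c5d17b7cebbf0a354a1942166e6bde9913edeff5832418b6165e949e1106b893152230caa383b7681280097ed))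
 (.leaf (nat_lit 0xefcf874edcb8f5dfab6e8d7bb4ecb562edfb36ef5cc9872e0c59f1e6a55a854a75e8d59f2a6c8973a4cc7afdcbb7cf1d388d0e3c289062c05cad4ac54bd6a864dd8b46ccdab0448d2a44c9d0a03278d9c3a68f98163848c1e2868826588942e48a900e182840608080))
) (.leaf (nat_lit 0xefcfaf1edcba70dfab4ecd7bb6e87cf1db97afdc3a8b022418d0e3c2a55aad1a75ea509f2a4cc973a6c8b36efddb562e5ec59f1e6cb832611c2c688143c48c2658a902e488944e992a446890a03e60e9a3670c9e56b96a85ea94ac64ddab06ccd8b4040c2840c1c080))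
) (.node (.node (.leaf (nat_lit 0x9e69845ae894b8ad85dea32318866fd648b5fb6812a3989a46c07a432d8df2b1f62333b7319052e81ee8deb5364ecd0f5eef01a823a22eca09c6c8e54fea21d2f31558fc26dabe7c1c1a64566ecb49390977049c72a0ae0e41cdce89cc698d6e91944b9f62e1522100))
 (.leaf (nat_lit 0xe3c39f2ebd3bf6d3a35eadbb37eec3831e2cb933e6b76acd8bf7aedcab52bd6a3429d29b327ce93225ca8b123c683021c276e9cb87ef9ebc66c98b06ed9ab456a94a85eb96ac46890a04e992a43668c983e78e9c2e58a9426488901e3868c16284880e182840608080))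
) (.leaf (nat_lit 0x5fb372d61cb8b36dd5af6d6a34aa48972e4326ed58be72e9e45851e0ae56a97922a5881b387cca24a99076e5fbd870a0c08a1a2078e1230559bf6aee0c98f3eed3a3757a14ea4e9b367b36cd183f70edec4871a0a85ab1413285c89a3a78c23489d078f9c3a0608080))
)) (.node (.node (.node (.leaf (nat_lit 0x4580e5d5db5970789005821aa7347b9a159a5ae7f63b1035c5f50b6c5bba509438e38527a7a8e769cd41a3a1b8f7594d83595caef96c79883d7d1e1922aa970369f25ee354d3876dfe76a314113f143de90cf88b61cab148c110629ad95503101ca699d15923209c64))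
 (.leaf (nat_lit 0xe3dbaf2e7d3bf0d3bb5ecdbab7e8cf9b1e2cb930e0b77acdcbf6aed8913e54d97324cead42a52a7568d77ef5db974e1f3c8f063408b0e24250bd6aa58ad4ae6cc1ab364d18b73e74d183664f1c4e85320469512422589942a48b90123858c1a287880e182840608080))
) (.leaf (nat_lit 0xd3bb66bd5b77e8e3db975e9cfbf0cf9b163c9970e0b37addcbb6afd8a15a954a7568d79f226ca97324ce7afdcbb74e1f3c8d063c0890e2c260d9ab368c98b75ea16aa56b14ae3a7cd18326cf1c4c853a044951a4123858c1a2878822589942a48b900e182840608080))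
) (.node (.leaf (nat_lit 0x7f0f3591c4db2a8e8310517b17c80d78fc4acb77144f01c9a9ea1ad2e7bd631467afe1ee414ce36e32825747a0fb00523e65564aeda28bf0cf6dec2a1374f5c612321a8cf8963b143dc13c984a4d05d9823db58c975ca88bb8111ca6d06eac80ccba25a26374af2d00))
 (.leaf (nat_lit 0xd7b3769d1bf6eae5d78f6efc3a73c1872e4c78b367bf62edab772cdeaf46ad3a94ab50933a5cc9b2a7c876e5fbd78f9c3a8b0a2438f0234160d9ab368c98b75ea16aa56b14ae326cf1c3a7cd1844951a44c853a01a28788123858c2a48b9022589940e182840608080))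
))) (.node (.node (.node (.node (.leaf (nat_lit 0xefb9aac6cbba6c67cf4a9d6ad87069b7b2feab5bef65cb52a63c74289d5a6541c5c6152548850962e4891b547d79a5279690208d194289d3bd94f27b990e264386d9b4182c993b9aea43f9efa5b061162b4691e388e233c8aea3be010014203041c30efc2bb0cf4239))
 (.leaf (nat_lit 0xe3d7b72e1d3bf3d3b35eedba37eab562edfb36ef5cc9872e0c59f1e6ab46bd3a942b5293325ce9b227ca7ef5db978f9c3a8f0a3438b0224150b57aa58a55ae6ac1b3362d193746892254e990213670c9e3e60e9a1a2078a123058e2a40b9222509960e182840608080))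
) (.leaf (nat_lit 0x64a2949ab3daae56c28caad316b7040f163cb90284b382de1bf9eee62c37677e3a85902a3b7f5d3cc9884c9dcbb8300d183a90fa588f22be2427968ddd0794222b5f0dbd8b8c448e1437ef4f1c3280da18eea3386cb26d797418aa5ed2a4ea7214b30c1ee5eb560080))
) (.node (.leaf (nat_lit 0xdbdbaefe7a75f0e81fb84e20b90129786e4178895a2b9ae8e2782c88487675436868ca4d5669e474249872d5b3f86a944088dd6bc5eea3b47d1633866a55b076b9eac63099414f3ce57968a91a3f32b25a680cc82e32fe7b78488a1f73296c6404d8dc182ec07ab400))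
 (.leaf (nat_lit 0x6ab9636ddd3bec5add7b4dbdb7f53c713a6cb92f5c3e94ea4bf9eee6ab3ebcd1e50696ad32a4e2e30a8e7ef5db90a103868eea3388afa23c50c98aad1cb8ea56c14b3d7c34f34688d18c78ad583684ca0b786ce0934a5d01248590a32a9c82228988870a0c00608080))
)) (.node (.node (.node (.leaf (nat_lit 0xef971f1dd7ad68c1db370d7776d94499b32307172a42dd2b35a6d49f895a3547139e4c835e1d596ee4bf2254997103050e0c401140848016c3cfae7df7ede9c9cb174d57365868c102432757ab46d53b1586941ea502842733decd8b4e3d194ea43e0e0c281123458f))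
 (.leaf (nat_lit 0xd3ab46bddb77ece3cf970e9dbbf5b562dd9bf76f5cc787160cb9f266ab5abd4a7428d29f326ce97224ca8f1a2c483021c27ee9eb876f9cbc50ad4aa58bd6ae64c18b36cd1ab73664d183e74f1c46851204e953242a58b9422489901a3878c12285880e182840608080))
) (.leaf (nat_lit 0xe3ab47250c98aad3cf5f056c14b3b5631e24688d18b786ce03684ca0ab3ebcd1a58794ad32a4e2a38b8c7ef5db90e182848eea3388afa23cddd3bec58d9aaedbdb7f55ed16b7cb92f5c4e98f1cbf9eee63e94ea497424d21248590a7228ca222898883021c20608080))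
) (.node (.leaf (nat_lit 0xa8aa63294d69ac9acd5d55b4a5b4b5631e2c996e5eb612c85ba0ef8229af98d17d7692e430aea27b3a0a3665cbb48961c246e113a886a298d05f88e11dc8ee1fc3496de404f68d1de3e4c9ce1e7a85fa03b04fc0535e7b092dd7d0633ab28a2b9b480c1f0e0cd9c080))
 (.leaf (nat_lit 0xefcf874edcb8f5dfab6e8d7bb4ecbd72cdbbb7ed58c59f1e6c9872e0af4ead1ad4aa50973a4cc9f2a6c876e5fbd70e9e3e8b022418f0a34358a55ae50b57aa62d19376ac1b334e9902146892253e60e9a3670c9e1a2078a123058e2a40b9222509960e182840608080))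
))))

noncomputable def o8k_S_t : BT :=
o8k_S_t0

noncomputable def o8k_S : ℕ → ℕ → ℕ := fun x i => Nat.land (Nat.shiftRight (BT.get o8k_S_t x) (Nat.mul (nat_lit 7) i)) (nat_lit 127)

noncomputable def o8k_defs : LT :=
(.node (.node (.node (.node (.node (.leaf [nat_lit 0])
 (.leaf [nat_lit 0,nat_lit 13,nat_lit 13,nat_lit 10,nat_lit 11,nat_lit 11])
) (.leaf [nat_lit 0,nat_lit 6,nat_lit 6,nat_lit 6,nat_lit 5,nat_lit 4,nat_lit 4,nat_lit 5,nat_lit 6,nat_lit 6,nat_lit 5,nat_lit 4,nat_lit 4,nat_lit 4])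
) (.node (.node (.leaf [nat_lit 0,nat_lit 1,nat_lit 2,nat_lit 1,nat_lit 2,nat_lit 1,nat_lit 1,nat_lit 0])
 (.leaf [nat_lit 0,nat_lit 15,nat_lit 17])
) (.leaf [nat_lit 0,nat_lit 7,nat_lit 8,nat_lit 9,nat_lit 8,nat_lit 7,nat_lit 8,nat_lit 9])
)) (.node (.node (.node (.leaf [nat_lit 1,nat_lit 0])
 (.leaf [nat_lit 0,nat_lit 13,nat_lit 10,nat_lit 13,nat_lit 10,nat_lit 13])
) (.leaf [nat_lit 0,nat_lit 9,nat_lit 8,nat_lit 9,nat_lit 9,nat_lit 8,nat_lit 9,nat_lit 9,nat_lit 8,nat_lit 9,nat_lit 9,nat_lit 8,nat_lit 7,nat_lit 7])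
) (.node (.leaf [nat_lit 1,nat_lit 4])
 (.leaf [nat_lit 0,nat_lit 11,nat_lit 12,nat_lit 13])
))) (.node (.node (.node (.node (.leaf [nat_lit 0])
 (.leaf [nat_lit 0,nat_lit 12,nat_lit 13,nat_lit 12,nat_lit 11,nat_lit 11])
) (.leaf [nat_lit 1,nat_lit 7])
) (.node (.leaf [nat_lit 0,nat_lit 0,nat_lit 3,nat_lit 3,nat_lit 0,nat_lit 0,nat_lit 0,nat_lit 1,nat_lit 1,nat_lit 2])
 (.leaf [nat_lit 1,nat_lit 11])
)) (.node (.node (.node (.leaf [nat_lit 1,nat_lit 1])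
 (.leaf [nat_lit 0,nat_lit 16,nat_lit 10])
) (.leaf [nat_lit 0,nat_lit 9,nat_lit 8,nat_lit 7,nat_lit 7,nat_lit 8,nat_lit 7,nat_lit 7])
) (.node (.leaf [nat_lit 0,nat_lit 4,nat_lit 5,nat_lit 4,nat_lit 4,nat_lit 4,nat_lit 4,nat_lit 5,nat_lit 4,nat_lit 4,nat_lit 5,nat_lit 6,nat_lit 5])
 (.leaf [nat_lit 0,nat_lit 13,nat_lit 12,nat_lit 11])
))))
noncomputable def o8k_iota : ℕ → ℕ := getP (nat_lit 8) (nat_lit 255) (nat_lit 0x301020005080c0f0e0a131214)
noncomputable def o8k_inv : ℕ → ℕ := getP (nat_lit 8) (nat_lit 255) (nat_lit 0xb0c090a080706050403020100)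
noncomputable def o8k_hws : LT := .leaf []

noncomputable def o8k_T_t0 : BT :=
(.node (.node (.node (.node (.leaf (nat_lit 0xe3c39f2ebd3bf6d3a35eadbb37eec3831e2cb933e6b76acd8bf7aedcab52bd6a3429d29b327ce93225ca8b123c683021c276e9cb87ef9ebc66c98b06ed9ab456a94a85eb96ac46890a04e992a43668c983e78e9c2e58a9426488901e3868c16284880e182840608080))
 (.leaf (nat_lit 0xdbdbaefe7a75f0e81fb84e20b90129786e4178895a2b9ae8e2782c88487675436868ca4d5669e474249872d5b3f86a944088dd6bc5eea3b47d1633866a55b076b9eac63099414f3ce57968a91a3f32b25a680cc82e32fe7b78488a1f73296c6404d8dc182ec07ab400))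
) (.node (.leaf (nat_lit 0xd7b3769d1bf6eae5d78f6efc3a73c1872e4c78b367bf62edab772cdeaf46ad3a94ab50933a5cc9b2a7c876e5fbd78f9c3a8b0a2438f0234160d9ab368c98b75ea16aa56b14ae326cf1c3a7cd1844951a44c853a01a28788123858c2a48b9022589940e182840608080))
 (.leaf (nat_lit 0xef971f1dd7ad68c1db370d7776d94499b32307172a42dd2b35a6d49f895a3547139e4c835e1d596ee4bf2254997103050e0c401140848016c3cfae7df7ede9c9cb174d57365868c102432757ab46d53b1586941ea502842733decd8b4e3d194ea43e0e0c281123458f))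
)) (.node (.node (.leaf (nat_lit 0xd3ab46bddb77ece3cf970e9dbbf5b562dd9bf76f5cc787160cb9f266ab5abd4a7428d29f326ce97224ca8f1a2c483021c27ee9eb876f9cbc50ad4aa58bd6ae64c18b36cd1ab73664d183e74f1c46851204e953242a58b9422489901a3878c12285880e182840608080))
 (.leaf (nat_lit 0x4580e5d5db5970789005821aa7347b9a159a5ae7f63b1035c5f50b6c5bba509438e38527a7a8e769cd41a3a1b8f7594d83595caef96c79883d7d1e1922aa970369f25ee354d3876dfe76a314113f143de90cf88b61cab148c110629ad95503101ca699d15923209c64))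
) (.leaf (nat_lit 0x5fb372d61cb8b36dd5af6d6a34aa48972e4326ed58be72e9e45851e0ae56a97922a5881b387cca24a99076e5fbd870a0c08a1a2078e1230559bf6aee0c98f3eed3a3757a14ea4e9b367b36cd183f70edec4871a0a85ab1413285c89a3a78c23489d078f9c3a0608080))
)) (.node (.node (.node (.leaf (nat_lit 0xe3dbaf2e7d3bf0d3bb5ecdbab7e8cf9b1e2cb930e0b77acdcbf6aed8913e54d97324cead42a52a7568d77ef5db974e1f3c8f063408b0e24250bd6aa58ad4ae6cc1ab364d18b73e74d183664f1c4e85320469512422589942a48b90123858c1a287880e182840608080))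
 (.leaf (nat_lit 0x57826867258cf0795b958c5aa746499a100a441a766c73a5c4cbb26c7c558da518e38cc3a4787775599ba24cf5e4f9640a4ab73ef970c4818a391e835c5d17b7cebbf0a354a1942166e6bde9913edeff5832418b6165e949e1106b893152230caa383b7681280097ed))
) (.leaf (nat_lit 0xefcf874edcb8f5dfab6e8d7bb4ecbd72cdbbb7ed58c59f1e6c9872e0af4ead1ad4aa50973a4cc9f2a6c876e5fbd70e9e3e8b022418f0a34358a55ae50b57aa62d19376ac1b334e9902146892253e60e9a3670c9e1a2078a123058e2a40b9222509960e182840608080))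
) (.node (.node (.leaf (nat_lit 0xd3bb66bd5b77e8e3db975e9cfbf0cf9b163c9970e0b37addcbb6afd8a15a954a7568d79f226ca97324ce7afdcbb74e1f3c8d063c0890e2c260d9ab368c98b75ea16aa56b14ae3a7cd18326cf1c4c853a044951a4123858c1a2878822589942a48b900e182840608080))
 (.leaf (nat_lit 0xefb9aac6cbba6c67cf4a9d6ad87069b7b2feab5bef65cb52a63c74289d5a6541c5c6152548850962e4891b547d79a5279690208d194289d3bd94f27b990e264386d9b4182c993b9aea43f9efa5b061162b4691e388e233c8aea3be010014203041c30efc2bb0cf4239))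
) (.leaf (nat_lit 0xefcfaf1edcba70dfab4ecd7bb6e87cf1db97afdc3a8b022418d0e3c2a55aad1a75ea509f2a4cc973a6c8b36efddb562e5ec59f1e6cb832611c2c688143c48c2658a902e488944e992a446890a03e60e9a3670c9e56b96a85ea94ac64ddab06ccd8b4040c2840c1c080))
)))

noncomputable def o8k_T_t : BT :=
o8k_T_t0

noncomputable def o8k_T : ℕ → ℕ → ℕ := fun x i => Nat.land (Nat.shiftRight (BT.get o8k_T_t x) (Nat.mul (nat_lit 7) i)) (nat_lit 127)

noncomputable def o8k_E_t0 : BT :=
(.node (.node (.node (.leaf (nat_lit 0x30840540b40230930230450540440220a50b30040330740c40a30b40320930330040440040540b40240530540b30240240c40640c40a50840a40a40b40a40a30650840450740540b30830430330140b50750750b40750c30040740850a20c50c40940130650550c30b40040c30c40c40150c40540a40250350440b40650440a40940c40a50240c50040b40650040a40b40b40a30450b30c50830340920b50530250440840930a50350650a50a50b40c40b409100))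
 (.leaf (nat_lit 0x205000204000405000203000305000304000305000100000000000000000000000000))
) (.node (.leaf (nat_lit 0x600407000000000000507500000507000507000507000502000000000000000000000000000000000000000000000000000000000000404501405401000505000306000504000400000000000000000000000000000000000000000000000000000000506706000000600605000606000606000601000700000000000000000000000000000000000000000000000000207606506606707100000000))
 (.leaf (nat_lit 0x200000000000100000000000000000000000000000000000000000000000000000000000000000000000000))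
)) (.node (.node (.leaf (nat_lit 0x403302000304000000303000300000305000405000208600607000000000000508607000602000608000605000507707000601000000606000606000607000603000506000606000000000000604408608500000504000506000506000508500000000401406000000406000400000403000306000506000000706706000000708805000706000706000801000708000507000607000407000507000504000507000507000507408606606408707508100000))
 (.leaf (nat_lit 0x201000302000202000100000000000000000000000000000))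
) (.leaf (nat_lit 0x301305401304000300000404000206000405000000000000000000000000000000000000000000000000000000000000000000000000000000000000000000000000000000000000000000000000000000000000000000000000506406506100000000000000))
))

noncomputable def o8k_E_t : BT :=
o8k_E_t0

noncomputable def o8k_E : ℕ → ℕ → ℕ := fun x i => Nat.land (Nat.shiftRight (BT.get o8k_E_t x) (Nat.mul (nat_lit 12) i)) (nat_lit 4095)

theorem o8k_slp0 : allLt (nat_lit 19) (fun i => force (Nat.add (nat_lit 2) i) (slpOK o8k_S o8k_defs (nat_lit 120))) = true := by decide +kernel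

theorem o8k_ren : allLt (nat_lit 13) (fun x => force (o8k_iota x) fun y => band (blt y (nat_lit 21)) (allRange (nat_lit 0) (nat_lit 120) fun i => Nat.beq (o8k_S y i) (o8k_T x i))) = true := by decide +kernel

theorem o8k_L6_o : band (allRange (nat_lit 0) (nat_lit 120) (orbOK o8k_T (nat_lit 1) (o8k_E (nat_lit 6)) (Nat.beq (nat_lit 24)))) (band (Nat.ble (nat_lit 2) (count2 (nat_lit 120) fun p => Nat.ble 256 (o8k_E (nat_lit 6) p))) (allLt (nat_lit 0) (fun x => Nat.beq (o8k_T x (nat_lit 24)) (nat_lit 24)))) = true := by decide +kernel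

theorem o8k_L5_o : band (allRange (nat_lit 0) (nat_lit 120) (orbOK o8k_T (nat_lit 3) (o8k_E (nat_lit 5)) (Nat.beq (nat_lit 9)))) (band (Nat.ble (nat_lit 4) (count2 (nat_lit 120) fun p => Nat.ble 256 (o8k_E (nat_lit 5) p))) (allLt (nat_lit 1) (fun x => Nat.beq (o8k_T x (nat_lit 9)) (nat_lit 9)))) = true := by decide +kernel

theorem o8k_L4_o : band (allRange (nat_lit 0) (nat_lit 120) (orbOK o8k_T (nat_lit 6) (o8k_E (nat_lit 4)) (Nat.beq (nat_lit 8)))) (band (Nat.ble (nat_lit 8) (count2 (nat_lit 120) fun p => Nat.ble 256 (o8k_E (nat_lit 4) p))) (allLt (nat_lit 3) (fun x => Nat.beq (o8k_T x (nat_lit 8)) (nat_lit 8)))) = true := by decide +kernel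

theorem o8k_L3_o : band (allRange (nat_lit 0) (nat_lit 120) (orbOK o8k_T (nat_lit 7) (o8k_E (nat_lit 3)) (Nat.beq (nat_lit 4)))) (band (Nat.ble (nat_lit 12) (count2 (nat_lit 120) fun p => Nat.ble 256 (o8k_E (nat_lit 3) p))) (allLt (nat_lit 6) (fun x => Nat.beq (o8k_T x (nat_lit 4)) (nat_lit 4)))) = true := by decide +kernel

theorem o8k_L2_o : band (allRange (nat_lit 0) (nat_lit 120) (orbOK o8k_T (nat_lit 8) (o8k_E (nat_lit 2)) (Nat.beq (nat_lit 2)))) (band (Nat.ble (nat_lit 30) (count2 (nat_lit 120) fun p => Nat.ble 256 (o8k_E (nat_lit 2) p))) (allLt (nat_lit 7) (fun x => Nat.beq (o8k_T x (nat_lit 2)) (nat_lit 2)))) = true := by decide +kernel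

theorem o8k_L1_o : band (allRange (nat_lit 0) (nat_lit 120) (orbOK o8k_T (nat_lit 9) (o8k_E (nat_lit 1)) (Nat.beq (nat_lit 1)))) (band (Nat.ble (nat_lit 63) (count2 (nat_lit 120) fun p => Nat.ble 256 (o8k_E (nat_lit 1) p))) (allLt (nat_lit 8) (fun x => Nat.beq (o8k_T x (nat_lit 1)) (nat_lit 1)))) = true := by decide +kernel

theorem o8k_L0_o : band (allRange (nat_lit 0) (nat_lit 120) (orbOK o8k_T (nat_lit 13) (o8k_E (nat_lit 0)) (Nat.beq (nat_lit 0)))) (band (Nat.ble (nat_lit 120) (count2 (nat_lit 120) fun p => Nat.ble 256 (o8k_E (nat_lit 0) p))) (allLt (nat_lit 9) (fun x => Nat.beq (o8k_T x (nat_lit 0)) (nat_lit 0)))) = true := by decide +kernel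

/-- The letters: a strong generating set, deepest stabiliser first. -/
noncomputable def o8k_g {G : Type*} [Group G] (a : ℕ → G) : ℕ → G := fun x => slp a 2 o8k_defs (o8k_iota x)

theorem o8k_tabs {G α : Type*} [Group G] [MulAction G α] {e : ℕ → α} {a : ℕ → G} (h0 : Tabs e 120 o8k_S a 2) : Tabs e 120 o8k_T (o8k_g a) 13 :=
  Tabs.rename (ι := o8k_iota) (g := slp a 2 o8k_defs) ((Tabs.slp_base o8k_defs h0).slp_add (by decide) _ o8k_slp0) o8k_ren

theorem o8k_gen {G : Type*} [Group G] (a : ℕ → G) : genLt (o8k_g a) 13 = genLt a 2 :=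
  genLt_slp_eq a o8k_defs (back := getP 8 255 (nat_lit 0xb09)) (by decide +kernel)

theorem o8k_low6 {G α : Type*} [Group G] [MulAction G α] {e : ℕ → α} {a : ℕ → G} (he : Set.InjOn e (Set.Iio 120)) (h0 : Tabs e 120 o8k_S a 2) :
    LowLevel (genLt (o8k_g a) 1) (genLt (o8k_g a) 0) (e 24) 2 :=
  Tabs.lowLevel (o8k_tabs h0) he (by decide) (by decide) (by decide) o8k_L6_o

theorem o8k_ge6 {G α : Type*} [Group G] [MulAction G α] {e : ℕ → α} {a : ℕ → G} (he : Set.InjOn e (Set.Iio 120)) (h0 : Tabs e 120 o8k_S a 2) :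
    Finite (genLt (o8k_g a) 1) → 2 ≤ Nat.card (genLt (o8k_g a) 1) := fun hK =>
  (o8k_low6 he h0).card hK (one_le_card_fin _)

theorem o8k_fix6 {G α : Type*} [Group G] [MulAction G α] {e : ℕ → α} {a : ℕ → G} (he : Set.InjOn e (Set.Iio 120)) (h0 : Tabs e 120 o8k_S a 2) :
    ∀ X : Subgroup G, Finite X → (genLt (o8k_g a) 1) ≤ X → 2 * Nat.card (fixB e X [24]) ≤ Nat.card X :=
  (o8k_low6 he h0).card_fix (card_fix_nil _ _)

theorem o8k_low5 {G α : Type*} [Group G] [MulAction G α] {e : ℕ → α} {a : ℕ → G} (he : Set.InjOn e (Set.Iio 120)) (h0 : Tabs e 120 o8k_S a 2) :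
    LowLevel (genLt (o8k_g a) 3) (genLt (o8k_g a) 1) (e 9) 4 :=
  Tabs.lowLevel (o8k_tabs h0) he (by decide) (by decide) (by decide) o8k_L5_o

theorem o8k_ge5 {G α : Type*} [Group G] [MulAction G α] {e : ℕ → α} {a : ℕ → G} (he : Set.InjOn e (Set.Iio 120)) (h0 : Tabs e 120 o8k_S a 2) :
    Finite (genLt (o8k_g a) 3) → 8 ≤ Nat.card (genLt (o8k_g a) 3) := fun hK =>
  (o8k_low5 he h0).card hK (o8k_ge6 he h0)

theorem o8k_fix5 {G α : Type*} [Group G] [MulAction G α] {e : ℕ → α} {a : ℕ → G} (he : Set.InjOn e (Set.Iio 120)) (h0 : Tabs e 120 o8k_S a 2) :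
    ∀ X : Subgroup G, Finite X → (genLt (o8k_g a) 3) ≤ X → 8 * Nat.card (fixB e X [9, 24]) ≤ Nat.card X :=
  (o8k_low5 he h0).card_fix (o8k_fix6 he h0)

theorem o8k_low4 {G α : Type*} [Group G] [MulAction G α] {e : ℕ → α} {a : ℕ → G} (he : Set.InjOn e (Set.Iio 120)) (h0 : Tabs e 120 o8k_S a 2) :
    LowLevel (genLt (o8k_g a) 6) (genLt (o8k_g a) 3) (e 8) 8 :=
  Tabs.lowLevel (o8k_tabs h0) he (by decide) (by decide) (by decide) o8k_L4_o

theorem o8k_ge4 {G α : Type*} [Group G] [MulAction G α] {e : ℕ → α} {a : ℕ → G} (he : Set.InjOn e (Set.Iio 120)) (h0 : Tabs e 120 o8k_S a 2) :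
    Finite (genLt (o8k_g a) 6) → 64 ≤ Nat.card (genLt (o8k_g a) 6) := fun hK =>
  (o8k_low4 he h0).card hK (o8k_ge5 he h0)

theorem o8k_fix4 {G α : Type*} [Group G] [MulAction G α] {e : ℕ → α} {a : ℕ → G} (he : Set.InjOn e (Set.Iio 120)) (h0 : Tabs e 120 o8k_S a 2) :
    ∀ X : Subgroup G, Finite X → (genLt (o8k_g a) 6) ≤ X → 64 * Nat.card (fixB e X [8, 9, 24]) ≤ Nat.card X :=
  (o8k_low4 he h0).card_fix (o8k_fix5 he h0)

theorem o8k_low3 {G α : Type*} [Group G] [MulAction G α] {e : ℕ → α} {a : ℕ → G} (he : Set.InjOn e (Set.Iio 120)) (h0 : Tabs e 120 o8k_S a 2) :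
    LowLevel (genLt (o8k_g a) 7) (genLt (o8k_g a) 6) (e 4) 12 :=
  Tabs.lowLevel (o8k_tabs h0) he (by decide) (by decide) (by decide) o8k_L3_o

theorem o8k_ge3 {G α : Type*} [Group G] [MulAction G α] {e : ℕ → α} {a : ℕ → G} (he : Set.InjOn e (Set.Iio 120)) (h0 : Tabs e 120 o8k_S a 2) :
    Finite (genLt (o8k_g a) 7) → 768 ≤ Nat.card (genLt (o8k_g a) 7) := fun hK =>
  (o8k_low3 he h0).card hK (o8k_ge4 he h0)

theorem o8k_fix3 {G α : Type*} [Group G] [MulAction G α] {e : ℕ → α} {a : ℕ → G} (he : Set.InjOn e (Set.Iio 120)) (h0 : Tabs e 120 o8k_S a 2) :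
    ∀ X : Subgroup G, Finite X → (genLt (o8k_g a) 7) ≤ X → 768 * Nat.card (fixB e X [4, 8, 9, 24]) ≤ Nat.card X :=
  (o8k_low3 he h0).card_fix (o8k_fix4 he h0)

theorem o8k_low2 {G α : Type*} [Group G] [MulAction G α] {e : ℕ → α} {a : ℕ → G} (he : Set.InjOn e (Set.Iio 120)) (h0 : Tabs e 120 o8k_S a 2) :
    LowLevel (genLt (o8k_g a) 8) (genLt (o8k_g a) 7) (e 2) 30 :=
  Tabs.lowLevel (o8k_tabs h0) he (by decide) (by decide) (by decide) o8k_L2_o

theorem o8k_ge2 {G α : Type*} [Group G] [MulAction G α] {e : ℕ → α} {a : ℕ → G} (he : Set.InjOn e (Set.Iio 120)) (h0 : Tabs e 120 o8k_S a 2) :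
    Finite (genLt (o8k_g a) 8) → 23040 ≤ Nat.card (genLt (o8k_g a) 8) := fun hK =>
  (o8k_low2 he h0).card hK (o8k_ge3 he h0)

theorem o8k_fix2 {G α : Type*} [Group G] [MulAction G α] {e : ℕ → α} {a : ℕ → G} (he : Set.InjOn e (Set.Iio 120)) (h0 : Tabs e 120 o8k_S a 2) :
    ∀ X : Subgroup G, Finite X → (genLt (o8k_g a) 8) ≤ X → 23040 * Nat.card (fixB e X [2, 4, 8, 9, 24]) ≤ Nat.card X :=
  (o8k_low2 he h0).card_fix (o8k_fix3 he h0)

theorem o8k_low1 {G α : Type*} [Group G] [MulAction G α] {e : ℕ → α} {a : ℕ → G} (he : Set.InjOn e (Set.Iio 120)) (h0 : Tabs e 120 o8k_S a 2) :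
    LowLevel (genLt (o8k_g a) 9) (genLt (o8k_g a) 8) (e 1) 63 :=
  Tabs.lowLevel (o8k_tabs h0) he (by decide) (by decide) (by decide) o8k_L1_o

theorem o8k_ge1 {G α : Type*} [Group G] [MulAction G α] {e : ℕ → α} {a : ℕ → G} (he : Set.InjOn e (Set.Iio 120)) (h0 : Tabs e 120 o8k_S a 2) :
    Finite (genLt (o8k_g a) 9) → 1451520 ≤ Nat.card (genLt (o8k_g a) 9) := fun hK =>
  (o8k_low1 he h0).card hK (o8k_ge2 he h0)

theorem o8k_fix1 {G α : Type*} [Group G] [MulAction G α] {e : ℕ → α} {a : ℕ → G} (he : Set.InjOn e (Set.Iio 120)) (h0 : Tabs e 120 o8k_S a 2) :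
    ∀ X : Subgroup G, Finite X → (genLt (o8k_g a) 9) ≤ X → 1451520 * Nat.card (fixB e X [1, 2, 4, 8, 9, 24]) ≤ Nat.card X :=
  (o8k_low1 he h0).card_fix (o8k_fix2 he h0)

theorem o8k_low0 {G α : Type*} [Group G] [MulAction G α] {e : ℕ → α} {a : ℕ → G} (he : Set.InjOn e (Set.Iio 120)) (h0 : Tabs e 120 o8k_S a 2) :
    LowLevel (genLt (o8k_g a) 13) (genLt (o8k_g a) 9) (e 0) 120 :=
  Tabs.lowLevel (o8k_tabs h0) he (by decide) (by decide) (by decide) o8k_L0_o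

theorem o8k_ge0 {G α : Type*} [Group G] [MulAction G α] {e : ℕ → α} {a : ℕ → G} (he : Set.InjOn e (Set.Iio 120)) (h0 : Tabs e 120 o8k_S a 2) :
    Finite (genLt (o8k_g a) 13) → 174182400 ≤ Nat.card (genLt (o8k_g a) 13) := fun hK =>
  (o8k_low0 he h0).card hK (o8k_ge1 he h0)

theorem o8k_fix0 {G α : Type*} [Group G] [MulAction G α] {e : ℕ → α} {a : ℕ → G} (he : Set.InjOn e (Set.Iio 120)) (h0 : Tabs e 120 o8k_S a 2) :
    ∀ X : Subgroup G, Finite X → (genLt (o8k_g a) 13) ≤ X → 174182400 * Nat.card (fixB e X [0, 1, 2, 4, 8, 9, 24]) ≤ Nat.card X :=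
  (o8k_low0 he h0).card_fix (o8k_fix1 he h0)

theorem o8k_ub0 {G α : Type*} [Group G] [MulAction G α] {e : ℕ → α} {a : ℕ → G} (he : Set.InjOn e (Set.Iio 120)) (h0 : Tabs e 120 o8k_S a 2) (hub : Nat.card (genLt a 2) ≠ 0 ∧ Nat.card (genLt a 2) ≤ 174182400) :
    Nat.card (genLt (o8k_g a) 13) ≠ 0 ∧ Nat.card (genLt (o8k_g a) 13) ≤ 174182400 := by rw [o8k_gen]; exact hub

theorem o8k_level0 {G α : Type*} [Group G] [MulAction G α] {e : ℕ → α} {a : ℕ → G} (he : Set.InjOn e (Set.Iio 120)) (h0 : Tabs e 120 o8k_S a 2) (hub : Nat.card (genLt a 2) ≠ 0 ∧ Nat.card (genLt a 2) ≤ 174182400) :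
    Level (genLt (o8k_g a) 13) (genLt (o8k_g a) 9) (e 0) 120 :=
  ((o8k_low0 he h0).level (c := 1451520) (o8k_ub0 he h0 hub) (o8k_ge1 he h0)).1

theorem o8k_ub1 {G α : Type*} [Group G] [MulAction G α] {e : ℕ → α} {a : ℕ → G} (he : Set.InjOn e (Set.Iio 120)) (h0 : Tabs e 120 o8k_S a 2) (hub : Nat.card (genLt a 2) ≠ 0 ∧ Nat.card (genLt a 2) ≤ 174182400) :
    Nat.card (genLt (o8k_g a) 9) ≠ 0 ∧ Nat.card (genLt (o8k_g a) 9) ≤ 1451520 :=
  ((o8k_low0 he h0).level (c := 1451520) (o8k_ub0 he h0 hub) (o8k_ge1 he h0)).2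

theorem o8k_level1 {G α : Type*} [Group G] [MulAction G α] {e : ℕ → α} {a : ℕ → G} (he : Set.InjOn e (Set.Iio 120)) (h0 : Tabs e 120 o8k_S a 2) (hub : Nat.card (genLt a 2) ≠ 0 ∧ Nat.card (genLt a 2) ≤ 174182400) :
    Level (genLt (o8k_g a) 9) (genLt (o8k_g a) 8) (e 1) 63 :=
  ((o8k_low1 he h0).level (c := 23040) (o8k_ub1 he h0 hub) (o8k_ge2 he h0)).1

theorem o8k_ub2 {G α : Type*} [Group G] [MulAction G α] {e : ℕ → α} {a : ℕ → G} (he : Set.InjOn e (Set.Iio 120)) (h0 : Tabs e 120 o8k_S a 2) (hub : Nat.card (genLt a 2) ≠ 0 ∧ Nat.card (genLt a 2) ≤ 174182400) :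
    Nat.card (genLt (o8k_g a) 8) ≠ 0 ∧ Nat.card (genLt (o8k_g a) 8) ≤ 23040 :=
  ((o8k_low1 he h0).level (c := 23040) (o8k_ub1 he h0 hub) (o8k_ge2 he h0)).2

theorem o8k_level2 {G α : Type*} [Group G] [MulAction G α] {e : ℕ → α} {a : ℕ → G} (he : Set.InjOn e (Set.Iio 120)) (h0 : Tabs e 120 o8k_S a 2) (hub : Nat.card (genLt a 2) ≠ 0 ∧ Nat.card (genLt a 2) ≤ 174182400) :
    Level (genLt (o8k_g a) 8) (genLt (o8k_g a) 7) (e 2) 30 :=
  ((o8k_low2 he h0).level (c := 768) (o8k_ub2 he h0 hub) (o8k_ge3 he h0)).1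

theorem o8k_ub3 {G α : Type*} [Group G] [MulAction G α] {e : ℕ → α} {a : ℕ → G} (he : Set.InjOn e (Set.Iio 120)) (h0 : Tabs e 120 o8k_S a 2) (hub : Nat.card (genLt a 2) ≠ 0 ∧ Nat.card (genLt a 2) ≤ 174182400) :
    Nat.card (genLt (o8k_g a) 7) ≠ 0 ∧ Nat.card (genLt (o8k_g a) 7) ≤ 768 :=
  ((o8k_low2 he h0).level (c := 768) (o8k_ub2 he h0 hub) (o8k_ge3 he h0)).2

theorem o8k_level3 {G α : Type*} [Group G] [MulAction G α] {e : ℕ → α} {a : ℕ → G} (he : Set.InjOn e (Set.Iio 120)) (h0 : Tabs e 120 o8k_S a 2) (hub : Nat.card (genLt a 2) ≠ 0 ∧ Nat.card (genLt a 2) ≤ 174182400) :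
    Level (genLt (o8k_g a) 7) (genLt (o8k_g a) 6) (e 4) 12 :=
  ((o8k_low3 he h0).level (c := 64) (o8k_ub3 he h0 hub) (o8k_ge4 he h0)).1

theorem o8k_ub4 {G α : Type*} [Group G] [MulAction G α] {e : ℕ → α} {a : ℕ → G} (he : Set.InjOn e (Set.Iio 120)) (h0 : Tabs e 120 o8k_S a 2) (hub : Nat.card (genLt a 2) ≠ 0 ∧ Nat.card (genLt a 2) ≤ 174182400) :
    Nat.card (genLt (o8k_g a) 6) ≠ 0 ∧ Nat.card (genLt (o8k_g a) 6) ≤ 64 :=
  ((o8k_low3 he h0).level (c := 64) (o8k_ub3 he h0 hub) (o8k_ge4 he h0)).2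

theorem o8k_level4 {G α : Type*} [Group G] [MulAction G α] {e : ℕ → α} {a : ℕ → G} (he : Set.InjOn e (Set.Iio 120)) (h0 : Tabs e 120 o8k_S a 2) (hub : Nat.card (genLt a 2) ≠ 0 ∧ Nat.card (genLt a 2) ≤ 174182400) :
    Level (genLt (o8k_g a) 6) (genLt (o8k_g a) 3) (e 8) 8 :=
  ((o8k_low4 he h0).level (c := 8) (o8k_ub4 he h0 hub) (o8k_ge5 he h0)).1

theorem o8k_ub5 {G α : Type*} [Group G] [MulAction G α] {e : ℕ → α} {a : ℕ → G} (he : Set.InjOn e (Set.Iio 120)) (h0 : Tabs e 120 o8k_S a 2) (hub : Nat.card (genLt a 2) ≠ 0 ∧ Nat.card (genLt a 2) ≤ 174182400) :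
    Nat.card (genLt (o8k_g a) 3) ≠ 0 ∧ Nat.card (genLt (o8k_g a) 3) ≤ 8 :=
  ((o8k_low4 he h0).level (c := 8) (o8k_ub4 he h0 hub) (o8k_ge5 he h0)).2

theorem o8k_level5 {G α : Type*} [Group G] [MulAction G α] {e : ℕ → α} {a : ℕ → G} (he : Set.InjOn e (Set.Iio 120)) (h0 : Tabs e 120 o8k_S a 2) (hub : Nat.card (genLt a 2) ≠ 0 ∧ Nat.card (genLt a 2) ≤ 174182400) :
    Level (genLt (o8k_g a) 3) (genLt (o8k_g a) 1) (e 9) 4 :=
  ((o8k_low5 he h0).level (c := 2) (o8k_ub5 he h0 hub) (o8k_ge6 he h0)).1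

theorem o8k_ub6 {G α : Type*} [Group G] [MulAction G α] {e : ℕ → α} {a : ℕ → G} (he : Set.InjOn e (Set.Iio 120)) (h0 : Tabs e 120 o8k_S a 2) (hub : Nat.card (genLt a 2) ≠ 0 ∧ Nat.card (genLt a 2) ≤ 174182400) :
    Nat.card (genLt (o8k_g a) 1) ≠ 0 ∧ Nat.card (genLt (o8k_g a) 1) ≤ 2 :=
  ((o8k_low5 he h0).level (c := 2) (o8k_ub5 he h0 hub) (o8k_ge6 he h0)).2

theorem o8k_level6 {G α : Type*} [Group G] [MulAction G α] {e : ℕ → α} {a : ℕ → G} (he : Set.InjOn e (Set.Iio 120)) (h0 : Tabs e 120 o8k_S a 2) (hub : Nat.card (genLt a 2) ≠ 0 ∧ Nat.card (genLt a 2) ≤ 174182400) :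
    Level (genLt (o8k_g a) 1) (genLt (o8k_g a) 0) (e 24) 2 :=
  ((o8k_low6 he h0).level (c := 1) (o8k_ub6 he h0 hub) (one_le_card_fin _)).1

theorem o8k_card6 {G α : Type*} [Group G] [MulAction G α] {e : ℕ → α} {a : ℕ → G} (he : Set.InjOn e (Set.Iio 120)) (h0 : Tabs e 120 o8k_S a 2) (hub : Nat.card (genLt a 2) ≠ 0 ∧ Nat.card (genLt a 2) ≤ 174182400) :
    Nat.card (genLt (o8k_g a) 1) = 2 :=
  (o8k_level6 he h0 hub).card (card_genLt_zero _)

theorem o8k_base6 {G α : Type*} [Group G] [MulAction G α] {e : ℕ → α} {a : ℕ → G} (he : Set.InjOn e (Set.Iio 120)) (h0 : Tabs e 120 o8k_S a 2) (hub : Nat.card (genLt a 2) ≠ 0 ∧ Nat.card (genLt a 2) ≤ 174182400) :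
    IsBase e (genLt (o8k_g a) 1) [24] :=
  (o8k_level6 he h0 hub).base (isBase_genLt_zero _ _)

theorem o8k_card5 {G α : Type*} [Group G] [MulAction G α] {e : ℕ → α} {a : ℕ → G} (he : Set.InjOn e (Set.Iio 120)) (h0 : Tabs e 120 o8k_S a 2) (hub : Nat.card (genLt a 2) ≠ 0 ∧ Nat.card (genLt a 2) ≤ 174182400) :
    Nat.card (genLt (o8k_g a) 3) = 8 :=
  (o8k_level5 he h0 hub).card (o8k_card6 he h0 hub)

theorem o8k_base5 {G α : Type*} [Group G] [MulAction G α] {e : ℕ → α} {a : ℕ → G} (he : Set.InjOn e (Set.Iio 120)) (h0 : Tabs e 120 o8k_S a 2) (hub : Nat.card (genLt a 2) ≠ 0 ∧ Nat.card (genLt a 2) ≤ 174182400) :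
    IsBase e (genLt (o8k_g a) 3) [9, 24] :=
  (o8k_level5 he h0 hub).base (o8k_base6 he h0 hub)

theorem o8k_card4 {G α : Type*} [Group G] [MulAction G α] {e : ℕ → α} {a : ℕ → G} (he : Set.InjOn e (Set.Iio 120)) (h0 : Tabs e 120 o8k_S a 2) (hub : Nat.card (genLt a 2) ≠ 0 ∧ Nat.card (genLt a 2) ≤ 174182400) :
    Nat.card (genLt (o8k_g a) 6) = 64 :=
  (o8k_level4 he h0 hub).card (o8k_card5 he h0 hub)

theorem o8k_base4 {G α : Type*} [Group G] [MulAction G α] {e : ℕ → α} {a : ℕ → G} (he : Set.InjOn e (Set.Iio 120)) (h0 : Tabs e 120 o8k_S a 2) (hub : Nat.card (genLt a 2) ≠ 0 ∧ Nat.card (genLt a 2) ≤ 174182400) :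
    IsBase e (genLt (o8k_g a) 6) [8, 9, 24] :=
  (o8k_level4 he h0 hub).base (o8k_base5 he h0 hub)

theorem o8k_card3 {G α : Type*} [Group G] [MulAction G α] {e : ℕ → α} {a : ℕ → G} (he : Set.InjOn e (Set.Iio 120)) (h0 : Tabs e 120 o8k_S a 2) (hub : Nat.card (genLt a 2) ≠ 0 ∧ Nat.card (genLt a 2) ≤ 174182400) :
    Nat.card (genLt (o8k_g a) 7) = 768 :=
  (o8k_level3 he h0 hub).card (o8k_card4 he h0 hub)

theorem o8k_base3 {G α : Type*} [Group G] [MulAction G α] {e : ℕ → α} {a : ℕ → G} (he : Set.InjOn e (Set.Iio 120)) (h0 : Tabs e 120 o8k_S a 2) (hub : Nat.card (genLt a 2) ≠ 0 ∧ Nat.card (genLt a 2) ≤ 174182400) :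
    IsBase e (genLt (o8k_g a) 7) [4, 8, 9, 24] :=
  (o8k_level3 he h0 hub).base (o8k_base4 he h0 hub)

theorem o8k_card2 {G α : Type*} [Group G] [MulAction G α] {e : ℕ → α} {a : ℕ → G} (he : Set.InjOn e (Set.Iio 120)) (h0 : Tabs e 120 o8k_S a 2) (hub : Nat.card (genLt a 2) ≠ 0 ∧ Nat.card (genLt a 2) ≤ 174182400) :
    Nat.card (genLt (o8k_g a) 8) = 23040 :=
  (o8k_level2 he h0 hub).card (o8k_card3 he h0 hub)

theorem o8k_base2 {G α : Type*} [Group G] [MulAction G α] {e : ℕ → α} {a : ℕ → G} (he : Set.InjOn e (Set.Iio 120)) (h0 : Tabs e 120 o8k_S a 2) (hub : Nat.card (genLt a 2) ≠ 0 ∧ Nat.card (genLt a 2) ≤ 174182400) :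
    IsBase e (genLt (o8k_g a) 8) [2, 4, 8, 9, 24] :=
  (o8k_level2 he h0 hub).base (o8k_base3 he h0 hub)

theorem o8k_card1 {G α : Type*} [Group G] [MulAction G α] {e : ℕ → α} {a : ℕ → G} (he : Set.InjOn e (Set.Iio 120)) (h0 : Tabs e 120 o8k_S a 2) (hub : Nat.card (genLt a 2) ≠ 0 ∧ Nat.card (genLt a 2) ≤ 174182400) :
    Nat.card (genLt (o8k_g a) 9) = 1451520 :=
  (o8k_level1 he h0 hub).card (o8k_card2 he h0 hub)

theorem o8k_base1 {G α : Type*} [Group G] [MulAction G α] {e : ℕ → α} {a : ℕ → G} (he : Set.InjOn e (Set.Iio 120)) (h0 : Tabs e 120 o8k_S a 2) (hub : Nat.card (genLt a 2) ≠ 0 ∧ Nat.card (genLt a 2) ≤ 174182400) :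
    IsBase e (genLt (o8k_g a) 9) [1, 2, 4, 8, 9, 24] :=
  (o8k_level1 he h0 hub).base (o8k_base2 he h0 hub)

theorem o8k_card0 {G α : Type*} [Group G] [MulAction G α] {e : ℕ → α} {a : ℕ → G} (he : Set.InjOn e (Set.Iio 120)) (h0 : Tabs e 120 o8k_S a 2) (hub : Nat.card (genLt a 2) ≠ 0 ∧ Nat.card (genLt a 2) ≤ 174182400) :
    Nat.card (genLt (o8k_g a) 13) = 174182400 :=
  (o8k_level0 he h0 hub).card (o8k_card1 he h0 hub)

theorem o8k_base0 {G α : Type*} [Group G] [MulAction G α] {e : ℕ → α} {a : ℕ → G} (he : Set.InjOn e (Set.Iio 120)) (h0 : Tabs e 120 o8k_S a 2) (hub : Nat.card (genLt a 2) ≠ 0 ∧ Nat.card (genLt a 2) ≤ 174182400) :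
    IsBase e (genLt (o8k_g a) 13) [0, 1, 2, 4, 8, 9, 24] :=
  (o8k_level0 he h0 hub).base (o8k_base1 he h0 hub)

theorem o8k_hinv {G α : Type*} [Group G] [MulAction G α] {e : ℕ → α} {a : ℕ → G} (he : Set.InjOn e (Set.Iio 120)) (h0 : Tabs e 120 o8k_S a 2) (hub : Nat.card (genLt a 2) ≠ 0 ∧ Nat.card (genLt a 2) ≤ 174182400) : ∀ x < 13, o8k_g a x * o8k_g a (o8k_inv x) = 1 :=
  (o8k_tabs h0).hinv_of_base (o8k_base0 he h0 hub) (by decide +kernel)

theorem o8k_card {G α : Type*} [Group G] [MulAction G α] {e : ℕ → α} {a : ℕ → G} (he : Set.InjOn e (Set.Iio 120)) (h0 : Tabs e 120 o8k_S a 2) (hub : Nat.card (genLt a 2) ≠ 0 ∧ Nat.card (genLt a 2) ≤ 174182400) :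
    Nat.card (genLt a 2) = 174182400 := by
  rw [← o8k_gen]; exact o8k_card0 he h0 hub

end Cfsg.Agent.Spor.MX
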