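import Mathlib
import Cfsg.Agent.Spor.MX.O8p
import Cfsg.Agent.Spor.MX.O8pCh
import Cfsg.Agent.Spor.MX.ClLink

/-! Generated by tools/mx: letters in O8+(2) -/

set_option autoImplicit false
set_option maxRecDepth 100000
set_option linter.unusedVariables false
set_option exponentiation.threshold 100000

namespace Cfsg.Agent.Spor.MX

open Cfsg.Agent.Spor

universe u

noncomputable def o8k_M : ℕ → ℕ := BT.get (.node (.leaf (nat_lit 0x10001010000000000000101000101010001000100000101010101010100010101000100010001000000000000000101010001010001010101000101))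
   (.leaf (nat_lit 0x10100000000000100010100000001000001000100000000010000000001000000000101000000000000000100000000000001000101000000000101))
  )

noncomputable def o8k_P : ℕ → ℕ := getP (nat_lit 64) (nat_lit 18446744073709551615) (nat_lit 0x101010101010101000101010101010101000101010101000000010101010101010100010101010000010001010101000100000101010101000000010101010101010100010101000101010001010101000001000101010000000100010101010001000001010100000100000101010101000000010101000100000001010101010101010001010100010101000101000100010100010100000001010001010001010001000101000001000100010101010000010001010100000001000101010100010000010100010001000001010100000100000101000000010000010101010100000001010001010000000101010001000000010100000100000001010101010101010001000001010101000101010001010100010000000101010001000101000101000101000100010100010001000001010001010000000101000101000101000100010000010100010001010000010001000100000001000100010101010000010001000101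000001000101010000000100010001000000010001000101010100000100000101010000010001000101000001000000010100000101010100010000010100010001000001010100000100000101000000010000010101010100000001000101010000000101000101000000010000010100000001010100010000000100010001000000010100000100000001000000010000000101010101010101000000010101010100000100010101010001000001010101000101010001010100000001000101010000010000010101000100000001010100010001010001010000000101000101000101000100010100000100010001010001000100000101000000010000010100010100000001010000010000000101000001010101000100000001010100010001010001010001000100000101000100000101000100010000000100010001000101000001000100010000000100010001010101000001000001010100000100010001010000010000000101000001000101010000000100000101000000010001000100000001000000010000000100000101010101000001000101010100000001000101010000010000010101000000010100010100000100010001010000000100000101000001000000010100000101010100010000000101010001000001010001000100000001000100010000010101000001000000010100000100000101000000010000000100000001000001010101010000000100010101000000010100010100000001000001010000000101010001000000010001000100000001010000010000000100000001000000)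

noncomputable def o8k_A : ℕ → ℕ → ℕ := tabS (.node (.leaf (nat_lit 0x111111111111111111111111111111111111111111111111111111111111111111111111111111111111111111111111111111111111111111111111))
   (.leaf (nat_lit 0x111111111111111111111111111111111111111111111111111111111111111111111111111111111111111111111111111111111111111111111111))
  ) (nat_lit 4) (nat_lit 15)

noncomputable def o8k_R : ℕ → ℕ := BT.get (.node (.node (.leaf (nat_lit 0x10101010000000000000000000101000000000001000101000000000101010000000000000001000001000100000000010000010000000000000001000000))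
   (.leaf (nat_lit 0x10000010001000000000000000001000000000000000000010000000000000100000000000000000001000000000000000001000100000100000000))
  ) (.node (.leaf (nat_lit 0x1010001000100010001010001010101000101010001000100000101010101010000000001000000000101010101010000010001000101010001010101000101))
   (.leaf (nat_lit 0x10000000001000100000000000100010101010101010101010001000001000101000100010101010100010100010100000000000001000101000000000101))
  ))

noncomputable def o8k_C : ℕ → ℕ := BT.get (.node (.leaf (nat_lit 0x100010100010000010001010000000000000001000101000000000101010001010101000101000101010101000100010100000101010000000001000000))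
   (.leaf (nat_lit 0x1000100000100000000000100010101010101010101010001000101010101000100000100010100010100010100000000000001000100000100000000))
  )

/-- The generators. -/
noncomputable def o8k_a : ℕ → POmega Cl.GF2 (quadFormPlus 4 Cl.GF2) := fun x => QuotientGroup.mk (PM.pick (finSumFinEquiv (m := 4) (n := 4)) (PM.omRep Cl.GF2 (Cl.quad_plus 4 Cl.GF2)) (o8k_M x))

/-- The points. -/
noncomputable def o8k_e : ℕ → Submodule Cl.GF2 (Fin 4 ⊕ Fin 4 → Cl.GF2) := fun i => PM.ptOf Cl.gf2 (finSumFinEquiv (m := 4) (n := 4)) (o8k_P i)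

/-- The strong letters. -/
noncomputable def o8k_k : ℕ → POmega Cl.GF2 (quadFormPlus 4 Cl.GF2) := o8k_g o8k_a

noncomputable def o8m_ws : LT :=
(.node (.node (.node (.leaf [nat_lit 3,nat_lit 0,nat_lit 8,nat_lit 7,nat_lit 5,nat_lit 6,nat_lit 7,nat_lit 6,nat_lit 4,nat_lit 1,nat_lit 6,nat_lit 5,nat_lit 3,nat_lit 1,nat_lit 0])
 (.leaf [nat_lit 10,nat_lit 0,nat_lit 9,nat_lit 0,nat_lit 8,nat_lit 0,nat_lit 7,nat_lit 0,nat_lit 6,nat_lit 7,nat_lit 2])
) (.leaf [nat_lit 6,nat_lit 8,nat_lit 5,nat_lit 8,nat_lit 7,nat_lit 5,nat_lit 6])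
) (.node (.leaf [nat_lit 3,nat_lit 8,nat_lit 6,nat_lit 7,nat_lit 5,nat_lit 6,nat_lit 7,nat_lit 4,nat_lit 1,nat_lit 6,nat_lit 5,nat_lit 3,nat_lit 1])
 (.leaf [nat_lit 1,nat_lit 6,nat_lit 7,nat_lit 6,nat_lit 8,nat_lit 0,nat_lit 8,nat_lit 5,nat_lit 6,nat_lit 7,nat_lit 6,nat_lit 7,nat_lit 4,nat_lit 1,nat_lit 6,nat_lit 4,nat_lit 1,nat_lit 0])
))

noncomputable def o8m_back : LT :=
(.node (.node (.node (.node (.leaf [nat_lit 0,nat_lit 2,nat_lit 0,nat_lit 2,nat_lit 0,nat_lit 0,nat_lit 2,nat_lit 1,nat_lit 1,nat_lit 1,nat_lit 2,nat_lit 1,nat_lit 3,nat_lit 0,nat_lit 0,nat_lit 2,nat_lit 1,nat_lit 1])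
 (.leaf [nat_lit 1,nat_lit 1,nat_lit 2,nat_lit 0,nat_lit 2,nat_lit 0,nat_lit 0,nat_lit 2,nat_lit 0,nat_lit 2,nat_lit 0,nat_lit 0,nat_lit 0,nat_lit 2,nat_lit 0,nat_lit 0,nat_lit 0,nat_lit 3,nat_lit 1,nat_lit 1,nat_lit 2,nat_lit 0])
) (.node (.leaf [nat_lit 0,nat_lit 0,nat_lit 2,nat_lit 3,nat_lit 1,nat_lit 2,nat_lit 1])
 (.leaf [nat_lit 1,nat_lit 1,nat_lit 1,nat_lit 2,nat_lit 1,nat_lit 1,nat_lit 1,nat_lit 2,nat_lit 1,nat_lit 1,nat_lit 1,nat_lit 2,nat_lit 1,nat_lit 1,nat_lit 1,nat_lit 2,nat_lit 0,nat_lit 3,nat_lit 0,nat_lit 0,nat_lit 0,nat_lit 3,nat_lit 0,nat_lit 2,nat_lit 0,nat_lit 4,nat_lit 1,nat_lit 3,nat_lit 4,nat_lit 2])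
)) (.node (.node (.leaf [nat_lit 0,nat_lit 0,nat_lit 2,nat_lit 1,nat_lit 1,nat_lit 2,nat_lit 1,nat_lit 2,nat_lit 1,nat_lit 1,nat_lit 1,nat_lit 2,nat_lit 1,nat_lit 1,nat_lit 1,nat_lit 2,nat_lit 0,nat_lit 3,nat_lit 0,nat_lit 0,nat_lit 2,nat_lit 1,nat_lit 2])
 (.leaf [nat_lit 1,nat_lit 1,nat_lit 1,nat_lit 2,nat_lit 0,nat_lit 2,nat_lit 0,nat_lit 0,nat_lit 2,nat_lit 0,nat_lit 2,nat_lit 0,nat_lit 0,nat_lit 2,nat_lit 0,nat_lit 2,nat_lit 0,nat_lit 3,nat_lit 0,nat_lit 2,nat_lit 3,nat_lit 1,nat_lit 2,nat_lit 1,nat_lit 3,nat_lit 4,nat_lit 1,nat_lit 3,nat_lit 4,nat_lit 0])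
) (.leaf [nat_lit 0,nat_lit 0,nat_lit 2,nat_lit 1,nat_lit 1,nat_lit 1,nat_lit 2,nat_lit 0,nat_lit 0,nat_lit 2,nat_lit 0,nat_lit 2,nat_lit 0,nat_lit 2,nat_lit 0,nat_lit 2,nat_lit 0,nat_lit 3,nat_lit 0,nat_lit 3,nat_lit 0,nat_lit 2])
)) (.node (.node (.node (.leaf [nat_lit 0,nat_lit 0,nat_lit 0,nat_lit 2,nat_lit 0,nat_lit 0,nat_lit 2,nat_lit 0,nat_lit 2,nat_lit 0,nat_lit 2,nat_lit 0,nat_lit 0,nat_lit 2,nat_lit 1,nat_lit 1,nat_lit 1,nat_lit 3,nat_lit 1,nat_lit 1,nat_lit 3,nat_lit 1,nat_lit 1,nat_lit 3,nat_lit 0])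
 (.leaf [nat_lit 0,nat_lit 0,nat_lit 0,nat_lit 2,nat_lit 1,nat_lit 1,nat_lit 1,nat_lit 2,nat_lit 1,nat_lit 2,nat_lit 1,nat_lit 1,nat_lit 2,nat_lit 1,nat_lit 1,nat_lit 1,nat_lit 2,nat_lit 3,nat_lit 2,nat_lit 0,nat_lit 0,nat_lit 3,nat_lit 2,nat_lit 1,nat_lit 4,nat_lit 1,nat_lit 4,nat_lit 2,nat_lit 0,nat_lit 4])
) (.leaf [nat_lit 0,nat_lit 0,nat_lit 2,nat_lit 0,nat_lit 0,nat_lit 0,nat_lit 2,nat_lit 0,nat_lit 0,nat_lit 0,nat_lit 2,nat_lit 0,nat_lit 0,nat_lit 0,nat_lit 2,nat_lit 0,nat_lit 2,nat_lit 3,nat_lit 2])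
) (.node (.node (.leaf [nat_lit 1,nat_lit 1,nat_lit 2,nat_lit 0,nat_lit 0,nat_lit 2,nat_lit 0,nat_lit 2,nat_lit 0,nat_lit 0,nat_lit 2,nat_lit 0,nat_lit 2,nat_lit 0,nat_lit 3,nat_lit 0,nat_lit 2,nat_lit 0,nat_lit 0])
 (.leaf [nat_lit 1,nat_lit 2,nat_lit 0,nat_lit 2,nat_lit 0,nat_lit 0,nat_lit 2,nat_lit 0,nat_lit 2,nat_lit 0,nat_lit 0,nat_lit 2,nat_lit 3,nat_lit 0,nat_lit 3,nat_lit 0,nat_lit 0,nat_lit 4,nat_lit 0,nat_lit 4])
) (.leaf [nat_lit 2,nat_lit 0,nat_lit 2,nat_lit 0,nat_lit 0,nat_lit 2,nat_lit 0,nat_lit 2,nat_lit 0,nat_lit 0,nat_lit 0,nat_lit 2,nat_lit 1,nat_lit 3,nat_lit 0,nat_lit 0,nat_lit 2,nat_lit 1,nat_lit 2,nat_lit 3,nat_lit 2])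
)))

/-- The letters of the chain. -/
noncomputable def o8m_g : ℕ → POmega Cl.GF2 (quadFormPlus 4 Cl.GF2) := fun x => evalW o8k_k (o8m_ws.get x)

theorem o8k_p0 : allRange (nat_lit 0) (nat_lit 120) (PM.ptsOK Cl.gf2 (nat_lit 8) (nat_lit 120) o8k_M o8k_P o8k_S o8k_A (nat_lit 0)) = true := by decide +kernel

theorem o8k_p1 : allRange (nat_lit 0) (nat_lit 120) (PM.ptsOK Cl.gf2 (nat_lit 8) (nat_lit 120) o8k_M o8k_P o8k_S o8k_A (nat_lit 1)) = true := by decide +kernel

theorem o8k_srt : allRange 0 120 (fun i => band (Nat.beq (PM.lead Cl.gf2 (o8k_P i) 8) 1)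
    (bor (Nat.beq (Nat.succ i) 120) (blt (PM.key Cl.gf2 (o8k_P i) 8) (PM.key Cl.gf2 (o8k_P (Nat.succ i)) 8)))) = true := by decide +kernel

theorem o8k_invol : ∀ x < 4, PM.invOK Cl.gf2 8 (o8k_R x) (o8k_R x) = true := by decide +kernel

theorem o8k_isom : ∀ x < 4, ∀ i, (quadFormPlus 4 Cl.GF2) (fun k => PM.matOf Cl.gf2 (finSumFinEquiv (m := 4) (n := 4)) (o8k_R x) k i) = (quadFormPlus 4 Cl.GF2) (Pi.single i 1) ∧ ∀ j,
    QuadraticMap.polar (quadFormPlus 4 Cl.GF2) (fun k => PM.matOf Cl.gf2 (finSumFinEquiv (m := 4) (n := 4)) (o8k_R x) k i) (fun k => PM.matOf Cl.gf2 (finSumFinEquiv (m := 4) (n := 4)) (o8k_R x) k j) = QuadraticMap.polar (quadFormPlus 4 Cl.GF2) (Pi.single i 1) (Pi.single j 1) := by decide +kernel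

theorem o8k_com : ∀ x < 2, band (PM.mulOK Cl.gf2 8 (o8k_R (2 * x)) (o8k_R (2 * x + 1)) (o8k_C x)) (PM.mulOK Cl.gf2 8 (o8k_C x) (o8k_C x) (o8k_M x)) = true := by decide +kernel

theorem o8m_k0 : allRange (nat_lit 0) (nat_lit 13) (backB o8k_T o8m_ws o8m_back [nat_lit 0,nat_lit 1,nat_lit 2,nat_lit 4,nat_lit 8,nat_lit 9,nat_lit 24]) = true := by decide +kernel

theorem o8m_r24 : fixAll (tabW o8k_T o8m_ws) o8p_rels (nat_lit 24) = true := by decide +kernel

theorem o8m_r9 : fixAll (tabW o8k_T o8m_ws) o8p_rels (nat_lit 9) = true := by decide +kernel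

theorem o8m_r8 : fixAll (tabW o8k_T o8m_ws) o8p_rels (nat_lit 8) = true := by decide +kernel

theorem o8m_r4 : fixAll (tabW o8k_T o8m_ws) o8p_rels (nat_lit 4) = true := by decide +kernel

theorem o8m_r2 : fixAll (tabW o8k_T o8m_ws) o8p_rels (nat_lit 2) = true := by decide +kernel

theorem o8m_r1 : fixAll (tabW o8k_T o8m_ws) o8p_rels (nat_lit 1) = true := by decide +kernel

theorem o8m_r0 : fixAll (tabW o8k_T o8m_ws) o8p_rels (nat_lit 0) = true := by decide +kernel

theorem o8k_cardG : Nat.card (POmega Cl.GF2 (quadFormPlus 4 Cl.GF2)) = 174182400 := card_O8p2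

noncomputable local instance o8k_act : MulAction (POmega Cl.GF2 (quadFormPlus 4 Cl.GF2)) (Submodule Cl.GF2 (Fin 4 ⊕ Fin 4 → Cl.GF2)) := PM.pomAct (Cl.quad_plus 4 Cl.GF2) Cl.quad_plus_nondeg (by decide)

theorem o8k_h0 : Tabs o8k_e 120 o8k_S o8k_a 2 :=
  PM.tabs_quot _ _ _ (PM.tabs_pick (finSumFinEquiv (m := 4) (n := 4)) (PM.omRep Cl.GF2 (Cl.quad_plus 4 Cl.GF2)) (fun x hx =>
    PM.exists_omega (finSumFinEquiv (m := 4) (n := 4)) (o8k_invol (2 * x) (by omega)) (o8k_invol (2 * x + 1) (by omega)) (mem_isometry_of_basis (Cl.quad_plus 4 Cl.GF2) _ (o8k_isom (2 * x) (by omega))) (mem_isometry_of_basis (Cl.quad_plus 4 Cl.GF2) _ (o8k_isom (2 * x + 1) (by omega))) (o8k_com x hx)) (Nat.forall_lt_succ_right.2 ⟨(Nat.forall_lt_succ_right.2 ⟨(fun _ h => absurd h (Nat.not_lt_zero _)), o8k_p0⟩), o8k_p1⟩))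

theorem o8k_he : Set.InjOn o8k_e (Set.Iio 120) := PM.injOn_pts (finSumFinEquiv (m := 4) (n := 4)) o8k_srt

theorem o8k_ktabs : Tabs o8k_e 120 o8k_T o8k_k 13 := o8k_tabs o8k_h0

theorem o8k_basek : IsBase o8k_e (genLt o8k_k 13) [0, 1, 2, 4, 8, 9, 24] := o8k_base0 o8k_he o8k_h0 (hub_of_card _ _ o8k_cardG)

theorem o8k_topk : genLt o8k_k 13 = ⊤ := top_of_chain o8k_cardG (o8k_gen _) (o8k_card o8k_he o8k_h0 (hub_of_card _ _ o8k_cardG))

theorem o8m_tabs : Tabs o8k_e 120 (tabW o8k_T o8m_ws) o8m_g 5 := tabs_tabW o8k_ktabs (by decide +kernel) 5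

theorem o8m_eq : genLt o8m_g 5 = genLt o8k_k 13 :=
  genLt_tabW o8k_ktabs o8k_basek (back := o8m_back) (by decide +kernel) (range_append _ (allLt_of_zero _) o8m_k0 rfl)

theorem o8m_base : IsBase o8k_e (genLt o8m_g 5) [0, 1, 2, 4, 8, 9, 24] := o8m_eq ▸ o8k_basek

theorem o8m_gen : Gen ⊤ o8m_g o8p_rels 5 174182400 :=
  gen_of_fixAll o8m_tabs (o8m_eq.trans o8k_topk) (o8k_topk ▸ o8k_basek) (Subgroup.card_top.trans o8k_cardG) (by decide +kernel) (forall_mem_cons' o8m_r0 (forall_mem_cons' o8m_r1 (forall_mem_cons' o8m_r2 (forall_mem_cons' o8m_r4 (forall_mem_cons' o8m_r8 (forall_mem_cons' o8m_r9 (forall_mem_cons' o8m_r24 forall_mem_nil')))))))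

theorem o8m_comm0 : Commute (evalW o8m_g [0, 0, 0, 2, 1, 1, 1]) (evalW o8m_g [0, 0, 2, 0, 2, 0, 0, 0, 2, 1, 1, 1, 2, 0, 3, 2, 3, 0, 3, 4, 0, 3]) := commute_of_base o8m_tabs o8m_base (by decide +kernel)

theorem o8m_comm1 : Commute (evalW o8m_g [1, 1, 1, 2, 0, 2, 0, 0, 3]) (evalW o8m_g [0, 0, 2, 1, 1, 2, 1, 1, 2, 1, 2, 1, 2, 3, 0, 0, 3, 0, 2, 3]) := commute_of_base o8m_tabs o8m_base (by decide +kernel)


end Cfsg.Agent.Spor.MX
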