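import Mathlib
import Cfsg.Agent.Spor.MX.McLCovD

/-! Generated by tools/mx: the triple cover of McL -/

set_option autoImplicit false
set_option maxRecDepth 100000
set_option linter.unusedVariables false
set_option exponentiation.threshold 100000

namespace Cfsg.Agent.Spor.MX

open Cfsg.Agent.Spor

universe u

theorem mcl3_f0 : monoB mcl3_W (nat_lit 32767) (nat_lit 98304) (nat_lit 22275) (nat_lit 4) mcl_rels (nat_lit 0) (nat_lit 354) = true := by decide +kernel

theorem mcl3_f1 : monoB mcl3_W (nat_lit 32767) (nat_lit 98304) (nat_lit 22275) (nat_lit 4) mcl_rels (nat_lit 354) (nat_lit 354) = true := by decide +kernel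

theorem mcl3_f2 : monoB mcl3_W (nat_lit 32767) (nat_lit 98304) (nat_lit 22275) (nat_lit 4) mcl_rels (nat_lit 708) (nat_lit 354) = true := by decide +kernel

theorem mcl3_f3 : monoB mcl3_W (nat_lit 32767) (nat_lit 98304) (nat_lit 22275) (nat_lit 4) mcl_rels (nat_lit 1062) (nat_lit 354) = true := by decide +kernel

theorem mcl3_f4 : monoB mcl3_W (nat_lit 32767) (nat_lit 98304) (nat_lit 22275) (nat_lit 4) mcl_rels (nat_lit 1416) (nat_lit 354) = true := by decide +kernel

theorem mcl3_f5 : monoB mcl3_W (nat_lit 32767) (nat_lit 98304) (nat_lit 22275) (nat_lit 4) mcl_rels (nat_lit 1770) (nat_lit 354) = true := by decide +kernel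

theorem mcl3_f6 : monoB mcl3_W (nat_lit 32767) (nat_lit 98304) (nat_lit 22275) (nat_lit 4) mcl_rels (nat_lit 2124) (nat_lit 354) = true := by decide +kernel

theorem mcl3_f7 : monoB mcl3_W (nat_lit 32767) (nat_lit 98304) (nat_lit 22275) (nat_lit 4) mcl_rels (nat_lit 2478) (nat_lit 354) = true := by decide +kernel

theorem mcl3_f8 : monoB mcl3_W (nat_lit 32767) (nat_lit 98304) (nat_lit 22275) (nat_lit 4) mcl_rels (nat_lit 2832) (nat_lit 354) = true := by decide +kernel

theorem mcl3_f9 : monoB mcl3_W (nat_lit 32767) (nat_lit 98304) (nat_lit 22275) (nat_lit 4) mcl_rels (nat_lit 3186) (nat_lit 354) = true := by decide +kernel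

theorem mcl3_f10 : monoB mcl3_W (nat_lit 32767) (nat_lit 98304) (nat_lit 22275) (nat_lit 4) mcl_rels (nat_lit 3540) (nat_lit 354) = true := by decide +kernel

theorem mcl3_f11 : monoB mcl3_W (nat_lit 32767) (nat_lit 98304) (nat_lit 22275) (nat_lit 4) mcl_rels (nat_lit 3894) (nat_lit 354) = true := by decide +kernel

theorem mcl3_f12 : monoB mcl3_W (nat_lit 32767) (nat_lit 98304) (nat_lit 22275) (nat_lit 4) mcl_rels (nat_lit 4248) (nat_lit 354) = true := by decide +kernel

theorem mcl3_f13 : monoB mcl3_W (nat_lit 32767) (nat_lit 98304) (nat_lit 22275) (nat_lit 4) mcl_rels (nat_lit 4602) (nat_lit 354) = true := by decide +kernel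

theorem mcl3_f14 : monoB mcl3_W (nat_lit 32767) (nat_lit 98304) (nat_lit 22275) (nat_lit 4) mcl_rels (nat_lit 4956) (nat_lit 354) = true := by decide +kernel

theorem mcl3_f15 : monoB mcl3_W (nat_lit 32767) (nat_lit 98304) (nat_lit 22275) (nat_lit 4) mcl_rels (nat_lit 5310) (nat_lit 354) = true := by decide +kernel

theorem mcl3_f16 : monoB mcl3_W (nat_lit 32767) (nat_lit 98304) (nat_lit 22275) (nat_lit 4) mcl_rels (nat_lit 5664) (nat_lit 354) = true := by decide +kernel

theorem mcl3_f17 : monoB mcl3_W (nat_lit 32767) (nat_lit 98304) (nat_lit 22275) (nat_lit 4) mcl_rels (nat_lit 6018) (nat_lit 354) = true := by decide +kernel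

theorem mcl3_f18 : monoB mcl3_W (nat_lit 32767) (nat_lit 98304) (nat_lit 22275) (nat_lit 4) mcl_rels (nat_lit 6372) (nat_lit 354) = true := by decide +kernel

theorem mcl3_f19 : monoB mcl3_W (nat_lit 32767) (nat_lit 98304) (nat_lit 22275) (nat_lit 4) mcl_rels (nat_lit 6726) (nat_lit 354) = true := by decide +kernel

theorem mcl3_f20 : monoB mcl3_W (nat_lit 32767) (nat_lit 98304) (nat_lit 22275) (nat_lit 4) mcl_rels (nat_lit 7080) (nat_lit 354) = true := by decide +kernel

end Cfsg.Agent.Spor.MX
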