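import Mathlib
import Cfsg.Agent.Spor.MX.McLCovD

/-! Generated by tools/mx: the triple cover of McL -/

set_option autoImplicit false
set_option maxRecDepth 100000
set_option linter.unusedVariables false
set_option exponentiation.threshold 100000

namespace Cfsg.Agent.Spor.MX

open Cfsg.Agent.Spor

universe u

theorem mcl3_f21 : monoB mcl3_W (nat_lit 32767) (nat_lit 98304) (nat_lit 22275) (nat_lit 4) mcl_rels (nat_lit 7434) (nat_lit 354) = true := by decide +kernel

theorem mcl3_f22 : monoB mcl3_W (nat_lit 32767) (nat_lit 98304) (nat_lit 22275) (nat_lit 4) mcl_rels (nat_lit 7788) (nat_lit 354) = true := by decide +kernel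

theorem mcl3_f23 : monoB mcl3_W (nat_lit 32767) (nat_lit 98304) (nat_lit 22275) (nat_lit 4) mcl_rels (nat_lit 8142) (nat_lit 354) = true := by decide +kernel

theorem mcl3_f24 : monoB mcl3_W (nat_lit 32767) (nat_lit 98304) (nat_lit 22275) (nat_lit 4) mcl_rels (nat_lit 8496) (nat_lit 354) = true := by decide +kernel

theorem mcl3_f25 : monoB mcl3_W (nat_lit 32767) (nat_lit 98304) (nat_lit 22275) (nat_lit 4) mcl_rels (nat_lit 8850) (nat_lit 354) = true := by decide +kernel

theorem mcl3_f26 : monoB mcl3_W (nat_lit 32767) (nat_lit 98304) (nat_lit 22275) (nat_lit 4) mcl_rels (nat_lit 9204) (nat_lit 354) = true := by decide +kernel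

theorem mcl3_f27 : monoB mcl3_W (nat_lit 32767) (nat_lit 98304) (nat_lit 22275) (nat_lit 4) mcl_rels (nat_lit 9558) (nat_lit 354) = true := by decide +kernel

theorem mcl3_f28 : monoB mcl3_W (nat_lit 32767) (nat_lit 98304) (nat_lit 22275) (nat_lit 4) mcl_rels (nat_lit 9912) (nat_lit 354) = true := by decide +kernel

theorem mcl3_f29 : monoB mcl3_W (nat_lit 32767) (nat_lit 98304) (nat_lit 22275) (nat_lit 4) mcl_rels (nat_lit 10266) (nat_lit 354) = true := by decide +kernel

theorem mcl3_f30 : monoB mcl3_W (nat_lit 32767) (nat_lit 98304) (nat_lit 22275) (nat_lit 4) mcl_rels (nat_lit 10620) (nat_lit 354) = true := by decide +kernel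

theorem mcl3_f31 : monoB mcl3_W (nat_lit 32767) (nat_lit 98304) (nat_lit 22275) (nat_lit 4) mcl_rels (nat_lit 10974) (nat_lit 354) = true := by decide +kernel

theorem mcl3_f32 : monoB mcl3_W (nat_lit 32767) (nat_lit 98304) (nat_lit 22275) (nat_lit 4) mcl_rels (nat_lit 11328) (nat_lit 354) = true := by decide +kernel

theorem mcl3_f33 : monoB mcl3_W (nat_lit 32767) (nat_lit 98304) (nat_lit 22275) (nat_lit 4) mcl_rels (nat_lit 11682) (nat_lit 354) = true := by decide +kernel

theorem mcl3_f34 : monoB mcl3_W (nat_lit 32767) (nat_lit 98304) (nat_lit 22275) (nat_lit 4) mcl_rels (nat_lit 12036) (nat_lit 354) = true := by decide +kernel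

theorem mcl3_f35 : monoB mcl3_W (nat_lit 32767) (nat_lit 98304) (nat_lit 22275) (nat_lit 4) mcl_rels (nat_lit 12390) (nat_lit 354) = true := by decide +kernel

theorem mcl3_f36 : monoB mcl3_W (nat_lit 32767) (nat_lit 98304) (nat_lit 22275) (nat_lit 4) mcl_rels (nat_lit 12744) (nat_lit 354) = true := by decide +kernel

theorem mcl3_f37 : monoB mcl3_W (nat_lit 32767) (nat_lit 98304) (nat_lit 22275) (nat_lit 4) mcl_rels (nat_lit 13098) (nat_lit 354) = true := by decide +kernel

theorem mcl3_f38 : monoB mcl3_W (nat_lit 32767) (nat_lit 98304) (nat_lit 22275) (nat_lit 4) mcl_rels (nat_lit 13452) (nat_lit 354) = true := by decide +kernel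

theorem mcl3_f39 : monoB mcl3_W (nat_lit 32767) (nat_lit 98304) (nat_lit 22275) (nat_lit 4) mcl_rels (nat_lit 13806) (nat_lit 354) = true := by decide +kernel

theorem mcl3_f40 : monoB mcl3_W (nat_lit 32767) (nat_lit 98304) (nat_lit 22275) (nat_lit 4) mcl_rels (nat_lit 14160) (nat_lit 354) = true := by decide +kernel

theorem mcl3_f41 : monoB mcl3_W (nat_lit 32767) (nat_lit 98304) (nat_lit 22275) (nat_lit 4) mcl_rels (nat_lit 14514) (nat_lit 354) = true := by decide +kernel

end Cfsg.Agent.Spor.MX
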