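import Mathlib
import Cfsg.Agent.Spor.MX.McLCovD

/-! Generated by tools/mx: the triple cover of McL -/

set_option autoImplicit false
set_option maxRecDepth 100000
set_option linter.unusedVariables false
set_option exponentiation.threshold 100000

namespace Cfsg.Agent.Spor.MX

open Cfsg.Agent.Spor

universe u

theorem mcl3_f42 : monoB mcl3_W (nat_lit 32767) (nat_lit 98304) (nat_lit 22275) (nat_lit 4) mcl_rels (nat_lit 14868) (nat_lit 354) = true := by decide +kernel

theorem mcl3_f43 : monoB mcl3_W (nat_lit 32767) (nat_lit 98304) (nat_lit 22275) (nat_lit 4) mcl_rels (nat_lit 15222) (nat_lit 354) = true := by decide +kernel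

theorem mcl3_f44 : monoB mcl3_W (nat_lit 32767) (nat_lit 98304) (nat_lit 22275) (nat_lit 4) mcl_rels (nat_lit 15576) (nat_lit 354) = true := by decide +kernel

theorem mcl3_f45 : monoB mcl3_W (nat_lit 32767) (nat_lit 98304) (nat_lit 22275) (nat_lit 4) mcl_rels (nat_lit 15930) (nat_lit 354) = true := by decide +kernel

theorem mcl3_f46 : monoB mcl3_W (nat_lit 32767) (nat_lit 98304) (nat_lit 22275) (nat_lit 4) mcl_rels (nat_lit 16284) (nat_lit 354) = true := by decide +kernel

theorem mcl3_f47 : monoB mcl3_W (nat_lit 32767) (nat_lit 98304) (nat_lit 22275) (nat_lit 4) mcl_rels (nat_lit 16638) (nat_lit 354) = true := by decide +kernel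

theorem mcl3_f48 : monoB mcl3_W (nat_lit 32767) (nat_lit 98304) (nat_lit 22275) (nat_lit 4) mcl_rels (nat_lit 16992) (nat_lit 354) = true := by decide +kernel

theorem mcl3_f49 : monoB mcl3_W (nat_lit 32767) (nat_lit 98304) (nat_lit 22275) (nat_lit 4) mcl_rels (nat_lit 17346) (nat_lit 354) = true := by decide +kernel

theorem mcl3_f50 : monoB mcl3_W (nat_lit 32767) (nat_lit 98304) (nat_lit 22275) (nat_lit 4) mcl_rels (nat_lit 17700) (nat_lit 354) = true := by decide +kernel

theorem mcl3_f51 : monoB mcl3_W (nat_lit 32767) (nat_lit 98304) (nat_lit 22275) (nat_lit 4) mcl_rels (nat_lit 18054) (nat_lit 354) = true := by decide +kernel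

theorem mcl3_f52 : monoB mcl3_W (nat_lit 32767) (nat_lit 98304) (nat_lit 22275) (nat_lit 4) mcl_rels (nat_lit 18408) (nat_lit 354) = true := by decide +kernel

theorem mcl3_f53 : monoB mcl3_W (nat_lit 32767) (nat_lit 98304) (nat_lit 22275) (nat_lit 4) mcl_rels (nat_lit 18762) (nat_lit 354) = true := by decide +kernel

theorem mcl3_f54 : monoB mcl3_W (nat_lit 32767) (nat_lit 98304) (nat_lit 22275) (nat_lit 4) mcl_rels (nat_lit 19116) (nat_lit 354) = true := by decide +kernel

theorem mcl3_f55 : monoB mcl3_W (nat_lit 32767) (nat_lit 98304) (nat_lit 22275) (nat_lit 4) mcl_rels (nat_lit 19470) (nat_lit 354) = true := by decide +kernel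

theorem mcl3_f56 : monoB mcl3_W (nat_lit 32767) (nat_lit 98304) (nat_lit 22275) (nat_lit 4) mcl_rels (nat_lit 19824) (nat_lit 354) = true := by decide +kernel

theorem mcl3_f57 : monoB mcl3_W (nat_lit 32767) (nat_lit 98304) (nat_lit 22275) (nat_lit 4) mcl_rels (nat_lit 20178) (nat_lit 354) = true := by decide +kernel

theorem mcl3_f58 : monoB mcl3_W (nat_lit 32767) (nat_lit 98304) (nat_lit 22275) (nat_lit 4) mcl_rels (nat_lit 20532) (nat_lit 354) = true := by decide +kernel

theorem mcl3_f59 : monoB mcl3_W (nat_lit 32767) (nat_lit 98304) (nat_lit 22275) (nat_lit 4) mcl_rels (nat_lit 20886) (nat_lit 354) = true := by decide +kernel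

theorem mcl3_f60 : monoB mcl3_W (nat_lit 32767) (nat_lit 98304) (nat_lit 22275) (nat_lit 4) mcl_rels (nat_lit 21240) (nat_lit 354) = true := by decide +kernel

theorem mcl3_f61 : monoB mcl3_W (nat_lit 32767) (nat_lit 98304) (nat_lit 22275) (nat_lit 4) mcl_rels (nat_lit 21594) (nat_lit 354) = true := by decide +kernel

theorem mcl3_f62 : monoB mcl3_W (nat_lit 32767) (nat_lit 98304) (nat_lit 22275) (nat_lit 4) mcl_rels (nat_lit 21948) (nat_lit 327) = true := by decide +kernel

end Cfsg.Agent.Spor.MX
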