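import Mathlib
import Cfsg.Agent.Spor.MX.W43
import Cfsg.Agent.Spor.MX.W43Ch
import Cfsg.Agent.Spor.MX.ClLink

/-! Generated by tools/mx: letters in U4(3) -/

set_option autoImplicit false
set_option maxRecDepth 100000
set_option linter.unusedVariables false
set_option exponentiation.threshold 100000

namespace Cfsg.Agent.Spor.MX

open Cfsg.Agent.Spor

universe u

noncomputable def u4k_M : ℕ → ℕ := BT.get (.node (.leaf (nat_lit 0x1050303070801000705070105060602))
   (.leaf (nat_lit 0x6080603070702050600000608010104))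
  )

noncomputable def u4k_P : ℕ → ℕ := getP (nat_lit 32) (nat_lit 4294967295) (nat_lit 0x808010707080106070801050708010307080107060801060608010506080103060801070508010605080105050801030508010004080107030801060308010503080103030801000208010001080108000801040008010200080101000801070807010608070105080701030807010807070104070701020707010107070108060701040607010206070101060701080507010405070102050701010507010704070106040701050407010304070108030701040307010203070101030701070207010602070105020701030207010701070106010701050107010301070100000701070806010608060105080601030806010807060104070601020706010107060108060601040606010206060101060601080506010405060102050601010506010704060106040601050406010304060108030601040306010203060101030601070206010602060105020601030206010701060106010601050106010301060100000601070805010608050105080501030805010807050104070501020705010107050108060501040605010206050101060501080505010405050102050501010505010704050106040501050405010304050108030501040305010203050101030501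07020501060205010502050103020501070105010601050105010501030105010000050100080401070704010607040105070401030704010706040106060401050604010306040107050401060504010505040103050401000404010703040106030401050304010303040100020401000104010800040104000401020004010100040107080301060803010508030103080301080703010407030102070301010703010806030104060301020603010106030108050301040503010205030101050301070403010604030105040301030403010803030104030301020303010103030107020301060203010502030103020301070103010601030105010301030103010000030100080201070702010607020105070201030702010706020106060201050602010306020107050201060502010505020103050201000402010703020106030201050302010303020100020201000102010800020104000201020002010100020100080101070701010607010105070101030701010706010106060101050601010306010107050101060501010505010103050101000401010703010106030101050301010303010100020101000101010800010104000101020001010100010108080001040800010208000101080001000700010006000100050001080400010404000102040001010400010003000108020001040200010202000101020001080100010401000102010001010100010700000106000001050000010300000108080100040801000208010001080100000701000006010000050100080401000404010002040100010401000003010008020100040201000202010001020100080101000401010002010100010101000700010006000100050001000300010007010000060100000501000003010000)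

noncomputable def u4k_A : ℕ → ℕ → ℕ := tabS (.node (.leaf (nat_lit 0x4263854628746264132331422638748317268564641352317524185765662172641582887174685641857428137746856428676375752434428345263812641357467524642817117266413523185643542428146185862836571752418578335755628228873185742812638183152552313442531172672817523131721726718856456375361818571857))
   (.leaf (nat_lit 0x8154574328127461882121481545871576143583618843614873376527432766468235472812735833765568418127358354721237487321482351154564618881274873656847676346188436135832148568442567432235172487337652351774325454721376556841545623514343612148216764475472436172168715873436142148153748734873))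
  ) (nat_lit 4) (nat_lit 15)

/-- The generators. -/
noncomputable def u4k_a : ℕ → PSU 4 Cl.GF9 3 := fun x => (PM.suOf Cl.gf9 4 3 (u4k_M x) : PSU 4 Cl.GF9 3)

/-- The points. -/
noncomputable def u4k_e : ℕ → Submodule Cl.GF9 (Fin 4 → Cl.GF9) := fun i => PM.ptOf Cl.gf9 (Equiv.refl (Fin 4)) (u4k_P i)

/-- The strong letters. -/
noncomputable def u4k_k : ℕ → PSU 4 Cl.GF9 3 := u4k_g u4k_a

noncomputable def u4m_ws : LT :=
(.node (.node (.leaf [nat_lit 7,nat_lit 5,nat_lit 2,nat_lit 6,nat_lit 2,nat_lit 5,nat_lit 1,nat_lit 2,nat_lit 1])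
 (.leaf [nat_lit 3,nat_lit 7,nat_lit 4,nat_lit 3,nat_lit 0,nat_lit 5,nat_lit 5,nat_lit 3,nat_lit 1,nat_lit 2,nat_lit 0])
) (.node (.leaf [nat_lit 4,nat_lit 9,nat_lit 5,nat_lit 1,nat_lit 4,nat_lit 3,nat_lit 0,nat_lit 3,nat_lit 1])
 (.leaf [nat_lit 3,nat_lit 9,nat_lit 7,nat_lit 5,nat_lit 3,nat_lit 1,nat_lit 5,nat_lit 3,nat_lit 1])
))

noncomputable def u4m_back : LT :=
(.node (.node (.node (.node (.leaf [nat_lit 2,nat_lit 0,nat_lit 2,nat_lit 0,nat_lit 0,nat_lit 0,nat_lit 2,nat_lit 1,nat_lit 2,nat_lit 3,nat_lit 0,nat_lit 0,nat_lit 3,nat_lit 0,nat_lit 0,nat_lit 2,nat_lit 0])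
 (.leaf [nat_lit 0,nat_lit 0,nat_lit 2,nat_lit 1,nat_lit 2,nat_lit 1,nat_lit 1,nat_lit 2,nat_lit 1,nat_lit 2,nat_lit 1,nat_lit 1,nat_lit 1,nat_lit 2,nat_lit 0,nat_lit 3,nat_lit 0,nat_lit 2,nat_lit 1])
) (.leaf [nat_lit 0,nat_lit 2,nat_lit 0,nat_lit 2,nat_lit 0,nat_lit 0,nat_lit 0,nat_lit 2,nat_lit 0,nat_lit 3,nat_lit 1,nat_lit 1,nat_lit 3])
) (.node (.leaf [nat_lit 1,nat_lit 1,nat_lit 2,nat_lit 1,nat_lit 1,nat_lit 1,nat_lit 2,nat_lit 0,nat_lit 0,nat_lit 2,nat_lit 0,nat_lit 2,nat_lit 0,nat_lit 2,nat_lit 0,nat_lit 3,nat_lit 1,nat_lit 3,nat_lit 1,nat_lit 2,nat_lit 3,nat_lit 0])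
 (.leaf [nat_lit 1,nat_lit 2,nat_lit 0,nat_lit 2,nat_lit 0,nat_lit 2,nat_lit 0,nat_lit 2,nat_lit 0,nat_lit 2,nat_lit 0,nat_lit 2,nat_lit 3,nat_lit 0,nat_lit 2,nat_lit 3,nat_lit 1,nat_lit 2])
)) (.node (.node (.node (.leaf [nat_lit 0,nat_lit 0,nat_lit 0,nat_lit 2,nat_lit 0,nat_lit 0,nat_lit 2,nat_lit 0,nat_lit 2,nat_lit 0,nat_lit 0,nat_lit 0,nat_lit 2,nat_lit 1,nat_lit 1,nat_lit 1,nat_lit 2,nat_lit 3,nat_lit 0,nat_lit 3,nat_lit 2,nat_lit 0])
 (.leaf [nat_lit 0,nat_lit 0,nat_lit 0,nat_lit 2,nat_lit 1,nat_lit 1,nat_lit 1,nat_lit 2,nat_lit 1,nat_lit 1,nat_lit 1,nat_lit 2,nat_lit 1,nat_lit 1,nat_lit 1,nat_lit 2,nat_lit 1,nat_lit 3,nat_lit 0,nat_lit 0,nat_lit 2,nat_lit 1,nat_lit 1,nat_lit 2])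
) (.leaf [nat_lit 2,nat_lit 0,nat_lit 2,nat_lit 0,nat_lit 0,nat_lit 2,nat_lit 0,nat_lit 0,nat_lit 2,nat_lit 0,nat_lit 2,nat_lit 3,nat_lit 2,nat_lit 1,nat_lit 3,nat_lit 1,nat_lit 2,nat_lit 0])
) (.node (.leaf [nat_lit 0,nat_lit 0,nat_lit 2,nat_lit 1,nat_lit 1,nat_lit 1,nat_lit 2,nat_lit 0,nat_lit 0,nat_lit 2,nat_lit 0,nat_lit 2,nat_lit 3,nat_lit 0,nat_lit 0,nat_lit 2,nat_lit 3,nat_lit 1,nat_lit 1])
 (.leaf [nat_lit 0,nat_lit 2,nat_lit 0,nat_lit 0,nat_lit 2,nat_lit 0,nat_lit 2,nat_lit 0,nat_lit 0,nat_lit 2,nat_lit 0,nat_lit 2,nat_lit 0,nat_lit 2,nat_lit 3,nat_lit 0,nat_lit 0,nat_lit 0,nat_lit 2,nat_lit 3,nat_lit 1])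
)))

/-- The letters of the chain. -/
noncomputable def u4m_g : ℕ → PSU 4 Cl.GF9 3 := fun x => evalW u4k_k (u4m_ws.get x)

theorem u4k_p0 : allRange (nat_lit 0) (nat_lit 280) (PM.ptsOK Cl.gf9 (nat_lit 4) (nat_lit 280) u4k_M u4k_P u4k_S u4k_A (nat_lit 0)) = true := by decide +kernel

theorem u4k_p1 : allRange (nat_lit 0) (nat_lit 280) (PM.ptsOK Cl.gf9 (nat_lit 4) (nat_lit 280) u4k_M u4k_P u4k_S u4k_A (nat_lit 1)) = true := by decide +kernel

theorem u4k_srt : allRange 0 280 (fun i => band (Nat.beq (PM.lead Cl.gf9 (u4k_P i) 4) 1)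
    (bor (Nat.beq (Nat.succ i) 280) (blt (PM.key Cl.gf9 (u4k_P i) 4) (PM.key Cl.gf9 (u4k_P (Nat.succ i)) 4)))) = true := by decide +kernel

theorem u4k_uni : allLt 2 (fun x => PM.uniOK Cl.gf9 4 3 (u4k_M x)) = true := by decide +kernel

theorem u4k_det : ∀ x < 2, (PM.matOf Cl.gf9 (Equiv.refl (Fin 4)) (u4k_M x)).det = 1 := by decide +kernel

theorem u4m_k0 : allRange (nat_lit 0) (nat_lit 10) (backB u4k_T u4m_ws u4m_back [nat_lit 0,nat_lit 1,nat_lit 4]) = true := by decide +kernel

theorem u4m_r4 : fixAll (tabW u4k_T u4m_ws) w43_rels (nat_lit 4) = true := by decide +kernel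

theorem u4m_r1 : fixAll (tabW u4k_T u4m_ws) w43_rels (nat_lit 1) = true := by decide +kernel

theorem u4m_r0 : fixAll (tabW u4k_T u4m_ws) w43_rels (nat_lit 0) = true := by decide +kernel

theorem u4k_cardG : Nat.card (PSU 4 Cl.GF9 3) = 3265920 := card_PSU43

noncomputable local instance u4k_act : MulAction (PSU 4 Cl.GF9 3) (Submodule Cl.GF9 (Fin 4 → Cl.GF9)) := PM.psuAct (n := 4) (q := 3) (Cl.TF.card_eq (D := Cl.gf9)) (by norm_num)

theorem u4k_h0 : Tabs u4k_e 280 u4k_S u4k_a 2 :=
  PM.tabs_psu (D := Cl.gf9) (n := 4) (q := 3) rfl (by norm_num) u4k_uni u4k_det (A := u4k_A) (Nat.forall_lt_succ_right.2 ⟨(Nat.forall_lt_succ_right.2 ⟨(fun _ h => absurd h (Nat.not_lt_zero _)), u4k_p0⟩), u4k_p1⟩)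

theorem u4k_he : Set.InjOn u4k_e (Set.Iio 280) := PM.injOn_pts (Equiv.refl (Fin 4)) u4k_srt

theorem u4k_ktabs : Tabs u4k_e 280 u4k_T u4k_k 10 := u4k_tabs u4k_h0

theorem u4k_basek : IsBase u4k_e (genLt u4k_k 10) [0, 1, 4] := u4k_base0 u4k_he u4k_h0 (hub_of_card _ _ u4k_cardG)

theorem u4k_topk : genLt u4k_k 10 = ⊤ := top_of_chain u4k_cardG (u4k_gen _) (u4k_card u4k_he u4k_h0 (hub_of_card _ _ u4k_cardG))

theorem u4m_tabs : Tabs u4k_e 280 (tabW u4k_T u4m_ws) u4m_g 4 := tabs_tabW u4k_ktabs (by decide +kernel) 4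

theorem u4m_eq : genLt u4m_g 4 = genLt u4k_k 10 :=
  genLt_tabW u4k_ktabs u4k_basek (back := u4m_back) (by decide +kernel) (range_append _ (allLt_of_zero _) u4m_k0 rfl)

theorem u4m_base : IsBase u4k_e (genLt u4m_g 4) [0, 1, 4] := u4m_eq ▸ u4k_basek

theorem u4m_gen : Gen ⊤ u4m_g w43_rels 4 3265920 :=
  gen_of_fixAll u4m_tabs (u4m_eq.trans u4k_topk) (u4k_topk ▸ u4k_basek) (Subgroup.card_top.trans u4k_cardG) (by decide +kernel) (forall_mem_cons' u4m_r0 (forall_mem_cons' u4m_r1 (forall_mem_cons' u4m_r4 forall_mem_nil')))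

theorem u4m_comm0 : Commute (evalW u4m_g [2, 0, 0, 0, 2, 0, 0, 0, 2, 0, 2, 3, 1, 3, 0, 3]) (evalW u4m_g [0, 0, 2, 1, 1, 2, 1, 2, 1, 1, 2, 0, 2, 3, 2, 1, 2, 1, 3]) := commute_of_base u4m_tabs u4m_base (by decide +kernel)

theorem u4m_comm1 : Commute (evalW u4m_g [1, 2, 0, 0, 2, 0, 2, 3, 2, 0, 2, 3, 1]) (evalW u4m_g [1, 1, 2, 0, 2, 0, 2, 0, 3, 2, 1, 2, 1]) := commute_of_base u4m_tabs u4m_base (by decide +kernel)

theorem u4m_comm2 : Commute (evalW u4m_g [1, 2, 0, 0, 2, 0, 2, 3, 2, 0, 2, 3, 1]) (evalW u4m_g [0, 2, 0, 2, 0, 0, 2, 0, 2, 0, 0, 3, 2, 3, 0, 2]) := commute_of_base u4m_tabs u4m_base (by decide +kernel)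


end Cfsg.Agent.Spor.MX
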