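import Mathlib
import Cfsg.Agent.Spor.Comp.Pres

/-! Generated by tools/pg: stabiliser chain s6k -/

set_option autoImplicit false
set_option maxRecDepth 100000
set_option linter.unusedVariables false
set_option exponentiation.threshold 100000

namespace Cfsg.Agent.Spor.MX

open Cfsg.Agent.Spor

noncomputable def s6k_S_t0 : BT :=
(.node (.node (.node (.node (.node (.leaf (nat_lit 0x11ec2b17d48986a15dcc89bc6e03d3e42b36794ea12f76039cc8b856e059c7958d81ad2f1f3707a90fa5346a327e42d))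
 (.leaf (nat_lit 0x3bf3dfb7e39eb2c70bf6d74ceaa689eeb6cae392599f82189e75c6da6585cf41149351558720928b30d3861440c2040))
) (.leaf (nat_lit 0x2aa7bf2eb77e36d5f832c6393ae6bb3ef67a2696fc22873d1d7881d968c2c10944c51903cd3985c929c6d14840d5580))
) (.node (.node (.leaf (nat_lit 0x81f7e3df8e374cc31010b2c596aaa6cadb7259965503df827a185de76db935248e28514bae4928b33cec6175dafc00))
 (.leaf (nat_lit 0x3ae78dfef7cef2c70bf6d74ceaa689eeb6cae28607e69648de75c6da6585d65544d24503ce34c2ca2481c61440c2040))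
) (.leaf (nat_lit 0x38dfae7cefef76d74cf2c70bedbabb29aa7a1f8218a392599d79b71969760f4114935155881ca24c2ce3461440c2040))
)) (.node (.node (.node (.leaf (nat_lit 0x2b0ff48999cd3e46a1dbcc8ae03b4642b55f756a1316e038b85ec059d4e9ad07950f81adf3727290f85b662327c4ad))
 (.leaf (nat_lit 0x38dfae7cefef70bf2c74cf6d6caeeb689eaa648e69607e285a6585de75c6d24503d65544ce34c2ca2481c61440c2040))
) (.leaf (nat_lit 0x3dfaaa79eaeb70be3934cdf83bf289f7e2caf2c659b6d6189c6c72185cb31148615558205e74929a64d38f4040d3500))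
) (.node (.leaf (nat_lit 0x39e881ce37bf03136d70bc109762aa6cadd7a59944d245f81a667a2db9c6e48d558f422878dc928b33ef46173d31c80))
 (.leaf (nat_lit 0x39eb7e3dfbbf32c70bf6d74cebb2dba7a29aa48e69607e285761969b71d7903d24544d654d38b3092872061440c2040))
))) (.node (.node (.node (.node (.leaf (nat_lit 0x19da80fb40e84d8bc3e711ad45ab45df312f51fa02f3606a6f702b55ea41e3216e41bb06eb01ec499b84f750a95dcac))
 (.leaf (nat_lit 0x3cefef78dfae74cf6d70bf2c689eaa6caeeb607e28648e695a6585de75c6d24503d65544ce34c2ca2481c61440c2040))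
) (.leaf (nat_lit 0x39eb7e3dfbbf2fc31cb3d35da89eaa6caeeb628607e69648dd79b71969761351558f41148c2ce3481ca2461440c2040))
) (.node (.leaf (nat_lit 0x2bb37e0a25e7451914a07f4cc81dc6edbb9ea2876d4310f43cee89d968d39654206fc2391760b33ef6aa71ca59944c0))
 (.leaf (nat_lit 0x3bf3dfb7e39eb4cf6d70bf2c6dbabb29aa7a269648e28607db71d7976196944d65503d244d38b3092872061440c2040))
)) (.node (.node (.node (.leaf (nat_lit 0x259f4e994c81bdbec8812d07916c03ad7fcc890d85b5de4a8c09d3f0fa1ad46851e89b9cf8da98c42955e0bb1edc48d))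
 (.leaf (nat_lit 0x3cefef78dfae74cf6d70bf2c6eb6caeaa689e69648e28607dc6de7585da6544d65503d244e34c2ca2481c61440c2040))
) (.leaf (nat_lit 0x3dfadbb9ea9aa2872c66976d78de89fceecae3933d1f82fc0e35e74a25a65148109558518721760b31b7144c40d03c0))
) (.node (.leaf (nat_lit 0xa25e767a3bf248f0bc51914a9abdf881dc6c310f426972c78decad968d396542073d1f81760b33ae6eb75da18944c0))
 (.leaf (nat_lit 0x3dfbbf39eb7e30bf2c74cf6d6caeeb689eaa6189f8259a391a6585de75c6d351558f41148720928b30d3861440c2040))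
))))

noncomputable def s6k_S_t : BT :=
s6k_S_t0

noncomputable def s6k_S : ℕ → ℕ → ℕ := fun x i => Nat.land (Nat.shiftRight (BT.get s6k_S_t x) (Nat.mul (nat_lit 6) i)) (nat_lit 63)

noncomputable def s6k_defs : LT :=
(.node (.node (.node (.node (.node (.leaf [nat_lit 0])
 (.leaf [nat_lit 0,nat_lit 8,nat_lit 11,nat_lit 8,nat_lit 10,nat_lit 10])
) (.leaf [nat_lit 0,nat_lit 4,nat_lit 7,nat_lit 7,nat_lit 7,nat_lit 6])
) (.node (.node (.leaf [nat_lit 0,nat_lit 1,nat_lit 2,nat_lit 3])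
 (.leaf [nat_lit 0,nat_lit 18,nat_lit 17])
) (.leaf [nat_lit 0,nat_lit 10,nat_lit 8,nat_lit 11])
)) (.node (.node (.node (.leaf [nat_lit 1,nat_lit 0])
 (.leaf [nat_lit 0,nat_lit 13,nat_lit 14])
) (.leaf [nat_lit 0,nat_lit 4,nat_lit 7,nat_lit 4,nat_lit 4,nat_lit 7])
) (.node (.leaf [nat_lit 1,nat_lit 4])
 (.leaf [nat_lit 0,nat_lit 11,nat_lit 11,nat_lit 9,nat_lit 10,nat_lit 10])
))) (.node (.node (.node (.node (.leaf [nat_lit 0])
 (.leaf [nat_lit 0,nat_lit 15,nat_lit 16])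
) (.leaf [nat_lit 0,nat_lit 7,nat_lit 6,nat_lit 5,nat_lit 5,nat_lit 4,nat_lit 5,nat_lit 6])
) (.node (.leaf [nat_lit 0,nat_lit 2,nat_lit 3,nat_lit 2,nat_lit 3,nat_lit 2,nat_lit 1,nat_lit 0,nat_lit 1,nat_lit 0])
 (.leaf [nat_lit 0,nat_lit 11,nat_lit 8,nat_lit 10])
)) (.node (.node (.node (.leaf [nat_lit 1,nat_lit 1])
 (.leaf [nat_lit 0,nat_lit 12,nat_lit 14,nat_lit 15])
) (.leaf [nat_lit 1,nat_lit 10])
) (.node (.leaf [nat_lit 1,nat_lit 5])
 (.leaf [nat_lit 0,nat_lit 10,nat_lit 9,nat_lit 10,nat_lit 9,nat_lit 10])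
))))
noncomputable def s6k_iota : ℕ → ℕ := getP (nat_lit 8) (nat_lit 255) (nat_lit 0x30102000604080d0c09131114)
noncomputable def s6k_inv : ℕ → ℕ := getP (nat_lit 8) (nat_lit 255) (nat_lit 0xb0c090a070806050403020100)
noncomputable def s6k_hws : LT := .leaf []

noncomputable def s6k_T_t0 : BT :=
(.node (.node (.node (.node (.leaf (nat_lit 0x3ae78dfef7cef2c70bf6d74ceaa689eeb6cae28607e69648de75c6da6585d65544d24503ce34c2ca2481c61440c2040))
 (.leaf (nat_lit 0x39e881ce37bf03136d70bc109762aa6cadd7a59944d245f81a667a2db9c6e48d558f422878dc928b33ef46173d31c80))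
) (.node (.leaf (nat_lit 0x38dfae7cefef76d74cf2c70bedbabb29aa7a1f8218a392599d79b71969760f4114935155881ca24c2ce3461440c2040))
 (.leaf (nat_lit 0x259f4e994c81bdbec8812d07916c03ad7fcc890d85b5de4a8c09d3f0fa1ad46851e89b9cf8da98c42955e0bb1edc48d))
)) (.node (.node (.leaf (nat_lit 0x3cefef78dfae74cf6d70bf2c6eb6caeaa689e69648e28607dc6de7585da6544d65503d244e34c2ca2481c61440c2040))
 (.leaf (nat_lit 0x2b0ff48999cd3e46a1dbcc8ae03b4642b55f756a1316e038b85ec059d4e9ad07950f81adf3727290f85b662327c4ad))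
) (.leaf (nat_lit 0x2aa7bf2eb77e36d5f832c6393ae6bb3ef67a2696fc22873d1d7881d968c2c10944c51903cd3985c929c6d14840d5580))
)) (.node (.node (.node (.leaf (nat_lit 0x3cefef78dfae74cf6d70bf2c689eaa6caeeb607e28648e695a6585de75c6d24503d65544ce34c2ca2481c61440c2040))
 (.leaf (nat_lit 0x11ec2b17d48986a15dcc89bc6e03d3e42b36794ea12f76039cc8b856e059c7958d81ad2f1f3707a90fa5346a327e42d))
) (.leaf (nat_lit 0x3bf3dfb7e39eb4cf6d70bf2c6dbabb29aa7a269648e28607db71d7976196944d65503d244d38b3092872061440c2040))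
) (.node (.node (.leaf (nat_lit 0x39eb7e3dfbbf2fc31cb3d35da89eaa6caeeb628607e69648dd79b71969761351558f41148c2ce3481ca2461440c2040))
 (.leaf (nat_lit 0x19da80fb40e84d8bc3e711ad45ab45df312f51fa02f3606a6f702b55ea41e3216e41bb06eb01ec499b84f750a95dcac))
) (.leaf (nat_lit 0x81f7e3df8e374cc31010b2c596aaa6cadb7259965503df827a185de76db935248e28514bae4928b33cec6175dafc00))
)))

noncomputable def s6k_T_t : BT :=
s6k_T_t0

noncomputable def s6k_T : ℕ → ℕ → ℕ := fun x i => Nat.land (Nat.shiftRight (BT.get s6k_T_t x) (Nat.mul (nat_lit 6) i)) (nat_lit 63)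

noncomputable def s6k_E_t0 : BT :=
(.node (.node (.node (.leaf (nat_lit 0x100d8540b6130198340560ec2e0530c81502e01c0b806c110520c608c318030060302680c0c81743205d0881701e01408616c220530781302a0640981703205c0c816c1505c0c60702a024056090260650b81943284100))
 (.leaf (nat_lit 0x1810004020010100020000000000000000000000000000000000000000000))
) (.leaf (nat_lit 0x81a01b02606c0602402608000000000000000000000141a0300000141880000))
) (.node (.node (.leaf (nat_lit 0x82201a07806c0181b00606000000000000000000000101200c0680d4068240860c000000000000000000000141a83507a0f80703e08c080000000000000000000001c1b8350820101e04000))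
 (.leaf (nat_lit 0x400000000002000000000000000000000000000000000000000000000000000000000000000000000000000000000000000))
) (.leaf (nat_lit 0xc1502405608c1501a052000000000000000000000))
))

noncomputable def s6k_E_t : BT :=
s6k_E_t0

noncomputable def s6k_E : ℕ → ℕ → ℕ := fun x i => Nat.land (Nat.shiftRight (BT.get s6k_E_t x) (Nat.mul (nat_lit 11) i)) (nat_lit 2047)

theorem s6k_slp0 : allLt (nat_lit 19) (fun i => force (Nat.add (nat_lit 2) i) (slpOK s6k_S s6k_defs (nat_lit 63))) = true := by decide +kernel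

theorem s6k_ren : allLt (nat_lit 13) (fun x => force (s6k_iota x) fun y => band (blt y (nat_lit 21)) (allRange (nat_lit 0) (nat_lit 63) fun i => Nat.beq (s6k_S y i) (s6k_T x i))) = true := by decide +kernel

theorem s6k_L5_o : band (allRange (nat_lit 0) (nat_lit 63) (orbOK s6k_T (nat_lit 1) (s6k_E (nat_lit 5)) (Nat.beq (nat_lit 31)))) (band (Nat.ble (nat_lit 2) (count2 (nat_lit 63) fun p => Nat.ble 256 (s6k_E (nat_lit 5) p))) (allLt (nat_lit 0) (fun x => Nat.beq (s6k_T x (nat_lit 31)) (nat_lit 31)))) = true := by decide +kernel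

theorem s6k_L4_o : band (allRange (nat_lit 0) (nat_lit 63) (orbOK s6k_T (nat_lit 3) (s6k_E (nat_lit 4)) (Nat.beq (nat_lit 15)))) (band (Nat.ble (nat_lit 4) (count2 (nat_lit 63) fun p => Nat.ble 256 (s6k_E (nat_lit 4) p))) (allLt (nat_lit 1) (fun x => Nat.beq (s6k_T x (nat_lit 15)) (nat_lit 15)))) = true := by decide +kernel

theorem s6k_L3_o : band (allRange (nat_lit 0) (nat_lit 63) (orbOK s6k_T (nat_lit 6) (s6k_E (nat_lit 3)) (Nat.beq (nat_lit 7)))) (band (Nat.ble (nat_lit 8) (count2 (nat_lit 63) fun p => Nat.ble 256 (s6k_E (nat_lit 3) p))) (allLt (nat_lit 3) (fun x => Nat.beq (s6k_T x (nat_lit 7)) (nat_lit 7)))) = true := by decide +kernel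

theorem s6k_L2_o : band (allRange (nat_lit 0) (nat_lit 63) (orbOK s6k_T (nat_lit 7) (s6k_E (nat_lit 2)) (Nat.beq (nat_lit 1)))) (band (Nat.ble (nat_lit 12) (count2 (nat_lit 63) fun p => Nat.ble 256 (s6k_E (nat_lit 2) p))) (allLt (nat_lit 6) (fun x => Nat.beq (s6k_T x (nat_lit 1)) (nat_lit 1)))) = true := by decide +kernel

theorem s6k_L1_o : band (allRange (nat_lit 0) (nat_lit 63) (orbOK s6k_T (nat_lit 9) (s6k_E (nat_lit 1)) (Nat.beq (nat_lit 3)))) (band (Nat.ble (nat_lit 30) (count2 (nat_lit 63) fun p => Nat.ble 256 (s6k_E (nat_lit 1) p))) (allLt (nat_lit 7) (fun x => Nat.beq (s6k_T x (nat_lit 3)) (nat_lit 3)))) = true := by decide +kernel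

theorem s6k_L0_o : band (allRange (nat_lit 0) (nat_lit 63) (orbOK s6k_T (nat_lit 13) (s6k_E (nat_lit 0)) (Nat.beq (nat_lit 0)))) (band (Nat.ble (nat_lit 63) (count2 (nat_lit 63) fun p => Nat.ble 256 (s6k_E (nat_lit 0) p))) (allLt (nat_lit 9) (fun x => Nat.beq (s6k_T x (nat_lit 0)) (nat_lit 0)))) = true := by decide +kernel

/-- The letters: a strong generating set, deepest stabiliser first. -/
noncomputable def s6k_g {G : Type*} [Group G] (a : ℕ → G) : ℕ → G := fun x => slp a 2 s6k_defs (s6k_iota x)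

theorem s6k_tabs {G α : Type*} [Group G] [MulAction G α] {e : ℕ → α} {a : ℕ → G} (h0 : Tabs e 63 s6k_S a 2) : Tabs e 63 s6k_T (s6k_g a) 13 :=
  Tabs.rename (ι := s6k_iota) (g := slp a 2 s6k_defs) ((Tabs.slp_base s6k_defs h0).slp_add (by decide) _ s6k_slp0) s6k_ren

theorem s6k_gen {G : Type*} [Group G] (a : ℕ → G) : genLt (s6k_g a) 13 = genLt a 2 :=
  genLt_slp_eq a s6k_defs (back := getP 8 255 (nat_lit 0xb09)) (by decide +kernel)

theorem s6k_low5 {G α : Type*} [Group G] [MulAction G α] {e : ℕ → α} {a : ℕ → G} (he : Set.InjOn e (Set.Iio 63)) (h0 : Tabs e 63 s6k_S a 2) :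
    LowLevel (genLt (s6k_g a) 1) (genLt (s6k_g a) 0) (e 31) 2 :=
  Tabs.lowLevel (s6k_tabs h0) he (by decide) (by decide) (by decide) s6k_L5_o

theorem s6k_ge5 {G α : Type*} [Group G] [MulAction G α] {e : ℕ → α} {a : ℕ → G} (he : Set.InjOn e (Set.Iio 63)) (h0 : Tabs e 63 s6k_S a 2) :
    Finite (genLt (s6k_g a) 1) → 2 ≤ Nat.card (genLt (s6k_g a) 1) := fun hK =>
  (s6k_low5 he h0).card hK (one_le_card_fin _)

theorem s6k_fix5 {G α : Type*} [Group G] [MulAction G α] {e : ℕ → α} {a : ℕ → G} (he : Set.InjOn e (Set.Iio 63)) (h0 : Tabs e 63 s6k_S a 2) :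
    ∀ X : Subgroup G, Finite X → (genLt (s6k_g a) 1) ≤ X → 2 * Nat.card (fixB e X [31]) ≤ Nat.card X :=
  (s6k_low5 he h0).card_fix (card_fix_nil _ _)

theorem s6k_low4 {G α : Type*} [Group G] [MulAction G α] {e : ℕ → α} {a : ℕ → G} (he : Set.InjOn e (Set.Iio 63)) (h0 : Tabs e 63 s6k_S a 2) :
    LowLevel (genLt (s6k_g a) 3) (genLt (s6k_g a) 1) (e 15) 4 :=
  Tabs.lowLevel (s6k_tabs h0) he (by decide) (by decide) (by decide) s6k_L4_o

theorem s6k_ge4 {G α : Type*} [Group G] [MulAction G α] {e : ℕ → α} {a : ℕ → G} (he : Set.InjOn e (Set.Iio 63)) (h0 : Tabs e 63 s6k_S a 2) :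
    Finite (genLt (s6k_g a) 3) → 8 ≤ Nat.card (genLt (s6k_g a) 3) := fun hK =>
  (s6k_low4 he h0).card hK (s6k_ge5 he h0)

theorem s6k_fix4 {G α : Type*} [Group G] [MulAction G α] {e : ℕ → α} {a : ℕ → G} (he : Set.InjOn e (Set.Iio 63)) (h0 : Tabs e 63 s6k_S a 2) :
    ∀ X : Subgroup G, Finite X → (genLt (s6k_g a) 3) ≤ X → 8 * Nat.card (fixB e X [15, 31]) ≤ Nat.card X :=
  (s6k_low4 he h0).card_fix (s6k_fix5 he h0)

theorem s6k_low3 {G α : Type*} [Group G] [MulAction G α] {e : ℕ → α} {a : ℕ → G} (he : Set.InjOn e (Set.Iio 63)) (h0 : Tabs e 63 s6k_S a 2) :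
    LowLevel (genLt (s6k_g a) 6) (genLt (s6k_g a) 3) (e 7) 8 :=
  Tabs.lowLevel (s6k_tabs h0) he (by decide) (by decide) (by decide) s6k_L3_o

theorem s6k_ge3 {G α : Type*} [Group G] [MulAction G α] {e : ℕ → α} {a : ℕ → G} (he : Set.InjOn e (Set.Iio 63)) (h0 : Tabs e 63 s6k_S a 2) :
    Finite (genLt (s6k_g a) 6) → 64 ≤ Nat.card (genLt (s6k_g a) 6) := fun hK =>
  (s6k_low3 he h0).card hK (s6k_ge4 he h0)

theorem s6k_fix3 {G α : Type*} [Group G] [MulAction G α] {e : ℕ → α} {a : ℕ → G} (he : Set.InjOn e (Set.Iio 63)) (h0 : Tabs e 63 s6k_S a 2) :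
    ∀ X : Subgroup G, Finite X → (genLt (s6k_g a) 6) ≤ X → 64 * Nat.card (fixB e X [7, 15, 31]) ≤ Nat.card X :=
  (s6k_low3 he h0).card_fix (s6k_fix4 he h0)

theorem s6k_low2 {G α : Type*} [Group G] [MulAction G α] {e : ℕ → α} {a : ℕ → G} (he : Set.InjOn e (Set.Iio 63)) (h0 : Tabs e 63 s6k_S a 2) :
    LowLevel (genLt (s6k_g a) 7) (genLt (s6k_g a) 6) (e 1) 12 :=
  Tabs.lowLevel (s6k_tabs h0) he (by decide) (by decide) (by decide) s6k_L2_o

theorem s6k_ge2 {G α : Type*} [Group G] [MulAction G α] {e : ℕ → α} {a : ℕ → G} (he : Set.InjOn e (Set.Iio 63)) (h0 : Tabs e 63 s6k_S a 2) :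
    Finite (genLt (s6k_g a) 7) → 768 ≤ Nat.card (genLt (s6k_g a) 7) := fun hK =>
  (s6k_low2 he h0).card hK (s6k_ge3 he h0)

theorem s6k_fix2 {G α : Type*} [Group G] [MulAction G α] {e : ℕ → α} {a : ℕ → G} (he : Set.InjOn e (Set.Iio 63)) (h0 : Tabs e 63 s6k_S a 2) :
    ∀ X : Subgroup G, Finite X → (genLt (s6k_g a) 7) ≤ X → 768 * Nat.card (fixB e X [1, 7, 15, 31]) ≤ Nat.card X :=
  (s6k_low2 he h0).card_fix (s6k_fix3 he h0)

theorem s6k_low1 {G α : Type*} [Group G] [MulAction G α] {e : ℕ → α} {a : ℕ → G} (he : Set.InjOn e (Set.Iio 63)) (h0 : Tabs e 63 s6k_S a 2) :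
    LowLevel (genLt (s6k_g a) 9) (genLt (s6k_g a) 7) (e 3) 30 :=
  Tabs.lowLevel (s6k_tabs h0) he (by decide) (by decide) (by decide) s6k_L1_o

theorem s6k_ge1 {G α : Type*} [Group G] [MulAction G α] {e : ℕ → α} {a : ℕ → G} (he : Set.InjOn e (Set.Iio 63)) (h0 : Tabs e 63 s6k_S a 2) :
    Finite (genLt (s6k_g a) 9) → 23040 ≤ Nat.card (genLt (s6k_g a) 9) := fun hK =>
  (s6k_low1 he h0).card hK (s6k_ge2 he h0)

theorem s6k_fix1 {G α : Type*} [Group G] [MulAction G α] {e : ℕ → α} {a : ℕ → G} (he : Set.InjOn e (Set.Iio 63)) (h0 : Tabs e 63 s6k_S a 2) :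
    ∀ X : Subgroup G, Finite X → (genLt (s6k_g a) 9) ≤ X → 23040 * Nat.card (fixB e X [3, 1, 7, 15, 31]) ≤ Nat.card X :=
  (s6k_low1 he h0).card_fix (s6k_fix2 he h0)

theorem s6k_low0 {G α : Type*} [Group G] [MulAction G α] {e : ℕ → α} {a : ℕ → G} (he : Set.InjOn e (Set.Iio 63)) (h0 : Tabs e 63 s6k_S a 2) :
    LowLevel (genLt (s6k_g a) 13) (genLt (s6k_g a) 9) (e 0) 63 :=
  Tabs.lowLevel (s6k_tabs h0) he (by decide) (by decide) (by decide) s6k_L0_o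

theorem s6k_ge0 {G α : Type*} [Group G] [MulAction G α] {e : ℕ → α} {a : ℕ → G} (he : Set.InjOn e (Set.Iio 63)) (h0 : Tabs e 63 s6k_S a 2) :
    Finite (genLt (s6k_g a) 13) → 1451520 ≤ Nat.card (genLt (s6k_g a) 13) := fun hK =>
  (s6k_low0 he h0).card hK (s6k_ge1 he h0)

theorem s6k_fix0 {G α : Type*} [Group G] [MulAction G α] {e : ℕ → α} {a : ℕ → G} (he : Set.InjOn e (Set.Iio 63)) (h0 : Tabs e 63 s6k_S a 2) :
    ∀ X : Subgroup G, Finite X → (genLt (s6k_g a) 13) ≤ X → 1451520 * Nat.card (fixB e X [0, 3, 1, 7, 15, 31]) ≤ Nat.card X :=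
  (s6k_low0 he h0).card_fix (s6k_fix1 he h0)

theorem s6k_ub0 {G α : Type*} [Group G] [MulAction G α] {e : ℕ → α} {a : ℕ → G} (he : Set.InjOn e (Set.Iio 63)) (h0 : Tabs e 63 s6k_S a 2) (hub : Nat.card (genLt a 2) ≠ 0 ∧ Nat.card (genLt a 2) ≤ 1451520) :
    Nat.card (genLt (s6k_g a) 13) ≠ 0 ∧ Nat.card (genLt (s6k_g a) 13) ≤ 1451520 := by rw [s6k_gen]; exact hub

theorem s6k_level0 {G α : Type*} [Group G] [MulAction G α] {e : ℕ → α} {a : ℕ → G} (he : Set.InjOn e (Set.Iio 63)) (h0 : Tabs e 63 s6k_S a 2) (hub : Nat.card (genLt a 2) ≠ 0 ∧ Nat.card (genLt a 2) ≤ 1451520) :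
    Level (genLt (s6k_g a) 13) (genLt (s6k_g a) 9) (e 0) 63 :=
  ((s6k_low0 he h0).level (c := 23040) (s6k_ub0 he h0 hub) (s6k_ge1 he h0)).1

theorem s6k_ub1 {G α : Type*} [Group G] [MulAction G α] {e : ℕ → α} {a : ℕ → G} (he : Set.InjOn e (Set.Iio 63)) (h0 : Tabs e 63 s6k_S a 2) (hub : Nat.card (genLt a 2) ≠ 0 ∧ Nat.card (genLt a 2) ≤ 1451520) :
    Nat.card (genLt (s6k_g a) 9) ≠ 0 ∧ Nat.card (genLt (s6k_g a) 9) ≤ 23040 :=
  ((s6k_low0 he h0).level (c := 23040) (s6k_ub0 he h0 hub) (s6k_ge1 he h0)).2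

theorem s6k_level1 {G α : Type*} [Group G] [MulAction G α] {e : ℕ → α} {a : ℕ → G} (he : Set.InjOn e (Set.Iio 63)) (h0 : Tabs e 63 s6k_S a 2) (hub : Nat.card (genLt a 2) ≠ 0 ∧ Nat.card (genLt a 2) ≤ 1451520) :
    Level (genLt (s6k_g a) 9) (genLt (s6k_g a) 7) (e 3) 30 :=
  ((s6k_low1 he h0).level (c := 768) (s6k_ub1 he h0 hub) (s6k_ge2 he h0)).1

theorem s6k_ub2 {G α : Type*} [Group G] [MulAction G α] {e : ℕ → α} {a : ℕ → G} (he : Set.InjOn e (Set.Iio 63)) (h0 : Tabs e 63 s6k_S a 2) (hub : Nat.card (genLt a 2) ≠ 0 ∧ Nat.card (genLt a 2) ≤ 1451520) :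
    Nat.card (genLt (s6k_g a) 7) ≠ 0 ∧ Nat.card (genLt (s6k_g a) 7) ≤ 768 :=
  ((s6k_low1 he h0).level (c := 768) (s6k_ub1 he h0 hub) (s6k_ge2 he h0)).2

theorem s6k_level2 {G α : Type*} [Group G] [MulAction G α] {e : ℕ → α} {a : ℕ → G} (he : Set.InjOn e (Set.Iio 63)) (h0 : Tabs e 63 s6k_S a 2) (hub : Nat.card (genLt a 2) ≠ 0 ∧ Nat.card (genLt a 2) ≤ 1451520) :
    Level (genLt (s6k_g a) 7) (genLt (s6k_g a) 6) (e 1) 12 :=
  ((s6k_low2 he h0).level (c := 64) (s6k_ub2 he h0 hub) (s6k_ge3 he h0)).1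

theorem s6k_ub3 {G α : Type*} [Group G] [MulAction G α] {e : ℕ → α} {a : ℕ → G} (he : Set.InjOn e (Set.Iio 63)) (h0 : Tabs e 63 s6k_S a 2) (hub : Nat.card (genLt a 2) ≠ 0 ∧ Nat.card (genLt a 2) ≤ 1451520) :
    Nat.card (genLt (s6k_g a) 6) ≠ 0 ∧ Nat.card (genLt (s6k_g a) 6) ≤ 64 :=
  ((s6k_low2 he h0).level (c := 64) (s6k_ub2 he h0 hub) (s6k_ge3 he h0)).2

theorem s6k_level3 {G α : Type*} [Group G] [MulAction G α] {e : ℕ → α} {a : ℕ → G} (he : Set.InjOn e (Set.Iio 63)) (h0 : Tabs e 63 s6k_S a 2) (hub : Nat.card (genLt a 2) ≠ 0 ∧ Nat.card (genLt a 2) ≤ 1451520) :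
    Level (genLt (s6k_g a) 6) (genLt (s6k_g a) 3) (e 7) 8 :=
  ((s6k_low3 he h0).level (c := 8) (s6k_ub3 he h0 hub) (s6k_ge4 he h0)).1

theorem s6k_ub4 {G α : Type*} [Group G] [MulAction G α] {e : ℕ → α} {a : ℕ → G} (he : Set.InjOn e (Set.Iio 63)) (h0 : Tabs e 63 s6k_S a 2) (hub : Nat.card (genLt a 2) ≠ 0 ∧ Nat.card (genLt a 2) ≤ 1451520) :
    Nat.card (genLt (s6k_g a) 3) ≠ 0 ∧ Nat.card (genLt (s6k_g a) 3) ≤ 8 :=
  ((s6k_low3 he h0).level (c := 8) (s6k_ub3 he h0 hub) (s6k_ge4 he h0)).2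

theorem s6k_level4 {G α : Type*} [Group G] [MulAction G α] {e : ℕ → α} {a : ℕ → G} (he : Set.InjOn e (Set.Iio 63)) (h0 : Tabs e 63 s6k_S a 2) (hub : Nat.card (genLt a 2) ≠ 0 ∧ Nat.card (genLt a 2) ≤ 1451520) :
    Level (genLt (s6k_g a) 3) (genLt (s6k_g a) 1) (e 15) 4 :=
  ((s6k_low4 he h0).level (c := 2) (s6k_ub4 he h0 hub) (s6k_ge5 he h0)).1

theorem s6k_ub5 {G α : Type*} [Group G] [MulAction G α] {e : ℕ → α} {a : ℕ → G} (he : Set.InjOn e (Set.Iio 63)) (h0 : Tabs e 63 s6k_S a 2) (hub : Nat.card (genLt a 2) ≠ 0 ∧ Nat.card (genLt a 2) ≤ 1451520) :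
    Nat.card (genLt (s6k_g a) 1) ≠ 0 ∧ Nat.card (genLt (s6k_g a) 1) ≤ 2 :=
  ((s6k_low4 he h0).level (c := 2) (s6k_ub4 he h0 hub) (s6k_ge5 he h0)).2

theorem s6k_level5 {G α : Type*} [Group G] [MulAction G α] {e : ℕ → α} {a : ℕ → G} (he : Set.InjOn e (Set.Iio 63)) (h0 : Tabs e 63 s6k_S a 2) (hub : Nat.card (genLt a 2) ≠ 0 ∧ Nat.card (genLt a 2) ≤ 1451520) :
    Level (genLt (s6k_g a) 1) (genLt (s6k_g a) 0) (e 31) 2 :=
  ((s6k_low5 he h0).level (c := 1) (s6k_ub5 he h0 hub) (one_le_card_fin _)).1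

theorem s6k_card5 {G α : Type*} [Group G] [MulAction G α] {e : ℕ → α} {a : ℕ → G} (he : Set.InjOn e (Set.Iio 63)) (h0 : Tabs e 63 s6k_S a 2) (hub : Nat.card (genLt a 2) ≠ 0 ∧ Nat.card (genLt a 2) ≤ 1451520) :
    Nat.card (genLt (s6k_g a) 1) = 2 :=
  (s6k_level5 he h0 hub).card (card_genLt_zero _)

theorem s6k_base5 {G α : Type*} [Group G] [MulAction G α] {e : ℕ → α} {a : ℕ → G} (he : Set.InjOn e (Set.Iio 63)) (h0 : Tabs e 63 s6k_S a 2) (hub : Nat.card (genLt a 2) ≠ 0 ∧ Nat.card (genLt a 2) ≤ 1451520) :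
    IsBase e (genLt (s6k_g a) 1) [31] :=
  (s6k_level5 he h0 hub).base (isBase_genLt_zero _ _)

theorem s6k_card4 {G α : Type*} [Group G] [MulAction G α] {e : ℕ → α} {a : ℕ → G} (he : Set.InjOn e (Set.Iio 63)) (h0 : Tabs e 63 s6k_S a 2) (hub : Nat.card (genLt a 2) ≠ 0 ∧ Nat.card (genLt a 2) ≤ 1451520) :
    Nat.card (genLt (s6k_g a) 3) = 8 :=
  (s6k_level4 he h0 hub).card (s6k_card5 he h0 hub)

theorem s6k_base4 {G α : Type*} [Group G] [MulAction G α] {e : ℕ → α} {a : ℕ → G} (he : Set.InjOn e (Set.Iio 63)) (h0 : Tabs e 63 s6k_S a 2) (hub : Nat.card (genLt a 2) ≠ 0 ∧ Nat.card (genLt a 2) ≤ 1451520) :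
    IsBase e (genLt (s6k_g a) 3) [15, 31] :=
  (s6k_level4 he h0 hub).base (s6k_base5 he h0 hub)

theorem s6k_card3 {G α : Type*} [Group G] [MulAction G α] {e : ℕ → α} {a : ℕ → G} (he : Set.InjOn e (Set.Iio 63)) (h0 : Tabs e 63 s6k_S a 2) (hub : Nat.card (genLt a 2) ≠ 0 ∧ Nat.card (genLt a 2) ≤ 1451520) :
    Nat.card (genLt (s6k_g a) 6) = 64 :=
  (s6k_level3 he h0 hub).card (s6k_card4 he h0 hub)

theorem s6k_base3 {G α : Type*} [Group G] [MulAction G α] {e : ℕ → α} {a : ℕ → G} (he : Set.InjOn e (Set.Iio 63)) (h0 : Tabs e 63 s6k_S a 2) (hub : Nat.card (genLt a 2) ≠ 0 ∧ Nat.card (genLt a 2) ≤ 1451520) :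
    IsBase e (genLt (s6k_g a) 6) [7, 15, 31] :=
  (s6k_level3 he h0 hub).base (s6k_base4 he h0 hub)

theorem s6k_card2 {G α : Type*} [Group G] [MulAction G α] {e : ℕ → α} {a : ℕ → G} (he : Set.InjOn e (Set.Iio 63)) (h0 : Tabs e 63 s6k_S a 2) (hub : Nat.card (genLt a 2) ≠ 0 ∧ Nat.card (genLt a 2) ≤ 1451520) :
    Nat.card (genLt (s6k_g a) 7) = 768 :=
  (s6k_level2 he h0 hub).card (s6k_card3 he h0 hub)

theorem s6k_base2 {G α : Type*} [Group G] [MulAction G α] {e : ℕ → α} {a : ℕ → G} (he : Set.InjOn e (Set.Iio 63)) (h0 : Tabs e 63 s6k_S a 2) (hub : Nat.card (genLt a 2) ≠ 0 ∧ Nat.card (genLt a 2) ≤ 1451520) :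
    IsBase e (genLt (s6k_g a) 7) [1, 7, 15, 31] :=
  (s6k_level2 he h0 hub).base (s6k_base3 he h0 hub)

theorem s6k_card1 {G α : Type*} [Group G] [MulAction G α] {e : ℕ → α} {a : ℕ → G} (he : Set.InjOn e (Set.Iio 63)) (h0 : Tabs e 63 s6k_S a 2) (hub : Nat.card (genLt a 2) ≠ 0 ∧ Nat.card (genLt a 2) ≤ 1451520) :
    Nat.card (genLt (s6k_g a) 9) = 23040 :=
  (s6k_level1 he h0 hub).card (s6k_card2 he h0 hub)

theorem s6k_base1 {G α : Type*} [Group G] [MulAction G α] {e : ℕ → α} {a : ℕ → G} (he : Set.InjOn e (Set.Iio 63)) (h0 : Tabs e 63 s6k_S a 2) (hub : Nat.card (genLt a 2) ≠ 0 ∧ Nat.card (genLt a 2) ≤ 1451520) :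
    IsBase e (genLt (s6k_g a) 9) [3, 1, 7, 15, 31] :=
  (s6k_level1 he h0 hub).base (s6k_base2 he h0 hub)

theorem s6k_card0 {G α : Type*} [Group G] [MulAction G α] {e : ℕ → α} {a : ℕ → G} (he : Set.InjOn e (Set.Iio 63)) (h0 : Tabs e 63 s6k_S a 2) (hub : Nat.card (genLt a 2) ≠ 0 ∧ Nat.card (genLt a 2) ≤ 1451520) :
    Nat.card (genLt (s6k_g a) 13) = 1451520 :=
  (s6k_level0 he h0 hub).card (s6k_card1 he h0 hub)

theorem s6k_base0 {G α : Type*} [Group G] [MulAction G α] {e : ℕ → α} {a : ℕ → G} (he : Set.InjOn e (Set.Iio 63)) (h0 : Tabs e 63 s6k_S a 2) (hub : Nat.card (genLt a 2) ≠ 0 ∧ Nat.card (genLt a 2) ≤ 1451520) :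
    IsBase e (genLt (s6k_g a) 13) [0, 3, 1, 7, 15, 31] :=
  (s6k_level0 he h0 hub).base (s6k_base1 he h0 hub)

theorem s6k_hinv {G α : Type*} [Group G] [MulAction G α] {e : ℕ → α} {a : ℕ → G} (he : Set.InjOn e (Set.Iio 63)) (h0 : Tabs e 63 s6k_S a 2) (hub : Nat.card (genLt a 2) ≠ 0 ∧ Nat.card (genLt a 2) ≤ 1451520) : ∀ x < 13, s6k_g a x * s6k_g a (s6k_inv x) = 1 :=
  (s6k_tabs h0).hinv_of_base (s6k_base0 he h0 hub) (by decide +kernel)

theorem s6k_card {G α : Type*} [Group G] [MulAction G α] {e : ℕ → α} {a : ℕ → G} (he : Set.InjOn e (Set.Iio 63)) (h0 : Tabs e 63 s6k_S a 2) (hub : Nat.card (genLt a 2) ≠ 0 ∧ Nat.card (genLt a 2) ≤ 1451520) :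
    Nat.card (genLt a 2) = 1451520 := by
  rw [← s6k_gen]; exact s6k_card0 he h0 hub

end Cfsg.Agent.Spor.MX
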