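import Mathlib
import Cfsg.Agent.Spor.MX.S62
import Cfsg.Agent.Spor.MX.S62Ch
import Cfsg.Agent.Spor.MX.ClLink

/-! Generated by tools/mx: letters in S6(2) -/

set_option autoImplicit false
set_option maxRecDepth 100000
set_option linter.unusedVariables false
set_option exponentiation.threshold 100000

namespace Cfsg.Agent.Spor.MX

open Cfsg.Agent.Spor

universe u

noncomputable def s6k_M : ℕ → ℕ := BT.get (.node (.leaf (nat_lit 0x100010101010001000001010000010101010001000101000100010100010000000100))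
   (.leaf (nat_lit 0x10100000000000101000001010001010100010000000101000100010100010101000001))
  )

noncomputable def s6k_P : ℕ → ℕ := getP (nat_lit 48) (nat_lit 281474976710655) (nat_lit 0x10101010101000101010101010001010101000001010101010100010101000100010101010000010101000000010101010101000101000101000101010001000101000001000101010100000101000100000101010000000101000000000101010101010001000101010001010001010001000001010001010100010001000100010001010000010001000000010001010101000001000101000001010001000001000001000001010100000001000100000001010000000001000000000001010101010100000101010100010001010100000001010100010100010100000100010100010000010100000000010100010101000100000101000100010001000100000001000100010100000100000100000100010000000100000000000100010101010000000101010000010001010000000001010000010100010000000100010000010000010000000000010000010101000000000101000000010001000000000001000000010100000000000100000000010000000000)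

noncomputable def s6k_A : ℕ → ℕ → ℕ := tabS (.node (.leaf (nat_lit 0x111111111111111111111111111111111111111111111111111111111111111))
   (.leaf (nat_lit 0x111111111111111111111111111111111111111111111111111111111111111))
  ) (nat_lit 4) (nat_lit 15)

/-- The generators. -/
noncomputable def s6k_a : ℕ → PSp 3 Cl.GF2 := fun x => QuotientGroup.mk (PM.pick (finSumFinEquiv (m := 3) (n := 3)) (Matrix.symplecticGroup (Fin 3) Cl.GF2).subtype (s6k_M x))

/-- The points. -/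
noncomputable def s6k_e : ℕ → Submodule Cl.GF2 (Fin 3 ⊕ Fin 3 → Cl.GF2) := fun i => PM.ptOf Cl.gf2 (finSumFinEquiv (m := 3) (n := 3)) (s6k_P i)

/-- The strong letters. -/
noncomputable def s6k_k : ℕ → PSp 3 Cl.GF2 := s6k_g s6k_a

noncomputable def s6m_ws : LT :=
(.node (.node (.leaf [nat_lit 11,nat_lit 7,nat_lit 3,nat_lit 0,nat_lit 7,nat_lit 3,nat_lit 2,nat_lit 6,nat_lit 2])
 (.leaf [nat_lit 6,nat_lit 1,nat_lit 6,nat_lit 1,nat_lit 0])
) (.node (.leaf [nat_lit 4,nat_lit 9,nat_lit 6,nat_lit 7,nat_lit 0,nat_lit 7,nat_lit 1,nat_lit 6,nat_lit 5,nat_lit 2,nat_lit 1,nat_lit 0])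
 (.leaf [nat_lit 10,nat_lit 6,nat_lit 9,nat_lit 6,nat_lit 8,nat_lit 3,nat_lit 6,nat_lit 5,nat_lit 4,nat_lit 3,nat_lit 1])
))

noncomputable def s6m_back : LT :=
(.node (.node (.node (.node (.leaf [nat_lit 0,nat_lit 2,nat_lit 0,nat_lit 0,nat_lit 0,nat_lit 2,nat_lit 1,nat_lit 2,nat_lit 1,nat_lit 1,nat_lit 3,nat_lit 0,nat_lit 2,nat_lit 3,nat_lit 0,nat_lit 2,nat_lit 3])
 (.leaf [nat_lit 0,nat_lit 0,nat_lit 2,nat_lit 0,nat_lit 2,nat_lit 0,nat_lit 2,nat_lit 0,nat_lit 0,nat_lit 2,nat_lit 3,nat_lit 2,nat_lit 0,nat_lit 3,nat_lit 0])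
) (.node (.leaf [nat_lit 0,nat_lit 0,nat_lit 2,nat_lit 0,nat_lit 2,nat_lit 0,nat_lit 0,nat_lit 2,nat_lit 1,nat_lit 1,nat_lit 1,nat_lit 2,nat_lit 1,nat_lit 1,nat_lit 2,nat_lit 1,nat_lit 3,nat_lit 0,nat_lit 2])
 (.leaf [nat_lit 1,nat_lit 1,nat_lit 1,nat_lit 2,nat_lit 1,nat_lit 1,nat_lit 2,nat_lit 1,nat_lit 2,nat_lit 1,nat_lit 1,nat_lit 1,nat_lit 2,nat_lit 1,nat_lit 1,nat_lit 2,nat_lit 3,nat_lit 0,nat_lit 0,nat_lit 0,nat_lit 3,nat_lit 0,nat_lit 0,nat_lit 3])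
)) (.node (.node (.leaf [nat_lit 0,nat_lit 0,nat_lit 0,nat_lit 2,nat_lit 0,nat_lit 2,nat_lit 0,nat_lit 2,nat_lit 0,nat_lit 2,nat_lit 0,nat_lit 0,nat_lit 2,nat_lit 0,nat_lit 3,nat_lit 1,nat_lit 1,nat_lit 1,nat_lit 3,nat_lit 1,nat_lit 2])
 (.leaf [nat_lit 1,nat_lit 1,nat_lit 1,nat_lit 2,nat_lit 1,nat_lit 2,nat_lit 1,nat_lit 1,nat_lit 2,nat_lit 0,nat_lit 0,nat_lit 0,nat_lit 2,nat_lit 0,nat_lit 3,nat_lit 0,nat_lit 3,nat_lit 2,nat_lit 3,nat_lit 0,nat_lit 2])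
) (.leaf [nat_lit 0,nat_lit 2,nat_lit 1,nat_lit 1,nat_lit 2,nat_lit 1,nat_lit 2,nat_lit 1,nat_lit 1,nat_lit 1,nat_lit 3,nat_lit 1,nat_lit 2,nat_lit 1,nat_lit 1])
)) (.node (.node (.node (.leaf [nat_lit 1,nat_lit 1,nat_lit 1,nat_lit 2,nat_lit 1,nat_lit 1,nat_lit 2,nat_lit 1,nat_lit 1,nat_lit 2,nat_lit 1,nat_lit 3,nat_lit 2,nat_lit 0,nat_lit 2,nat_lit 3,nat_lit 0])
 (.leaf [nat_lit 0,nat_lit 0,nat_lit 2,nat_lit 1,nat_lit 2,nat_lit 1,nat_lit 2,nat_lit 1,nat_lit 3,nat_lit 0,nat_lit 3,nat_lit 0,nat_lit 3,nat_lit 1])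
) (.leaf [nat_lit 0,nat_lit 0,nat_lit 0,nat_lit 2,nat_lit 0,nat_lit 0,nat_lit 0,nat_lit 2,nat_lit 1,nat_lit 2,nat_lit 3,nat_lit 2,nat_lit 0,nat_lit 2,nat_lit 0])
) (.node (.node (.leaf [nat_lit 1,nat_lit 1,nat_lit 2,nat_lit 0,nat_lit 0,nat_lit 2,nat_lit 0,nat_lit 2,nat_lit 0,nat_lit 3,nat_lit 1,nat_lit 1,nat_lit 1,nat_lit 3,nat_lit 1])
 (.leaf [nat_lit 2,nat_lit 0,nat_lit 2,nat_lit 0,nat_lit 0,nat_lit 2,nat_lit 0,nat_lit 0,nat_lit 0,nat_lit 2,nat_lit 1,nat_lit 3,nat_lit 0,nat_lit 0,nat_lit 0,nat_lit 3,nat_lit 0,nat_lit 0,nat_lit 3,nat_lit 0])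
) (.leaf [nat_lit 0,nat_lit 0,nat_lit 0,nat_lit 2,nat_lit 0,nat_lit 0,nat_lit 0,nat_lit 2,nat_lit 1,nat_lit 2,nat_lit 1,nat_lit 1,nat_lit 2,nat_lit 1,nat_lit 1,nat_lit 3,nat_lit 1,nat_lit 1,nat_lit 2,nat_lit 0,nat_lit 3,nat_lit 0])
)))

/-- The letters of the chain. -/
noncomputable def s6m_g : ℕ → PSp 3 Cl.GF2 := fun x => evalW s6k_k (s6m_ws.get x)

theorem s6k_p0 : allRange (nat_lit 0) (nat_lit 63) (PM.ptsOK Cl.gf2 (nat_lit 6) (nat_lit 63) s6k_M s6k_P s6k_S s6k_A (nat_lit 0)) = true := by decide +kernel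

theorem s6k_p1 : allRange (nat_lit 0) (nat_lit 63) (PM.ptsOK Cl.gf2 (nat_lit 6) (nat_lit 63) s6k_M s6k_P s6k_S s6k_A (nat_lit 1)) = true := by decide +kernel

theorem s6k_srt : allRange 0 63 (fun i => band (Nat.beq (PM.lead Cl.gf2 (s6k_P i) 6) 1)
    (bor (Nat.beq (Nat.succ i) 63) (blt (PM.key Cl.gf2 (s6k_P i) 6) (PM.key Cl.gf2 (s6k_P (Nat.succ i)) 6)))) = true := by decide +kernel

theorem s6k_sp : ∀ x < 2, PM.matOf Cl.gf2 (finSumFinEquiv (m := 3) (n := 3)) (s6k_M x) * Matrix.J (Fin 3) Cl.GF2 * (PM.matOf Cl.gf2 (finSumFinEquiv (m := 3) (n := 3)) (s6k_M x)).transpose = Matrix.J (Fin 3) Cl.GF2 := by decide +kernel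

theorem s6m_k0 : allRange (nat_lit 0) (nat_lit 13) (backB s6k_T s6m_ws s6m_back [nat_lit 0,nat_lit 3,nat_lit 1,nat_lit 7,nat_lit 15,nat_lit 31]) = true := by decide +kernel

theorem s6m_r31 : fixAll (tabW s6k_T s6m_ws) s6_rels (nat_lit 31) = true := by decide +kernel

theorem s6m_r15 : fixAll (tabW s6k_T s6m_ws) s6_rels (nat_lit 15) = true := by decide +kernel

theorem s6m_r7 : fixAll (tabW s6k_T s6m_ws) s6_rels (nat_lit 7) = true := by decide +kernel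

theorem s6m_r1 : fixAll (tabW s6k_T s6m_ws) s6_rels (nat_lit 1) = true := by decide +kernel

theorem s6m_r3 : fixAll (tabW s6k_T s6m_ws) s6_rels (nat_lit 3) = true := by decide +kernel

theorem s6m_r0 : fixAll (tabW s6k_T s6m_ws) s6_rels (nat_lit 0) = true := by decide +kernel

theorem s6k_cardG : Nat.card (PSp 3 Cl.GF2) = 1451520 := card_PSp62

noncomputable local instance s6k_act : MulAction (PSp 3 Cl.GF2) (Submodule Cl.GF2 (Fin 3 ⊕ Fin 3 → Cl.GF2)) := Cl.Sm.pspAct 3 Cl.GF2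

theorem s6k_h0 : Tabs s6k_e 63 s6k_S s6k_a 2 :=
  Cl.Sm.tabs_psp s6k_sp (Nat.forall_lt_succ_right.2 ⟨(Nat.forall_lt_succ_right.2 ⟨(fun _ h => absurd h (Nat.not_lt_zero _)), s6k_p0⟩), s6k_p1⟩)

theorem s6k_he : Set.InjOn s6k_e (Set.Iio 63) := PM.injOn_pts (finSumFinEquiv (m := 3) (n := 3)) s6k_srt

theorem s6k_ktabs : Tabs s6k_e 63 s6k_T s6k_k 13 := s6k_tabs s6k_h0

theorem s6k_basek : IsBase s6k_e (genLt s6k_k 13) [0, 3, 1, 7, 15, 31] := s6k_base0 s6k_he s6k_h0 (hub_of_card _ _ s6k_cardG)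

theorem s6k_topk : genLt s6k_k 13 = ⊤ := top_of_chain s6k_cardG (s6k_gen _) (s6k_card s6k_he s6k_h0 (hub_of_card _ _ s6k_cardG))

theorem s6m_tabs : Tabs s6k_e 63 (tabW s6k_T s6m_ws) s6m_g 4 := tabs_tabW s6k_ktabs (by decide +kernel) 4

theorem s6m_eq : genLt s6m_g 4 = genLt s6k_k 13 :=
  genLt_tabW s6k_ktabs s6k_basek (back := s6m_back) (by decide +kernel) (range_append _ (allLt_of_zero _) s6m_k0 rfl)

theorem s6m_base : IsBase s6k_e (genLt s6m_g 4) [0, 3, 1, 7, 15, 31] := s6m_eq ▸ s6k_basek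

theorem s6m_gen : Gen ⊤ s6m_g s6_rels 4 1451520 :=
  gen_of_fixAll s6m_tabs (s6m_eq.trans s6k_topk) (s6k_topk ▸ s6k_basek) (Subgroup.card_top.trans s6k_cardG) (by decide +kernel) (forall_mem_cons' s6m_r0 (forall_mem_cons' s6m_r3 (forall_mem_cons' s6m_r1 (forall_mem_cons' s6m_r7 (forall_mem_cons' s6m_r15 (forall_mem_cons' s6m_r31 forall_mem_nil'))))))

theorem s6m_comm0 : Commute (evalW s6m_g [3]) (evalW s6m_g [1, 2, 0, 2]) := commute_of_base s6m_tabs s6m_base (by decide +kernel)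


end Cfsg.Agent.Spor.MX
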