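import Mathlib
import Cfsg.Agent.Spor.Comp.Pres

/-! Generated by tools/pg: stabiliser chain l3k -/

set_option autoImplicit false
set_option maxRecDepth 100000
set_option linter.unusedVariables false
set_option exponentiation.threshold 100000

namespace Cfsg.Agent.Spor.MX

open Cfsg.Agent.Spor

noncomputable def l3k_S_t0 : BT :=
(.node (.node (.node (.node (.leaf (nat_lit 0xa02d8f9110299a058b4233ba89))
 (.leaf (nat_lit 0x95b14d7c1c53a0d19d24311020))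
) (.node (.leaf (nat_lit 0x106bdc220c33a46495b14829cc0))
 (.leaf (nat_lit 0x952d8531d1194e8d73e0418820))
)) (.node (.node (.leaf (nat_lit 0x15bce9808d19500d1a90e230b3))
 (.leaf (nat_lit 0x1194e8d73e0952d8531d0418820))
) (.leaf (nat_lit 0xb6255494666395041046f741a0))
)) (.node (.node (.node (.leaf (nat_lit 0xa02d8443e5034c51285aea0ce9))
 (.leaf (nat_lit 0x62a0ea4b16e6c1f28d26418820))
) (.node (.leaf (nat_lit 0xc4ad4119048398b0735f29c680))
 (.leaf (nat_lit 0x13a464f835cb62547414c418820))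
)) (.node (.node (.leaf (nat_lit 0x35350c710b19500f0acf0124d3))
 (.leaf (nat_lit 0x63950e7b6129c68a5a58220c20))
) (.leaf (nat_lit 0x11904829cd49466c5a92e7b600))
)))

noncomputable def l3k_S_t : BT :=
l3k_S_t0

noncomputable def l3k_S : ℕ → ℕ → ℕ := fun x i => Nat.land (Nat.shiftRight (BT.get l3k_S_t x) (Nat.mul (nat_lit 5) i)) (nat_lit 31)

noncomputable def l3k_defs : LT :=
(.node (.node (.node (.node (.leaf [nat_lit 0])
 (.leaf [nat_lit 0,nat_lit 6,nat_lit 7,nat_lit 6])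
) (.node (.leaf [nat_lit 0,nat_lit 2,nat_lit 3,nat_lit 2,nat_lit 2,nat_lit 1,nat_lit 0,nat_lit 0])
 (.leaf [nat_lit 0,nat_lit 8,nat_lit 9,nat_lit 11])
)) (.node (.node (.leaf [nat_lit 1,nat_lit 0])
 (.leaf [nat_lit 0,nat_lit 5,nat_lit 6,nat_lit 5,nat_lit 6])
) (.leaf [nat_lit 1,nat_lit 4])
)) (.node (.node (.node (.leaf [nat_lit 0])
 (.leaf [nat_lit 0,nat_lit 5,nat_lit 5,nat_lit 6,nat_lit 5,nat_lit 6,nat_lit 6])
) (.node (.leaf [nat_lit 0,nat_lit 2,nat_lit 3,nat_lit 2,nat_lit 1,nat_lit 1,nat_lit 0,nat_lit 0])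
 (.leaf [nat_lit 0,nat_lit 8,nat_lit 10,nat_lit 11])
)) (.node (.node (.leaf [nat_lit 1,nat_lit 1])
 (.leaf [nat_lit 1,nat_lit 8])
) (.leaf [nat_lit 1,nat_lit 5])
)))
noncomputable def l3k_iota : ℕ → ℕ := getP (nat_lit 8) (nat_lit 255) (nat_lit 0x301020006040b080d0c0a09)
noncomputable def l3k_inv : ℕ → ℕ := getP (nat_lit 8) (nat_lit 255) (nat_lit 0xa0b08090607040503020100)
noncomputable def l3k_hws : LT := .leaf []

noncomputable def l3k_T_t0 : BT :=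
(.node (.node (.node (.node (.leaf (nat_lit 0x62a0ea4b16e6c1f28d26418820))
 (.leaf (nat_lit 0xa02d8f9110299a058b4233ba89))
) (.leaf (nat_lit 0x95b14d7c1c53a0d19d24311020))
) (.node (.node (.leaf (nat_lit 0x952d8531d1194e8d73e0418820))
 (.leaf (nat_lit 0xa02d8443e5034c51285aea0ce9))
) (.leaf (nat_lit 0x106bdc220c33a46495b14829cc0))
)) (.node (.node (.node (.leaf (nat_lit 0x1194e8d73e0952d8531d0418820))
 (.leaf (nat_lit 0x15bce9808d19500d1a90e230b3))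
) (.leaf (nat_lit 0x63950e7b6129c68a5a58220c20))
) (.node (.node (.leaf (nat_lit 0x13a464f835cb62547414c418820))
 (.leaf (nat_lit 0x35350c710b19500f0acf0124d3))
) (.leaf (nat_lit 0xb6255494666395041046f741a0))
)))

noncomputable def l3k_T_t : BT :=
l3k_T_t0

noncomputable def l3k_T : ℕ → ℕ → ℕ := fun x i => Nat.land (Nat.shiftRight (BT.get l3k_T_t x) (Nat.mul (nat_lit 5) i)) (nat_lit 31)

noncomputable def l3k_E_t0 : BT :=
(.node (.node (.leaf (nat_lit 0x302410c1e0130960100583b0160ac0d04b06608c1580407814c2e04100))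
 (.leaf (nat_lit 0x20540840000000))
) (.node (.leaf (nat_lit 0x30060d01a00b01604c0d0330760101d8230260281d81c0780d01880000))
 (.leaf (nat_lit 0x303400c0601a0260700d81503804c0a01a0160680c8000000000000000))
))

noncomputable def l3k_E_t : BT :=
l3k_E_t0

noncomputable def l3k_E : ℕ → ℕ → ℕ := fun x i => Nat.land (Nat.shiftRight (BT.get l3k_E_t x) (Nat.mul (nat_lit 11) i)) (nat_lit 2047)

theorem l3k_slp0 : allLt (nat_lit 12) (fun i => force (Nat.add (nat_lit 2) i) (slpOK l3k_S l3k_defs (nat_lit 21))) = true := by decide +kernel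

theorem l3k_ren : allLt (nat_lit 12) (fun x => force (l3k_iota x) fun y => band (blt y (nat_lit 14)) (allRange (nat_lit 0) (nat_lit 21) fun i => Nat.beq (l3k_S y i) (l3k_T x i))) = true := by decide +kernel

theorem l3k_L3_o : band (allRange (nat_lit 0) (nat_lit 21) (orbOK l3k_T (nat_lit 4) (l3k_E (nat_lit 3)) (Nat.beq (nat_lit 5)))) (band (Nat.ble (nat_lit 16) (count2 (nat_lit 21) fun p => Nat.ble 256 (l3k_E (nat_lit 3) p))) (allLt (nat_lit 0) (fun x => Nat.beq (l3k_T x (nat_lit 5)) (nat_lit 5)))) = true := by decide +kernel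

theorem l3k_L2_o : band (allRange (nat_lit 0) (nat_lit 21) (orbOK l3k_T (nat_lit 6) (l3k_E (nat_lit 2)) (Nat.beq (nat_lit 2)))) (band (Nat.ble (nat_lit 3) (count2 (nat_lit 21) fun p => Nat.ble 256 (l3k_E (nat_lit 2) p))) (allLt (nat_lit 4) (fun x => Nat.beq (l3k_T x (nat_lit 2)) (nat_lit 2)))) = true := by decide +kernel

theorem l3k_L1_o : band (allRange (nat_lit 0) (nat_lit 21) (orbOK l3k_T (nat_lit 8) (l3k_E (nat_lit 1)) (Nat.beq (nat_lit 1)))) (band (Nat.ble (nat_lit 20) (count2 (nat_lit 21) fun p => Nat.ble 256 (l3k_E (nat_lit 1) p))) (allLt (nat_lit 6) (fun x => Nat.beq (l3k_T x (nat_lit 1)) (nat_lit 1)))) = true := by decide +kernel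

theorem l3k_L0_o : band (allRange (nat_lit 0) (nat_lit 21) (orbOK l3k_T (nat_lit 12) (l3k_E (nat_lit 0)) (Nat.beq (nat_lit 0)))) (band (Nat.ble (nat_lit 21) (count2 (nat_lit 21) fun p => Nat.ble 256 (l3k_E (nat_lit 0) p))) (allLt (nat_lit 8) (fun x => Nat.beq (l3k_T x (nat_lit 0)) (nat_lit 0)))) = true := by decide +kernel

/-- The letters: a strong generating set, deepest stabiliser first. -/
noncomputable def l3k_g {G : Type*} [Group G] (a : ℕ → G) : ℕ → G := fun x => slp a 2 l3k_defs (l3k_iota x)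

theorem l3k_tabs {G α : Type*} [Group G] [MulAction G α] {e : ℕ → α} {a : ℕ → G} (h0 : Tabs e 21 l3k_S a 2) : Tabs e 21 l3k_T (l3k_g a) 12 :=
  Tabs.rename (ι := l3k_iota) (g := slp a 2 l3k_defs) ((Tabs.slp_base l3k_defs h0).slp_add (by decide) _ l3k_slp0) l3k_ren

theorem l3k_gen {G : Type*} [Group G] (a : ℕ → G) : genLt (l3k_g a) 12 = genLt a 2 :=
  genLt_slp_eq a l3k_defs (back := getP 8 255 (nat_lit 0xa08)) (by decide +kernel)

theorem l3k_low3 {G α : Type*} [Group G] [MulAction G α] {e : ℕ → α} {a : ℕ → G} (he : Set.InjOn e (Set.Iio 21)) (h0 : Tabs e 21 l3k_S a 2) :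
    LowLevel (genLt (l3k_g a) 4) (genLt (l3k_g a) 0) (e 5) 16 :=
  Tabs.lowLevel (l3k_tabs h0) he (by decide) (by decide) (by decide) l3k_L3_o

theorem l3k_ge3 {G α : Type*} [Group G] [MulAction G α] {e : ℕ → α} {a : ℕ → G} (he : Set.InjOn e (Set.Iio 21)) (h0 : Tabs e 21 l3k_S a 2) :
    Finite (genLt (l3k_g a) 4) → 16 ≤ Nat.card (genLt (l3k_g a) 4) := fun hK =>
  (l3k_low3 he h0).card hK (one_le_card_fin _)

theorem l3k_fix3 {G α : Type*} [Group G] [MulAction G α] {e : ℕ → α} {a : ℕ → G} (he : Set.InjOn e (Set.Iio 21)) (h0 : Tabs e 21 l3k_S a 2) :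
    ∀ X : Subgroup G, Finite X → (genLt (l3k_g a) 4) ≤ X → 16 * Nat.card (fixB e X [5]) ≤ Nat.card X :=
  (l3k_low3 he h0).card_fix (card_fix_nil _ _)

theorem l3k_low2 {G α : Type*} [Group G] [MulAction G α] {e : ℕ → α} {a : ℕ → G} (he : Set.InjOn e (Set.Iio 21)) (h0 : Tabs e 21 l3k_S a 2) :
    LowLevel (genLt (l3k_g a) 6) (genLt (l3k_g a) 4) (e 2) 3 :=
  Tabs.lowLevel (l3k_tabs h0) he (by decide) (by decide) (by decide) l3k_L2_o

theorem l3k_ge2 {G α : Type*} [Group G] [MulAction G α] {e : ℕ → α} {a : ℕ → G} (he : Set.InjOn e (Set.Iio 21)) (h0 : Tabs e 21 l3k_S a 2) :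
    Finite (genLt (l3k_g a) 6) → 48 ≤ Nat.card (genLt (l3k_g a) 6) := fun hK =>
  (l3k_low2 he h0).card hK (l3k_ge3 he h0)

theorem l3k_fix2 {G α : Type*} [Group G] [MulAction G α] {e : ℕ → α} {a : ℕ → G} (he : Set.InjOn e (Set.Iio 21)) (h0 : Tabs e 21 l3k_S a 2) :
    ∀ X : Subgroup G, Finite X → (genLt (l3k_g a) 6) ≤ X → 48 * Nat.card (fixB e X [2, 5]) ≤ Nat.card X :=
  (l3k_low2 he h0).card_fix (l3k_fix3 he h0)

theorem l3k_low1 {G α : Type*} [Group G] [MulAction G α] {e : ℕ → α} {a : ℕ → G} (he : Set.InjOn e (Set.Iio 21)) (h0 : Tabs e 21 l3k_S a 2) :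
    LowLevel (genLt (l3k_g a) 8) (genLt (l3k_g a) 6) (e 1) 20 :=
  Tabs.lowLevel (l3k_tabs h0) he (by decide) (by decide) (by decide) l3k_L1_o

theorem l3k_ge1 {G α : Type*} [Group G] [MulAction G α] {e : ℕ → α} {a : ℕ → G} (he : Set.InjOn e (Set.Iio 21)) (h0 : Tabs e 21 l3k_S a 2) :
    Finite (genLt (l3k_g a) 8) → 960 ≤ Nat.card (genLt (l3k_g a) 8) := fun hK =>
  (l3k_low1 he h0).card hK (l3k_ge2 he h0)

theorem l3k_fix1 {G α : Type*} [Group G] [MulAction G α] {e : ℕ → α} {a : ℕ → G} (he : Set.InjOn e (Set.Iio 21)) (h0 : Tabs e 21 l3k_S a 2) :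
    ∀ X : Subgroup G, Finite X → (genLt (l3k_g a) 8) ≤ X → 960 * Nat.card (fixB e X [1, 2, 5]) ≤ Nat.card X :=
  (l3k_low1 he h0).card_fix (l3k_fix2 he h0)

theorem l3k_low0 {G α : Type*} [Group G] [MulAction G α] {e : ℕ → α} {a : ℕ → G} (he : Set.InjOn e (Set.Iio 21)) (h0 : Tabs e 21 l3k_S a 2) :
    LowLevel (genLt (l3k_g a) 12) (genLt (l3k_g a) 8) (e 0) 21 :=
  Tabs.lowLevel (l3k_tabs h0) he (by decide) (by decide) (by decide) l3k_L0_o

theorem l3k_ge0 {G α : Type*} [Group G] [MulAction G α] {e : ℕ → α} {a : ℕ → G} (he : Set.InjOn e (Set.Iio 21)) (h0 : Tabs e 21 l3k_S a 2) :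
    Finite (genLt (l3k_g a) 12) → 20160 ≤ Nat.card (genLt (l3k_g a) 12) := fun hK =>
  (l3k_low0 he h0).card hK (l3k_ge1 he h0)

theorem l3k_fix0 {G α : Type*} [Group G] [MulAction G α] {e : ℕ → α} {a : ℕ → G} (he : Set.InjOn e (Set.Iio 21)) (h0 : Tabs e 21 l3k_S a 2) :
    ∀ X : Subgroup G, Finite X → (genLt (l3k_g a) 12) ≤ X → 20160 * Nat.card (fixB e X [0, 1, 2, 5]) ≤ Nat.card X :=
  (l3k_low0 he h0).card_fix (l3k_fix1 he h0)

theorem l3k_ub0 {G α : Type*} [Group G] [MulAction G α] {e : ℕ → α} {a : ℕ → G} (he : Set.InjOn e (Set.Iio 21)) (h0 : Tabs e 21 l3k_S a 2) (hub : Nat.card (genLt a 2) ≠ 0 ∧ Nat.card (genLt a 2) ≤ 20160) :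
    Nat.card (genLt (l3k_g a) 12) ≠ 0 ∧ Nat.card (genLt (l3k_g a) 12) ≤ 20160 := by rw [l3k_gen]; exact hub

theorem l3k_level0 {G α : Type*} [Group G] [MulAction G α] {e : ℕ → α} {a : ℕ → G} (he : Set.InjOn e (Set.Iio 21)) (h0 : Tabs e 21 l3k_S a 2) (hub : Nat.card (genLt a 2) ≠ 0 ∧ Nat.card (genLt a 2) ≤ 20160) :
    Level (genLt (l3k_g a) 12) (genLt (l3k_g a) 8) (e 0) 21 :=
  ((l3k_low0 he h0).level (c := 960) (l3k_ub0 he h0 hub) (l3k_ge1 he h0)).1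

theorem l3k_ub1 {G α : Type*} [Group G] [MulAction G α] {e : ℕ → α} {a : ℕ → G} (he : Set.InjOn e (Set.Iio 21)) (h0 : Tabs e 21 l3k_S a 2) (hub : Nat.card (genLt a 2) ≠ 0 ∧ Nat.card (genLt a 2) ≤ 20160) :
    Nat.card (genLt (l3k_g a) 8) ≠ 0 ∧ Nat.card (genLt (l3k_g a) 8) ≤ 960 :=
  ((l3k_low0 he h0).level (c := 960) (l3k_ub0 he h0 hub) (l3k_ge1 he h0)).2

theorem l3k_level1 {G α : Type*} [Group G] [MulAction G α] {e : ℕ → α} {a : ℕ → G} (he : Set.InjOn e (Set.Iio 21)) (h0 : Tabs e 21 l3k_S a 2) (hub : Nat.card (genLt a 2) ≠ 0 ∧ Nat.card (genLt a 2) ≤ 20160) :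
    Level (genLt (l3k_g a) 8) (genLt (l3k_g a) 6) (e 1) 20 :=
  ((l3k_low1 he h0).level (c := 48) (l3k_ub1 he h0 hub) (l3k_ge2 he h0)).1

theorem l3k_ub2 {G α : Type*} [Group G] [MulAction G α] {e : ℕ → α} {a : ℕ → G} (he : Set.InjOn e (Set.Iio 21)) (h0 : Tabs e 21 l3k_S a 2) (hub : Nat.card (genLt a 2) ≠ 0 ∧ Nat.card (genLt a 2) ≤ 20160) :
    Nat.card (genLt (l3k_g a) 6) ≠ 0 ∧ Nat.card (genLt (l3k_g a) 6) ≤ 48 :=
  ((l3k_low1 he h0).level (c := 48) (l3k_ub1 he h0 hub) (l3k_ge2 he h0)).2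

theorem l3k_level2 {G α : Type*} [Group G] [MulAction G α] {e : ℕ → α} {a : ℕ → G} (he : Set.InjOn e (Set.Iio 21)) (h0 : Tabs e 21 l3k_S a 2) (hub : Nat.card (genLt a 2) ≠ 0 ∧ Nat.card (genLt a 2) ≤ 20160) :
    Level (genLt (l3k_g a) 6) (genLt (l3k_g a) 4) (e 2) 3 :=
  ((l3k_low2 he h0).level (c := 16) (l3k_ub2 he h0 hub) (l3k_ge3 he h0)).1

theorem l3k_ub3 {G α : Type*} [Group G] [MulAction G α] {e : ℕ → α} {a : ℕ → G} (he : Set.InjOn e (Set.Iio 21)) (h0 : Tabs e 21 l3k_S a 2) (hub : Nat.card (genLt a 2) ≠ 0 ∧ Nat.card (genLt a 2) ≤ 20160) :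
    Nat.card (genLt (l3k_g a) 4) ≠ 0 ∧ Nat.card (genLt (l3k_g a) 4) ≤ 16 :=
  ((l3k_low2 he h0).level (c := 16) (l3k_ub2 he h0 hub) (l3k_ge3 he h0)).2

theorem l3k_level3 {G α : Type*} [Group G] [MulAction G α] {e : ℕ → α} {a : ℕ → G} (he : Set.InjOn e (Set.Iio 21)) (h0 : Tabs e 21 l3k_S a 2) (hub : Nat.card (genLt a 2) ≠ 0 ∧ Nat.card (genLt a 2) ≤ 20160) :
    Level (genLt (l3k_g a) 4) (genLt (l3k_g a) 0) (e 5) 16 :=
  ((l3k_low3 he h0).level (c := 1) (l3k_ub3 he h0 hub) (one_le_card_fin _)).1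

theorem l3k_card3 {G α : Type*} [Group G] [MulAction G α] {e : ℕ → α} {a : ℕ → G} (he : Set.InjOn e (Set.Iio 21)) (h0 : Tabs e 21 l3k_S a 2) (hub : Nat.card (genLt a 2) ≠ 0 ∧ Nat.card (genLt a 2) ≤ 20160) :
    Nat.card (genLt (l3k_g a) 4) = 16 :=
  (l3k_level3 he h0 hub).card (card_genLt_zero _)

theorem l3k_base3 {G α : Type*} [Group G] [MulAction G α] {e : ℕ → α} {a : ℕ → G} (he : Set.InjOn e (Set.Iio 21)) (h0 : Tabs e 21 l3k_S a 2) (hub : Nat.card (genLt a 2) ≠ 0 ∧ Nat.card (genLt a 2) ≤ 20160) :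
    IsBase e (genLt (l3k_g a) 4) [5] :=
  (l3k_level3 he h0 hub).base (isBase_genLt_zero _ _)

theorem l3k_card2 {G α : Type*} [Group G] [MulAction G α] {e : ℕ → α} {a : ℕ → G} (he : Set.InjOn e (Set.Iio 21)) (h0 : Tabs e 21 l3k_S a 2) (hub : Nat.card (genLt a 2) ≠ 0 ∧ Nat.card (genLt a 2) ≤ 20160) :
    Nat.card (genLt (l3k_g a) 6) = 48 :=
  (l3k_level2 he h0 hub).card (l3k_card3 he h0 hub)

theorem l3k_base2 {G α : Type*} [Group G] [MulAction G α] {e : ℕ → α} {a : ℕ → G} (he : Set.InjOn e (Set.Iio 21)) (h0 : Tabs e 21 l3k_S a 2) (hub : Nat.card (genLt a 2) ≠ 0 ∧ Nat.card (genLt a 2) ≤ 20160) :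
    IsBase e (genLt (l3k_g a) 6) [2, 5] :=
  (l3k_level2 he h0 hub).base (l3k_base3 he h0 hub)

theorem l3k_card1 {G α : Type*} [Group G] [MulAction G α] {e : ℕ → α} {a : ℕ → G} (he : Set.InjOn e (Set.Iio 21)) (h0 : Tabs e 21 l3k_S a 2) (hub : Nat.card (genLt a 2) ≠ 0 ∧ Nat.card (genLt a 2) ≤ 20160) :
    Nat.card (genLt (l3k_g a) 8) = 960 :=
  (l3k_level1 he h0 hub).card (l3k_card2 he h0 hub)

theorem l3k_base1 {G α : Type*} [Group G] [MulAction G α] {e : ℕ → α} {a : ℕ → G} (he : Set.InjOn e (Set.Iio 21)) (h0 : Tabs e 21 l3k_S a 2) (hub : Nat.card (genLt a 2) ≠ 0 ∧ Nat.card (genLt a 2) ≤ 20160) :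
    IsBase e (genLt (l3k_g a) 8) [1, 2, 5] :=
  (l3k_level1 he h0 hub).base (l3k_base2 he h0 hub)

theorem l3k_card0 {G α : Type*} [Group G] [MulAction G α] {e : ℕ → α} {a : ℕ → G} (he : Set.InjOn e (Set.Iio 21)) (h0 : Tabs e 21 l3k_S a 2) (hub : Nat.card (genLt a 2) ≠ 0 ∧ Nat.card (genLt a 2) ≤ 20160) :
    Nat.card (genLt (l3k_g a) 12) = 20160 :=
  (l3k_level0 he h0 hub).card (l3k_card1 he h0 hub)

theorem l3k_base0 {G α : Type*} [Group G] [MulAction G α] {e : ℕ → α} {a : ℕ → G} (he : Set.InjOn e (Set.Iio 21)) (h0 : Tabs e 21 l3k_S a 2) (hub : Nat.card (genLt a 2) ≠ 0 ∧ Nat.card (genLt a 2) ≤ 20160) :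
    IsBase e (genLt (l3k_g a) 12) [0, 1, 2, 5] :=
  (l3k_level0 he h0 hub).base (l3k_base1 he h0 hub)

theorem l3k_hinv {G α : Type*} [Group G] [MulAction G α] {e : ℕ → α} {a : ℕ → G} (he : Set.InjOn e (Set.Iio 21)) (h0 : Tabs e 21 l3k_S a 2) (hub : Nat.card (genLt a 2) ≠ 0 ∧ Nat.card (genLt a 2) ≤ 20160) : ∀ x < 12, l3k_g a x * l3k_g a (l3k_inv x) = 1 :=
  (l3k_tabs h0).hinv_of_base (l3k_base0 he h0 hub) (by decide +kernel)

theorem l3k_card {G α : Type*} [Group G] [MulAction G α] {e : ℕ → α} {a : ℕ → G} (he : Set.InjOn e (Set.Iio 21)) (h0 : Tabs e 21 l3k_S a 2) (hub : Nat.card (genLt a 2) ≠ 0 ∧ Nat.card (genLt a 2) ≤ 20160) :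
    Nat.card (genLt a 2) = 20160 := by
  rw [← l3k_gen]; exact l3k_card0 he h0 hub

end Cfsg.Agent.Spor.MX
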