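import Mathlib
import Cfsg.Agent.Spor.MX.L34
import Cfsg.Agent.Spor.MX.L34Ch
import Cfsg.Agent.Spor.MX.ClLink
import Cfsg.Agent.Spor.M21

/-! Generated by tools/mx: letters in L3(4) -/

set_option autoImplicit false
set_option maxRecDepth 100000
set_option linter.unusedVariables false
set_option exponentiation.threshold 100000

namespace Cfsg.Agent.Spor.MX

open Cfsg.Agent.Spor

universe u

noncomputable def l3k_M : ℕ → ℕ := BT.get (.node (.leaf (nat_lit 0x200010203010300))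
   (.leaf (nat_lit 0x100030001030303))
  )

noncomputable def l3k_P : ℕ → ℕ := getP (nat_lit 24) (nat_lit 16777215) (nat_lit 0x30301020301010301000301030201020201010201000201030101020101010101000101030001020001010001000001030100020100010100000100010000)

noncomputable def l3k_A : ℕ → ℕ → ℕ := tabS (.node (.leaf (nat_lit 0x113223112123321311231))
   (.leaf (nat_lit 0x332133122131122312333))
  ) (nat_lit 4) (nat_lit 15)

/-- The generators. -/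
noncomputable def l3k_a : ℕ → Matrix.ProjectiveSpecialLinearGroup (Fin 3) Cl.GF4 := fun x => QuotientGroup.mk (PM.pick (Equiv.refl (Fin 3)) (slToMat 3 Cl.GF4) (l3k_M x))

/-- The points. -/
noncomputable def l3k_e : ℕ → Submodule Cl.GF4 (Fin 3 → Cl.GF4) := fun i => PM.ptOf Cl.gf4 (Equiv.refl (Fin 3)) (l3k_P i)

/-- The strong letters. -/
noncomputable def l3k_k : ℕ → Matrix.ProjectiveSpecialLinearGroup (Fin 3) Cl.GF4 := l3k_g l3k_a

noncomputable def l3m_ws : LT :=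
(.node (.node (.leaf [nat_lit 8,nat_lit 1,nat_lit 7,nat_lit 4,nat_lit 3,nat_lit 2])
 (.leaf [nat_lit 5,nat_lit 9,nat_lit 7,nat_lit 1,nat_lit 6,nat_lit 4,nat_lit 3,nat_lit 0])
) (.leaf [nat_lit 0,nat_lit 9,nat_lit 2,nat_lit 6,nat_lit 5,nat_lit 2,nat_lit 1,nat_lit 0])
)

noncomputable def l3m_back : LT :=
(.node (.node (.node (.node (.leaf [nat_lit 2,nat_lit 1,nat_lit 2,nat_lit 1,nat_lit 2,nat_lit 0,nat_lit 2,nat_lit 0,nat_lit 2])
 (.leaf [nat_lit 2,nat_lit 0,nat_lit 0,nat_lit 2,nat_lit 1,nat_lit 2,nat_lit 0,nat_lit 0,nat_lit 0,nat_lit 2,nat_lit 1,nat_lit 2,nat_lit 1,nat_lit 2])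
) (.leaf [nat_lit 0,nat_lit 0,nat_lit 2,nat_lit 0,nat_lit 2,nat_lit 1,nat_lit 1,nat_lit 1,nat_lit 2,nat_lit 1])
) (.node (.node (.leaf [nat_lit 1,nat_lit 1,nat_lit 2,nat_lit 1,nat_lit 1,nat_lit 2])
 (.leaf [nat_lit 1,nat_lit 1,nat_lit 1,nat_lit 2,nat_lit 1,nat_lit 1,nat_lit 1,nat_lit 2,nat_lit 0,nat_lit 2,nat_lit 1,nat_lit 2,nat_lit 0,nat_lit 0,nat_lit 2,nat_lit 1])
) (.leaf [nat_lit 2,nat_lit 0,nat_lit 2,nat_lit 1,nat_lit 2,nat_lit 0,nat_lit 2,nat_lit 0,nat_lit 0,nat_lit 0,nat_lit 2,nat_lit 0,nat_lit 2])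
)) (.node (.node (.node (.leaf [nat_lit 1,nat_lit 1,nat_lit 1,nat_lit 2,nat_lit 1,nat_lit 2,nat_lit 0,nat_lit 2,nat_lit 0,nat_lit 0,nat_lit 0])
 (.leaf [nat_lit 0,nat_lit 0,nat_lit 0,nat_lit 2,nat_lit 1,nat_lit 2,nat_lit 1,nat_lit 2,nat_lit 0,nat_lit 0,nat_lit 0,nat_lit 2,nat_lit 1,nat_lit 1,nat_lit 1,nat_lit 2])
) (.leaf [nat_lit 0,nat_lit 2,nat_lit 0,nat_lit 0,nat_lit 0,nat_lit 2,nat_lit 1,nat_lit 2,nat_lit 1,nat_lit 1])
) (.node (.node (.leaf [nat_lit 1,nat_lit 2,nat_lit 1,nat_lit 1,nat_lit 2,nat_lit 0,nat_lit 0,nat_lit 2,nat_lit 1,nat_lit 2,nat_lit 1,nat_lit 1,nat_lit 2])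
 (.leaf [nat_lit 1,nat_lit 2,nat_lit 0,nat_lit 2,nat_lit 0,nat_lit 2,nat_lit 1,nat_lit 2,nat_lit 0,nat_lit 0,nat_lit 2,nat_lit 1,nat_lit 1,nat_lit 2])
) (.leaf [nat_lit 2,nat_lit 1,nat_lit 2,nat_lit 1,nat_lit 1,nat_lit 1,nat_lit 2,nat_lit 1,nat_lit 2,nat_lit 0,nat_lit 2,nat_lit 1,nat_lit 2])
)))

/-- The letters of the chain. -/
noncomputable def l3m_g : ℕ → Matrix.ProjectiveSpecialLinearGroup (Fin 3) Cl.GF4 := fun x => evalW l3k_k (l3m_ws.get x)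

theorem l3k_p0 : allRange (nat_lit 0) (nat_lit 21) (PM.ptsOK Cl.gf4 (nat_lit 3) (nat_lit 21) l3k_M l3k_P l3k_S l3k_A (nat_lit 0)) = true := by decide +kernel

theorem l3k_p1 : allRange (nat_lit 0) (nat_lit 21) (PM.ptsOK Cl.gf4 (nat_lit 3) (nat_lit 21) l3k_M l3k_P l3k_S l3k_A (nat_lit 1)) = true := by decide +kernel

theorem l3k_srt : allRange 0 21 (fun i => band (Nat.beq (PM.lead Cl.gf4 (l3k_P i) 3) 1)
    (bor (Nat.beq (Nat.succ i) 21) (blt (PM.key Cl.gf4 (l3k_P i) 3) (PM.key Cl.gf4 (l3k_P (Nat.succ i)) 3)))) = true := by decide +kernel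

theorem l3k_det : ∀ x < 2, (PM.matOf Cl.gf4 (Equiv.refl (Fin 3)) (l3k_M x)).det = 1 := by decide +kernel

theorem l3m_k0 : allRange (nat_lit 0) (nat_lit 12) (backB l3k_T l3m_ws l3m_back [nat_lit 0,nat_lit 1,nat_lit 2,nat_lit 5]) = true := by decide +kernel

theorem l3m_r5 : fixAll (tabW l3k_T l3m_ws) l34_rels (nat_lit 5) = true := by decide +kernel

theorem l3m_r2 : fixAll (tabW l3k_T l3m_ws) l34_rels (nat_lit 2) = true := by decide +kernel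

theorem l3m_r1 : fixAll (tabW l3k_T l3m_ws) l34_rels (nat_lit 1) = true := by decide +kernel

theorem l3m_r0 : fixAll (tabW l3k_T l3m_ws) l34_rels (nat_lit 0) = true := by decide +kernel

theorem l3k_cardG : Nat.card (Matrix.ProjectiveSpecialLinearGroup (Fin 3) Cl.GF4) = 20160 := Golay.card_psl_three_four Cl.card_GF4

noncomputable local instance l3k_act : MulAction (Matrix.ProjectiveSpecialLinearGroup (Fin 3) Cl.GF4) (Submodule Cl.GF4 (Fin 3 → Cl.GF4)) := PM.pslAct 3 Cl.GF4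

theorem l3k_h0 : Tabs l3k_e 21 l3k_S l3k_a 2 :=
  Cl.Sm.tabs_psl l3k_det (Nat.forall_lt_succ_right.2 ⟨(Nat.forall_lt_succ_right.2 ⟨(fun _ h => absurd h (Nat.not_lt_zero _)), l3k_p0⟩), l3k_p1⟩)

theorem l3k_he : Set.InjOn l3k_e (Set.Iio 21) := PM.injOn_pts (Equiv.refl (Fin 3)) l3k_srt

theorem l3k_ktabs : Tabs l3k_e 21 l3k_T l3k_k 12 := l3k_tabs l3k_h0

theorem l3k_basek : IsBase l3k_e (genLt l3k_k 12) [0, 1, 2, 5] := l3k_base0 l3k_he l3k_h0 (hub_of_card _ _ l3k_cardG)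

theorem l3k_topk : genLt l3k_k 12 = ⊤ := top_of_chain l3k_cardG (l3k_gen _) (l3k_card l3k_he l3k_h0 (hub_of_card _ _ l3k_cardG))

theorem l3m_tabs : Tabs l3k_e 21 (tabW l3k_T l3m_ws) l3m_g 3 := tabs_tabW l3k_ktabs (by decide +kernel) 3

theorem l3m_eq : genLt l3m_g 3 = genLt l3k_k 12 :=
  genLt_tabW l3k_ktabs l3k_basek (back := l3m_back) (by decide +kernel) (range_append _ (allLt_of_zero _) l3m_k0 rfl)

theorem l3m_base : IsBase l3k_e (genLt l3m_g 3) [0, 1, 2, 5] := l3m_eq ▸ l3k_basek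

theorem l3m_gen : Gen ⊤ l3m_g l34_rels 3 20160 :=
  gen_of_fixAll l3m_tabs (l3m_eq.trans l3k_topk) (l3k_topk ▸ l3k_basek) (Subgroup.card_top.trans l3k_cardG) (by decide +kernel) (forall_mem_cons' l3m_r0 (forall_mem_cons' l3m_r1 (forall_mem_cons' l3m_r2 (forall_mem_cons' l3m_r5 forall_mem_nil'))))

theorem l3m_comm0 : Commute (evalW l3m_g [1, 2, 0, 2, 1, 1, 2, 0, 2, 0, 0, 0, 2, 1]) (evalW l3m_g [1, 2, 1, 2, 0, 0, 0, 2]) := commute_of_base l3m_tabs l3m_base (by decide +kernel)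

theorem l3m_comm1 : Commute (evalW l3m_g [0, 0, 2, 0, 0, 2, 1, 2, 1, 2, 0, 2, 1]) (evalW l3m_g [0, 0, 0, 2, 0, 2, 0, 2, 0, 0, 2, 1, 2]) := commute_of_base l3m_tabs l3m_base (by decide +kernel)

theorem l3m_comm2 : Commute (evalW l3m_g [0, 0, 2, 1, 1, 2, 0, 0, 2, 1, 2, 0, 2, 1, 1]) (evalW l3m_g [0, 0, 0, 2, 0, 0, 2, 1, 1, 2, 1, 2, 0, 0, 2]) := commute_of_base l3m_tabs l3m_base (by decide +kernel)


end Cfsg.Agent.Spor.MX
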