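import Mathlib
import Cfsg.Agent.Spor.MX.G24
import Cfsg.Agent.Spor.MX.G2Link

/-! Generated by tools/mx: letters in G2(4) -/

set_option autoImplicit false
set_option maxRecDepth 100000
set_option linter.unusedVariables false
set_option exponentiation.threshold 100000

namespace Cfsg.Agent.Spor.MX

open Cfsg.Agent.Spor

universe u

noncomputable def g24m_one : ℕ := nat_lit 0x1000000000000000100000000000000010000000000000001000000000000000100000000000000010000000000000001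

noncomputable def g24m_ac : BT :=
(.node (.node (.node (.node (.node (.node (.leaf (nat_lit 0x1000000000100000100000000010000010000000000000001000000000000000100000000000000010000000000000001))
 (.leaf (nat_lit 0x1000000000000000100000000000300010000000000030001000000000000000100000002000000010000000000030001))
) (.leaf (nat_lit 0x1020000000000000100000000000000010003000000000001020000000000000100000000000000010200000000000001))
) (.node (.leaf (nat_lit 0x1000000000000000100000000000100010000000000010001000000000000000100000001000000010000000000010001))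
 (.leaf (nat_lit 0x1000000000300000100000000030000010000000000000001000000000000000100000000000000010000000000000001))
)) (.node (.node (.leaf (nat_lit 0x1010000000000000100000000000000010001000000000001010000000000000100000000000000010100000000000001))
 (.leaf (nat_lit 0x1000000000000000100000000000200010000000000020001000000000000000100000003000000010000000000020001))
) (.node (.leaf (nat_lit 0x1000000000200000100000000020000010000000000000001000000000000000100000000000000010000000000000001))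
 (.leaf (nat_lit 0x1030000000000000100000000000000010002000000000001030000000000000100000000000000010300000000000001))
))) (.node (.node (.node (.node (.leaf (nat_lit 0x1000000000001000100000100000000010000010000000001000001000000000100000000000000010000000000000001))
 (.leaf (nat_lit 0x1000000000000000100000000000000010000000000000001000000030000000100000000000000010000000300000001))
) (.leaf (nat_lit 0x1000000000000000100000000000002010000000000000001000000000000000100000000000002010000000000000001))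
) (.node (.leaf (nat_lit 0x1000000000000000100000000000000010000000000000001000000010000000100000000000000010000000100000001))
 (.leaf (nat_lit 0x1000000000002000100000300000000010000030000000001000003000000000100000000000000010000000000000001))
)) (.node (.node (.leaf (nat_lit 0x1000000000000000100000000000001010000000000000001000000000000000100000000000001010000000000000001))
 (.leaf (nat_lit 0x1000000000000000100000000000000010000000000000001000000020000000100000000000000010000000200000001))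
) (.node (.leaf (nat_lit 0x1000000000003000100000200000000010000020000000001000002000000000100000000000000010000000000000001))
 (.leaf (nat_lit 0x1000000000000000100000000000003010000000000000001000000000000000100000000000003010000000000000001))
)))) (.node (.node (.node (.node (.node (.leaf (nat_lit 0x1000000010000000100000000000000010000000100000001000000000000000100000000000000010000000000000001))
 (.leaf (nat_lit 0x1000000000000000100000000000000010000000003000001000000000300000100000000030000010002000000000001))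
) (.leaf (nat_lit 0x1000000000000000102000000000000010000000000000001000000000000000102000000000000010000000000000001))
) (.node (.leaf (nat_lit 0x1000000000000000100000000000000010000000001000001000000000100000100000000010000010001000000000001))
 (.leaf (nat_lit 0x1000000030000000100000000000000010000000300000001000000000000000100000000000000010000000000000001))
)) (.node (.node (.leaf (nat_lit 0x1000000000000000101000000000000010000000000000001000000000000000101000000000000010000000000000001))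
 (.leaf (nat_lit 0x1000000000000000100000000000000010000000002000001000000000200000100000000020000010003000000000001))
) (.node (.leaf (nat_lit 0x1000000020000000100000000000000010000000200000001000000000000000100000000000000010000000000000001))
 (.leaf (nat_lit 0x1000000000000000103000000000000010000000000000001000000000000000103000000000000010000000000000001))
))) (.node (.node (.node (.node (.leaf (nat_lit 0x1000100000000000100000001000000010000000000000001000100000000000100010000000000010000000000000001))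
 (.leaf (nat_lit 0x1000000000000000100000000000000010000000000000001000000000000000100000300000000010000030000000001))
) (.leaf (nat_lit 0x1000000000000020100000000000000010000000000000201000000000003000100000000000000010000000000000201))
) (.node (.leaf (nat_lit 0x1000000000000000100000000000000010000000000000001000000000000000100000100000000010000010000000001))
 (.leaf (nat_lit 0x1000300000000000100000002000000010000000000000001000300000000000100030000000000010000000000000001))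
)) (.node (.node (.leaf (nat_lit 0x1000000000000010100000000000000010000000000000101000000000001000100000000000000010000000000000101))
 (.leaf (nat_lit 0x1000000000000000100000000000000010000000000000001000000000000000100000200000000010000020000000001))
) (.node (.leaf (nat_lit 0x1000200000000000100000003000000010000000000000001000200000000000100020000000000010000000000000001))
 (.leaf (nat_lit 0x1000000000000030100000000000000010000000000000301000000000002000100000000000000010000000000000301))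
)))))

noncomputable def g24m_gc : BT :=
(.node (.node (.node (.leaf (nat_lit 0x3010200020301000003000201010300030003030003010101020103010200000101010103010002020002010100020002))
 (.leaf (nat_lit 0x1030300020102020003000203010000010002020202010301030200020301000103030201030000000300020200000201))
) (.leaf (nat_lit 0x1000200030200010201000100020201020000010303020101000201010300000201020000030001020000000100020101))
) (.node (.leaf (nat_lit 0x2000100000101000201000301030202010003020201020201030102010100000303020103020000000102010100030003))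
 (.leaf (nat_lit 0x10100000300020300000200030303020000020003030201010102030300000200010000030003030100000300030200))
))

noncomputable def g24m_ws : LT :=
(.node (.node (.node (.leaf [nat_lit 13,nat_lit 3,nat_lit 21,nat_lit 5,nat_lit 7,nat_lit 18,nat_lit 11,nat_lit 12,nat_lit 27])
 (.leaf [nat_lit 3,nat_lit 5,nat_lit 28,nat_lit 23,nat_lit 5,nat_lit 3])
) (.leaf [nat_lit 19,nat_lit 18,nat_lit 12,nat_lit 17,nat_lit 18,nat_lit 19])
) (.node (.leaf [nat_lit 4,nat_lit 0,nat_lit 18,nat_lit 5,nat_lit 19,nat_lit 18,nat_lit 11,nat_lit 27])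
 (.leaf [nat_lit 34,nat_lit 35,nat_lit 32,nat_lit 24,nat_lit 3,nat_lit 19,nat_lit 35,nat_lit 32])
))

noncomputable def g24m_back : LT :=
(.node (.node (.node (.node (.node (.node (.leaf [nat_lit 0,nat_lit 2,nat_lit 1,nat_lit 2,nat_lit 0,nat_lit 0,nat_lit 0,nat_lit 2,nat_lit 1,nat_lit 2,nat_lit 3,nat_lit 2,nat_lit 4,nat_lit 2,nat_lit 4,nat_lit 3,nat_lit 0,nat_lit 0])
 (.leaf [nat_lit 2,nat_lit 1,nat_lit 2,nat_lit 1,nat_lit 1,nat_lit 1,nat_lit 2,nat_lit 0,nat_lit 2,nat_lit 1,nat_lit 1,nat_lit 3,nat_lit 1,nat_lit 3,nat_lit 1,nat_lit 4,nat_lit 0,nat_lit 4,nat_lit 1,nat_lit 4,nat_lit 1])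
) (.leaf [nat_lit 0,nat_lit 0,nat_lit 2,nat_lit 1,nat_lit 1,nat_lit 2,nat_lit 0,nat_lit 0,nat_lit 2,nat_lit 3,nat_lit 0,nat_lit 0,nat_lit 2,nat_lit 1,nat_lit 4,nat_lit 0,nat_lit 2,nat_lit 4,nat_lit 1,nat_lit 2,nat_lit 3])
) (.node (.leaf [nat_lit 0,nat_lit 0,nat_lit 2,nat_lit 0,nat_lit 0,nat_lit 0,nat_lit 2,nat_lit 1,nat_lit 2,nat_lit 0,nat_lit 0,nat_lit 0,nat_lit 2,nat_lit 3,nat_lit 1,nat_lit 3,nat_lit 1,nat_lit 3,nat_lit 4,nat_lit 0,nat_lit 2,nat_lit 1,nat_lit 4,nat_lit 2,nat_lit 0])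
 (.leaf [nat_lit 0,nat_lit 2,nat_lit 0,nat_lit 2,nat_lit 0,nat_lit 0,nat_lit 2,nat_lit 0,nat_lit 0,nat_lit 2,nat_lit 1,nat_lit 3,nat_lit 2,nat_lit 4,nat_lit 1,nat_lit 4,nat_lit 3,nat_lit 1,nat_lit 1])
)) (.node (.node (.leaf [nat_lit 2,nat_lit 1,nat_lit 1,nat_lit 2,nat_lit 1,nat_lit 1,nat_lit 2,nat_lit 1,nat_lit 1,nat_lit 1,nat_lit 2,nat_lit 0,nat_lit 3,nat_lit 1,nat_lit 1,nat_lit 1,nat_lit 4,nat_lit 3,nat_lit 4,nat_lit 1])
 (.leaf [nat_lit 0,nat_lit 2,nat_lit 0,nat_lit 0,nat_lit 2,nat_lit 0,nat_lit 0,nat_lit 2,nat_lit 0,nat_lit 3,nat_lit 2,nat_lit 0,nat_lit 0,nat_lit 2,nat_lit 4,nat_lit 0,nat_lit 4,nat_lit 0,nat_lit 4,nat_lit 2,nat_lit 1])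
) (.node (.leaf [nat_lit 1,nat_lit 1,nat_lit 1,nat_lit 2,nat_lit 0,nat_lit 2,nat_lit 1,nat_lit 1,nat_lit 2,nat_lit 0,nat_lit 0,nat_lit 0,nat_lit 2,nat_lit 0,nat_lit 0,nat_lit 3,nat_lit 0,nat_lit 2,nat_lit 0,nat_lit 2,nat_lit 4,nat_lit 3,nat_lit 1,nat_lit 2,nat_lit 4])
 (.leaf [nat_lit 0,nat_lit 0,nat_lit 2,nat_lit 1,nat_lit 1,nat_lit 1,nat_lit 2,nat_lit 0,nat_lit 0,nat_lit 2,nat_lit 0,nat_lit 0,nat_lit 2,nat_lit 0,nat_lit 3,nat_lit 0,nat_lit 3,nat_lit 0,nat_lit 0,nat_lit 0,nat_lit 4,nat_lit 3,nat_lit 1,nat_lit 4,nat_lit 3])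
))) (.node (.node (.node (.node (.leaf [nat_lit 2,nat_lit 1,nat_lit 1,nat_lit 2,nat_lit 0,nat_lit 0,nat_lit 0,nat_lit 2,nat_lit 0,nat_lit 3,nat_lit 2,nat_lit 1,nat_lit 3,nat_lit 4,nat_lit 0,nat_lit 0,nat_lit 4,nat_lit 0,nat_lit 2,nat_lit 0])
 (.leaf [nat_lit 1,nat_lit 1,nat_lit 1,nat_lit 2,nat_lit 0,nat_lit 0,nat_lit 0,nat_lit 2,nat_lit 1,nat_lit 2,nat_lit 1,nat_lit 1,nat_lit 1,nat_lit 2,nat_lit 0,nat_lit 2,nat_lit 3,nat_lit 0,nat_lit 4,nat_lit 1,nat_lit 4,nat_lit 0,nat_lit 4,nat_lit 1])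
) (.leaf [nat_lit 0,nat_lit 2,nat_lit 0,nat_lit 0,nat_lit 2,nat_lit 0,nat_lit 2,nat_lit 1,nat_lit 3,nat_lit 0,nat_lit 0,nat_lit 2,nat_lit 1,nat_lit 4,nat_lit 3,nat_lit 4,nat_lit 0])
) (.node (.leaf [nat_lit 0,nat_lit 0,nat_lit 0,nat_lit 2,nat_lit 0,nat_lit 0,nat_lit 2,nat_lit 1,nat_lit 1,nat_lit 1,nat_lit 2,nat_lit 1,nat_lit 1,nat_lit 3,nat_lit 0,nat_lit 3,nat_lit 0,nat_lit 2,nat_lit 0,nat_lit 4,nat_lit 1,nat_lit 1,nat_lit 4,nat_lit 2,nat_lit 4])
 (.leaf [nat_lit 0,nat_lit 2,nat_lit 0,nat_lit 2,nat_lit 0,nat_lit 0,nat_lit 0,nat_lit 2,nat_lit 0,nat_lit 0,nat_lit 2,nat_lit 0,nat_lit 0,nat_lit 3,nat_lit 2,nat_lit 3,nat_lit 2,nat_lit 4,nat_lit 0,nat_lit 2,nat_lit 4,nat_lit 2,nat_lit 1,nat_lit 3])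
)) (.node (.node (.leaf [nat_lit 1,nat_lit 1,nat_lit 2,nat_lit 0,nat_lit 2,nat_lit 1,nat_lit 2,nat_lit 1,nat_lit 2,nat_lit 1,nat_lit 3,nat_lit 0,nat_lit 0,nat_lit 0,nat_lit 3,nat_lit 0,nat_lit 0,nat_lit 4,nat_lit 3,nat_lit 4,nat_lit 0,nat_lit 3])
 (.leaf [nat_lit 1,nat_lit 2,nat_lit 1,nat_lit 1,nat_lit 2,nat_lit 1,nat_lit 2,nat_lit 0,nat_lit 0,nat_lit 2,nat_lit 1,nat_lit 3,nat_lit 4,nat_lit 0,nat_lit 4,nat_lit 2,nat_lit 3,nat_lit 2])
) (.node (.leaf [nat_lit 1,nat_lit 1,nat_lit 1,nat_lit 2,nat_lit 1,nat_lit 1,nat_lit 1,nat_lit 2,nat_lit 0,nat_lit 0,nat_lit 2,nat_lit 0,nat_lit 0,nat_lit 2,nat_lit 0,nat_lit 3,nat_lit 2,nat_lit 0,nat_lit 3,nat_lit 0,nat_lit 0,nat_lit 4,nat_lit 1,nat_lit 4,nat_lit 3,nat_lit 4,nat_lit 3])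
 (.leaf [nat_lit 2,nat_lit 0,nat_lit 0,nat_lit 2,nat_lit 1,nat_lit 2,nat_lit 0,nat_lit 3,nat_lit 0,nat_lit 0,nat_lit 2,nat_lit 1,nat_lit 3,nat_lit 2,nat_lit 4,nat_lit 0,nat_lit 0,nat_lit 4,nat_lit 2,nat_lit 1])
)))) (.node (.node (.node (.node (.node (.leaf [nat_lit 1,nat_lit 2,nat_lit 1,nat_lit 2,nat_lit 0,nat_lit 0,nat_lit 0,nat_lit 3,nat_lit 0,nat_lit 0,nat_lit 0,nat_lit 4,nat_lit 0,nat_lit 4,nat_lit 1,nat_lit 3])
 (.leaf [nat_lit 1,nat_lit 2,nat_lit 0,nat_lit 2,nat_lit 1,nat_lit 1,nat_lit 1,nat_lit 2,nat_lit 1,nat_lit 1,nat_lit 2,nat_lit 1,nat_lit 3,nat_lit 0,nat_lit 2,nat_lit 0,nat_lit 0,nat_lit 4,nat_lit 0,nat_lit 2,nat_lit 1,nat_lit 4,nat_lit 2])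
) (.leaf [nat_lit 1,nat_lit 1,nat_lit 1,nat_lit 2,nat_lit 0,nat_lit 0,nat_lit 0,nat_lit 2,nat_lit 1,nat_lit 1,nat_lit 2,nat_lit 1,nat_lit 1,nat_lit 2,nat_lit 0,nat_lit 3,nat_lit 0,nat_lit 2,nat_lit 3,nat_lit 1,nat_lit 4,nat_lit 2,nat_lit 3,nat_lit 4,nat_lit 3,nat_lit 1])
) (.node (.leaf [nat_lit 0,nat_lit 0,nat_lit 2,nat_lit 1,nat_lit 1,nat_lit 1,nat_lit 2,nat_lit 0,nat_lit 0,nat_lit 2,nat_lit 1,nat_lit 1,nat_lit 2,nat_lit 0,nat_lit 3,nat_lit 1,nat_lit 2,nat_lit 1,nat_lit 3,nat_lit 1,nat_lit 4,nat_lit 1,nat_lit 4,nat_lit 0,nat_lit 3])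
 (.leaf [nat_lit 2,nat_lit 0,nat_lit 0,nat_lit 0,nat_lit 2,nat_lit 0,nat_lit 2,nat_lit 1,nat_lit 3,nat_lit 0,nat_lit 2,nat_lit 3,nat_lit 1,nat_lit 2,nat_lit 4,nat_lit 0,nat_lit 2,nat_lit 4])
)) (.node (.node (.leaf [nat_lit 0,nat_lit 0,nat_lit 2,nat_lit 1,nat_lit 2,nat_lit 0,nat_lit 0,nat_lit 2,nat_lit 0,nat_lit 2,nat_lit 1,nat_lit 3,nat_lit 2,nat_lit 3,nat_lit 4,nat_lit 2,nat_lit 4,nat_lit 0,nat_lit 3,nat_lit 2])
 (.leaf [nat_lit 1,nat_lit 1,nat_lit 1,nat_lit 2,nat_lit 0,nat_lit 0,nat_lit 2,nat_lit 1,nat_lit 2,nat_lit 1,nat_lit 1,nat_lit 1,nat_lit 2,nat_lit 1,nat_lit 1,nat_lit 3,nat_lit 1,nat_lit 1,nat_lit 1,nat_lit 4,nat_lit 0,nat_lit 4,nat_lit 2,nat_lit 1])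
) (.node (.leaf [nat_lit 2,nat_lit 1,nat_lit 1,nat_lit 2,nat_lit 1,nat_lit 2,nat_lit 0,nat_lit 3,nat_lit 1,nat_lit 2,nat_lit 3,nat_lit 0,nat_lit 4,nat_lit 1,nat_lit 4,nat_lit 2,nat_lit 3])
 (.leaf [nat_lit 0,nat_lit 0,nat_lit 2,nat_lit 0,nat_lit 0,nat_lit 2,nat_lit 1,nat_lit 2,nat_lit 1,nat_lit 2,nat_lit 0,nat_lit 0,nat_lit 2,nat_lit 3,nat_lit 1,nat_lit 1,nat_lit 3,nat_lit 0,nat_lit 4,nat_lit 0,nat_lit 0,nat_lit 2,nat_lit 3,nat_lit 0,nat_lit 4])
))) (.node (.node (.node (.node (.leaf [nat_lit 1,nat_lit 1,nat_lit 1,nat_lit 2,nat_lit 1,nat_lit 1,nat_lit 2,nat_lit 0,nat_lit 0,nat_lit 2,nat_lit 1,nat_lit 2,nat_lit 1,nat_lit 2,nat_lit 3,nat_lit 2,nat_lit 1,nat_lit 2,nat_lit 1,nat_lit 4,nat_lit 0,nat_lit 2,nat_lit 1,nat_lit 4,nat_lit 2,nat_lit 0])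
 (.leaf [nat_lit 2,nat_lit 0,nat_lit 2,nat_lit 1,nat_lit 1,nat_lit 2,nat_lit 1,nat_lit 3,nat_lit 2,nat_lit 0,nat_lit 4,nat_lit 0,nat_lit 4,nat_lit 1,nat_lit 4,nat_lit 2,nat_lit 0])
) (.leaf [nat_lit 1,nat_lit 1,nat_lit 2,nat_lit 0,nat_lit 2,nat_lit 0,nat_lit 2,nat_lit 0,nat_lit 2,nat_lit 0,nat_lit 3,nat_lit 1,nat_lit 3,nat_lit 1,nat_lit 1,nat_lit 4,nat_lit 1,nat_lit 2,nat_lit 1,nat_lit 4,nat_lit 2])
) (.node (.leaf [nat_lit 0,nat_lit 0,nat_lit 0,nat_lit 2,nat_lit 1,nat_lit 2,nat_lit 0,nat_lit 2,nat_lit 0,nat_lit 0,nat_lit 2,nat_lit 3,nat_lit 1,nat_lit 1,nat_lit 1,nat_lit 3,nat_lit 2,nat_lit 4,nat_lit 0,nat_lit 2,nat_lit 4,nat_lit 3,nat_lit 4])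
 (.leaf [nat_lit 1,nat_lit 2,nat_lit 0,nat_lit 0,nat_lit 2,nat_lit 0,nat_lit 0,nat_lit 2,nat_lit 1,nat_lit 2,nat_lit 1,nat_lit 1,nat_lit 3,nat_lit 2,nat_lit 0,nat_lit 3,nat_lit 4,nat_lit 3,nat_lit 4,nat_lit 1,nat_lit 1])
)) (.node (.node (.leaf [nat_lit 1,nat_lit 2,nat_lit 0,nat_lit 0,nat_lit 2,nat_lit 0,nat_lit 0,nat_lit 2,nat_lit 1,nat_lit 1,nat_lit 1,nat_lit 2,nat_lit 1,nat_lit 2,nat_lit 1,nat_lit 3,nat_lit 1,nat_lit 1,nat_lit 3,nat_lit 4,nat_lit 0,nat_lit 2,nat_lit 4,nat_lit 3])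
 (.leaf [nat_lit 0,nat_lit 0,nat_lit 0,nat_lit 2,nat_lit 0,nat_lit 2,nat_lit 0,nat_lit 2,nat_lit 0,nat_lit 0,nat_lit 0,nat_lit 3,nat_lit 1,nat_lit 2,nat_lit 1,nat_lit 3,nat_lit 1,nat_lit 4,nat_lit 0,nat_lit 4,nat_lit 1,nat_lit 2,nat_lit 1])
) (.node (.leaf [nat_lit 0,nat_lit 0,nat_lit 2,nat_lit 1,nat_lit 1,nat_lit 2,nat_lit 0,nat_lit 2,nat_lit 1,nat_lit 1,nat_lit 1,nat_lit 2,nat_lit 3,nat_lit 0,nat_lit 0,nat_lit 2,nat_lit 3,nat_lit 0,nat_lit 0,nat_lit 4,nat_lit 2,nat_lit 1,nat_lit 3,nat_lit 4])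
 (.leaf [nat_lit 1,nat_lit 2,nat_lit 0,nat_lit 2,nat_lit 0,nat_lit 2,nat_lit 0,nat_lit 0,nat_lit 2,nat_lit 1,nat_lit 2,nat_lit 3,nat_lit 0,nat_lit 0,nat_lit 0,nat_lit 3,nat_lit 0,nat_lit 0,nat_lit 4,nat_lit 0,nat_lit 2,nat_lit 4,nat_lit 1,nat_lit 2,nat_lit 3])
)))))

noncomputable def g24m_Z : List ℕ := [g24m_one]

theorem g24m_w : wordsB (mulT Cl.gf4 (nat_lit 7)) g24m_one g24m_ac.get g24m_gc.get 36 5 g24m_ws = true := by decide +kernel

theorem g24m_b0 : allRange (nat_lit 0) (nat_lit 13) (backZ (mulT Cl.gf4 (nat_lit 7)) g24m_one g24m_Z g24m_ac.get g24m_gc.get 5 g24m_back) = true := by decide +kernel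

theorem g24m_b13 : allRange (nat_lit 13) (nat_lit 13) (backZ (mulT Cl.gf4 (nat_lit 7)) g24m_one g24m_Z g24m_ac.get g24m_gc.get 5 g24m_back) = true := by decide +kernel

theorem g24m_b26 : allRange (nat_lit 26) (nat_lit 10) (backZ (mulT Cl.gf4 (nat_lit 7)) g24m_one g24m_Z g24m_ac.get g24m_gc.get 5 g24m_back) = true := by decide +kernel

theorem g24m_r : g24_rels.all (fun u => eqZ (mulT Cl.gf4 (nat_lit 7)) g24m_one g24m_Z g24m_gc.get 5 u []) = true := by decide +kernel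

theorem g24m_c0 : eqZ (mulT Cl.gf4 (nat_lit 7)) g24m_one g24m_Z g24m_gc.get 5 (appL [0, 2, 1, 2, 0, 0, 2, 0, 2, 3, 0, 3, 2, 0, 0] [0, 2, 1, 2, 0, 0, 0, 2, 1, 2, 1, 2, 3, 1, 1]) (appL [0, 2, 1, 2, 0, 0, 0, 2, 1, 2, 1, 2, 3, 1, 1] [0, 2, 1, 2, 0, 0, 2, 0, 2, 3, 0, 3, 2, 0, 0]) = true := by decide +kernel

theorem g24m_link : Link ((specT Cl.gf4 (n := 7) (one := g24m_one) (by decide +kernel)).model (Equiv.refl _)) (Chev.G2.rhoG Cl.GF4) (MonoidHom.id _) g24m_Z (g2a Cl.gf4) g24m_ac.get 36 :=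
  g2a_link Cl.gf4 _ (by decide +kernel)

theorem g24m_gen : Gen ⊤ (fun x => MonoidHom.id _ (evalW (g2a Cl.gf4) (g24m_ws.get x))) g24_rels 5 251596800 :=
  g24m_link.gen (g2a_top Cl.gf4) (Subgroup.card_top.trans (S1059.result Cl.card_GF4)) g24m_w (range_append _ (range_append _ (range_append _ (allLt_of_zero _) g24m_b0 rfl) g24m_b13 rfl) g24m_b26 rfl) g24m_r


end Cfsg.Agent.Spor.MX
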