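import Mathlib
import Cfsg.Agent.Spor.MX.U35
import Cfsg.Agent.Spor.MX.Cover

/-! Generated by tools/mx: the chain U3(5) < HS -/

set_option autoImplicit false
set_option maxRecDepth 100000
set_option linter.unusedVariables false
set_option exponentiation.threshold 100000

namespace Cfsg.Agent.Spor.MX

open Cfsg.Agent.Spor

universe u

noncomputable def hs_rels : LT :=
(.node (.node (.node (.node (.node (.leaf [])
 (.leaf [nat_lit 0,nat_lit 0,nat_lit 0,nat_lit 3,nat_lit 1,nat_lit 1,nat_lit 2,nat_lit 1,nat_lit 2,nat_lit 0,nat_lit 3,nat_lit 0,nat_lit 0,nat_lit 2,nat_lit 1,nat_lit 1,nat_lit 2,nat_lit 0,nat_lit 2,nat_lit 0,nat_lit 0,nat_lit 3,nat_lit 2])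
) (.leaf [nat_lit 3,nat_lit 3])
) (.node (.leaf [nat_lit 0,nat_lit 2,nat_lit 0,nat_lit 2,nat_lit 0,nat_lit 2,nat_lit 0,nat_lit 2,nat_lit 0,nat_lit 2,nat_lit 0,nat_lit 2,nat_lit 0,nat_lit 2,nat_lit 0,nat_lit 2])
 (.leaf [nat_lit 0,nat_lit 0,nat_lit 3,nat_lit 1,nat_lit 1,nat_lit 2,nat_lit 1,nat_lit 2,nat_lit 0,nat_lit 2,nat_lit 0,nat_lit 0,nat_lit 3,nat_lit 1,nat_lit 1,nat_lit 2,nat_lit 1,nat_lit 2,nat_lit 0,nat_lit 2])
)) (.node (.node (.leaf [nat_lit 0,nat_lit 0,nat_lit 0,nat_lit 0,nat_lit 0,nat_lit 0,nat_lit 0])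
 (.leaf [nat_lit 0,nat_lit 0,nat_lit 3,nat_lit 2,nat_lit 3,nat_lit 2,nat_lit 3,nat_lit 1,nat_lit 1,nat_lit 2,nat_lit 0,nat_lit 2,nat_lit 1,nat_lit 2])
) (.node (.leaf [nat_lit 0,nat_lit 0,nat_lit 2,nat_lit 1,nat_lit 1,nat_lit 2,nat_lit 0,nat_lit 2,nat_lit 0,nat_lit 2,nat_lit 1,nat_lit 1,nat_lit 2,nat_lit 0,nat_lit 0,nat_lit 2,nat_lit 1,nat_lit 2,nat_lit 1,nat_lit 2])
 (.leaf [nat_lit 0,nat_lit 0,nat_lit 2,nat_lit 1,nat_lit 2,nat_lit 0,nat_lit 2,nat_lit 0,nat_lit 2,nat_lit 3,nat_lit 1,nat_lit 2,nat_lit 1,nat_lit 2,nat_lit 0,nat_lit 2,nat_lit 0,nat_lit 3,nat_lit 1,nat_lit 1,nat_lit 2,nat_lit 1,nat_lit 2])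
))) (.node (.node (.node (.node (.leaf [nat_lit 0,nat_lit 1])
 (.leaf [nat_lit 0,nat_lit 0,nat_lit 2,nat_lit 0,nat_lit 0,nat_lit 2,nat_lit 0,nat_lit 3,nat_lit 0,nat_lit 3,nat_lit 1,nat_lit 1,nat_lit 3,nat_lit 1,nat_lit 1,nat_lit 2,nat_lit 0,nat_lit 0,nat_lit 2,nat_lit 0,nat_lit 0,nat_lit 2,nat_lit 1,nat_lit 2])
) (.leaf [nat_lit 0,nat_lit 3,nat_lit 0,nat_lit 3,nat_lit 0,nat_lit 3,nat_lit 0,nat_lit 3])
) (.node (.leaf [nat_lit 0,nat_lit 0,nat_lit 2,nat_lit 1,nat_lit 1,nat_lit 2,nat_lit 0,nat_lit 0,nat_lit 2,nat_lit 1,nat_lit 1,nat_lit 2,nat_lit 0,nat_lit 0,nat_lit 2,nat_lit 1,nat_lit 1,nat_lit 2])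
 (.leaf [nat_lit 0,nat_lit 0,nat_lit 2,nat_lit 0,nat_lit 2,nat_lit 0,nat_lit 2,nat_lit 0,nat_lit 2,nat_lit 1,nat_lit 2,nat_lit 1,nat_lit 3,nat_lit 2,nat_lit 1,nat_lit 3,nat_lit 2,nat_lit 3,nat_lit 0,nat_lit 2,nat_lit 3,nat_lit 0,nat_lit 2])
)) (.node (.node (.leaf [nat_lit 2,nat_lit 2])
 (.leaf [nat_lit 0,nat_lit 0,nat_lit 0,nat_lit 2,nat_lit 3,nat_lit 1,nat_lit 2,nat_lit 3,nat_lit 2,nat_lit 3,nat_lit 2,nat_lit 3,nat_lit 0,nat_lit 3,nat_lit 2,nat_lit 1,nat_lit 1,nat_lit 1,nat_lit 2])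
) (.node (.leaf [nat_lit 0,nat_lit 0,nat_lit 0,nat_lit 2,nat_lit 1,nat_lit 1,nat_lit 2,nat_lit 1,nat_lit 2,nat_lit 0,nat_lit 0,nat_lit 0,nat_lit 2,nat_lit 1,nat_lit 2,nat_lit 0,nat_lit 2,nat_lit 1,nat_lit 2,nat_lit 1,nat_lit 2,nat_lit 1,nat_lit 2])
 (.leaf [nat_lit 0,nat_lit 0,nat_lit 2,nat_lit 1,nat_lit 2,nat_lit 0,nat_lit 2,nat_lit 3,nat_lit 1,nat_lit 2,nat_lit 0,nat_lit 2,nat_lit 1,nat_lit 2,nat_lit 3,nat_lit 0,nat_lit 2,nat_lit 1,nat_lit 3,nat_lit 0,nat_lit 2,nat_lit 0,nat_lit 2])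
))))
noncomputable def hs_inv : ℕ → ℕ := getP (nat_lit 8) (nat_lit 255) (nat_lit 0x3020001)
noncomputable def hs_pi : ℕ → ℕ := getP (nat_lit 16) (nat_lit 65535) (nat_lit 0x8000300010001)

noncomputable def hs_L_t : BT :=
(.node (.node (.node (.leaf (nat_lit 0x3ff80000000000000000000000000000000007ff0000c00001401801c00200601c022005091a8f002004802003402c02401400c04004202366580000000000000000000000000000000055b3000000000000000000000000000000007ff00026022000004000026004002000024001bed402c04c01802801002004404c01402400335c0000000000000000000098008000008005a4c000001000000000000000000000013000a78c00600002200a024010004018024004d11b0a000000000000000000000000000000001ffc0008008801807001805000007801005304703d01300100200000200d0000070000095c8c36801e00001001a00c00002400a00401cb11ad24000000004000000000000000000049522254800000000000000000000000000000000432100500001000701200700200a011005000be8a00000000000000000000000000000000ffe00028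00002803803400801402803c0000033d000380980700500780780200980800700068ae0000000000000000000000000000000007e3c00000000000000000000000000000000ffe0000800004800404c01000004004c0151226d28000000000000000000000000000000003c1b000000000000000000000000000000007ff0000202602400002400e00001a0000168118290000000000000000000000000000000001c8c8000000000000000000000010000088004b410000000000000000000000000000000006b30000000000000000000000000000000000d25c000000000000000000000000000000001b57800000000000000000000000000000003ff80000000000000000000000000000000007ff0000000000000000000000000000000000ffe000000000000000000000000000000000427e18000098000000000010000090000010004c30000000000000000000000000000000000582200000000000000000000000000000000ffe0000000000000000000000000000000004246000000000000000000000000000000000847bf0000000000000000000000000000000108d7c000000026002000004000000000024000b69c00c00004800c04c00c00403c048010b22e4a8000000000000000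00000000000000000250e0000000000000000000000000000000108172000000000000000000000000000000020f6d802800002801801c04803c0280140000032cf8008098090000098018098078000061044cb10000000000000000000000000000000004118000000000000000000000000000000020e6c800000000000000000000000000000001ffc00000000000000000000000000000000001d0b000000000000000000000000000000007ff00000000000000000000000000000000020ccb4000000000000000000000000000000041916000000000000000000000000000000003ff800000000000000000000000000000000002e1000000000000000000000000000000000ffe0000000000000000000000000000000004155300000000000000000000000000000000013870000000000000000000000000000000104f46000000000000000000000000000000000461800000000000000000000000000000004110e8000000000000000000000000000000081f1a0000000000000000000000000000000001d080000000000000000000000000000000206a5804c00000000000000000000000404c000a4800000000000000000000000000000000816120000000000000000000000000000000001306000000000000000000000000000000020403400400000000000000000000004c0040006448000000000000000000000000000000080d0a0000000000000000000000000000000000802000000000000000000000000000000020181400000000000000000000000000000004014100000000000000000000000000000001c0000))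
 (.leaf (nat_lit 0x38140000000000000000000000000000000007027c00000000000000000000000000000000e04e400000000000000000000000000000001c09c00000000000000000000000000000000380b3000000000000000000000000000000007036400000000000000000000000000000000c06b4000000000000000000000000000000018096000000000000000000000000000000003012a000000000000000000000000000000006005200000000000000000000000000000000c06980000000000000000000000000000000180930000000000000000000000000000000030025000000000000000000000000000000006004800000000000000000000000000000000c008c00000000000000000000000000000001809100000000000000000000000000000000300a1000000000000000000000000000000006024000000000000000000000000000000000c047c00000000000000000000000000000001800f800000000000000000000000000000003019e000000000000000000000000000000006013c00000000000000000000000000000000c007800000000000000000000000000000001808d800000000000000000000000000000003009b000000000000000000000000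000000006023400000000000000000000000000000000c006800000000000000000000000000000001404c8000000000000000000000000000000028118000000000000000000000000000000005013000000000000000000000000000000000a025c00000000000000000000000000000001400b0000000000000000000000000000000028015000000000000000000000000000000005022800000000000000000000000000000000a024c0000000000000000000000000000000140890000000000000000000000000000000028191000000000000000000000000000000005012200000000000000000000000000000000a0044000000000000000000000000000000014088000000000000000000000000000000002810f000000000000000000000000000000005001e00000000000000000000000000000000a0638000000000000000000000000000000014087000000000000000000000000000000002808e000000000000000000000000000000005031a00000000000000000000000000000000a0434000000000000000000000000000000014006800000000000000000000000000000002818c000000000000000000000000000000005011800000000000000000000000000000000a003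00000000000000000000000000000000100c5800000000000000000000000000000002008b000000000000000000000000000000004021400000000000000000000000000000000800280000000000000000000000000000000100848000000000000000000000000000000020188000000000000000000000000000000004011000000000000000000000000000000000800200000000000000000000000000000000100838000000000000000000000000000000020087000000000000000000000000000000004030c000000000000000000000000000000008021800000000000000000000000000000001000300000000000000000000000000000000201050000000000000000000000000000000030108000000000000000000000000000000006001000000000000000000000000000000000c0c180000000000000000000000000000000181030000000000000000000000000000000030106000000000000000000000000000000006040800000000000000000000000000000000c0010000000000000000000000000000000010101000000000000000000000000000000002010200000000000000000000000000000000400040000000000000000000000000000000040c00000000000000000000000000000000000000))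
) (.leaf (nat_lit 0x5940000000000000000000000000000000007ff000000000000000000000000000000000015ee4000000000000000000000000000000002b5c0010000090018090030008058098043e45bb400400101000501100a00100701200a788c56c02602202400002600800202400000ee91a4b80000000000000000000000000000000028d6000000000000000000000000000000003ff80000000000000000000000000000000007ff0000000000000000000000000000000000ffe0000000000000000000000000000000000251300000000000000000000000000000000858cc0000000000000000000130130000043c8c77e000000000000000000000000000000021612c000000000000000000000000000000002211001000008002809004000805809803a845db7000000000000000000000000000000007ff0000000000000000000000000000000000ffe00000000000000000000000000000000042ba5000000000000000000000000000000008564901200000400f00200c01300900100d000bc7802002600801e00601402601a0040140018d1c000000000000000000000000000000001e8d8090000010088010070098048008060005c48000000000000000000000000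000000000763400000000000000000000000000000000ffe0000000000000000000000000000000001ffc000000000000000000000000000000000038180000000000000000000130130000043c86e5e00200600400000202002600400001a001a71800000000000000000000000000000001ffc000000000000000000000000000000000851450000000000000000000000000000000006128000000000000000000000000000000021431000000000000000000000000000000001ffc0009800001009800009000000800000000461c000000000000000013000000000001108594e0000000000000000000000000000000212704000000000000000000000000000000001508000000000000000000000000000000000290f000000000000000000000000000000007ff000000000000000000000000000000000210ef4000000000000000000000000000000001307000000000000000000000000000000008423b00000000000000000000000000000001083740000000000000000000000000000000008c3400000000000000000000000000000001ffc000080000900080000100000980000012445a8000000000000000000000000000000010796a000000000000000000000000000000020eac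c00000000000004c000000000000008720f4c80000000000000000000000000000000837b0000000000000000000000000000000000381400000000000000000000000000000000ffe00000000000000000000000000000000000d04800000000000000000000000000000008302b0000000000130000000000000000011882f26000000000000000000000000000000020bca4000000000000000000000000000000000ac380000000000000000000000000000000829a50000000000000000000000000000000105148000000000000000000000000000000020968400000000000000000000000000000004114f0000000000000000000000000000000000f8500000000001300001300000000000210830160000000000000000000000000000000206e5c000000000000000000000000000000040cca8000000000000000000000000000000000a830000000000000000000000000000000102a22000000000000000000000000000000000220800000000000000000000000000000004078600000000000000000000000000000000005010000000000000000000000000000000101410000000000000000000000000000000020201800000000000000000000000000000004024200000000000000000000000000000001c0100))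
) (.node (.leaf (nat_lit 0x809800009b2459c400c00200c00700900b00f011004004000da9200000000000000000000000000000000ffe0001400003001c03800000803c0480180035df000000000000000000000000000000003ff80000000000000000000000000000000007ff00000026000000000000000000000002e114d0c03c00001003400803404802800c03db22f5d800000000000000000000000000000003ff80000000000000000000000000000000000a05200000000000000000000000000000000ffe0000000000000000000000004800000d922558000000000000000000000000000000000492500000000000000000000000000000000090480000000000000000000000000000000011c8c00000000000000000000000000000001ffc00070000050040030098088030018090006aca000000000000000000000000000000007ff0000000000000000000000000000000000ffe0000000000000000000000000000000000208f804800807005008006001800807805a646645000000000000000000000000000000007ff00000000000000000000000000000000000f87800400c00004800000404804c0000092237a3000809809000009003800006800005800623f00000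0000000000000000000000000010aa90000000000000000000000000000000000e86804c00400800000404400401400002000268e0000008000000000090000010000091c44ba80000000000000000000000000000001486c5a01a00200c01400a00a02000200800c711a0e00000000000000000000000000000000019cb0000000000000000000000000000000003295000000000000000000000000000000007ff0000000000000000000000000000000000ffe0000000004c00000000000000000000800229e800000000000000000000000000000003ff800000000010130000120000000000023085a44000000000000000000000000000000000ac4404800000804c00404000001000403c00271a8098008010000010068000038000048006132000000000000000000000000000000000501e00000000000000000000000000000000ffe0000000000000000000000000000000004215e0050000050030038090078050028000a4673900a00000a00e00d00200500a00f000288ca3a000000000000000000000000000000020fadc00000000000000000000000000000001ffc0000000000000000000000000000000003ff80000000000000000000000000000000010776800000000000000000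00000000000000007e30000000000000000000000000000000041c58800000000000000000000000000000008352f000000000000000000000000000000010685c0000000000000000000000000000000006c2804400000804400404404c014008040002e90800000000000000000000000000000003ff800000000000000000000000000000000105f5400000000000000000000000000000000ffe000000000000000000000000000000000415d38008000000000000000000000098008a41409000000000000000000000000000000007ff000000000000000000000000000000000209280000000000000000000000000000000000843000000000000000000000000000000008201b0000000000000000000000000000000103930000000000000000000000000000000000361004c00000000000000000000000404c3206028000000000000000000000000000000081693000000000000000000000000000000010262000000000000000000000000000000002044380000000000000000000000000000000003410000000000000000000000000000000080e0b000000000000000000000000000000010120e0000000000000000000000000000000000c040000000000000000000000000000000401c180000000000000000000000000000001c0080))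
 (.leaf (nat_lit 0x3ff800040040040020030090130090120118c8dc8000000401401800a00202401e000003111b72800000000000000000000000000000001ffc0000000000000000000000000000000003ff80000000000000000000000000000013000a9640000000000000000000000000000260014ab400000000000000000000000000000001ffc0000000000000000000000000000000003ff80000000000000000000000000000000007ff000000000000000000000000000000260013c9800000000000000000000000000000001ffc00080080080090088058008058010010006ecb000000000000000000000000000000007ff0000000000000000000000000000000000ffe0000000000000000000000000000000001ffc0000000000000000000000000000000003ff80000000000000000000000000000000007ff0000c00201c01002001a00400602201600192d800000000000000000000000000000001ffc0000000000000000000000000000009800401e000000000000000000000000000000007ff0001c02600c01800800e02402200601001190e800000000000000000000000000000001ffc0000000000000000000000000000000003ff80000000000000000000000000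000000007ff00000000000000000000000000000000021511c00000000000000000000000000000001ffc0000000000000000000000000000000003ff80000000000000000000000000000000007ff0000000000000000000000000000000000ffe00000000000000000000000000000000042923000000000000000000000000000000003ff80000000000000000000013000000002348622a00000000000000000000000000000000ffe0000000000000000000000000000000001ffc00000000000000000000000000000098002e91000000000000000000000000000000007ff000000000000000000000000000000000213b0804c00000004400000404c0080040040030120008000000018000098008090098090045fa5000000000000000000000000000000007ff000000000000000000000000000000260009c3800000000000000000000000000000001ffc0000000000000000000000000000000003ff80000000000000000000000000000013000481a000000000000000000000000000000020fee000000000000000000000000000000001ffc0000000000000000000000000000009800218c000000000000000000000000000000007ff0000000000000000000000000000000000ffe0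000000000000000000000000000004c000f05800000000000000000000000000000003ff80000000000000000000000000000000007ff0000000000000000000000000000000000ffe000000000000000000000040000000440018d58000000000000000000000000000098001908000000000000000000000000000000007ff0000000000000000000000000000000000ffe000000000000000000000000000000000417140018000080020090040008058098030005b07000000000000000000000000000013000250c0000000000000000000000000000000209a880000000000000000000000000000000411cf800000000000000000000000000000008211c0000000000000000000000000000000103b3200000000000000000000000000000000ffe0000000000000000000000000000004c0005c1800000000000000000000000000000008189401100000401000200c01300900100d088b520000000000000000000000000000000020483c004000000000000000000000000048120381000000000000000000000009800000804058400000000000000000000000000000001016120260000000000000000000000000020001e1400000000000000000000000000004c0001000000000000000000000000000000000080181))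
))

noncomputable def hs_L_rules : LT :=
(.node (.node (.node (.node (.node (.node (.leaf [nat_lit 0x13000002,nat_lit 10,nat_lit 9,nat_lit 1,nat_lit 3,nat_lit 2,nat_lit 3,nat_lit 1,nat_lit 1,nat_lit 2,nat_lit 0,nat_lit 2,nat_lit 1,nat_lit 2,nat_lit 0,nat_lit 0,nat_lit 3,nat_lit 2])
 (.leaf [nat_lit 0,nat_lit 6,nat_lit 13,nat_lit 1,nat_lit 0,nat_lit 2,nat_lit 0,nat_lit 0,nat_lit 2,nat_lit 1,nat_lit 1,nat_lit 2,nat_lit 0,nat_lit 2,nat_lit 0,nat_lit 2,nat_lit 1,nat_lit 1,nat_lit 2,nat_lit 0,nat_lit 0,nat_lit 2,nat_lit 1,nat_lit 2])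
) (.leaf [nat_lit 0x13000000000000000000000003,nat_lit 16,nat_lit 2,nat_lit 1,nat_lit 0,nat_lit 1,nat_lit 2,nat_lit 1,nat_lit 2,nat_lit 0,nat_lit 0,nat_lit 2,nat_lit 1,nat_lit 1,nat_lit 3,nat_lit 1,nat_lit 2,nat_lit 0,nat_lit 2,nat_lit 0,nat_lit 0,nat_lit 3,nat_lit 1,nat_lit 1,nat_lit 1,nat_lit 2,nat_lit 3])
) (.node (.leaf [nat_lit 0x13000003,nat_lit 10,nat_lit 13,nat_lit 1,nat_lit 0,nat_lit 2,nat_lit 0,nat_lit 2,nat_lit 1,nat_lit 2,nat_lit 0,nat_lit 0,nat_lit 3,nat_lit 2,nat_lit 3,nat_lit 2,nat_lit 3,nat_lit 1])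
 (.leaf [nat_lit 0x13000000000000000000000003,nat_lit 16,nat_lit 11,nat_lit 1,nat_lit 0,nat_lit 3,nat_lit 1,nat_lit 2,nat_lit 0,nat_lit 2,nat_lit 0,nat_lit 0,nat_lit 3,nat_lit 1,nat_lit 1,nat_lit 1,nat_lit 2,nat_lit 3,nat_lit 1,nat_lit 1,nat_lit 2,nat_lit 1,nat_lit 2,nat_lit 0,nat_lit 0,nat_lit 2,nat_lit 1])
)) (.node (.node (.leaf [nat_lit 0x13000000000002,nat_lit 12,nat_lit 2,nat_lit 1,nat_lit 2,nat_lit 0,nat_lit 2,nat_lit 0,nat_lit 0,nat_lit 3,nat_lit 1,nat_lit 1,nat_lit 2,nat_lit 1,nat_lit 2,nat_lit 0,nat_lit 2,nat_lit 0,nat_lit 0,nat_lit 3,nat_lit 1,nat_lit 1,nat_lit 2,nat_lit 1])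
 (.leaf [nat_lit 0x1000000000000000000,nat_lit 14,nat_lit 4,nat_lit 0,nat_lit 2,nat_lit 0,nat_lit 2,nat_lit 0,nat_lit 2,nat_lit 3,nat_lit 1,nat_lit 2,nat_lit 1,nat_lit 2,nat_lit 0,nat_lit 2,nat_lit 0,nat_lit 3,nat_lit 1,nat_lit 1,nat_lit 2,nat_lit 1,nat_lit 2,nat_lit 0,nat_lit 0,nat_lit 2,nat_lit 1])
) (.node (.leaf [nat_lit 0x1000000000000000000000,nat_lit 15,nat_lit 19,nat_lit 0,nat_lit 1,nat_lit 2,nat_lit 0,nat_lit 2,nat_lit 0,nat_lit 0,nat_lit 2,nat_lit 1,nat_lit 2,nat_lit 0,nat_lit 2,nat_lit 3,nat_lit 1,nat_lit 2,nat_lit 0,nat_lit 2,nat_lit 1,nat_lit 2,nat_lit 3,nat_lit 0,nat_lit 2,nat_lit 1,nat_lit 3])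
 (.leaf [nat_lit 0x13000000000000000000000003,nat_lit 16,nat_lit 18,nat_lit 1,nat_lit 1,nat_lit 3,nat_lit 1,nat_lit 1,nat_lit 1,nat_lit 2,nat_lit 3,nat_lit 1,nat_lit 1,nat_lit 2,nat_lit 1,nat_lit 2,nat_lit 0,nat_lit 0,nat_lit 2,nat_lit 1,nat_lit 1,nat_lit 3,nat_lit 1,nat_lit 2,nat_lit 0,nat_lit 2,nat_lit 0])
))) (.node (.node (.node (.node (.leaf [nat_lit 0x13000000000000000001,nat_lit 14,nat_lit 5,nat_lit 1,nat_lit 3,nat_lit 1,nat_lit 2,nat_lit 1,nat_lit 2,nat_lit 0,nat_lit 2,nat_lit 0,nat_lit 3,nat_lit 2,nat_lit 1,nat_lit 2,nat_lit 1,nat_lit 2,nat_lit 0,nat_lit 2,nat_lit 1,nat_lit 1,nat_lit 2,nat_lit 0,nat_lit 2,nat_lit 0,nat_lit 0])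
 (.leaf [nat_lit 0x1000000000000013,nat_lit 13,nat_lit 12,nat_lit 0,nat_lit 3,nat_lit 2,nat_lit 1,nat_lit 3,nat_lit 2,nat_lit 3,nat_lit 0,nat_lit 2,nat_lit 3,nat_lit 0,nat_lit 2,nat_lit 0,nat_lit 0,nat_lit 2,nat_lit 0,nat_lit 2,nat_lit 0,nat_lit 2,nat_lit 0,nat_lit 2,nat_lit 1,nat_lit 2,nat_lit 1])
) (.leaf [nat_lit 0x13000003,nat_lit 10,nat_lit 5,nat_lit 1,nat_lit 1,nat_lit 0,nat_lit 3,nat_lit 2,nat_lit 3,nat_lit 2,nat_lit 3,nat_lit 1,nat_lit 1,nat_lit 2,nat_lit 0,nat_lit 2,nat_lit 1,nat_lit 2])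
) (.node (.leaf [nat_lit 0x1000000000,nat_lit 11,nat_lit 2,nat_lit 0,nat_lit 1,nat_lit 2,nat_lit 3,nat_lit 1,nat_lit 2,nat_lit 3,nat_lit 2,nat_lit 3,nat_lit 2,nat_lit 3,nat_lit 0,nat_lit 3,nat_lit 2,nat_lit 1,nat_lit 1,nat_lit 1,nat_lit 2,nat_lit 0,nat_lit 0])
 (.leaf [nat_lit 0x13000000000000000000000000003,nat_lit 17,nat_lit 15,nat_lit 1,nat_lit 0,nat_lit 3,nat_lit 1,nat_lit 2,nat_lit 1,nat_lit 1,nat_lit 2,nat_lit 1,nat_lit 1,nat_lit 2,nat_lit 0,nat_lit 2,nat_lit 1,nat_lit 1,nat_lit 2,nat_lit 1,nat_lit 1,nat_lit 2,nat_lit 0,nat_lit 0,nat_lit 3,nat_lit 0,nat_lit 0,nat_lit 3])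
)) (.node (.node (.leaf [nat_lit 0x13000000000000000002,nat_lit 14,nat_lit 9,nat_lit 1,nat_lit 2,nat_lit 0,nat_lit 2,nat_lit 0,nat_lit 3,nat_lit 2,nat_lit 1,nat_lit 2,nat_lit 1,nat_lit 2,nat_lit 0,nat_lit 2,nat_lit 1,nat_lit 1,nat_lit 2,nat_lit 0,nat_lit 2,nat_lit 0,nat_lit 0,nat_lit 3,nat_lit 1,nat_lit 2,nat_lit 1])
 (.leaf [nat_lit 0,nat_lit 7,nat_lit 20,nat_lit 1,nat_lit 0,nat_lit 1,nat_lit 1,nat_lit 2,nat_lit 0,nat_lit 2,nat_lit 0,nat_lit 2,nat_lit 0,nat_lit 2,nat_lit 1,nat_lit 2,nat_lit 0,nat_lit 2,nat_lit 1,nat_lit 1,nat_lit 1,nat_lit 2,nat_lit 0,nat_lit 2,nat_lit 0,nat_lit 0,nat_lit 2])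
) (.node (.leaf [nat_lit 0x1000000000000000000000000,nat_lit 16,nat_lit 11,nat_lit 0,nat_lit 1,nat_lit 0,nat_lit 2,nat_lit 1,nat_lit 1,nat_lit 2,nat_lit 0,nat_lit 2,nat_lit 0,nat_lit 0,nat_lit 3,nat_lit 2,nat_lit 0,nat_lit 0,nat_lit 0,nat_lit 3,nat_lit 1,nat_lit 1,nat_lit 2,nat_lit 1,nat_lit 2,nat_lit 0,nat_lit 3])
 (.leaf [nat_lit 0x1000000000000000000,nat_lit 14,nat_lit 8,nat_lit 0,nat_lit 2,nat_lit 3,nat_lit 1,nat_lit 2,nat_lit 1,nat_lit 2,nat_lit 0,nat_lit 2,nat_lit 0,nat_lit 3,nat_lit 1,nat_lit 1,nat_lit 2,nat_lit 1,nat_lit 2,nat_lit 0,nat_lit 0,nat_lit 2,nat_lit 1,nat_lit 2,nat_lit 0,nat_lit 2,nat_lit 0])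
)))) (.node (.node (.node (.node (.node (.leaf [nat_lit 0x1000000000000000000000000013,nat_lit 17,nat_lit 9,nat_lit 0,nat_lit 3,nat_lit 1,nat_lit 1,nat_lit 3,nat_lit 1,nat_lit 1,nat_lit 2,nat_lit 0,nat_lit 0,nat_lit 2,nat_lit 0,nat_lit 0,nat_lit 2,nat_lit 1,nat_lit 2,nat_lit 0,nat_lit 0,nat_lit 2,nat_lit 0,nat_lit 0,nat_lit 2,nat_lit 0,nat_lit 3,nat_lit 0])
 (.leaf [nat_lit 0x13000000005,nat_lit 11,nat_lit 18,nat_lit 1,nat_lit 0,nat_lit 2,nat_lit 0,nat_lit 0,nat_lit 0,nat_lit 2,nat_lit 3,nat_lit 1,nat_lit 3,nat_lit 2,nat_lit 3,nat_lit 2,nat_lit 3,nat_lit 2,nat_lit 0,nat_lit 3,nat_lit 2,nat_lit 1,nat_lit 1])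
) (.leaf [nat_lit 0x1000000000000000000000000,nat_lit 16,nat_lit 7,nat_lit 0,nat_lit 0,nat_lit 2,nat_lit 0,nat_lit 3,nat_lit 0,nat_lit 0,nat_lit 2,nat_lit 1,nat_lit 1,nat_lit 2,nat_lit 0,nat_lit 2,nat_lit 0,nat_lit 0,nat_lit 3,nat_lit 2,nat_lit 0,nat_lit 0,nat_lit 0,nat_lit 3,nat_lit 1,nat_lit 1,nat_lit 2])
) (.node (.leaf [nat_lit 0x13000003,nat_lit 10,nat_lit 8,nat_lit 1,nat_lit 2,nat_lit 3,nat_lit 2,nat_lit 3,nat_lit 1,nat_lit 1,nat_lit 2,nat_lit 0,nat_lit 2,nat_lit 1,nat_lit 2,nat_lit 0,nat_lit 0,nat_lit 3])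
 (.leaf [nat_lit 0x13000003,nat_lit 10,nat_lit 1,nat_lit 1,nat_lit 1,nat_lit 2,nat_lit 1,nat_lit 2,nat_lit 0,nat_lit 0,nat_lit 3,nat_lit 2,nat_lit 3,nat_lit 2,nat_lit 3,nat_lit 1,nat_lit 1,nat_lit 2])
)) (.node (.node (.leaf [nat_lit 0,nat_lit 2,nat_lit 5,nat_lit 0,nat_lit 1,nat_lit 0,nat_lit 0,nat_lit 0,nat_lit 0,nat_lit 0,nat_lit 0])
 (.leaf [nat_lit 0x1000000000000000000000,nat_lit 15,nat_lit 12,nat_lit 0,nat_lit 0,nat_lit 2,nat_lit 3,nat_lit 0,nat_lit 2,nat_lit 1,nat_lit 3,nat_lit 0,nat_lit 2,nat_lit 0,nat_lit 2,nat_lit 0,nat_lit 0,nat_lit 2,nat_lit 1,nat_lit 2,nat_lit 0,nat_lit 2,nat_lit 3,nat_lit 1,nat_lit 2,nat_lit 0,nat_lit 2])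
) (.node (.leaf [nat_lit 0x13000000004,nat_lit 11,nat_lit 9,nat_lit 1,nat_lit 3,nat_lit 2,nat_lit 3,nat_lit 2,nat_lit 0,nat_lit 3,nat_lit 2,nat_lit 1,nat_lit 1,nat_lit 1,nat_lit 2,nat_lit 0,nat_lit 0,nat_lit 0,nat_lit 2,nat_lit 3,nat_lit 1,nat_lit 3,nat_lit 2])
 (.leaf [nat_lit 0,nat_lit 7,nat_lit 19,nat_lit 1,nat_lit 2,nat_lit 1,nat_lit 1,nat_lit 1,nat_lit 2,nat_lit 0,nat_lit 2,nat_lit 0,nat_lit 2,nat_lit 0,nat_lit 2,nat_lit 1,nat_lit 2,nat_lit 0,nat_lit 2,nat_lit 1,nat_lit 1,nat_lit 1,nat_lit 2,nat_lit 0,nat_lit 2,nat_lit 0,nat_lit 0])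
))) (.node (.node (.node (.node (.leaf [nat_lit 0x1000,nat_lit 9,nat_lit 6,nat_lit 0,nat_lit 1,nat_lit 3,nat_lit 0,nat_lit 3,nat_lit 0,nat_lit 3,nat_lit 0,nat_lit 3])
 (.leaf [nat_lit 0x1000000000000000013,nat_lit 14,nat_lit 17,nat_lit 0,nat_lit 3,nat_lit 1,nat_lit 1,nat_lit 2,nat_lit 1,nat_lit 2,nat_lit 0,nat_lit 0,nat_lit 2,nat_lit 1,nat_lit 2,nat_lit 0,nat_lit 2,nat_lit 0,nat_lit 2,nat_lit 3,nat_lit 1,nat_lit 2,nat_lit 1,nat_lit 2,nat_lit 0,nat_lit 2,nat_lit 0])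
) (.leaf [nat_lit 0x13000003,nat_lit 10,nat_lit 6,nat_lit 1,nat_lit 1,nat_lit 3,nat_lit 2,nat_lit 3,nat_lit 2,nat_lit 3,nat_lit 1,nat_lit 1,nat_lit 2,nat_lit 0,nat_lit 2,nat_lit 1,nat_lit 2,nat_lit 0])
) (.node (.leaf [nat_lit 0x13000000000002,nat_lit 12,nat_lit 1,nat_lit 1,nat_lit 0,nat_lit 2,nat_lit 0,nat_lit 2,nat_lit 0,nat_lit 0,nat_lit 3,nat_lit 1,nat_lit 1,nat_lit 2,nat_lit 1,nat_lit 2,nat_lit 0,nat_lit 2,nat_lit 0,nat_lit 0,nat_lit 3,nat_lit 1,nat_lit 1,nat_lit 2])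
 (.leaf [nat_lit 0x13000000000000000002,nat_lit 14,nat_lit 19,nat_lit 1,nat_lit 1,nat_lit 2,nat_lit 1,nat_lit 1,nat_lit 2,nat_lit 0,nat_lit 2,nat_lit 0,nat_lit 0,nat_lit 3,nat_lit 1,nat_lit 2,nat_lit 1,nat_lit 2,nat_lit 0,nat_lit 2,nat_lit 0,nat_lit 3,nat_lit 2,nat_lit 1,nat_lit 2,nat_lit 1,nat_lit 2])
)) (.node (.node (.leaf [nat_lit 0x13000000000000004,nat_lit 13,nat_lit 6,nat_lit 1,nat_lit 2,nat_lit 3,nat_lit 0,nat_lit 2,nat_lit 3,nat_lit 0,nat_lit 2,nat_lit 0,nat_lit 2,nat_lit 1,nat_lit 2,nat_lit 1,nat_lit 2,nat_lit 1,nat_lit 2,nat_lit 1,nat_lit 1,nat_lit 2,nat_lit 1,nat_lit 3,nat_lit 2,nat_lit 1,nat_lit 3])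
 (.leaf [nat_lit 0,nat_lit 2,nat_lit 4,nat_lit 1,nat_lit 0,nat_lit 1,nat_lit 1,nat_lit 1,nat_lit 1,nat_lit 1,nat_lit 1])
) (.node (.leaf [nat_lit 0x13000000005,nat_lit 11,nat_lit 0,nat_lit 1,nat_lit 2,nat_lit 0,nat_lit 0,nat_lit 0,nat_lit 2,nat_lit 3,nat_lit 1,nat_lit 3,nat_lit 2,nat_lit 3,nat_lit 2,nat_lit 3,nat_lit 2,nat_lit 0,nat_lit 3,nat_lit 2,nat_lit 1,nat_lit 1,nat_lit 1])
 (.leaf [nat_lit 0x13000003,nat_lit 10,nat_lit 0,nat_lit 1,nat_lit 2,nat_lit 0,nat_lit 2,nat_lit 1,nat_lit 2,nat_lit 0,nat_lit 0,nat_lit 3,nat_lit 2,nat_lit 3,nat_lit 2,nat_lit 3,nat_lit 1,nat_lit 1])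
)))))

noncomputable def hs_L_R : LT :=
(.node (.node (.node (.node (.node (.leaf [nat_lit 8,nat_lit 4,nat_lit 0x12000003])
 (.leaf [nat_lit 2,nat_lit 70,nat_lit 0x1100f00201100200d00200c00100a])
) (.leaf [nat_lit 5,nat_lit 28,nat_lit 0x13013000000000003])
) (.node (.leaf [nat_lit 3,nat_lit 25,nat_lit 0x12000000000000004])
 (.leaf [nat_lit 10,nat_lit 2,nat_lit 0x12002013005013011000005])
)) (.node (.node (.leaf [nat_lit 3,nat_lit 19,nat_lit 0x12000000000000000002])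
 (.leaf [nat_lit 9,nat_lit 9,nat_lit 0x400000c00801001000200200100a])
) (.node (.leaf [nat_lit 5,nat_lit 47,nat_lit 0x11000011011011000012])
 (.leaf [nat_lit 13,nat_lit 47,nat_lit 0x400000400a00201000a000003])
))) (.node (.node (.node (.leaf [nat_lit 9,nat_lit 2,nat_lit 0x400000000000000000000000100c])
 (.leaf [nat_lit 9,nat_lit 16,nat_lit 0x800001000400800801001000500c])
) (.node (.leaf [nat_lit 3,nat_lit 47,nat_lit 0x12012000008])
 (.leaf [nat_lit 9,nat_lit 66,nat_lit 0x600000e00a010010004004011002])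
)) (.node (.node (.leaf [nat_lit 3,nat_lit 11,nat_lit 0x12000012000000000004])
 (.leaf [nat_lit 14,nat_lit 27,nat_lit 0x400001000701100a002006012009])
) (.node (.leaf [nat_lit 6,nat_lit 47,nat_lit 0x1300001201201200000b])
 (.leaf [nat_lit 15,nat_lit 5,nat_lit 0x1300000500100200b000006001007])
))))

noncomputable def hs_C : LC :=
  ⟨⟨fun x c => Nat.shiftRight (BT.get hs_L_t x) (Nat.mul (nat_lit 147) c),
  (nat_lit 7), (nat_lit 127), (nat_lit 262143), (nat_lit 18), (nat_lit 511), (nat_lit 262016), (nat_lit 0), (nat_lit 77), (nat_lit 4), (nat_lit 3), (nat_lit 0), (nat_lit 4), hs_inv, hs_L_rules, .leaf []⟩,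
  (nat_lit 27), (nat_lit 0x1f01f01f01f01f01f01f01f01f01f), (nat_lit 0x7f07f07f07f07f07f07f07f07f07f), (nat_lit 12), (nat_lit 10), (nat_lit 20), (nat_lit 8), (nat_lit 31), (nat_lit 127), (nat_lit 24), hs_pi, hs_rels, hs_L_R⟩

noncomputable def hs_U_t : BT :=
(.node (.node (.node (.leaf (nat_lit 0x292afb5f5b2aef5c5b2adf57000ae55d000af55e342ac74e292ab354292aa340612a9b47222a874d000ac55a000a6f26292a612b802a5950222a4746292a3d3c222a31345b2a293a5b2a1d2a342a13205b2a03212229f3362929e542000a67536129d5442929c9432229b941000ad15b0009a8f90009a2f52929991300098ced22298333292973222229670e29295f195b294f1e5b29471a35293b02000ab959000924e300097d3e7729132300092d370008f8df0008e0dc000aa958000a094b0008c4da7728badd0008acd900089cd66a2896e000088ed3000a7f55004a8356000a535200087ad1004a4351004a2d4f0d28690329285d1c5b2850d046284916292838fb5b282ce929281b070008211d000804c3000800eb0007f4bf0008a9270927daca0007d0be0009eb49000a114c0007b8bc7227b2c80008b12d0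007a0e40007cd1500078ab90009553b0008d930000768b56e275efe0007850d22274ae70049ef4a462738f80008091b222728e50049d94800070ea80008a52c000941390049b5450006eea65b26e4f30008e9320006c2f26a26aab35b269cae0006969e000692c5000682f40006709b0007e117092666db0008c92f0007ad1100065492000658f0462640a50006dafc00497f3f0008f1290049633d00061c86000759090005fc852225f6cc0005f08100492f386625e2c4652724ac2225c8a700490f350005bc7c0007e48b00083f1f0048db310005a87a0048b72e00059c782926b493000586770007030000057276092564b200055e740048852800079d10612548870048752522253cab00486d2400053270000576d500052a6f29268c9c0006faff00063eee22250c95000737060d25d6cd0004fe6c0006a6fa00076d0b000723050047ef180004de690047c3140047af120004ca680047910f5b24b88a0004ae655b249a900047750c00475b0a000516c70006eafd0004805c00056ed4004747085623c28c0006cacf5423d2670047190400030c560003b8730003b088004705010002fc54342454990002f4530003945e4d2396550004687e12246a830002d8500004cebb0002d04f004684f70046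76f60004c2ba0002c04d0004f6c10002b84b00058ad72922ae574623744e452380a300465af100029c4800464aef000294460003f85f0002884400035296000476b0004630ec00027841004624ea2923c67f000494b6004606e8000434630004a6b700041ca20045f2e60002503b0045dae20004b2b80045c4e10002403a0045b6de00043c9a382616c235255098004596d834257e383324368200036e4c004558d200021835004538ce00038c4300452ccb004524c900035e49004508c60001f8320044ecc0222446450044d8bd0001e8312224228e0004c69f0001dc2f00040ea9000320af0001cc2e29243e6a0002107100042a3e004486b40001d06225237c2a004478b10002dca023239a5122234242004312ad004306aa000188250002e4a10042eea4202378941f21722c00016c230042ca9d000164220004447d0003366e0042b2970003622100036a3700014c1f0042969100428e8f0001401d0042828d1a21ae270001341c0042728919233e260001241a00425e840001a45b0001121900424a8000010a180042367b00422e790000fe1700421e75004212720001163c0041fa6d0041f26b0000e2140041de66122414640000d6130041c6610041c2600041b65d0001a83d0000bc1100419a5a00419659004192580000ac0f00417a520000c2290d232c1500009c0e0041524a0041464700035a200921aa3f0000880c00412a400003dc2d00007a0b004104390040f8360040f0340040ec330040dc3000005e080040c82b0040b62800004e070040a6240000460600408e1e0040821b00003a0400406c160000521000405812000026030040400d000032090040340a000010010040180500400a0200e00000))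
 (.leaf (nat_lit 0x1ffe00001ffe00001ffe00001ffe00001ffe00001ffe00001ffe00001ffe00001ffe00001ffe00001ffe00001ffe00001ffe00001ffe00001ffe00001ffe00001ffe00001ffe00001ffe00001ffe00001ffe00001ffe00001ffe00001ffe00001ffe00001ffe00001ffe00001ffe00001ffe00001ffe00001ffe00001ffe00001ffe00001ffe00001ffe00001ffe00001ffe00001ffe00001ffe00001ffe00001ffe00001ffe00001ffe00001ffe00001ffe00001ffe00001ffe00001ffe00001ffe00001ffe00001ffe00001ffe00001ffe00001ffe00001ffe00001ffe00001ffe00001ffe00001ffe00001ffe00001ffe00001ffe00001ffe00001ffe00001ffe00001ffe00001ffe00001ffe00001ffe00001ffe00001ffe00001ffe00001ffe00001ffe00001ffe00001ffe00001ffe00001ffe00001ffe00001ffe00001ffe00001ffe00001ffe00001ffe00001ffe00001ffe00001ffe00001ffe00001ffe00001ffe00001ffe00001ffe00001ffe00001ffe00001ffe00001ffe00001ffe00001ffe00001ffe00001ffe00001ffe00001ffe00001ffe00001ffe00001ffe00001ffe00001ffe00001ffe00001ffe00001ffe00001ffe00001ffe00001ffe00001ffe000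01ffe00001ffe00001ffe00001ffe00001ffe00001ffe00001ffe00001ffe00001ffe00001ffe00001ffe00001ffe00001ffe00001ffe00001ffe00001ffe00001ffe00001ffe00001ffe00001ffe00001ffe00001ffe00001ffe00001ffe00001ffe00001ffe00001ffe00001ffe00001ffe00001ffe00001ffe00001ffe00001ffe00001ffe00001ffe00001ffe00001ffe00001ffe00001ffe00001ffe00001ffe00001ffe00001ffe00001ffe00001ffe00001ffe00001ffe00001ffe00001ffe00001ffe00001ffe00001ffe00001ffe00001ffe00001ffe00001ffe00001ffe00001ffe00001ffe00001ffe00001ffe00001ffe00001ffe00001ffe00001ffe00001ffe00001ffe00001ffe00001ffe00001ffe00001ffe00001ffe00001ffe00001ffe00001ffe00001ffe00001ffe00001ffe00001ffe00001ffe00001ffe00001ffe00001ffe00001ffe00001ffe00001ffe00001ffe00001ffe00001ffe00001ffe00001ffe00001ffe00001ffe00001ffe00001ffe00001ffe00001ffe00001ffe00001ffe00001ffe00001ffe00001ffe00001ffe00001ffe00001ffe00001ffe00001ffe00001ffe00001ffe00001ffe00001ffe00001ffe00001ffe00001ffe00001ffe00001ffe00001f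fe00001ffe00001ffe00001ffe00001ffe00001ffe00001ffe00001ffe00001ffe00001ffe00001ffe00001ffe00001ffe00001ffe00001ffe00001ffe00001ffe00001ffe00001ffe00001ffe00001ffe00001ffe00001ffe00001ffe00001ffe00001ffe00001ffe00001ffe00001ffe00001ffe00001ffe00001ffe00001ffe00001ffe00001ffe00001ffe00001ffe00001ffe00001ffe00001ffe00001ffe00001ffe00001ffe00001ffe00001ffe00001ffe00001ffe00001ffe00001ffe00001ffe00001ffe00001ffe00001ffe00001ffe00001ffe00001ffe00001ffe00001ffe00001ffe00001ffe00001ffe00001ffe00001ffe00001ffe00001ffe00001ffe00001ffe00001ffe00001ffe00001ffe00001ffe00001ffe00001ffe00001ffe00001ffe00001ffe00001ffe00001ffe00001ffe00001ffe00001ffe00001ffe00001ffe00001ffe00001ffe00001ffe00001ffe00001ffe00001ffe00001ffe00001ffe00001ffe00001ffe00001ffe00001ffe00001ffe00001ffe00001ffe00001ffe00001ffe00001ffe00001ffe00001ffe00001ffe00001ffe00001ffe00001ffe00001ffe00001ffe00001ffe00001ffe00001ffe00001ffe00001ffe00001ffe00001ffe00001ffe00001ffe00001ffe00001ffe00001ffe00001ffe00))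
) (.leaf (nat_lit 0x572aff5f000ae95a000add42000ad53c000acd38004ae75e0a2abb51572aab37000a9528812a8f31762a8155702a7129572a6948000a4f25000abd59572a41507f2a354c000a2322000a1916000a374f0009fd083029f72d5729ed49000a6b530009d3025729cd1b3029bd3f0009b2fe6929ab43004adb5d57299d1069298f400009bf45572977157c296af0004ad35c00094ce6000944e5000938e4004acb5b000aad58000920e23029170c3d2903147928faec7828eaf1000a91560008d0db7028cb2f6228bf2a0009f94a70289ede7628952b0008c12e000a7354004a9357000882d169287d19004a4d5230287118000862cc004a214e00084ecb000846c95728410700082ac63b282312000812c30009cf460007f8c000087f26000873240007d8be004a174d0009793e000905340427baf50008251d0007a8bb00099f413027950f70278cce57277eb800091935000772d3000764d2000752b10049fb4b0008431f000730ad00071eac16272d04572714ef0049d147302708f70006fea70006f2a60049b1440006dea50006d2a20006baa16b26aed500069a9e6926c4d800070b0139267ef60007bd1300066c9900066498000660930008ed3200096d3d0007170300063a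8f0006368e0008fd3357262eeb302628ea3f261ea030260a8c000604e000494b3b0049433a004937390005e08000491f360005d4cd5d2602e70425bedf0008a12c0005b47b0a25aeb50048cf300005a4780007e8ca0006c6f83f2590b208257cd60006b0fa000562751c27710b6227630a00488127000546730006cebd00078f0e0a25d2e10048612300484d215f27e6d900484520572520740005126d0048291e5e273c810005026c0048111c572612920004f26b0047f71a5d24e89c0047d7173026cccf0004d6680047a7110004be660004b6650007810d00049864000490610005b0dc5824a2b40004845c000592d700475109572472b000031c590003185700472f0600471d053f245a6a5323ee975223fc84000300540046fd000046f0ff0046dcfd0003a2900002ec520046d0fc0046b8fb000620e90002d44f004698f90004209a0004eabf0002c44d49241e9d00466af4004662f30003f0aa3923fa960002a84a0002a44900465ef2000614c2112338914323a0a4004638ee004634ed4123ea4400060ce80a23ca6f3f2326423e2364773d23464700026c400002683f0002643e0003fea93b245e830a22565f00073ec50045dee3000402450002443a3924587d00023c390045b2dd000234383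6254c790045a2da0003668900022436004560d4000522c8004544d03024647211237037000208340003cc8b00020033004510c7004500c40044f0c100045cab0001ec310044d4bc0001e4300044bcba0044b4b9004496b70001d42e0003c06000448eb61623be62000258820001bc2b00040a2f004482b30001a0280003e02d00431aaf16234a58004316ae00018c252123a4550042fea8000180240042eaa30001702316232a500042d29f1e2330480042c29b00015c21000158200042a6950042a2940003324e000348880001441e1c24007f0003ec8d0001381c0003288a0001301b00426a87004266860042628500011c191621183c00010e180042427e00423a7c0042327a00037271004222760000f616004206700041fe6e0000e6140041ea690041e2671324085d0041d2631123de5a0000ce120041ba5e0001781d0420be2900419e5b0000b4100000b00f00418a5600417e5300416e510000a00e00415a4c0041564b0000940d004142460a21762a0041364300412e410820801a00411a3d00410c3b0000720a0040f43500006a090040e432062060130040cc2c000056070040b2270040ae2600409e220040921f00003e050420620b004070170040681500002a03004054110000220200403c0c0000140100402808004020060040120400e00400))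
) (.node (.node (.leaf (nat_lit 0xafd5f242af35b242ae35c000af15e242acf44032ac355032ab738032aa731000ae15d000a8528032a7d29000ab559032a6548242a5127000a4525000a5b52000a2f24000ac95a000a8956032a0f14242a07300009f1070329e9150009db03000a9d57000a49510009b6ff0009d7470009cb460009e7490009bb45000aa558000980ec7d297b36000964ea000a3f502429530d000a2b4e7b293f00000930e47a292b340009f54a000910e0000a334f0009853f1b28e6fc0008dcdc4028d70c0528c6f20008b8da0528af113128a301000a6353000a1f4d7528eeeb000886d27428a718004a6d54000876cf00086ecd000915350009753e000a054b000a154c03283cdd0009513b10281f1c00085f22052807050009493a0009613c0007f0bf5a27def400084b201d27cb0f0007c4bd00099b410007b0bc6d27aaf171279ad1000792ba0009693d6f278309000776b605276ac100075cb55a2756e8000748b000081d1d6d2734c50c2720c000071aac00086b2300093d39000706a86c2700d65126f8c80007610a2426e8b32426d8ed00083b1f0326a4c20049a74300073b060006869d0006789c0049a142512680f60006e6fd5126c0fb00065c93052656ef000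64c9124263cc700498b400006328b1027ff1a0006268900082f1e0006088600074d080005f48200072b0448279f10004923370005dc800005c67e0008992b0048f7330005b87c0008bd2e0048df32000668f30048c32f0048ab2d000598780525889700489b2c642574cb63256cb100488d2a00055a7400487926000853212f26c8ae00053a720005d8c40005f8e600052e700007dd170005266f0007b512402514b400050a6d032690f70005e4e30048031b0006187a3a24f4990004ee6b0047f3190047cf160004da690047b7130524cc9f2424c09b0047890e0524b07f5124a4845a2492870047670b0004885e0006acfa000566d400047a5b1d24748c24231e6300069ef900031457000726e200053ece0003085651240c6400470d020005cae10046ecfe000642ee0002f0530003829403241a830322e2540522da5a4c24c466004694f80002cc4f00068ec900466ef503243a7b000456a6000552790002b44b4823508d00050ec600037a520006b6d8004652f00002984700049cb70002904600042467000284440003c4af4027e2de0004bab9000274410323aea900054ad000461ae90045fae70002603e00046ca1000438760045eee500024c3b0003c8883a2466a20524424d0045badf000238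390045a6db0002303800459ad9004584d7004570d50002203600455cd33123b6aa000214352f220e60004530cc004528ca2e23344c0001fc330044fcc30001f432000440610044dcbe0044c8bb0003d4ad0001e0300044acb80004162f2b2432850521ce5d0001c82d0001c42c2723f68f262392a40001b82b00447eb22421a23d00019c2800019827000194260002b09600430aab000398a30042faa70042f2a500017c2400039c590042d6a00042ce9e000376950042be9a05236c750042b698000154201d235c6e00429a920001481f004292900004486a0042868e1b238a71000344580042768a00012c1b0001ac1d0324285f1521a62a0521143400424e8100423e7d0001061800058077152368490000fa17004216730000f2160000ee150041f66c0041e6680000de140041da650041ca621023da1a000174510000ca1200037e5c0e20c0230000b8110001b04300034040004186550000a80f00416a500041624e0523604a0c23581e00414a480000900d00413e45004132420000840c0041223f0041103c0041083a0040fc3700006e0a00032e220040e0310040d42e00005a080040ba29052050090040aa2500409a21000042060040861c00407819000036040320300500405c1300404c100040440e00001a020040380b0040240700000c0100400e0300e00200))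
 (.leaf (nat_lit 0x16075d0014055a001405420012053c0012053800120736001207330012072e00120528001201280012072600120326001207250012052500120125001207240012012400120522001205160012070e001205080012010700120704001201030012050200120700001200ff001204fe001202f9001202f5001206f3001202ed001200ec001206ea001200ea001006e6001004e6001004e5001004e4001000e4001002e3001004e2001000e0001006df001002df001002dc001000dc001004db001002da001000da001002d9001002d6001006d3001002d3001006d2001000d2001004d1001002d1001000cf001000cd001004cc001006cb001004cb001004c9001006c6001004c6001006c4001004c3001002c3001004c0001002bf001000bf001004be001002be001006bd001000bd001002bc001000bc001004bb001006ba001000ba001002b9001006b6001000b6001002b5001000b5001004b1001000b0001006ae001004ad001004ac001000ac001006aa001002a8001000a8001004a7001004a6001002a6001004a5001004a2001004a10010069e0010049e0010029e0010009d0010009c0010029b0010049900100498001004930010009300100292001000910010048f0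010048e0010008b0010068900100089000e0286000e0086000e0285000e0082000e0281000e0680000e0480000e0080000e007e000e067c000e027c000e007c000e047b000e067a000e027a000e0478000e0278000e0078000e0277000e0676000e0276000e0475000e0274000e0074000e0673000e0473000e0672000e0072000e0670000e0270000e0070000e026f000e006f000e066d000e046d000e006d000e066c000e046c000e026c000e066b000e046b000e006b000e0669000e0269000e0069000e0468000e0268000e0466000e0465000e0265000e0464000e0461000e065e000e005e000e045c000e025c000e005b000e065a000e0459000e0457000e0057000e0656000e0256000e0056000e0655000e0454000e0254000e0653000e0253000e0053000e0452000e0651000e0650000e0250000e044f000e024f000e004f000e064e000e044d000e024d000e064c000e024b000e004b000e064a000e044a000e0449000e0648000e0248000e0047000e0246000e0046000e0244000e0044000e0642000e0641000e0241000e0041000e0640000e0440000c043f000c043e000c003e000c063d000c063b000c023b000c003b000c063a000c043a000c023a000c0439000c0039000c0438000c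0038000c0637000c0636000c0436000c0036000c0635000c0235000c0035000c0634000c0434000c0633000c0433000c0033000c0232000c0032000c0631000c0431000c0231000c0430000c0030000c022f000c062e000c042e000c022e000c002d000c002c000c062b000c042b000c002b000c0628000c0428000c0028000c0027000c0026000c0625000c0425000c0225000c0624000c0424000c0024000c0423000c0223000c0622000c0222000c0621000c0421000c0420000c0020000c061f000c021f000c001f000c041e000c021d000c061c000c041c000c021c000c041b000c001b000a021a000a0619000a0419000a0219000a0418000a0218000a0018000a0617000a0217000a0017000a0416000a0016000a0015000a0414000a0214000a0014000a0613000a0213000a0612000a0412000a0012000a0611000a0211000a0011000a0410000a040f000a020f000a000f000a060e000a040e000a020e000a060d000a040d000a000d000a060c000a020c000a000c0008060b0008020b0008060a0008040a0008000a00080409000806080008020800080008000804070008020700080606000802060008000600080405000602040006000400060603000604030006020300060402000600020004040100040201000400010002060000000000))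
) (.leaf (nat_lit 0xaf95d002aeb5b004af75f002ad744000aed5e000ac136000ab133000aa12e002a97472c2a8b2a000a7b26682a753d000a5f25592a554f072a4b51000a3b24000a5752002a254a002a1b4d000a0d0e0029ff11000a274e0009e3042c29dd39000a99570009c7004e29c131000ad95c6829ad3a5529a542000996f3682990ed7e298720000970ea000a775400095ce60b2956fe0009af430009df482c29332c18292701004abf5a00091d27000900df004aaf591828e3050009c3450028d2e81728cd2f004a9f581828b2f000093538000892d3000a8d5600088ad20008f4de2c291b35004a7955004a5d53004a39505928650f00085acb0008570a0009893f000836c6592830f1000818c40028151c73280af80027fad573290ae5000909140f27eaca1827d2ec0007c8bd422907186827bef24f282712000a014b000798ba00086723004a0b4c00077cb60727790c18276f0b2c285521002755092c274f08000744ae002733060008e5320049e149000712aa1827a2e2000929370049c5460026f4f40009593b0026e0da0026d4b30026bcbc0006a29e0026a8f900080d1b012688c950267add682672ab0006f6ff004995410007c1130008331e0008b52d07264e91000646a50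00993400007d51600062c8900496f3e3c2622e90008d5301825feb200495b3c00090d190005ec806725e6ce0007a5022c25cc8f0005c27c0048ff341828f32800067cf60005ac7a552648db0006e2fd18259e980126b2d818258cc100057a760007fd1a592568b80048912b004889290005567355254ed0000542720005e8e300053670602594cc004859220007ed1700068af700051e6d5925186e0048351f0005066c0048171d18280ec30004fa6b00058ed7012786c00004e6695c24e0b90047c7150006befb1824d0a0004797100004e2be00056ad44b249e7e00477b0d00048c5e5924a8970006d6fc000600e702247cb10004705a0023aaaf004743075523e26200031056000674f500471103000304550004309b0125d0a70002f853502644ee4f23e6874e2386590002e8510002e0500004d2bb1423a65b0046a0fa4b24269d0002c84e4a242ea8000412600002bc4c0005a0d90004aab40002ac4a472384952823d6900002a04844260e86000650ef0003d8940005cee118228a7b4223f2630002804200027c410024188a00462aeb000270400003e8a4000610921824507d3c24045d00025c3d0002543b142740810045eae40002483a0004a0b7000452850045c0e000028c8e0045aadc3725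827900022c3700022836004578d632239e7500021c35004554d1004540cf00020c34004534cd0002043300051ac700451cc8004504c50044f8c20001f0310044e4bf2d244c5800034e3c2c246065000462660001d82e0003f48d0003e4ad2a242c612824109a0001c02b00448ab5000406840001b4280003a89f00446eb0000388a300044e680001902500430eac004302a9000184240042f6a60003b4460042e6a20042dea1000168220042c69c000160210042ba99000356470042aa960001501f00429e930023544b0023b2521823ba4300013c1c0003bc4500427e8c00427a8b00426e88182126390001201900425a8317234c67004252820042467f0001283f0001021700422a780042267700421a7400420a710042026f1420e8150041ee6a01244a300000da130041d6640000d2120003d0290041be5f0000c6110f23ce2c0041b25c00033c2600233a2700418e57004182540000a40e0041664f00415e4d0000980d00414e490b23ac1e00008c0c00413a440003901600007e0b00411e3e0000760a0041003807238e1b0000ea32000066080040d82f0040d02d0040c42a0003240700004a060040a2230040962000408a1d00407c1a0040741800002e0300406414022322100040480f01201c020020160400402c0900001e050000080000400601))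
))

noncomputable def hs_U_rules : LT :=
(.node (.node (.node (.node (.node (.node (.node (.node (.leaf [nat_lit 10,nat_lit 9,nat_lit 1,nat_lit 3,nat_lit 2,nat_lit 3,nat_lit 1,nat_lit 1,nat_lit 2,nat_lit 0,nat_lit 2,nat_lit 1,nat_lit 2,nat_lit 0,nat_lit 0,nat_lit 3,nat_lit 2])
 (.leaf [nat_lit 12,nat_lit 9,nat_lit 1,nat_lit 0,nat_lit 2,nat_lit 1,nat_lit 2,nat_lit 0,nat_lit 2,nat_lit 0,nat_lit 0,nat_lit 3,nat_lit 1,nat_lit 1,nat_lit 2,nat_lit 1,nat_lit 2,nat_lit 0,nat_lit 2,nat_lit 0,nat_lit 0,nat_lit 3,nat_lit 1])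
) (.leaf [nat_lit 5,nat_lit 14,nat_lit 1,nat_lit 1,nat_lit 2,nat_lit 1,nat_lit 1,nat_lit 2,nat_lit 0,nat_lit 0,nat_lit 2,nat_lit 1,nat_lit 1,nat_lit 2,nat_lit 0,nat_lit 0,nat_lit 2,nat_lit 1,nat_lit 1,nat_lit 2,nat_lit 0])
) (.node (.leaf [nat_lit 7,nat_lit 20,nat_lit 1,nat_lit 0,nat_lit 1,nat_lit 1,nat_lit 2,nat_lit 0,nat_lit 2,nat_lit 0,nat_lit 2,nat_lit 0,nat_lit 2,nat_lit 1,nat_lit 2,nat_lit 0,nat_lit 2,nat_lit 1,nat_lit 1,nat_lit 1,nat_lit 2,nat_lit 0,nat_lit 2,nat_lit 0,nat_lit 0,nat_lit 2])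
 (.leaf [nat_lit 15,nat_lit 18,nat_lit 0,nat_lit 3,nat_lit 0,nat_lit 2,nat_lit 0,nat_lit 2,nat_lit 0,nat_lit 0,nat_lit 2,nat_lit 1,nat_lit 2,nat_lit 0,nat_lit 2,nat_lit 3,nat_lit 1,nat_lit 2,nat_lit 0,nat_lit 2,nat_lit 1,nat_lit 2,nat_lit 3,nat_lit 0,nat_lit 2,nat_lit 1])
)) (.node (.node (.leaf [nat_lit 11,nat_lit 13,nat_lit 1,nat_lit 1,nat_lit 3,nat_lit 2,nat_lit 1,nat_lit 1,nat_lit 1,nat_lit 2,nat_lit 0,nat_lit 0,nat_lit 0,nat_lit 2,nat_lit 3,nat_lit 1,nat_lit 3,nat_lit 2,nat_lit 3,nat_lit 2,nat_lit 3,nat_lit 2])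
 (.leaf [nat_lit 11,nat_lit 4,nat_lit 0,nat_lit 3,nat_lit 1,nat_lit 2,nat_lit 3,nat_lit 2,nat_lit 3,nat_lit 2,nat_lit 3,nat_lit 0,nat_lit 3,nat_lit 2,nat_lit 1,nat_lit 1,nat_lit 1,nat_lit 2,nat_lit 0,nat_lit 0,nat_lit 0,nat_lit 2])
) (.node (.leaf [nat_lit 10,nat_lit 2,nat_lit 1,nat_lit 2,nat_lit 1,nat_lit 2,nat_lit 0,nat_lit 0,nat_lit 3,nat_lit 2,nat_lit 3,nat_lit 2,nat_lit 3,nat_lit 1,nat_lit 1,nat_lit 2,nat_lit 0])
 (.leaf [nat_lit 4,nat_lit 13,nat_lit 0,nat_lit 2,nat_lit 0,nat_lit 2,nat_lit 0,nat_lit 2,nat_lit 0,nat_lit 2,nat_lit 0,nat_lit 2,nat_lit 0,nat_lit 2,nat_lit 0,nat_lit 2,nat_lit 0,nat_lit 2,nat_lit 0])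
))) (.node (.node (.node (.leaf [nat_lit 13,nat_lit 6,nat_lit 1,nat_lit 2,nat_lit 3,nat_lit 0,nat_lit 2,nat_lit 3,nat_lit 0,nat_lit 2,nat_lit 0,nat_lit 2,nat_lit 1,nat_lit 2,nat_lit 1,nat_lit 2,nat_lit 1,nat_lit 2,nat_lit 1,nat_lit 1,nat_lit 2,nat_lit 1,nat_lit 3,nat_lit 2,nat_lit 1,nat_lit 3])
 (.leaf [nat_lit 17,nat_lit 13,nat_lit 1,nat_lit 1,nat_lit 3,nat_lit 1,nat_lit 3,nat_lit 1,nat_lit 2,nat_lit 1,nat_lit 1,nat_lit 2,nat_lit 1,nat_lit 1,nat_lit 2,nat_lit 0,nat_lit 2,nat_lit 1,nat_lit 1,nat_lit 2,nat_lit 1,nat_lit 1,nat_lit 2,nat_lit 0,nat_lit 0,nat_lit 3,nat_lit 0])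
) (.node (.leaf [nat_lit 17,nat_lit 16,nat_lit 1,nat_lit 3,nat_lit 1,nat_lit 2,nat_lit 1,nat_lit 1,nat_lit 2,nat_lit 1,nat_lit 1,nat_lit 2,nat_lit 0,nat_lit 2,nat_lit 1,nat_lit 1,nat_lit 2,nat_lit 1,nat_lit 1,nat_lit 2,nat_lit 0,nat_lit 0,nat_lit 3,nat_lit 0,nat_lit 0,nat_lit 3,nat_lit 1])
 (.leaf [nat_lit 13,nat_lit 7,nat_lit 1,nat_lit 3,nat_lit 0,nat_lit 2,nat_lit 3,nat_lit 0,nat_lit 2,nat_lit 0,nat_lit 2,nat_lit 1,nat_lit 2,nat_lit 1,nat_lit 2,nat_lit 1,nat_lit 2,nat_lit 1,nat_lit 1,nat_lit 2,nat_lit 1,nat_lit 3,nat_lit 2,nat_lit 1,nat_lit 3,nat_lit 2])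
)) (.node (.node (.leaf [nat_lit 9,nat_lit 5,nat_lit 0,nat_lit 3,nat_lit 0,nat_lit 3,nat_lit 0,nat_lit 3,nat_lit 0,nat_lit 3,nat_lit 0])
 (.leaf [nat_lit 7,nat_lit 3,nat_lit 0,nat_lit 2,nat_lit 1,nat_lit 1,nat_lit 2,nat_lit 1,nat_lit 2,nat_lit 0,nat_lit 0,nat_lit 0,nat_lit 2,nat_lit 1,nat_lit 2,nat_lit 0,nat_lit 2,nat_lit 1,nat_lit 2,nat_lit 1,nat_lit 2,nat_lit 1,nat_lit 2,nat_lit 0,nat_lit 0,nat_lit 0])
) (.node (.leaf [nat_lit 13,nat_lit 14,nat_lit 0,nat_lit 0,nat_lit 3,nat_lit 2,nat_lit 3,nat_lit 0,nat_lit 2,nat_lit 3,nat_lit 0,nat_lit 2,nat_lit 0,nat_lit 0,nat_lit 2,nat_lit 0,nat_lit 2,nat_lit 0,nat_lit 2,nat_lit 0,nat_lit 2,nat_lit 1,nat_lit 2,nat_lit 1,nat_lit 3,nat_lit 2])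
 (.leaf [nat_lit 11,nat_lit 12,nat_lit 1,nat_lit 2,nat_lit 0,nat_lit 3,nat_lit 2,nat_lit 1,nat_lit 1,nat_lit 1,nat_lit 2,nat_lit 0,nat_lit 0,nat_lit 0,nat_lit 2,nat_lit 3,nat_lit 1,nat_lit 3,nat_lit 2,nat_lit 3,nat_lit 2,nat_lit 3])
)))) (.node (.node (.node (.node (.leaf [nat_lit 12,nat_lit 2,nat_lit 1,nat_lit 2,nat_lit 0,nat_lit 2,nat_lit 0,nat_lit 0,nat_lit 3,nat_lit 1,nat_lit 1,nat_lit 2,nat_lit 1,nat_lit 2,nat_lit 0,nat_lit 2,nat_lit 0,nat_lit 0,nat_lit 3,nat_lit 1,nat_lit 1,nat_lit 2,nat_lit 1])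
 (.leaf [nat_lit 13,nat_lit 20,nat_lit 0,nat_lit 3,nat_lit 0,nat_lit 2,nat_lit 0,nat_lit 0,nat_lit 2,nat_lit 0,nat_lit 2,nat_lit 0,nat_lit 2,nat_lit 0,nat_lit 2,nat_lit 1,nat_lit 2,nat_lit 1,nat_lit 3,nat_lit 2,nat_lit 1,nat_lit 3,nat_lit 2,nat_lit 3,nat_lit 0,nat_lit 2])
) (.node (.leaf [nat_lit 10,nat_lit 1,nat_lit 1,nat_lit 1,nat_lit 2,nat_lit 1,nat_lit 2,nat_lit 0,nat_lit 0,nat_lit 3,nat_lit 2,nat_lit 3,nat_lit 2,nat_lit 3,nat_lit 1,nat_lit 1,nat_lit 2])
 (.leaf [nat_lit 7,nat_lit 1,nat_lit 0,nat_lit 1,nat_lit 0,nat_lit 2,nat_lit 1,nat_lit 1,nat_lit 2,nat_lit 1,nat_lit 2,nat_lit 0,nat_lit 0,nat_lit 0,nat_lit 2,nat_lit 1,nat_lit 2,nat_lit 0,nat_lit 2,nat_lit 1,nat_lit 2,nat_lit 1,nat_lit 2,nat_lit 1,nat_lit 2,nat_lit 0])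
)) (.node (.node (.leaf [nat_lit 11,nat_lit 9,nat_lit 1,nat_lit 3,nat_lit 2,nat_lit 3,nat_lit 2,nat_lit 0,nat_lit 3,nat_lit 2,nat_lit 1,nat_lit 1,nat_lit 1,nat_lit 2,nat_lit 0,nat_lit 0,nat_lit 0,nat_lit 2,nat_lit 3,nat_lit 1,nat_lit 3,nat_lit 2])
 (.leaf [nat_lit 17,nat_lit 10,nat_lit 0,nat_lit 0,nat_lit 1,nat_lit 3,nat_lit 1,nat_lit 1,nat_lit 2,nat_lit 0,nat_lit 0,nat_lit 2,nat_lit 0,nat_lit 0,nat_lit 2,nat_lit 1,nat_lit 2,nat_lit 0,nat_lit 0,nat_lit 2,nat_lit 0,nat_lit 0,nat_lit 2,nat_lit 0,nat_lit 3,nat_lit 0,nat_lit 3])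
) (.node (.leaf [nat_lit 11,nat_lit 6,nat_lit 1,nat_lit 0,nat_lit 3,nat_lit 2,nat_lit 3,nat_lit 2,nat_lit 3,nat_lit 2,nat_lit 0,nat_lit 3,nat_lit 2,nat_lit 1,nat_lit 1,nat_lit 1,nat_lit 2,nat_lit 0,nat_lit 0,nat_lit 0,nat_lit 2,nat_lit 3])
 (.leaf [nat_lit 14,nat_lit 7,nat_lit 0,nat_lit 1,nat_lit 2,nat_lit 3,nat_lit 1,nat_lit 2,nat_lit 1,nat_lit 2,nat_lit 0,nat_lit 2,nat_lit 0,nat_lit 3,nat_lit 1,nat_lit 1,nat_lit 2,nat_lit 1,nat_lit 2,nat_lit 0,nat_lit 0,nat_lit 2,nat_lit 1,nat_lit 2,nat_lit 0,nat_lit 2])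
))) (.node (.node (.node (.leaf [nat_lit 11,nat_lit 2,nat_lit 0,nat_lit 1,nat_lit 2,nat_lit 3,nat_lit 1,nat_lit 2,nat_lit 3,nat_lit 2,nat_lit 3,nat_lit 2,nat_lit 3,nat_lit 0,nat_lit 3,nat_lit 2,nat_lit 1,nat_lit 1,nat_lit 1,nat_lit 2,nat_lit 0,nat_lit 0])
 (.leaf [nat_lit 13,nat_lit 1,nat_lit 0,nat_lit 1,nat_lit 2,nat_lit 0,nat_lit 2,nat_lit 0,nat_lit 2,nat_lit 0,nat_lit 2,nat_lit 1,nat_lit 2,nat_lit 1,nat_lit 3,nat_lit 2,nat_lit 1,nat_lit 3,nat_lit 2,nat_lit 3,nat_lit 0,nat_lit 2,nat_lit 3,nat_lit 0,nat_lit 2,nat_lit 0])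
) (.node (.leaf [nat_lit 9,nat_lit 4,nat_lit 1,nat_lit 3,nat_lit 1,nat_lit 3,nat_lit 1,nat_lit 3,nat_lit 1,nat_lit 3,nat_lit 1])
 (.leaf [nat_lit 15,nat_lit 5,nat_lit 1,nat_lit 1,nat_lit 2,nat_lit 1,nat_lit 3,nat_lit 2,nat_lit 0,nat_lit 2,nat_lit 1,nat_lit 2,nat_lit 0,nat_lit 3,nat_lit 2,nat_lit 1,nat_lit 2,nat_lit 0,nat_lit 2,nat_lit 1,nat_lit 1,nat_lit 2,nat_lit 1,nat_lit 2,nat_lit 1,nat_lit 3])
)) (.node (.node (.leaf [nat_lit 13,nat_lit 2,nat_lit 0,nat_lit 2,nat_lit 0,nat_lit 2,nat_lit 0,nat_lit 2,nat_lit 0,nat_lit 2,nat_lit 1,nat_lit 2,nat_lit 1,nat_lit 3,nat_lit 2,nat_lit 1,nat_lit 3,nat_lit 2,nat_lit 3,nat_lit 0,nat_lit 2,nat_lit 3,nat_lit 0,nat_lit 2,nat_lit 0,nat_lit 0])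
 (.leaf [nat_lit 13,nat_lit 17,nat_lit 0,nat_lit 3,nat_lit 0,nat_lit 2,nat_lit 3,nat_lit 0,nat_lit 2,nat_lit 0,nat_lit 0,nat_lit 2,nat_lit 0,nat_lit 2,nat_lit 0,nat_lit 2,nat_lit 0,nat_lit 2,nat_lit 1,nat_lit 2,nat_lit 1,nat_lit 3,nat_lit 2,nat_lit 1,nat_lit 3,nat_lit 2])
) (.node (.leaf [nat_lit 15,nat_lit 8,nat_lit 1,nat_lit 3,nat_lit 2,nat_lit 0,nat_lit 2,nat_lit 1,nat_lit 2,nat_lit 0,nat_lit 3,nat_lit 2,nat_lit 1,nat_lit 2,nat_lit 0,nat_lit 2,nat_lit 1,nat_lit 1,nat_lit 2,nat_lit 1,nat_lit 2,nat_lit 1,nat_lit 3,nat_lit 0,nat_lit 2,nat_lit 1])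
 (.leaf [nat_lit 4,nat_lit 14,nat_lit 1,nat_lit 2,nat_lit 1,nat_lit 2,nat_lit 1,nat_lit 2,nat_lit 1,nat_lit 2,nat_lit 1,nat_lit 2,nat_lit 1,nat_lit 2,nat_lit 1,nat_lit 2,nat_lit 1,nat_lit 2,nat_lit 1])
))))) (.node (.node (.node (.node (.node (.leaf [nat_lit 14,nat_lit 5,nat_lit 1,nat_lit 3,nat_lit 1,nat_lit 2,nat_lit 1,nat_lit 2,nat_lit 0,nat_lit 2,nat_lit 0,nat_lit 3,nat_lit 2,nat_lit 1,nat_lit 2,nat_lit 1,nat_lit 2,nat_lit 0,nat_lit 2,nat_lit 1,nat_lit 1,nat_lit 2,nat_lit 0,nat_lit 2,nat_lit 0,nat_lit 0])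
 (.leaf [nat_lit 13,nat_lit 5,nat_lit 1,nat_lit 3,nat_lit 2,nat_lit 3,nat_lit 0,nat_lit 2,nat_lit 3,nat_lit 0,nat_lit 2,nat_lit 0,nat_lit 2,nat_lit 1,nat_lit 2,nat_lit 1,nat_lit 2,nat_lit 1,nat_lit 2,nat_lit 1,nat_lit 1,nat_lit 2,nat_lit 1,nat_lit 3,nat_lit 2,nat_lit 1])
) (.node (.leaf [nat_lit 2,nat_lit 4,nat_lit 1,nat_lit 0,nat_lit 1,nat_lit 1,nat_lit 1,nat_lit 1,nat_lit 1,nat_lit 1])
 (.leaf [nat_lit 12,nat_lit 0,nat_lit 1,nat_lit 2,nat_lit 1,nat_lit 2,nat_lit 0,nat_lit 2,nat_lit 0,nat_lit 0,nat_lit 3,nat_lit 1,nat_lit 1,nat_lit 2,nat_lit 1,nat_lit 2,nat_lit 0,nat_lit 2,nat_lit 0,nat_lit 0,nat_lit 3,nat_lit 1,nat_lit 1])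
)) (.node (.node (.leaf [nat_lit 17,nat_lit 11,nat_lit 0,nat_lit 0,nat_lit 3,nat_lit 1,nat_lit 1,nat_lit 2,nat_lit 0,nat_lit 0,nat_lit 2,nat_lit 0,nat_lit 0,nat_lit 2,nat_lit 1,nat_lit 2,nat_lit 0,nat_lit 0,nat_lit 2,nat_lit 0,nat_lit 0,nat_lit 2,nat_lit 0,nat_lit 3,nat_lit 0,nat_lit 3,nat_lit 1])
 (.leaf [nat_lit 13,nat_lit 12,nat_lit 1,nat_lit 2,nat_lit 0,nat_lit 2,nat_lit 1,nat_lit 2,nat_lit 1,nat_lit 2,nat_lit 1,nat_lit 2,nat_lit 1,nat_lit 1,nat_lit 2,nat_lit 1,nat_lit 3,nat_lit 2,nat_lit 1,nat_lit 3,nat_lit 2,nat_lit 3,nat_lit 0,nat_lit 2,nat_lit 3,nat_lit 0])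
) (.node (.leaf [nat_lit 16,nat_lit 19,nat_lit 1,nat_lit 3,nat_lit 1,nat_lit 1,nat_lit 1,nat_lit 2,nat_lit 3,nat_lit 1,nat_lit 1,nat_lit 2,nat_lit 1,nat_lit 2,nat_lit 0,nat_lit 0,nat_lit 2,nat_lit 1,nat_lit 1,nat_lit 3,nat_lit 1,nat_lit 2,nat_lit 0,nat_lit 2,nat_lit 0,nat_lit 0])
 (.leaf [nat_lit 11,nat_lit 17,nat_lit 1,nat_lit 0,nat_lit 1,nat_lit 2,nat_lit 0,nat_lit 0,nat_lit 0,nat_lit 2,nat_lit 3,nat_lit 1,nat_lit 3,nat_lit 2,nat_lit 3,nat_lit 2,nat_lit 3,nat_lit 2,nat_lit 0,nat_lit 3,nat_lit 2,nat_lit 1])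
))) (.node (.node (.node (.leaf [nat_lit 10,nat_lit 8,nat_lit 1,nat_lit 2,nat_lit 3,nat_lit 2,nat_lit 3,nat_lit 1,nat_lit 1,nat_lit 2,nat_lit 0,nat_lit 2,nat_lit 1,nat_lit 2,nat_lit 0,nat_lit 0,nat_lit 3])
 (.leaf [nat_lit 11,nat_lit 9,nat_lit 0,nat_lit 3,nat_lit 2,nat_lit 3,nat_lit 0,nat_lit 3,nat_lit 2,nat_lit 1,nat_lit 1,nat_lit 1,nat_lit 2,nat_lit 0,nat_lit 0,nat_lit 0,nat_lit 2,nat_lit 3,nat_lit 1,nat_lit 2,nat_lit 3,nat_lit 2])
) (.node (.leaf [nat_lit 17,nat_lit 14,nat_lit 1,nat_lit 3,nat_lit 1,nat_lit 3,nat_lit 1,nat_lit 2,nat_lit 1,nat_lit 1,nat_lit 2,nat_lit 1,nat_lit 1,nat_lit 2,nat_lit 0,nat_lit 2,nat_lit 1,nat_lit 1,nat_lit 2,nat_lit 1,nat_lit 1,nat_lit 2,nat_lit 0,nat_lit 0,nat_lit 3,nat_lit 0,nat_lit 0])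
 (.leaf [nat_lit 13,nat_lit 4,nat_lit 1,nat_lit 0,nat_lit 3,nat_lit 2,nat_lit 3,nat_lit 0,nat_lit 2,nat_lit 3,nat_lit 0,nat_lit 2,nat_lit 0,nat_lit 2,nat_lit 1,nat_lit 2,nat_lit 1,nat_lit 2,nat_lit 1,nat_lit 2,nat_lit 1,nat_lit 1,nat_lit 2,nat_lit 1,nat_lit 3,nat_lit 2])
)) (.node (.node (.leaf [nat_lit 16,nat_lit 7,nat_lit 0,nat_lit 0,nat_lit 2,nat_lit 0,nat_lit 3,nat_lit 0,nat_lit 0,nat_lit 2,nat_lit 1,nat_lit 1,nat_lit 2,nat_lit 0,nat_lit 2,nat_lit 0,nat_lit 0,nat_lit 3,nat_lit 2,nat_lit 0,nat_lit 0,nat_lit 0,nat_lit 3,nat_lit 1,nat_lit 1,nat_lit 2])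
 (.leaf [nat_lit 4,nat_lit 14,nat_lit 0,nat_lit 1,nat_lit 2,nat_lit 0,nat_lit 2,nat_lit 0,nat_lit 2,nat_lit 0,nat_lit 2,nat_lit 0,nat_lit 2,nat_lit 0,nat_lit 2,nat_lit 0,nat_lit 2,nat_lit 0,nat_lit 2])
) (.node (.leaf [nat_lit 15,nat_lit 15,nat_lit 0,nat_lit 1,nat_lit 2,nat_lit 1,nat_lit 3,nat_lit 0,nat_lit 2,nat_lit 0,nat_lit 2,nat_lit 0,nat_lit 0,nat_lit 2,nat_lit 1,nat_lit 2,nat_lit 0,nat_lit 2,nat_lit 3,nat_lit 1,nat_lit 2,nat_lit 0,nat_lit 2,nat_lit 1,nat_lit 2,nat_lit 3])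
 (.leaf [nat_lit 17,nat_lit 19,nat_lit 0,nat_lit 1,nat_lit 0,nat_lit 2,nat_lit 1,nat_lit 2,nat_lit 0,nat_lit 0,nat_lit 2,nat_lit 0,nat_lit 0,nat_lit 2,nat_lit 0,nat_lit 3,nat_lit 0,nat_lit 3,nat_lit 1,nat_lit 1,nat_lit 3,nat_lit 1,nat_lit 1,nat_lit 2,nat_lit 0,nat_lit 0,nat_lit 2])
)))) (.node (.node (.node (.node (.leaf [nat_lit 14,nat_lit 9,nat_lit 1,nat_lit 2,nat_lit 0,nat_lit 2,nat_lit 0,nat_lit 3,nat_lit 2,nat_lit 1,nat_lit 2,nat_lit 1,nat_lit 2,nat_lit 0,nat_lit 2,nat_lit 1,nat_lit 1,nat_lit 2,nat_lit 0,nat_lit 2,nat_lit 0,nat_lit 0,nat_lit 3,nat_lit 1,nat_lit 2,nat_lit 1])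
 (.leaf [nat_lit 11,nat_lit 18,nat_lit 1,nat_lit 0,nat_lit 2,nat_lit 0,nat_lit 0,nat_lit 0,nat_lit 2,nat_lit 3,nat_lit 1,nat_lit 3,nat_lit 2,nat_lit 3,nat_lit 2,nat_lit 3,nat_lit 2,nat_lit 0,nat_lit 3,nat_lit 2,nat_lit 1,nat_lit 1])
) (.node (.leaf [nat_lit 7,nat_lit 18,nat_lit 1,nat_lit 1,nat_lit 2,nat_lit 1,nat_lit 1,nat_lit 1,nat_lit 2,nat_lit 0,nat_lit 2,nat_lit 0,nat_lit 2,nat_lit 0,nat_lit 2,nat_lit 1,nat_lit 2,nat_lit 0,nat_lit 2,nat_lit 1,nat_lit 1,nat_lit 1,nat_lit 2,nat_lit 0,nat_lit 2,nat_lit 0])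
 (.leaf [nat_lit 13,nat_lit 17,nat_lit 1,nat_lit 0,nat_lit 2,nat_lit 1,nat_lit 2,nat_lit 1,nat_lit 1,nat_lit 2,nat_lit 1,nat_lit 3,nat_lit 2,nat_lit 1,nat_lit 3,nat_lit 2,nat_lit 3,nat_lit 0,nat_lit 2,nat_lit 3,nat_lit 0,nat_lit 2,nat_lit 0,nat_lit 2,nat_lit 1,nat_lit 2])
)) (.node (.node (.leaf [nat_lit 11,nat_lit 0,nat_lit 1,nat_lit 2,nat_lit 0,nat_lit 0,nat_lit 0,nat_lit 2,nat_lit 3,nat_lit 1,nat_lit 3,nat_lit 2,nat_lit 3,nat_lit 2,nat_lit 3,nat_lit 2,nat_lit 0,nat_lit 3,nat_lit 2,nat_lit 1,nat_lit 1,nat_lit 1])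
 (.leaf [nat_lit 17,nat_lit 13,nat_lit 0,nat_lit 0,nat_lit 1,nat_lit 2,nat_lit 0,nat_lit 0,nat_lit 2,nat_lit 0,nat_lit 0,nat_lit 2,nat_lit 1,nat_lit 2,nat_lit 0,nat_lit 0,nat_lit 2,nat_lit 0,nat_lit 0,nat_lit 2,nat_lit 0,nat_lit 3,nat_lit 0,nat_lit 3,nat_lit 1,nat_lit 1,nat_lit 3])
) (.node (.leaf [nat_lit 15,nat_lit 16,nat_lit 0,nat_lit 2,nat_lit 1,nat_lit 3,nat_lit 0,nat_lit 2,nat_lit 0,nat_lit 2,nat_lit 0,nat_lit 0,nat_lit 2,nat_lit 1,nat_lit 2,nat_lit 0,nat_lit 2,nat_lit 3,nat_lit 1,nat_lit 2,nat_lit 0,nat_lit 2,nat_lit 1,nat_lit 2,nat_lit 3,nat_lit 0])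
 (.leaf [nat_lit 11,nat_lit 10,nat_lit 1,nat_lit 2,nat_lit 3,nat_lit 2,nat_lit 0,nat_lit 3,nat_lit 2,nat_lit 1,nat_lit 1,nat_lit 1,nat_lit 2,nat_lit 0,nat_lit 0,nat_lit 0,nat_lit 2,nat_lit 3,nat_lit 1,nat_lit 3,nat_lit 2,nat_lit 3])
))) (.node (.node (.node (.leaf [nat_lit 15,nat_lit 19,nat_lit 0,nat_lit 1,nat_lit 2,nat_lit 0,nat_lit 2,nat_lit 0,nat_lit 0,nat_lit 2,nat_lit 1,nat_lit 2,nat_lit 0,nat_lit 2,nat_lit 3,nat_lit 1,nat_lit 2,nat_lit 0,nat_lit 2,nat_lit 1,nat_lit 2,nat_lit 3,nat_lit 0,nat_lit 2,nat_lit 1,nat_lit 3])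
 (.leaf [nat_lit 14,nat_lit 17,nat_lit 0,nat_lit 3,nat_lit 1,nat_lit 1,nat_lit 2,nat_lit 1,nat_lit 2,nat_lit 0,nat_lit 0,nat_lit 2,nat_lit 1,nat_lit 2,nat_lit 0,nat_lit 2,nat_lit 0,nat_lit 2,nat_lit 3,nat_lit 1,nat_lit 2,nat_lit 1,nat_lit 2,nat_lit 0,nat_lit 2,nat_lit 0])
) (.node (.leaf [nat_lit 14,nat_lit 19,nat_lit 1,nat_lit 1,nat_lit 2,nat_lit 1,nat_lit 1,nat_lit 2,nat_lit 0,nat_lit 2,nat_lit 0,nat_lit 0,nat_lit 3,nat_lit 1,nat_lit 2,nat_lit 1,nat_lit 2,nat_lit 0,nat_lit 2,nat_lit 0,nat_lit 3,nat_lit 2,nat_lit 1,nat_lit 2,nat_lit 1,nat_lit 2])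
 (.leaf [nat_lit 16,nat_lit 21,nat_lit 1,nat_lit 0,nat_lit 1,nat_lit 2,nat_lit 3,nat_lit 1,nat_lit 1,nat_lit 2,nat_lit 1,nat_lit 2,nat_lit 0,nat_lit 0,nat_lit 2,nat_lit 1,nat_lit 1,nat_lit 3,nat_lit 1,nat_lit 2,nat_lit 0,nat_lit 2,nat_lit 0,nat_lit 0,nat_lit 3,nat_lit 1])
)) (.node (.node (.leaf [nat_lit 14,nat_lit 4,nat_lit 0,nat_lit 2,nat_lit 0,nat_lit 2,nat_lit 0,nat_lit 2,nat_lit 3,nat_lit 1,nat_lit 2,nat_lit 1,nat_lit 2,nat_lit 0,nat_lit 2,nat_lit 0,nat_lit 3,nat_lit 1,nat_lit 1,nat_lit 2,nat_lit 1,nat_lit 2,nat_lit 0,nat_lit 0,nat_lit 2,nat_lit 1])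
 (.leaf [nat_lit 7,nat_lit 8,nat_lit 1,nat_lit 2,nat_lit 0,nat_lit 2,nat_lit 1,nat_lit 1,nat_lit 1,nat_lit 2,nat_lit 0,nat_lit 2,nat_lit 0,nat_lit 0,nat_lit 2,nat_lit 1,nat_lit 1,nat_lit 1,nat_lit 2,nat_lit 0,nat_lit 2,nat_lit 0,nat_lit 2,nat_lit 0,nat_lit 2,nat_lit 1])
) (.node (.leaf [nat_lit 14,nat_lit 14,nat_lit 1,nat_lit 2,nat_lit 1,nat_lit 2,nat_lit 1,nat_lit 2,nat_lit 0,nat_lit 2,nat_lit 1,nat_lit 1,nat_lit 2,nat_lit 0,nat_lit 2,nat_lit 0,nat_lit 0,nat_lit 3,nat_lit 1,nat_lit 2,nat_lit 1,nat_lit 2,nat_lit 0,nat_lit 2,nat_lit 0,nat_lit 3])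
 (.leaf [nat_lit 16,nat_lit 12,nat_lit 1,nat_lit 3,nat_lit 1,nat_lit 2,nat_lit 0,nat_lit 2,nat_lit 0,nat_lit 0,nat_lit 3,nat_lit 1,nat_lit 1,nat_lit 1,nat_lit 2,nat_lit 3,nat_lit 1,nat_lit 1,nat_lit 2,nat_lit 1,nat_lit 2,nat_lit 0,nat_lit 0,nat_lit 2,nat_lit 1,nat_lit 1])
)))))) (.node (.node (.node (.node (.node (.node (.node (.leaf [nat_lit 17,nat_lit 9,nat_lit 0,nat_lit 3,nat_lit 1,nat_lit 1,nat_lit 3,nat_lit 1,nat_lit 1,nat_lit 2,nat_lit 0,nat_lit 0,nat_lit 2,nat_lit 0,nat_lit 0,nat_lit 2,nat_lit 1,nat_lit 2,nat_lit 0,nat_lit 0,nat_lit 2,nat_lit 0,nat_lit 0,nat_lit 2,nat_lit 0,nat_lit 3,nat_lit 0])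
 (.leaf [nat_lit 5,nat_lit 15,nat_lit 1,nat_lit 2,nat_lit 1,nat_lit 1,nat_lit 2,nat_lit 0,nat_lit 0,nat_lit 2,nat_lit 1,nat_lit 1,nat_lit 2,nat_lit 0,nat_lit 0,nat_lit 2,nat_lit 1,nat_lit 1,nat_lit 2,nat_lit 0,nat_lit 0])
) (.leaf [nat_lit 16,nat_lit 22,nat_lit 0,nat_lit 2,nat_lit 0,nat_lit 0,nat_lit 0,nat_lit 3,nat_lit 1,nat_lit 1,nat_lit 2,nat_lit 1,nat_lit 2,nat_lit 0,nat_lit 3,nat_lit 0,nat_lit 0,nat_lit 2,nat_lit 1,nat_lit 1,nat_lit 2,nat_lit 0,nat_lit 2,nat_lit 0,nat_lit 0,nat_lit 3])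
) (.node (.leaf [nat_lit 16,nat_lit 18,nat_lit 0,nat_lit 2,nat_lit 0,nat_lit 0,nat_lit 3,nat_lit 2,nat_lit 0,nat_lit 0,nat_lit 0,nat_lit 3,nat_lit 1,nat_lit 1,nat_lit 2,nat_lit 1,nat_lit 2,nat_lit 0,nat_lit 3,nat_lit 0,nat_lit 0,nat_lit 2,nat_lit 1,nat_lit 1,nat_lit 2,nat_lit 0])
 (.leaf [nat_lit 4,nat_lit 13,nat_lit 1,nat_lit 0,nat_lit 2,nat_lit 1,nat_lit 2,nat_lit 1,nat_lit 2,nat_lit 1,nat_lit 2,nat_lit 1,nat_lit 2,nat_lit 1,nat_lit 2,nat_lit 1,nat_lit 2,nat_lit 1,nat_lit 2])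
)) (.node (.node (.leaf [nat_lit 7,nat_lit 19,nat_lit 1,nat_lit 2,nat_lit 1,nat_lit 1,nat_lit 1,nat_lit 2,nat_lit 0,nat_lit 2,nat_lit 0,nat_lit 2,nat_lit 0,nat_lit 2,nat_lit 1,nat_lit 2,nat_lit 0,nat_lit 2,nat_lit 1,nat_lit 1,nat_lit 1,nat_lit 2,nat_lit 0,nat_lit 2,nat_lit 0,nat_lit 0])
 (.leaf [nat_lit 13,nat_lit 8,nat_lit 1,nat_lit 1,nat_lit 2,nat_lit 3,nat_lit 0,nat_lit 2,nat_lit 0,nat_lit 2,nat_lit 1,nat_lit 2,nat_lit 1,nat_lit 2,nat_lit 1,nat_lit 2,nat_lit 1,nat_lit 1,nat_lit 2,nat_lit 1,nat_lit 3,nat_lit 2,nat_lit 1,nat_lit 3,nat_lit 2,nat_lit 3])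
) (.node (.leaf [nat_lit 11,nat_lit 2,nat_lit 1,nat_lit 1,nat_lit 0,nat_lit 2,nat_lit 3,nat_lit 1,nat_lit 3,nat_lit 2,nat_lit 3,nat_lit 2,nat_lit 3,nat_lit 2,nat_lit 0,nat_lit 3,nat_lit 2,nat_lit 1,nat_lit 1,nat_lit 1,nat_lit 2,nat_lit 0])
 (.leaf [nat_lit 17,nat_lit 8,nat_lit 0,nat_lit 1,nat_lit 3,nat_lit 1,nat_lit 1,nat_lit 3,nat_lit 1,nat_lit 1,nat_lit 2,nat_lit 0,nat_lit 0,nat_lit 2,nat_lit 0,nat_lit 0,nat_lit 2,nat_lit 1,nat_lit 2,nat_lit 0,nat_lit 0,nat_lit 2,nat_lit 0,nat_lit 0,nat_lit 2,nat_lit 0,nat_lit 3])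
))) (.node (.node (.node (.leaf [nat_lit 10,nat_lit 13,nat_lit 1,nat_lit 0,nat_lit 2,nat_lit 0,nat_lit 2,nat_lit 1,nat_lit 2,nat_lit 0,nat_lit 0,nat_lit 3,nat_lit 2,nat_lit 3,nat_lit 2,nat_lit 3,nat_lit 1])
 (.leaf [nat_lit 13,nat_lit 9,nat_lit 1,nat_lit 2,nat_lit 3,nat_lit 0,nat_lit 2,nat_lit 0,nat_lit 2,nat_lit 1,nat_lit 2,nat_lit 1,nat_lit 2,nat_lit 1,nat_lit 2,nat_lit 1,nat_lit 1,nat_lit 2,nat_lit 1,nat_lit 3,nat_lit 2,nat_lit 1,nat_lit 3,nat_lit 2,nat_lit 3,nat_lit 0])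
) (.node (.leaf [nat_lit 9,nat_lit 5,nat_lit 1,nat_lit 0,nat_lit 3,nat_lit 1,nat_lit 3,nat_lit 1,nat_lit 3,nat_lit 1,nat_lit 3])
 (.leaf [nat_lit 10,nat_lit 4,nat_lit 1,nat_lit 2,nat_lit 0,nat_lit 0,nat_lit 3,nat_lit 2,nat_lit 3,nat_lit 2,nat_lit 3,nat_lit 1,nat_lit 1,nat_lit 2,nat_lit 0,nat_lit 2,nat_lit 1])
)) (.node (.node (.leaf [nat_lit 16,nat_lit 2,nat_lit 1,nat_lit 0,nat_lit 1,nat_lit 2,nat_lit 1,nat_lit 2,nat_lit 0,nat_lit 0,nat_lit 2,nat_lit 1,nat_lit 1,nat_lit 3,nat_lit 1,nat_lit 2,nat_lit 0,nat_lit 2,nat_lit 0,nat_lit 0,nat_lit 3,nat_lit 1,nat_lit 1,nat_lit 1,nat_lit 2,nat_lit 3])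
 (.leaf [nat_lit 11,nat_lit 14,nat_lit 1,nat_lit 3,nat_lit 2,nat_lit 1,nat_lit 1,nat_lit 1,nat_lit 2,nat_lit 0,nat_lit 0,nat_lit 0,nat_lit 2,nat_lit 3,nat_lit 1,nat_lit 3,nat_lit 2,nat_lit 3,nat_lit 2,nat_lit 3,nat_lit 2,nat_lit 0])
) (.node (.leaf [nat_lit 15,nat_lit 6,nat_lit 1,nat_lit 2,nat_lit 1,nat_lit 3,nat_lit 2,nat_lit 0,nat_lit 2,nat_lit 1,nat_lit 2,nat_lit 0,nat_lit 3,nat_lit 2,nat_lit 1,nat_lit 2,nat_lit 0,nat_lit 2,nat_lit 1,nat_lit 1,nat_lit 2,nat_lit 1,nat_lit 2,nat_lit 1,nat_lit 3,nat_lit 0])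
 (.leaf [nat_lit 7,nat_lit 16,nat_lit 1,nat_lit 2,nat_lit 0,nat_lit 0,nat_lit 2,nat_lit 1,nat_lit 1,nat_lit 1,nat_lit 2,nat_lit 0,nat_lit 2,nat_lit 0,nat_lit 2,nat_lit 0,nat_lit 2,nat_lit 1,nat_lit 2,nat_lit 0,nat_lit 2,nat_lit 1,nat_lit 1,nat_lit 1,nat_lit 2,nat_lit 0])
)))) (.node (.node (.node (.node (.leaf [nat_lit 2,nat_lit 5,nat_lit 0,nat_lit 1,nat_lit 0,nat_lit 0,nat_lit 0,nat_lit 0,nat_lit 0,nat_lit 0])
 (.leaf [nat_lit 6,nat_lit 13,nat_lit 1,nat_lit 0,nat_lit 2,nat_lit 0,nat_lit 0,nat_lit 2,nat_lit 1,nat_lit 1,nat_lit 2,nat_lit 0,nat_lit 2,nat_lit 0,nat_lit 2,nat_lit 1,nat_lit 1,nat_lit 2,nat_lit 0,nat_lit 0,nat_lit 2,nat_lit 1,nat_lit 2])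
) (.node (.leaf [nat_lit 17,nat_lit 15,nat_lit 1,nat_lit 0,nat_lit 3,nat_lit 1,nat_lit 2,nat_lit 1,nat_lit 1,nat_lit 2,nat_lit 1,nat_lit 1,nat_lit 2,nat_lit 0,nat_lit 2,nat_lit 1,nat_lit 1,nat_lit 2,nat_lit 1,nat_lit 1,nat_lit 2,nat_lit 0,nat_lit 0,nat_lit 3,nat_lit 0,nat_lit 0,nat_lit 3])
 (.leaf [nat_lit 16,nat_lit 14,nat_lit 0,nat_lit 0,nat_lit 1,nat_lit 2,nat_lit 0,nat_lit 2,nat_lit 0,nat_lit 0,nat_lit 3,nat_lit 2,nat_lit 0,nat_lit 0,nat_lit 0,nat_lit 3,nat_lit 1,nat_lit 1,nat_lit 2,nat_lit 1,nat_lit 2,nat_lit 0,nat_lit 3,nat_lit 0,nat_lit 0,nat_lit 2])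
)) (.node (.node (.leaf [nat_lit 16,nat_lit 11,nat_lit 0,nat_lit 1,nat_lit 0,nat_lit 2,nat_lit 1,nat_lit 1,nat_lit 2,nat_lit 0,nat_lit 2,nat_lit 0,nat_lit 0,nat_lit 3,nat_lit 2,nat_lit 0,nat_lit 0,nat_lit 0,nat_lit 3,nat_lit 1,nat_lit 1,nat_lit 2,nat_lit 1,nat_lit 2,nat_lit 0,nat_lit 3])
 (.leaf [nat_lit 15,nat_lit 4,nat_lit 1,nat_lit 3,nat_lit 0,nat_lit 2,nat_lit 1,nat_lit 3,nat_lit 2,nat_lit 0,nat_lit 2,nat_lit 1,nat_lit 2,nat_lit 0,nat_lit 3,nat_lit 2,nat_lit 1,nat_lit 2,nat_lit 0,nat_lit 2,nat_lit 1,nat_lit 1,nat_lit 2,nat_lit 1,nat_lit 2,nat_lit 1])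
) (.node (.leaf [nat_lit 13,nat_lit 22,nat_lit 1,nat_lit 0,nat_lit 2,nat_lit 1,nat_lit 3,nat_lit 2,nat_lit 1,nat_lit 3,nat_lit 2,nat_lit 3,nat_lit 0,nat_lit 2,nat_lit 3,nat_lit 0,nat_lit 2,nat_lit 0,nat_lit 2,nat_lit 1,nat_lit 2,nat_lit 1,nat_lit 2,nat_lit 1,nat_lit 2,nat_lit 1])
 (.leaf [nat_lit 14,nat_lit 4,nat_lit 1,nat_lit 1,nat_lit 3,nat_lit 1,nat_lit 2,nat_lit 1,nat_lit 2,nat_lit 0,nat_lit 2,nat_lit 0,nat_lit 3,nat_lit 2,nat_lit 1,nat_lit 2,nat_lit 1,nat_lit 2,nat_lit 0,nat_lit 2,nat_lit 1,nat_lit 1,nat_lit 2,nat_lit 0,nat_lit 2,nat_lit 0])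
))) (.node (.node (.node (.leaf [nat_lit 12,nat_lit 1,nat_lit 1,nat_lit 0,nat_lit 2,nat_lit 0,nat_lit 2,nat_lit 0,nat_lit 0,nat_lit 3,nat_lit 1,nat_lit 1,nat_lit 2,nat_lit 1,nat_lit 2,nat_lit 0,nat_lit 2,nat_lit 0,nat_lit 0,nat_lit 3,nat_lit 1,nat_lit 1,nat_lit 2])
 (.leaf [nat_lit 7,nat_lit 22,nat_lit 1,nat_lit 0,nat_lit 2,nat_lit 0,nat_lit 2,nat_lit 0,nat_lit 2,nat_lit 0,nat_lit 2,nat_lit 1,nat_lit 2,nat_lit 0,nat_lit 2,nat_lit 1,nat_lit 1,nat_lit 1,nat_lit 2,nat_lit 0,nat_lit 2,nat_lit 0,nat_lit 0,nat_lit 2,nat_lit 1,nat_lit 1])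
) (.node (.leaf [nat_lit 17,nat_lit 7,nat_lit 0,nat_lit 3,nat_lit 0,nat_lit 3,nat_lit 1,nat_lit 1,nat_lit 3,nat_lit 1,nat_lit 1,nat_lit 2,nat_lit 0,nat_lit 0,nat_lit 2,nat_lit 0,nat_lit 0,nat_lit 2,nat_lit 1,nat_lit 2,nat_lit 0,nat_lit 0,nat_lit 2,nat_lit 0,nat_lit 0,nat_lit 2,nat_lit 0])
 (.leaf [nat_lit 11,nat_lit 3,nat_lit 1,nat_lit 1,nat_lit 2,nat_lit 3,nat_lit 1,nat_lit 3,nat_lit 2,nat_lit 3,nat_lit 2,nat_lit 3,nat_lit 2,nat_lit 0,nat_lit 3,nat_lit 2,nat_lit 1,nat_lit 1,nat_lit 1,nat_lit 2,nat_lit 0,nat_lit 0])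
)) (.node (.node (.leaf [nat_lit 10,nat_lit 6,nat_lit 1,nat_lit 1,nat_lit 3,nat_lit 2,nat_lit 3,nat_lit 2,nat_lit 3,nat_lit 1,nat_lit 1,nat_lit 2,nat_lit 0,nat_lit 2,nat_lit 1,nat_lit 2,nat_lit 0])
 (.leaf [nat_lit 11,nat_lit 8,nat_lit 0,nat_lit 2,nat_lit 3,nat_lit 2,nat_lit 3,nat_lit 0,nat_lit 3,nat_lit 2,nat_lit 1,nat_lit 1,nat_lit 1,nat_lit 2,nat_lit 0,nat_lit 0,nat_lit 0,nat_lit 2,nat_lit 3,nat_lit 1,nat_lit 2,nat_lit 3])
) (.node (.leaf [nat_lit 14,nat_lit 8,nat_lit 0,nat_lit 2,nat_lit 3,nat_lit 1,nat_lit 2,nat_lit 1,nat_lit 2,nat_lit 0,nat_lit 2,nat_lit 0,nat_lit 3,nat_lit 1,nat_lit 1,nat_lit 2,nat_lit 1,nat_lit 2,nat_lit 0,nat_lit 0,nat_lit 2,nat_lit 1,nat_lit 2,nat_lit 0,nat_lit 2,nat_lit 0])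
 (.leaf [nat_lit 14,nat_lit 12,nat_lit 1,nat_lit 1,nat_lit 3,nat_lit 2,nat_lit 1,nat_lit 2,nat_lit 1,nat_lit 2,nat_lit 0,nat_lit 2,nat_lit 1,nat_lit 1,nat_lit 2,nat_lit 0,nat_lit 2,nat_lit 0,nat_lit 0,nat_lit 3,nat_lit 1,nat_lit 2,nat_lit 1,nat_lit 2,nat_lit 0,nat_lit 2])
))))) (.node (.node (.node (.node (.node (.leaf [nat_lit 9,nat_lit 6,nat_lit 0,nat_lit 1,nat_lit 3,nat_lit 0,nat_lit 3,nat_lit 0,nat_lit 3,nat_lit 0,nat_lit 3])
 (.leaf [nat_lit 7,nat_lit 14,nat_lit 0,nat_lit 2,nat_lit 0,nat_lit 2,nat_lit 1,nat_lit 2,nat_lit 1,nat_lit 2,nat_lit 1,nat_lit 2,nat_lit 0,nat_lit 0,nat_lit 0,nat_lit 2,nat_lit 1,nat_lit 1,nat_lit 2,nat_lit 1,nat_lit 2,nat_lit 0,nat_lit 0,nat_lit 0,nat_lit 2,nat_lit 1])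
) (.node (.leaf [nat_lit 16,nat_lit 11,nat_lit 1,nat_lit 0,nat_lit 3,nat_lit 1,nat_lit 2,nat_lit 0,nat_lit 2,nat_lit 0,nat_lit 0,nat_lit 3,nat_lit 1,nat_lit 1,nat_lit 1,nat_lit 2,nat_lit 3,nat_lit 1,nat_lit 1,nat_lit 2,nat_lit 1,nat_lit 2,nat_lit 0,nat_lit 0,nat_lit 2,nat_lit 1])
 (.leaf [nat_lit 6,nat_lit 16,nat_lit 1,nat_lit 1,nat_lit 2,nat_lit 1,nat_lit 1,nat_lit 2,nat_lit 0,nat_lit 2,nat_lit 0,nat_lit 2,nat_lit 1,nat_lit 1,nat_lit 2,nat_lit 0,nat_lit 0,nat_lit 2,nat_lit 1,nat_lit 2,nat_lit 1,nat_lit 2,nat_lit 0])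
)) (.node (.node (.leaf [nat_lit 11,nat_lit 3,nat_lit 0,nat_lit 2,nat_lit 3,nat_lit 1,nat_lit 2,nat_lit 3,nat_lit 2,nat_lit 3,nat_lit 2,nat_lit 3,nat_lit 0,nat_lit 3,nat_lit 2,nat_lit 1,nat_lit 1,nat_lit 1,nat_lit 2,nat_lit 0,nat_lit 0,nat_lit 0])
 (.leaf [nat_lit 13,nat_lit 14,nat_lit 1,nat_lit 2,nat_lit 1,nat_lit 2,nat_lit 1,nat_lit 2,nat_lit 1,nat_lit 2,nat_lit 1,nat_lit 1,nat_lit 2,nat_lit 1,nat_lit 3,nat_lit 2,nat_lit 1,nat_lit 3,nat_lit 2,nat_lit 3,nat_lit 0,nat_lit 2,nat_lit 3,nat_lit 0,nat_lit 2,nat_lit 0])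
) (.node (.leaf [nat_lit 17,nat_lit 22,nat_lit 0,nat_lit 0,nat_lit 2,nat_lit 0,nat_lit 0,nat_lit 2,nat_lit 0,nat_lit 0,nat_lit 2,nat_lit 0,nat_lit 3,nat_lit 0,nat_lit 3,nat_lit 1,nat_lit 1,nat_lit 3,nat_lit 1,nat_lit 1,nat_lit 2,nat_lit 0,nat_lit 0,nat_lit 2,nat_lit 0,nat_lit 0,nat_lit 2])
 (.leaf [nat_lit 17,nat_lit 11,nat_lit 1,nat_lit 3,nat_lit 0,nat_lit 0,nat_lit 3,nat_lit 1,nat_lit 3,nat_lit 1,nat_lit 2,nat_lit 1,nat_lit 1,nat_lit 2,nat_lit 1,nat_lit 1,nat_lit 2,nat_lit 0,nat_lit 2,nat_lit 1,nat_lit 1,nat_lit 2,nat_lit 1,nat_lit 1,nat_lit 2,nat_lit 0,nat_lit 0])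
))) (.node (.node (.node (.leaf [nat_lit 14,nat_lit 13,nat_lit 1,nat_lit 3,nat_lit 2,nat_lit 1,nat_lit 2,nat_lit 1,nat_lit 2,nat_lit 0,nat_lit 2,nat_lit 1,nat_lit 1,nat_lit 2,nat_lit 0,nat_lit 2,nat_lit 0,nat_lit 0,nat_lit 3,nat_lit 1,nat_lit 2,nat_lit 1,nat_lit 2,nat_lit 0,nat_lit 2,nat_lit 0])
 (.leaf [nat_lit 11,nat_lit 11,nat_lit 1,nat_lit 3,nat_lit 2,nat_lit 0,nat_lit 3,nat_lit 2,nat_lit 1,nat_lit 1,nat_lit 1,nat_lit 2,nat_lit 0,nat_lit 0,nat_lit 0,nat_lit 2,nat_lit 3,nat_lit 1,nat_lit 3,nat_lit 2,nat_lit 3,nat_lit 2])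
) (.node (.leaf [nat_lit 13,nat_lit 13,nat_lit 1,nat_lit 1,nat_lit 2,nat_lit 1,nat_lit 2,nat_lit 1,nat_lit 2,nat_lit 1,nat_lit 2,nat_lit 1,nat_lit 1,nat_lit 2,nat_lit 1,nat_lit 3,nat_lit 2,nat_lit 1,nat_lit 3,nat_lit 2,nat_lit 3,nat_lit 0,nat_lit 2,nat_lit 3,nat_lit 0,nat_lit 2])
 (.leaf [nat_lit 15,nat_lit 13,nat_lit 0,nat_lit 2,nat_lit 3,nat_lit 0,nat_lit 2,nat_lit 1,nat_lit 3,nat_lit 0,nat_lit 2,nat_lit 0,nat_lit 2,nat_lit 0,nat_lit 0,nat_lit 2,nat_lit 1,nat_lit 2,nat_lit 0,nat_lit 2,nat_lit 3,nat_lit 1,nat_lit 2,nat_lit 0,nat_lit 2,nat_lit 1])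
)) (.node (.node (.leaf [nat_lit 10,nat_lit 5,nat_lit 1,nat_lit 1,nat_lit 0,nat_lit 3,nat_lit 2,nat_lit 3,nat_lit 2,nat_lit 3,nat_lit 1,nat_lit 1,nat_lit 2,nat_lit 0,nat_lit 2,nat_lit 1,nat_lit 2])
 (.leaf [nat_lit 10,nat_lit 3,nat_lit 1,nat_lit 0,nat_lit 2,nat_lit 0,nat_lit 0,nat_lit 3,nat_lit 2,nat_lit 3,nat_lit 2,nat_lit 3,nat_lit 1,nat_lit 1,nat_lit 2,nat_lit 0,nat_lit 2])
) (.node (.leaf [nat_lit 11,nat_lit 6,nat_lit 0,nat_lit 2,nat_lit 3,nat_lit 2,nat_lit 3,nat_lit 2,nat_lit 3,nat_lit 0,nat_lit 3,nat_lit 2,nat_lit 1,nat_lit 1,nat_lit 1,nat_lit 2,nat_lit 0,nat_lit 0,nat_lit 0,nat_lit 2,nat_lit 3,nat_lit 1])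
 (.leaf [nat_lit 16,nat_lit 8,nat_lit 1,nat_lit 1,nat_lit 2,nat_lit 1,nat_lit 1,nat_lit 3,nat_lit 1,nat_lit 2,nat_lit 0,nat_lit 2,nat_lit 0,nat_lit 0,nat_lit 3,nat_lit 1,nat_lit 1,nat_lit 1,nat_lit 2,nat_lit 3,nat_lit 1,nat_lit 1,nat_lit 2,nat_lit 1,nat_lit 2,nat_lit 0])
)))) (.node (.node (.node (.node (.leaf [nat_lit 12,nat_lit 17,nat_lit 1,nat_lit 3,nat_lit 1,nat_lit 1,nat_lit 2,nat_lit 1,nat_lit 2,nat_lit 0,nat_lit 2,nat_lit 0,nat_lit 0,nat_lit 3,nat_lit 1,nat_lit 1,nat_lit 2,nat_lit 1,nat_lit 2,nat_lit 0,nat_lit 2,nat_lit 0,nat_lit 0])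
 (.leaf [nat_lit 13,nat_lit 12,nat_lit 0,nat_lit 3,nat_lit 2,nat_lit 1,nat_lit 3,nat_lit 2,nat_lit 3,nat_lit 0,nat_lit 2,nat_lit 3,nat_lit 0,nat_lit 2,nat_lit 0,nat_lit 0,nat_lit 2,nat_lit 0,nat_lit 2,nat_lit 0,nat_lit 2,nat_lit 0,nat_lit 2,nat_lit 1,nat_lit 2,nat_lit 1])
) (.node (.leaf [nat_lit 17,nat_lit 10,nat_lit 1,nat_lit 1,nat_lit 3,nat_lit 0,nat_lit 0,nat_lit 3,nat_lit 1,nat_lit 3,nat_lit 1,nat_lit 2,nat_lit 1,nat_lit 1,nat_lit 2,nat_lit 1,nat_lit 1,nat_lit 2,nat_lit 0,nat_lit 2,nat_lit 1,nat_lit 1,nat_lit 2,nat_lit 1,nat_lit 1,nat_lit 2,nat_lit 0])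
 (.leaf [nat_lit 13,nat_lit 2,nat_lit 1,nat_lit 3,nat_lit 2,nat_lit 1,nat_lit 3,nat_lit 2,nat_lit 3,nat_lit 0,nat_lit 2,nat_lit 3,nat_lit 0,nat_lit 2,nat_lit 0,nat_lit 2,nat_lit 1,nat_lit 2,nat_lit 1,nat_lit 2,nat_lit 1,nat_lit 2,nat_lit 1,nat_lit 1,nat_lit 2,nat_lit 1])
)) (.node (.node (.leaf [nat_lit 13,nat_lit 10,nat_lit 1,nat_lit 3,nat_lit 0,nat_lit 2,nat_lit 0,nat_lit 2,nat_lit 1,nat_lit 2,nat_lit 1,nat_lit 2,nat_lit 1,nat_lit 2,nat_lit 1,nat_lit 1,nat_lit 2,nat_lit 1,nat_lit 3,nat_lit 2,nat_lit 1,nat_lit 3,nat_lit 2,nat_lit 3,nat_lit 0,nat_lit 2])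
 (.leaf [nat_lit 10,nat_lit 10,nat_lit 1,nat_lit 2,nat_lit 3,nat_lit 1,nat_lit 1,nat_lit 2,nat_lit 0,nat_lit 2,nat_lit 1,nat_lit 2,nat_lit 0,nat_lit 0,nat_lit 3,nat_lit 2,nat_lit 3])
) (.node (.leaf [nat_lit 16,nat_lit 1,nat_lit 1,nat_lit 3,nat_lit 1,nat_lit 1,nat_lit 2,nat_lit 1,nat_lit 2,nat_lit 0,nat_lit 0,nat_lit 2,nat_lit 1,nat_lit 1,nat_lit 3,nat_lit 1,nat_lit 2,nat_lit 0,nat_lit 2,nat_lit 0,nat_lit 0,nat_lit 3,nat_lit 1,nat_lit 1,nat_lit 1,nat_lit 2])
 (.leaf [nat_lit 10,nat_lit 12,nat_lit 1,nat_lit 0,nat_lit 1,nat_lit 2,nat_lit 0,nat_lit 2,nat_lit 1,nat_lit 2,nat_lit 0,nat_lit 0,nat_lit 3,nat_lit 2,nat_lit 3,nat_lit 2,nat_lit 3])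
))) (.node (.node (.node (.leaf [nat_lit 17,nat_lit 12,nat_lit 0,nat_lit 3,nat_lit 1,nat_lit 1,nat_lit 2,nat_lit 0,nat_lit 0,nat_lit 2,nat_lit 0,nat_lit 0,nat_lit 2,nat_lit 1,nat_lit 2,nat_lit 0,nat_lit 0,nat_lit 2,nat_lit 0,nat_lit 0,nat_lit 2,nat_lit 0,nat_lit 3,nat_lit 0,nat_lit 3,nat_lit 1,nat_lit 1])
 (.leaf [nat_lit 11,nat_lit 7,nat_lit 0,nat_lit 3,nat_lit 2,nat_lit 3,nat_lit 2,nat_lit 3,nat_lit 0,nat_lit 3,nat_lit 2,nat_lit 1,nat_lit 1,nat_lit 1,nat_lit 2,nat_lit 0,nat_lit 0,nat_lit 0,nat_lit 2,nat_lit 3,nat_lit 1,nat_lit 2])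
) (.node (.leaf [nat_lit 16,nat_lit 18,nat_lit 1,nat_lit 1,nat_lit 3,nat_lit 1,nat_lit 1,nat_lit 1,nat_lit 2,nat_lit 3,nat_lit 1,nat_lit 1,nat_lit 2,nat_lit 1,nat_lit 2,nat_lit 0,nat_lit 0,nat_lit 2,nat_lit 1,nat_lit 1,nat_lit 3,nat_lit 1,nat_lit 2,nat_lit 0,nat_lit 2,nat_lit 0])
 (.leaf [nat_lit 12,nat_lit 16,nat_lit 1,nat_lit 1,nat_lit 3,nat_lit 1,nat_lit 1,nat_lit 2,nat_lit 1,nat_lit 2,nat_lit 0,nat_lit 2,nat_lit 0,nat_lit 0,nat_lit 3,nat_lit 1,nat_lit 1,nat_lit 2,nat_lit 1,nat_lit 2,nat_lit 0,nat_lit 2,nat_lit 0])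
)) (.node (.node (.leaf [nat_lit 15,nat_lit 12,nat_lit 0,nat_lit 0,nat_lit 2,nat_lit 3,nat_lit 0,nat_lit 2,nat_lit 1,nat_lit 3,nat_lit 0,nat_lit 2,nat_lit 0,nat_lit 2,nat_lit 0,nat_lit 0,nat_lit 2,nat_lit 1,nat_lit 2,nat_lit 0,nat_lit 2,nat_lit 3,nat_lit 1,nat_lit 2,nat_lit 0,nat_lit 2])
 (.leaf [nat_lit 14,nat_lit 7,nat_lit 1,nat_lit 2,nat_lit 1,nat_lit 2,nat_lit 0,nat_lit 2,nat_lit 0,nat_lit 3,nat_lit 2,nat_lit 1,nat_lit 2,nat_lit 1,nat_lit 2,nat_lit 0,nat_lit 2,nat_lit 1,nat_lit 1,nat_lit 2,nat_lit 0,nat_lit 2,nat_lit 0,nat_lit 0,nat_lit 3,nat_lit 1])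
) (.node (.leaf [nat_lit 10,nat_lit 0,nat_lit 1,nat_lit 2,nat_lit 0,nat_lit 2,nat_lit 1,nat_lit 2,nat_lit 0,nat_lit 0,nat_lit 3,nat_lit 2,nat_lit 3,nat_lit 2,nat_lit 3,nat_lit 1,nat_lit 1])
 (.leaf [nat_lit 11,nat_lit 15,nat_lit 1,nat_lit 2,nat_lit 1,nat_lit 1,nat_lit 1,nat_lit 2,nat_lit 0,nat_lit 0,nat_lit 0,nat_lit 2,nat_lit 3,nat_lit 1,nat_lit 3,nat_lit 2,nat_lit 3,nat_lit 2,nat_lit 3,nat_lit 2,nat_lit 0,nat_lit 3])
)))))))

noncomputable def hs_U_subs : LT :=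
(.leaf [nat_lit 0,nat_lit 0,nat_lit 0,nat_lit 4])


noncomputable def hs_U : TC :=
  ⟨fun x c => Nat.shiftRight (BT.get hs_U_t x) (Nat.mul (nat_lit 32) c),
  (nat_lit 9), (nat_lit 511), (nat_lit 0x1fffff), (nat_lit 21), (nat_lit 2047), (nat_lit 0x1ffe00), (nat_lit 352), (nat_lit 352), (nat_lit 4), (nat_lit 3), (nat_lit 4), (nat_lit 5), hs_inv, hs_U_rules, hs_U_subs⟩

noncomputable def hs_A4 : LA :=
  ⟨(nat_lit 4), (nat_lit 0x3ff3ff3ff3ff3ff3ff3ff3ff3ff3ff), (nat_lit 1023), (nat_lit 17), (nat_lit 1), BT.get (.node (.node (.leaf (nat_lit 0))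
 (.leaf (nat_lit 0))
) (.node (.leaf (nat_lit 0))
 (.leaf (nat_lit 0x1000000))
)), BT.get (.leaf (nat_lit 0x1000000000000003000000))
, BT.get (.leaf (nat_lit 2))
,
(.node (.node (.node (.node (.leaf [nat_lit 65536])
 (.leaf [nat_lit 65536,nat_lit 196614,nat_lit 196619,nat_lit 196620,nat_lit 65551,nat_lit 65552,nat_lit 196625])
) (.leaf [nat_lit 196608,nat_lit 196614,nat_lit 65543,nat_lit 196616,nat_lit 65548,nat_lit 131089])
) (.node (.leaf [])
 (.leaf [nat_lit 196608,nat_lit 131073,nat_lit 196614,nat_lit 65543,nat_lit 131080,nat_lit 65547,nat_lit 196620,nat_lit 131089])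
)) (.node (.node (.node (.leaf [nat_lit 196609])
 (.leaf [nat_lit 196608,nat_lit 65537,nat_lit 131079,nat_lit 196616,nat_lit 196619,nat_lit 131084,nat_lit 65551,nat_lit 196625])
) (.leaf [nat_lit 131072,nat_lit 131073,nat_lit 65543,nat_lit 196619])
) (.node (.leaf [nat_lit 131073,nat_lit 65542,nat_lit 131079,nat_lit 196616,nat_lit 196619])
 (.leaf [nat_lit 196625])
))),
(.leaf [nat_lit 131072,nat_lit 131073,nat_lit 196614,nat_lit 131079,nat_lit 131080,nat_lit 196619,nat_lit 65548])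
⟩

noncomputable def hs_A5 : LA :=
  ⟨(nat_lit 5), (nat_lit 0x1ff1ff1ff1ff1ff1ff1ff1ff1ff1ff), (nat_lit 511), (nat_lit 17), (nat_lit 0), BT.get (.node (.node (.leaf (nat_lit 0))
 (.leaf (nat_lit 0))
) (.node (.leaf (nat_lit 0))
 (.leaf (nat_lit 0x2))
)), BT.get (.leaf (nat_lit 0)), BT.get (.leaf (nat_lit 0)),
(.node (.node (.node (.node (.leaf [])
 (.leaf [nat_lit 131072,nat_lit 65538,nat_lit 65539,nat_lit 196613,nat_lit 65550])
) (.leaf [nat_lit 131074,nat_lit 196611])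
) (.node (.leaf [nat_lit 196608])
 (.leaf [nat_lit 196610])
)) (.node (.node (.node (.leaf [nat_lit 196609,nat_lit 196617,nat_lit 65546])
 (.leaf [nat_lit 262145,nat_lit 196617,nat_lit 65546])
) (.leaf [nat_lit 196612])
) (.node (.leaf [nat_lit 131072,nat_lit 196613])
 (.leaf [nat_lit 196609,nat_lit 131074,nat_lit 65539,nat_lit 65540,nat_lit 131077,nat_lit 131082])
))),
(.leaf [])⟩

noncomputable def hs2_W_t0 : BT :=
(.node (.node (.leaf (nat_lit 0x57d5bd715e51355ce331d75284a55952327495524915a55b14cc107c5503d5d513ff4751949d17583b1363a9504354ec00e44d34a3814f4fefc3710cbc8dac450154d4d3acd24615433ccd4d73ed2f4c3753b47322c173acf0bf3d120c3cbdd04bcbc4d12e93d424b6b04b5ba0b0c74c5b00ac48f392a0d63230a2ceed47ec250d062749c50af6bf6fb24cef246c75008b46889c7886c2082413104dc801f92b4cc7c4b932bcd2f4b47825d2c32cb14a87449921ab872b10e61c3171bd122d06d3dee346c7a2646b465161a51327c9b43a7fa108742c5ebead416e8c18ef915ce2b385619102b84febb853252831525a198f813cc93d47b2987912e8db1a52360f011eb711a67112af378b9104a9340e939c3ea84763943ba22a2134df0e4db0e0d935cd50d8d3aa835980cc32a4c0ccc30c8612f8bb2b4302e02fa145d0b42ca3ca40acb20f42809c26258aba8ca729424164a02789526a75260201b89207c909a88e1c4582281b0765f8a8342047d06077124171cc160546c1a0141946286a510485c88c1110c401540f1404e1281e1200d114420303f0f03a0dc0a888310b8080a609094210181c06404814130400e0080b01c0100c00))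
 (.leaf (nat_lit 0x57d5a5093c4e15ed47374a33155729d2125d6550531224594f4232d527534091b4fcfe50d5dc414051715bc15c398e53915bd60e243114bb2f1d58db4bf2ad2ade4af2ed515734719549183314e32cc941cc6448c3518c0c99242f94dcf9343d51d2ef4143ece2e135b4ed22c54b47cad2b104bbd473dca729944294a2286d527ad8404f644c9926093ccb3dc0c8f23b333acea2828cb813b4e93920136336e737f2c1ecb54c07832af82c8d6be875c2f0a49c73af70e38523484d9480741b51ea046c470921ad1aa7117b3c68444661950d19061370b4170d7424b016457419051aa9721054400ff3f490148fc3ece913cf926abf1349d3d0f3aa896128493c8c2244a43b8ed912e81bc421de471003f0f8a920c5fb14e31143a1f439374381e4da22436350c8340720dc3422c3331cc4304ab0c4bc0c0ba2e4b70ba602da622082b8bcb30a02d2bc582b825154a8090a308c5027c4826c21080952504ea201e1fe8d0708a06c87218850643c0607e1f07a1c476058701b8141a467974631681217a1d0a45b0400f158531440e1304b034468a8431041a0f43b028350243204c2c01c270982207c0502c170540304402030010200601000))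
) (.node (.leaf (nat_lit 0x57d5cd5f5d5794e55340d1d4dd69264ad505193c4d13a4ab20c873650953d1143d055b3e4f5c4ced4cf2243b1947b1ac0b5938d3e48d3737cdcd634b368dd364d6380d355556d48d15454f40f1c341163eee9c1d1d30ceb2fd27b28bed274c2f0c8cb6e4c54b94ed302d6fe436e7528f8c6ce5520a84b339514a6bcf32bcab3ab89e316f426d17b6f2fc44923c2a5bf13f4a53d21b09214cc20538b10aca9d351f08b47d311e92e1e0931dd001dab21d12844087496ab490703546f270ffbba9541acd1b2fac2f0546069451121a10f22865a410c428c73f45c35108a32cf19d0415a73221011509914c5e9567ea0c502ec4f3dcf62e84d3044b35c57138a33c4483bc4697c44a5ab03b0413aa7f2d8e898eb7a88e60ece2ae0e10e8de268c2260d80e082930d20d4ce10ccb3244931832302452f431a389f0bca92bc2e1aa718f8b41882a2c6a0144422b4aa094a1292948b023274221f66e25c210dc1f2448f0748d09c1c224260688416c19200181ec7905c751c83c1b46b0506619013184601763d0445a1645803c528a6150384a11c200fc0c1022d02c390d8340cc300202b0a007090060781b010168401200c0d8240a0040500800))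
 (.leaf (nat_lit 0x5775b57f44d79364cd2e51d2a49b3d4954f5452454b4a5350ec474e4133955d004c75c4e9423cced480ead50e6bf943d212cc055ac9cdf56705516e84bd58bc13834d56348decd55554d50c3ccbc293f318f13111c3e2d5b9714b28ec2f718bc912d2cbac8d4c2d90c42f21425082b906cc9492a8e2cdd46bd33b368b32f09e3e51b326dd2aeff5071347b2d246a5501162253e3a730ac93cc6480b3902a3c7c4d128bd87a36cfd260d8b0476c68b84ad291ccd01cae31c0cc48b173dc6d9b91f1b11d30c6bb5cc01a4b9454fba81102f8d49f90d178973f2e72c45a2bd07188563d5031569b29c53bba8716451142bb16cfa2744eaa060130d92d04a25690122863be94b847b98c421048a3ac40a92929f45d0f43b204e40eab7a14e0238dc1e4370d8d61d435344cf0d0cd0cec7320c5308312fe580f0651982ea34ad1849a0acb52102827cb028e68094ac2a42429846288a10889c0849991c9607c9392c5290c1c9148c22c880e41920c672087f0fc171e0771d0711bc151a83004c6404a2917c118b05c89a2715c540384f1340d1241e030448580b0f80a0e21b0c8080bc2d0aa07018230801d0681800c148400f808040260500001))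
))

noncomputable def hs2_W : ℕ → ℕ → ℕ := fun x i => Nat.land (Nat.shiftRight (BT.get hs2_W_t0 x) (Nat.mul (nat_lit 10) i)) (nat_lit 1023)

theorem hs_b : hs_C.base = true := by decide +kernel

theorem hs_s0 : hs_C.slots (nat_lit 0) (nat_lit 77) = true := by decide +kernel

theorem hs_U_c1 : hs_U.rules.all (ruleOK hs_U.m hs_U.inv hs_rels) = true := by decide +kernel
theorem hs_U_c2 : hs_U.subs.all (subOK hs_U.m hs_U.inv (LT.leaf [])) = true := by decide +kernel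
theorem hs_U_c3 : hs_U.base = true := by decide +kernel

theorem hs_U_s0 : hs_U.slots (nat_lit 0) (nat_lit 352) = true := by decide +kernel

theorem hs_U_c6 : hs_U.rules.all (fun l => goodB (nat_lit 8) (nat_lit 10) hs_U.mH hs_rels (hdL l)) = true := by decide +kernel

theorem hs_A4_ok : hs_A4.ok hs_C = true := by decide +kernel

theorem hs_A5_ok : hs_A5.ok hs_C = true := by decide +kernel

theorem hs2_f0 : monoB hs2_W (nat_lit 511) (nat_lit 1024) (nat_lit 352) (nat_lit 4) hs_rels (nat_lit 0) (nat_lit 352) = true := by decide +kernel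

theorem hs_up : hs_C.Upto hs_C.T.N := ((LC.upto_zero hs_C).step _ hs_s0)

theorem hs_U_c4 : hs_U.Upto hs_U.N := ((TC.upto_zero hs_U).step _ hs_U_s0)
theorem hs_U_c5 : hs_U.UptoE hs_U.N := (TC.uptoE_n hs_U)

theorem hs_idx : Idx.{u} hs_rels (nat_lit 8) (nat_lit 10) hs_inv (nat_lit 3) (nat_lit 4) (nat_lit 352) :=
  idx_of_tc hs_U_c1 hs_U_c2 hs_U_c3 hs_U_c4 hs_U_c5 hs_U_c6

theorem hs_low {G : Type u} [Group G] {g : ℕ → G} (h : ∀ i, evalW g (hs_rels.get i) = 1) : ∀ i, evalW g (u35_rels.get i) = 1 :=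
  rels_of_sub (by decide +kernel) h

theorem hs_bnd {G : Type u} [Group G] {g : ℕ → G} (h : ∀ i, evalW g (hs_rels.get i) = 1) : Bnd g 4 44352000 :=
  Bnd.step (C := hs_C) h (u35_bnd (hs_low h)) hs_b hs_idx

theorem hs_l4 {G : Type u} [Group G] {g : ℕ → G} (h : ∀ i, evalW g (hs_rels.get i) = 1) : Lifts 4 g 4 88704000 :=
  Lifts.step (C := hs_C) (L := hs_A4) h (u35_l4 (hs_low h)) hs_b hs_up hs_A4_ok hs_idx (by decide +kernel)

theorem hs_l5 {G : Type u} [Group G] {g : ℕ → G} (h : ∀ i, evalW g (hs_rels.get i) = 1) : Lifts 5 g 4 44352000 :=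
  Lifts.step (C := hs_C) (L := hs_A5) h (u35_l5 (hs_low h)) hs_b hs_up hs_A5_ok hs_idx (by decide +kernel)

theorem hs2_cov : Cov hs_rels (Multiplicative (ZMod 2)) fun v u t =>
    band (lettersLt 4 v) (lettersLt 4 u) = true ∧ monoWit hs2_W 511 1024 v u (Multiplicative.toAdd t).val = true :=
  cov_of_mono (w := 9) (D := 352) (by decide +kernel) ((monoUpto_zero hs2_W (nat_lit 511) (nat_lit 1024) (nat_lit 352) (nat_lit 4) hs_rels).step _ hs2_f0)

theorem hs2_cover {G : Type u} [Group G] {K : Subgroup G} {g : ℕ → G} (hg : Gen K g hs_rels 4 44352000)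
    (h : Commute (evalW g [1, 1, 2, 1, 1, 2, 1, 1, 2, 0, 0, 2, 0, 2, 0, 3, 0, 2, 1, 1, 3, 2, 1, 1, 2, 3]) (evalW g [0, 0, 2, 0, 2, 1, 1, 2, 1, 2, 0, 0, 0, 2, 0, 2, 1, 2, 3, 0, 2, 1, 3, 1])) : 2 ∣ Monoid.exponent (Ch.Mult K) :=
  hg.dvd_exponent (hs_bnd (wp_rels _)) hs2_cov ⟨by decide +kernel, by decide +kernel⟩ (by decide +kernel) h


end Cfsg.Agent.Spor.MX
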