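import Mathlib
import Cfsg.Agent.Spor.MX.HS
import Cfsg.Agent.Spor.MX.M11
import Cfsg.Agent.Spor.MX.Glue4
import Cfsg.Agent.Spor.MX.LeechM

/-! Generated by tools/mx: letters in HS -/

set_option autoImplicit false
set_option maxRecDepth 100000
set_option linter.unusedVariables false
set_option exponentiation.threshold 100000

namespace Cfsg.Agent.Spor.MX

open Cfsg.Agent.Spor

universe u

noncomputable def hs_ws : LT :=
(.node (.node (.leaf [nat_lit 6,nat_lit 4,nat_lit 7,nat_lit 2,nat_lit 0,nat_lit 4,nat_lit 0,nat_lit 5,nat_lit 0,nat_lit 2,nat_lit 4,nat_lit 1,nat_lit 4,nat_lit 2,nat_lit 3,nat_lit 1,nat_lit 2,nat_lit 1])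
 (.leaf [nat_lit 10,nat_lit 1,nat_lit 2,nat_lit 6,nat_lit 0,nat_lit 5,nat_lit 0,nat_lit 4,nat_lit 5,nat_lit 0,nat_lit 4,nat_lit 2,nat_lit 1,nat_lit 4,nat_lit 3,nat_lit 2,nat_lit 1])
) (.node (.leaf [nat_lit 6,nat_lit 1,nat_lit 11,nat_lit 5,nat_lit 4,nat_lit 2,nat_lit 5,nat_lit 0,nat_lit 4,nat_lit 2,nat_lit 1,nat_lit 4,nat_lit 3,nat_lit 2,nat_lit 1,nat_lit 2,nat_lit 0])
 (.leaf [nat_lit 8,nat_lit 8,nat_lit 5,nat_lit 1,nat_lit 5,nat_lit 4,nat_lit 2,nat_lit 4,nat_lit 3,nat_lit 0,nat_lit 4,nat_lit 3,nat_lit 2,nat_lit 0,nat_lit 2,nat_lit 1])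
))

noncomputable def hs_back : LT :=
(.node (.node (.node (.node (.leaf [nat_lit 0,nat_lit 0,nat_lit 2,nat_lit 1,nat_lit 1,nat_lit 1,nat_lit 2,nat_lit 0,nat_lit 2,nat_lit 1,nat_lit 2,nat_lit 1,nat_lit 2,nat_lit 1,nat_lit 1,nat_lit 1,nat_lit 2,nat_lit 1,nat_lit 3,nat_lit 1,nat_lit 2,nat_lit 3,nat_lit 1,nat_lit 3])
 (.leaf [nat_lit 1,nat_lit 1,nat_lit 1,nat_lit 2,nat_lit 0,nat_lit 2,nat_lit 0,nat_lit 2,nat_lit 0,nat_lit 0,nat_lit 2,nat_lit 0,nat_lit 0,nat_lit 2,nat_lit 0,nat_lit 2,nat_lit 1,nat_lit 1,nat_lit 2,nat_lit 0,nat_lit 3,nat_lit 2,nat_lit 1,nat_lit 3,nat_lit 1,nat_lit 2])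
) (.leaf [nat_lit 1,nat_lit 2,nat_lit 0,nat_lit 0,nat_lit 2,nat_lit 0,nat_lit 2,nat_lit 1,nat_lit 1,nat_lit 2,nat_lit 0,nat_lit 0,nat_lit 2,nat_lit 0,nat_lit 0,nat_lit 2,nat_lit 3,nat_lit 0,nat_lit 0,nat_lit 2,nat_lit 0,nat_lit 2,nat_lit 0,nat_lit 0])
) (.node (.node (.leaf [nat_lit 1,nat_lit 1,nat_lit 2,nat_lit 1,nat_lit 1,nat_lit 2,nat_lit 1,nat_lit 1,nat_lit 2,nat_lit 1,nat_lit 2,nat_lit 1,nat_lit 2,nat_lit 1,nat_lit 2,nat_lit 0,nat_lit 3,nat_lit 0,nat_lit 2,nat_lit 3,nat_lit 1,nat_lit 2,nat_lit 1])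
 (.leaf [nat_lit 2,nat_lit 0,nat_lit 0,nat_lit 0,nat_lit 2,nat_lit 0,nat_lit 2,nat_lit 0,nat_lit 0,nat_lit 2,nat_lit 0,nat_lit 0,nat_lit 2,nat_lit 1,nat_lit 2,nat_lit 0,nat_lit 2,nat_lit 0,nat_lit 3,nat_lit 2,nat_lit 0,nat_lit 0,nat_lit 2,nat_lit 1,nat_lit 3,nat_lit 1,nat_lit 1])
) (.leaf [nat_lit 0,nat_lit 0,nat_lit 0,nat_lit 2,nat_lit 0,nat_lit 2,nat_lit 0,nat_lit 0,nat_lit 2,nat_lit 1,nat_lit 2,nat_lit 1,nat_lit 1,nat_lit 2,nat_lit 1,nat_lit 2,nat_lit 1,nat_lit 2,nat_lit 1,nat_lit 3,nat_lit 2,nat_lit 0,nat_lit 2,nat_lit 0,nat_lit 3,nat_lit 1])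
)) (.node (.node (.node (.leaf [nat_lit 0,nat_lit 2,nat_lit 0,nat_lit 2,nat_lit 1,nat_lit 1,nat_lit 2,nat_lit 1,nat_lit 2,nat_lit 1,nat_lit 1,nat_lit 1,nat_lit 2,nat_lit 0,nat_lit 2,nat_lit 1,nat_lit 2,nat_lit 3,nat_lit 2,nat_lit 0,nat_lit 0,nat_lit 2,nat_lit 1])
 (.leaf [nat_lit 1,nat_lit 2,nat_lit 1,nat_lit 1,nat_lit 2,nat_lit 0,nat_lit 2,nat_lit 1,nat_lit 2,nat_lit 1,nat_lit 2,nat_lit 1,nat_lit 1,nat_lit 2,nat_lit 1,nat_lit 2,nat_lit 3,nat_lit 0,nat_lit 2,nat_lit 1,nat_lit 2,nat_lit 3,nat_lit 1,nat_lit 3])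
) (.leaf [nat_lit 1,nat_lit 2,nat_lit 1,nat_lit 1,nat_lit 1,nat_lit 2,nat_lit 1,nat_lit 1,nat_lit 2,nat_lit 1,nat_lit 2,nat_lit 0,nat_lit 2,nat_lit 1,nat_lit 2,nat_lit 0,nat_lit 2,nat_lit 3,nat_lit 0,nat_lit 2,nat_lit 0,nat_lit 3])
) (.node (.node (.leaf [nat_lit 1,nat_lit 1,nat_lit 1,nat_lit 2,nat_lit 0,nat_lit 0,nat_lit 2,nat_lit 1,nat_lit 2,nat_lit 0,nat_lit 2,nat_lit 0,nat_lit 2,nat_lit 0,nat_lit 2,nat_lit 1,nat_lit 2,nat_lit 1,nat_lit 1])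
 (.leaf [nat_lit 1,nat_lit 1,nat_lit 1,nat_lit 2,nat_lit 1,nat_lit 1,nat_lit 2,nat_lit 1,nat_lit 2,nat_lit 1,nat_lit 2,nat_lit 1,nat_lit 3,nat_lit 1,nat_lit 2,nat_lit 3,nat_lit 1,nat_lit 2,nat_lit 1])
) (.leaf [nat_lit 1,nat_lit 2,nat_lit 1,nat_lit 2,nat_lit 0,nat_lit 0,nat_lit 2,nat_lit 1,nat_lit 1,nat_lit 2,nat_lit 1,nat_lit 2,nat_lit 1,nat_lit 1,nat_lit 2,nat_lit 1,nat_lit 3])
)))

/-- The letters of the chain. -/
noncomputable def hs_g : ℕ → hsG := fun x => evalW hsK (hs_ws.get x)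

noncomputable def hsmw_S_t0 : BT :=
(.node (.node (.node (.node (.leaf (nat_lit 0x6958ba237041))
 (.leaf (nat_lit 0x85924736ab10))
) (.leaf (nat_lit 0x46b21a789350))
) (.node (.node (.leaf (nat_lit 0xb59472a80613))
 (.leaf (nat_lit 0x7463b95a8210))
) (.leaf (nat_lit 0x5a4832b97610))
)) (.node (.node (.node (.leaf (nat_lit 0x76a83b914502))
 (.leaf (nat_lit 0x65378ba49210))
) (.leaf (nat_lit 0x96345a1b2870))
) (.node (.leaf (nat_lit 0x5a6179b23480))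
 (.leaf (nat_lit 0x239b64a75810))
)))

noncomputable def hsmw_S_t : BT :=
hsmw_S_t0

noncomputable def hsmw_S : ℕ → ℕ → ℕ := fun x i => Nat.land (Nat.shiftRight (BT.get hsmw_S_t x) (Nat.mul (nat_lit 4) i)) (nat_lit 15)

noncomputable def hsmw_defs : LT :=
(.node (.node (.node (.node (.leaf [nat_lit 0])
 (.leaf [nat_lit 1,nat_lit 7])
) (.leaf [nat_lit 0,nat_lit 1,nat_lit 1,nat_lit 1,nat_lit 2])
) (.node (.node (.leaf [nat_lit 0])
 (.leaf [nat_lit 0,nat_lit 8,nat_lit 6,nat_lit 7])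
) (.leaf [nat_lit 0,nat_lit 3,nat_lit 5,nat_lit 5,nat_lit 3,nat_lit 4,nat_lit 4,nat_lit 3])
)) (.node (.node (.node (.leaf [nat_lit 0])
 (.leaf [nat_lit 0,nat_lit 7,nat_lit 6,nat_lit 8,nat_lit 6,nat_lit 7,nat_lit 6,nat_lit 8])
) (.leaf [nat_lit 1,nat_lit 4])
) (.node (.leaf [nat_lit 0,nat_lit 1,nat_lit 2,nat_lit 0])
 (.leaf [nat_lit 0,nat_lit 3,nat_lit 5,nat_lit 3,nat_lit 5,nat_lit 3])
)))
noncomputable def hsmw_iota : ℕ → ℕ := getP (nat_lit 8) (nat_lit 255) (nat_lit 0x2010003060a09)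
noncomputable def hsmw_inv : ℕ → ℕ := getP (nat_lit 8) (nat_lit 255) (nat_lit 0x6040503020100)
noncomputable def hsmw_hws : LT := .leaf []

noncomputable def hsmw_T_t0 : BT :=
(.node (.node (.node (.leaf (nat_lit 0x65378ba49210))
 (.leaf (nat_lit 0x6958ba237041))
) (.node (.leaf (nat_lit 0x5a4832b97610))
 (.leaf (nat_lit 0xb59472a80613))
)) (.node (.node (.leaf (nat_lit 0x7463b95a8210))
 (.leaf (nat_lit 0x76a83b914502))
) (.leaf (nat_lit 0x5a6179b23480))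
))

noncomputable def hsmw_T_t : BT :=
hsmw_T_t0

noncomputable def hsmw_T : ℕ → ℕ → ℕ := fun x i => Nat.land (Nat.shiftRight (BT.get hsmw_T_t x) (Nat.mul (nat_lit 4) i)) (nat_lit 15)

noncomputable def hsmw_E_t0 : BT :=
(.node (.node (.leaf (nat_lit 0x80100580303604c098230540c81102900))
 (.leaf (nat_lit 0x60140180d0080280a0140280040000000))
) (.node (.leaf (nat_lit 0x803802002036014028150260380880000))
 (.leaf (nat_lit 0x80000100201600c040000020000000000))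
))

noncomputable def hsmw_E_t : BT :=
hsmw_E_t0

noncomputable def hsmw_E : ℕ → ℕ → ℕ := fun x i => Nat.land (Nat.shiftRight (BT.get hsmw_E_t x) (Nat.mul (nat_lit 11) i)) (nat_lit 2047)

noncomputable def hsm_ws : LT :=
(.node (.node (.leaf [nat_lit 10,nat_lit 0,nat_lit 6,nat_lit 0,nat_lit 2,nat_lit 5,nat_lit 1,nat_lit 4,nat_lit 1,nat_lit 4,nat_lit 1,nat_lit 2,nat_lit 0,nat_lit 2,nat_lit 1])
 (.leaf [nat_lit 6,nat_lit 4,nat_lit 7,nat_lit 4,nat_lit 5,nat_lit 2,nat_lit 5,nat_lit 3,nat_lit 0,nat_lit 4,nat_lit 1,nat_lit 4,nat_lit 1,nat_lit 3,nat_lit 1])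
) (.leaf [nat_lit 0,nat_lit 11,nat_lit 1,nat_lit 5,nat_lit 1,nat_lit 2,nat_lit 5,nat_lit 1,nat_lit 3,nat_lit 0,nat_lit 4,nat_lit 3,nat_lit 2,nat_lit 0,nat_lit 2,nat_lit 1])
)

/-- The letters of the chain. -/
noncomputable def hsm_g : ℕ → hsG := fun x => evalW hsK (hsm_ws.get x)

noncomputable def hsm_PQ_t0 : BT :=
(.node (.leaf (nat_lit 0x4ad49a6b5562f9094701))
 (.leaf (nat_lit 0x30000000000000000000000300000000000000000000000000000000380000000008000051400480000010000000000000000002000000000000000000000400000000000000000002c000))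
)

noncomputable def hsm_PQ : ℕ → ℕ → ℕ := fun x i => Nat.land (Nat.shiftRight (BT.get hsm_PQ_t0 x) (Nat.mul (nat_lit 7) i)) (nat_lit 127)

theorem hs_k0 : allRange (nat_lit 0) (nat_lit 12) (backB OutC.hs_T hs_ws hs_back [nat_lit 4,nat_lit 14,nat_lit 79,nat_lit 63,nat_lit 99]) = true := by decide +kernel

theorem hs_r99 : fixAll (tabW OutC.hs_T hs_ws) hs_rels (nat_lit 99) = true := by decide +kernel

theorem hs_r63 : fixAll (tabW OutC.hs_T hs_ws) hs_rels (nat_lit 63) = true := by decide +kernel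

theorem hs_r79 : fixAll (tabW OutC.hs_T hs_ws) hs_rels (nat_lit 79) = true := by decide +kernel

theorem hs_r14 : fixAll (tabW OutC.hs_T hs_ws) hs_rels (nat_lit 14) = true := by decide +kernel

theorem hs_r4 : fixAll (tabW OutC.hs_T hs_ws) hs_rels (nat_lit 4) = true := by decide +kernel

theorem hsmw_slp0 : allLt (nat_lit 8) (fun i => force (Nat.add (nat_lit 3) i) (slpOK hsmw_S hsmw_defs (nat_lit 12))) = true := by decide +kernel

theorem hsmw_ren : allLt (nat_lit 7) (fun x => force (hsmw_iota x) fun y => band (blt y (nat_lit 11)) (allRange (nat_lit 0) (nat_lit 12) fun i => Nat.beq (hsmw_S y i) (hsmw_T x i))) = true := by decide +kernel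

theorem hsmw_L3_o : band (allRange (nat_lit 0) (nat_lit 12) (orbOK hsmw_T (nat_lit 2) (hsmw_E (nat_lit 3)) (Nat.beq (nat_lit 3)))) (band (Nat.ble (nat_lit 6) (count2 (nat_lit 12) fun p => Nat.ble 256 (hsmw_E (nat_lit 3) p))) (allLt (nat_lit 0) (fun x => Nat.beq (hsmw_T x (nat_lit 3)) (nat_lit 3)))) = true := by decide +kernel

theorem hsmw_L2_o : band (allRange (nat_lit 0) (nat_lit 12) (orbOK hsmw_T (nat_lit 3) (hsmw_E (nat_lit 2)) (Nat.beq (nat_lit 2)))) (band (Nat.ble (nat_lit 10) (count2 (nat_lit 12) fun p => Nat.ble 256 (hsmw_E (nat_lit 2) p))) (allLt (nat_lit 2) (fun x => Nat.beq (hsmw_T x (nat_lit 2)) (nat_lit 2)))) = true := by decide +kernel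

theorem hsmw_L1_o : band (allRange (nat_lit 0) (nat_lit 12) (orbOK hsmw_T (nat_lit 4) (hsmw_E (nat_lit 1)) (Nat.beq (nat_lit 1)))) (band (Nat.ble (nat_lit 11) (count2 (nat_lit 12) fun p => Nat.ble 256 (hsmw_E (nat_lit 1) p))) (allLt (nat_lit 3) (fun x => Nat.beq (hsmw_T x (nat_lit 1)) (nat_lit 1)))) = true := by decide +kernel

theorem hsmw_L0_o : band (allRange (nat_lit 0) (nat_lit 12) (orbOK hsmw_T (nat_lit 7) (hsmw_E (nat_lit 0)) (Nat.beq (nat_lit 0)))) (band (Nat.ble (nat_lit 12) (count2 (nat_lit 12) fun p => Nat.ble 256 (hsmw_E (nat_lit 0) p))) (allLt (nat_lit 4) (fun x => Nat.beq (hsmw_T x (nat_lit 0)) (nat_lit 0)))) = true := by decide +kernel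

theorem hsm_r99 : fixAll (tabW OutC.hs_T hsm_ws) m11_rels (nat_lit 99) = true := by decide +kernel

theorem hsm_r63 : fixAll (tabW OutC.hs_T hsm_ws) m11_rels (nat_lit 63) = true := by decide +kernel

theorem hsm_r79 : fixAll (tabW OutC.hs_T hsm_ws) m11_rels (nat_lit 79) = true := by decide +kernel

theorem hsm_r14 : fixAll (tabW OutC.hs_T hsm_ws) m11_rels (nat_lit 14) = true := by decide +kernel

theorem hsm_r4 : fixAll (tabW OutC.hs_T hsm_ws) m11_rels (nat_lit 4) = true := by decide +kernel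

theorem hsm_e0 : allRange (nat_lit 0) (nat_lit 12) (resB (hsm_PQ 0) 100 3 12 (tabW OutC.hs_T hsm_ws) hsmw_S) = true := by decide +kernel

theorem hs_tabs : Tabs hsE 100 (tabW OutC.hs_T hs_ws) hs_g 4 := tabs_tabW hsK_tabs (by decide +kernel) 4

theorem hs_eq : genLt hs_g 4 = genLt hsK 12 :=
  genLt_tabW hsK_tabs hsK_base (back := hs_back) (by decide +kernel) (range_append _ (allLt_of_zero _) hs_k0 rfl)

theorem hs_base : IsBase hsE (genLt hs_g 4) [4, 14, 79, 63, 99] := hs_eq ▸ hsK_base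

theorem hs_gen : Gen ⊤ hs_g hs_rels 4 44352000 :=
  gen_of_fixAll hs_tabs (hs_eq.trans hsK_top) (hsK_top ▸ hsK_base) hsK_card (by decide +kernel) (forall_mem_cons' hs_r4 (forall_mem_cons' hs_r14 (forall_mem_cons' hs_r79 (forall_mem_cons' hs_r63 (forall_mem_cons' hs_r99 forall_mem_nil')))))

/-- The letters: a strong generating set, deepest stabiliser first. -/
noncomputable def hsmw_g {G : Type*} [Group G] (a : ℕ → G) : ℕ → G := fun x => slp a 3 hsmw_defs (hsmw_iota x)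

theorem hsmw_tabs {G α : Type*} [Group G] [MulAction G α] {e : ℕ → α} {a : ℕ → G} (h0 : Tabs e 12 hsmw_S a 3) : Tabs e 12 hsmw_T (hsmw_g a) 7 :=
  Tabs.rename (ι := hsmw_iota) (g := slp a 3 hsmw_defs) ((Tabs.slp_base hsmw_defs h0).slp_add (by decide) _ hsmw_slp0) hsmw_ren

theorem hsmw_gen {G : Type*} [Group G] (a : ℕ → G) : genLt (hsmw_g a) 7 = genLt a 3 :=
  genLt_slp_eq a hsmw_defs (back := getP 8 255 (nat_lit 0x60504)) (by decide +kernel)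

theorem hsmw_low3 {G α : Type*} [Group G] [MulAction G α] {e : ℕ → α} {a : ℕ → G} (he : Set.InjOn e (Set.Iio 12)) (h0 : Tabs e 12 hsmw_S a 3) :
    LowLevel (genLt (hsmw_g a) 2) (genLt (hsmw_g a) 0) (e 3) 6 :=
  Tabs.lowLevel (hsmw_tabs h0) he (by decide) (by decide) (by decide) hsmw_L3_o

theorem hsmw_ge3 {G α : Type*} [Group G] [MulAction G α] {e : ℕ → α} {a : ℕ → G} (he : Set.InjOn e (Set.Iio 12)) (h0 : Tabs e 12 hsmw_S a 3) :
    Finite (genLt (hsmw_g a) 2) → 6 ≤ Nat.card (genLt (hsmw_g a) 2) := fun hK =>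
  (hsmw_low3 he h0).card hK (one_le_card_fin _)

theorem hsmw_fix3 {G α : Type*} [Group G] [MulAction G α] {e : ℕ → α} {a : ℕ → G} (he : Set.InjOn e (Set.Iio 12)) (h0 : Tabs e 12 hsmw_S a 3) :
    ∀ X : Subgroup G, Finite X → (genLt (hsmw_g a) 2) ≤ X → 6 * Nat.card (fixB e X [3]) ≤ Nat.card X :=
  (hsmw_low3 he h0).card_fix (card_fix_nil _ _)

theorem hsmw_low2 {G α : Type*} [Group G] [MulAction G α] {e : ℕ → α} {a : ℕ → G} (he : Set.InjOn e (Set.Iio 12)) (h0 : Tabs e 12 hsmw_S a 3) :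
    LowLevel (genLt (hsmw_g a) 3) (genLt (hsmw_g a) 2) (e 2) 10 :=
  Tabs.lowLevel (hsmw_tabs h0) he (by decide) (by decide) (by decide) hsmw_L2_o

theorem hsmw_ge2 {G α : Type*} [Group G] [MulAction G α] {e : ℕ → α} {a : ℕ → G} (he : Set.InjOn e (Set.Iio 12)) (h0 : Tabs e 12 hsmw_S a 3) :
    Finite (genLt (hsmw_g a) 3) → 60 ≤ Nat.card (genLt (hsmw_g a) 3) := fun hK =>
  (hsmw_low2 he h0).card hK (hsmw_ge3 he h0)

theorem hsmw_fix2 {G α : Type*} [Group G] [MulAction G α] {e : ℕ → α} {a : ℕ → G} (he : Set.InjOn e (Set.Iio 12)) (h0 : Tabs e 12 hsmw_S a 3) :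
    ∀ X : Subgroup G, Finite X → (genLt (hsmw_g a) 3) ≤ X → 60 * Nat.card (fixB e X [2, 3]) ≤ Nat.card X :=
  (hsmw_low2 he h0).card_fix (hsmw_fix3 he h0)

theorem hsmw_low1 {G α : Type*} [Group G] [MulAction G α] {e : ℕ → α} {a : ℕ → G} (he : Set.InjOn e (Set.Iio 12)) (h0 : Tabs e 12 hsmw_S a 3) :
    LowLevel (genLt (hsmw_g a) 4) (genLt (hsmw_g a) 3) (e 1) 11 :=
  Tabs.lowLevel (hsmw_tabs h0) he (by decide) (by decide) (by decide) hsmw_L1_o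

theorem hsmw_ge1 {G α : Type*} [Group G] [MulAction G α] {e : ℕ → α} {a : ℕ → G} (he : Set.InjOn e (Set.Iio 12)) (h0 : Tabs e 12 hsmw_S a 3) :
    Finite (genLt (hsmw_g a) 4) → 660 ≤ Nat.card (genLt (hsmw_g a) 4) := fun hK =>
  (hsmw_low1 he h0).card hK (hsmw_ge2 he h0)

theorem hsmw_fix1 {G α : Type*} [Group G] [MulAction G α] {e : ℕ → α} {a : ℕ → G} (he : Set.InjOn e (Set.Iio 12)) (h0 : Tabs e 12 hsmw_S a 3) :
    ∀ X : Subgroup G, Finite X → (genLt (hsmw_g a) 4) ≤ X → 660 * Nat.card (fixB e X [1, 2, 3]) ≤ Nat.card X :=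
  (hsmw_low1 he h0).card_fix (hsmw_fix2 he h0)

theorem hsmw_low0 {G α : Type*} [Group G] [MulAction G α] {e : ℕ → α} {a : ℕ → G} (he : Set.InjOn e (Set.Iio 12)) (h0 : Tabs e 12 hsmw_S a 3) :
    LowLevel (genLt (hsmw_g a) 7) (genLt (hsmw_g a) 4) (e 0) 12 :=
  Tabs.lowLevel (hsmw_tabs h0) he (by decide) (by decide) (by decide) hsmw_L0_o

theorem hsmw_ge0 {G α : Type*} [Group G] [MulAction G α] {e : ℕ → α} {a : ℕ → G} (he : Set.InjOn e (Set.Iio 12)) (h0 : Tabs e 12 hsmw_S a 3) :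
    Finite (genLt (hsmw_g a) 7) → 7920 ≤ Nat.card (genLt (hsmw_g a) 7) := fun hK =>
  (hsmw_low0 he h0).card hK (hsmw_ge1 he h0)

theorem hsmw_fix0 {G α : Type*} [Group G] [MulAction G α] {e : ℕ → α} {a : ℕ → G} (he : Set.InjOn e (Set.Iio 12)) (h0 : Tabs e 12 hsmw_S a 3) :
    ∀ X : Subgroup G, Finite X → (genLt (hsmw_g a) 7) ≤ X → 7920 * Nat.card (fixB e X [0, 1, 2, 3]) ≤ Nat.card X :=
  (hsmw_low0 he h0).card_fix (hsmw_fix1 he h0)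

theorem hsmw_ub0 {G α : Type*} [Group G] [MulAction G α] {e : ℕ → α} {a : ℕ → G} (he : Set.InjOn e (Set.Iio 12)) (h0 : Tabs e 12 hsmw_S a 3) (hub : Nat.card (genLt a 3) ≠ 0 ∧ Nat.card (genLt a 3) ≤ 7920) :
    Nat.card (genLt (hsmw_g a) 7) ≠ 0 ∧ Nat.card (genLt (hsmw_g a) 7) ≤ 7920 := by rw [hsmw_gen]; exact hub

theorem hsmw_level0 {G α : Type*} [Group G] [MulAction G α] {e : ℕ → α} {a : ℕ → G} (he : Set.InjOn e (Set.Iio 12)) (h0 : Tabs e 12 hsmw_S a 3) (hub : Nat.card (genLt a 3) ≠ 0 ∧ Nat.card (genLt a 3) ≤ 7920) :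
    Level (genLt (hsmw_g a) 7) (genLt (hsmw_g a) 4) (e 0) 12 :=
  ((hsmw_low0 he h0).level (c := 660) (hsmw_ub0 he h0 hub) (hsmw_ge1 he h0)).1

theorem hsmw_ub1 {G α : Type*} [Group G] [MulAction G α] {e : ℕ → α} {a : ℕ → G} (he : Set.InjOn e (Set.Iio 12)) (h0 : Tabs e 12 hsmw_S a 3) (hub : Nat.card (genLt a 3) ≠ 0 ∧ Nat.card (genLt a 3) ≤ 7920) :
    Nat.card (genLt (hsmw_g a) 4) ≠ 0 ∧ Nat.card (genLt (hsmw_g a) 4) ≤ 660 :=
  ((hsmw_low0 he h0).level (c := 660) (hsmw_ub0 he h0 hub) (hsmw_ge1 he h0)).2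

theorem hsmw_level1 {G α : Type*} [Group G] [MulAction G α] {e : ℕ → α} {a : ℕ → G} (he : Set.InjOn e (Set.Iio 12)) (h0 : Tabs e 12 hsmw_S a 3) (hub : Nat.card (genLt a 3) ≠ 0 ∧ Nat.card (genLt a 3) ≤ 7920) :
    Level (genLt (hsmw_g a) 4) (genLt (hsmw_g a) 3) (e 1) 11 :=
  ((hsmw_low1 he h0).level (c := 60) (hsmw_ub1 he h0 hub) (hsmw_ge2 he h0)).1

theorem hsmw_ub2 {G α : Type*} [Group G] [MulAction G α] {e : ℕ → α} {a : ℕ → G} (he : Set.InjOn e (Set.Iio 12)) (h0 : Tabs e 12 hsmw_S a 3) (hub : Nat.card (genLt a 3) ≠ 0 ∧ Nat.card (genLt a 3) ≤ 7920) :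
    Nat.card (genLt (hsmw_g a) 3) ≠ 0 ∧ Nat.card (genLt (hsmw_g a) 3) ≤ 60 :=
  ((hsmw_low1 he h0).level (c := 60) (hsmw_ub1 he h0 hub) (hsmw_ge2 he h0)).2

theorem hsmw_level2 {G α : Type*} [Group G] [MulAction G α] {e : ℕ → α} {a : ℕ → G} (he : Set.InjOn e (Set.Iio 12)) (h0 : Tabs e 12 hsmw_S a 3) (hub : Nat.card (genLt a 3) ≠ 0 ∧ Nat.card (genLt a 3) ≤ 7920) :
    Level (genLt (hsmw_g a) 3) (genLt (hsmw_g a) 2) (e 2) 10 :=
  ((hsmw_low2 he h0).level (c := 6) (hsmw_ub2 he h0 hub) (hsmw_ge3 he h0)).1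

theorem hsmw_ub3 {G α : Type*} [Group G] [MulAction G α] {e : ℕ → α} {a : ℕ → G} (he : Set.InjOn e (Set.Iio 12)) (h0 : Tabs e 12 hsmw_S a 3) (hub : Nat.card (genLt a 3) ≠ 0 ∧ Nat.card (genLt a 3) ≤ 7920) :
    Nat.card (genLt (hsmw_g a) 2) ≠ 0 ∧ Nat.card (genLt (hsmw_g a) 2) ≤ 6 :=
  ((hsmw_low2 he h0).level (c := 6) (hsmw_ub2 he h0 hub) (hsmw_ge3 he h0)).2

theorem hsmw_level3 {G α : Type*} [Group G] [MulAction G α] {e : ℕ → α} {a : ℕ → G} (he : Set.InjOn e (Set.Iio 12)) (h0 : Tabs e 12 hsmw_S a 3) (hub : Nat.card (genLt a 3) ≠ 0 ∧ Nat.card (genLt a 3) ≤ 7920) :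
    Level (genLt (hsmw_g a) 2) (genLt (hsmw_g a) 0) (e 3) 6 :=
  ((hsmw_low3 he h0).level (c := 1) (hsmw_ub3 he h0 hub) (one_le_card_fin _)).1

theorem hsmw_card3 {G α : Type*} [Group G] [MulAction G α] {e : ℕ → α} {a : ℕ → G} (he : Set.InjOn e (Set.Iio 12)) (h0 : Tabs e 12 hsmw_S a 3) (hub : Nat.card (genLt a 3) ≠ 0 ∧ Nat.card (genLt a 3) ≤ 7920) :
    Nat.card (genLt (hsmw_g a) 2) = 6 :=
  (hsmw_level3 he h0 hub).card (card_genLt_zero _)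

theorem hsmw_base3 {G α : Type*} [Group G] [MulAction G α] {e : ℕ → α} {a : ℕ → G} (he : Set.InjOn e (Set.Iio 12)) (h0 : Tabs e 12 hsmw_S a 3) (hub : Nat.card (genLt a 3) ≠ 0 ∧ Nat.card (genLt a 3) ≤ 7920) :
    IsBase e (genLt (hsmw_g a) 2) [3] :=
  (hsmw_level3 he h0 hub).base (isBase_genLt_zero _ _)

theorem hsmw_card2 {G α : Type*} [Group G] [MulAction G α] {e : ℕ → α} {a : ℕ → G} (he : Set.InjOn e (Set.Iio 12)) (h0 : Tabs e 12 hsmw_S a 3) (hub : Nat.card (genLt a 3) ≠ 0 ∧ Nat.card (genLt a 3) ≤ 7920) :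
    Nat.card (genLt (hsmw_g a) 3) = 60 :=
  (hsmw_level2 he h0 hub).card (hsmw_card3 he h0 hub)

theorem hsmw_base2 {G α : Type*} [Group G] [MulAction G α] {e : ℕ → α} {a : ℕ → G} (he : Set.InjOn e (Set.Iio 12)) (h0 : Tabs e 12 hsmw_S a 3) (hub : Nat.card (genLt a 3) ≠ 0 ∧ Nat.card (genLt a 3) ≤ 7920) :
    IsBase e (genLt (hsmw_g a) 3) [2, 3] :=
  (hsmw_level2 he h0 hub).base (hsmw_base3 he h0 hub)

theorem hsmw_card1 {G α : Type*} [Group G] [MulAction G α] {e : ℕ → α} {a : ℕ → G} (he : Set.InjOn e (Set.Iio 12)) (h0 : Tabs e 12 hsmw_S a 3) (hub : Nat.card (genLt a 3) ≠ 0 ∧ Nat.card (genLt a 3) ≤ 7920) :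
    Nat.card (genLt (hsmw_g a) 4) = 660 :=
  (hsmw_level1 he h0 hub).card (hsmw_card2 he h0 hub)

theorem hsmw_base1 {G α : Type*} [Group G] [MulAction G α] {e : ℕ → α} {a : ℕ → G} (he : Set.InjOn e (Set.Iio 12)) (h0 : Tabs e 12 hsmw_S a 3) (hub : Nat.card (genLt a 3) ≠ 0 ∧ Nat.card (genLt a 3) ≤ 7920) :
    IsBase e (genLt (hsmw_g a) 4) [1, 2, 3] :=
  (hsmw_level1 he h0 hub).base (hsmw_base2 he h0 hub)

theorem hsmw_card0 {G α : Type*} [Group G] [MulAction G α] {e : ℕ → α} {a : ℕ → G} (he : Set.InjOn e (Set.Iio 12)) (h0 : Tabs e 12 hsmw_S a 3) (hub : Nat.card (genLt a 3) ≠ 0 ∧ Nat.card (genLt a 3) ≤ 7920) :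
    Nat.card (genLt (hsmw_g a) 7) = 7920 :=
  (hsmw_level0 he h0 hub).card (hsmw_card1 he h0 hub)

theorem hsmw_base0 {G α : Type*} [Group G] [MulAction G α] {e : ℕ → α} {a : ℕ → G} (he : Set.InjOn e (Set.Iio 12)) (h0 : Tabs e 12 hsmw_S a 3) (hub : Nat.card (genLt a 3) ≠ 0 ∧ Nat.card (genLt a 3) ≤ 7920) :
    IsBase e (genLt (hsmw_g a) 7) [0, 1, 2, 3] :=
  (hsmw_level0 he h0 hub).base (hsmw_base1 he h0 hub)

theorem hsmw_hinv {G α : Type*} [Group G] [MulAction G α] {e : ℕ → α} {a : ℕ → G} (he : Set.InjOn e (Set.Iio 12)) (h0 : Tabs e 12 hsmw_S a 3) (hub : Nat.card (genLt a 3) ≠ 0 ∧ Nat.card (genLt a 3) ≤ 7920) : ∀ x < 7, hsmw_g a x * hsmw_g a (hsmw_inv x) = 1 :=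
  (hsmw_tabs h0).hinv_of_base (hsmw_base0 he h0 hub) (by decide +kernel)

theorem hsmw_card {G α : Type*} [Group G] [MulAction G α] {e : ℕ → α} {a : ℕ → G} (he : Set.InjOn e (Set.Iio 12)) (h0 : Tabs e 12 hsmw_S a 3) (hub : Nat.card (genLt a 3) ≠ 0 ∧ Nat.card (genLt a 3) ≤ 7920) :
    Nat.card (genLt a 3) = 7920 := by
  rw [← hsmw_gen]; exact hsmw_card0 he h0 hub
theorem hsm_tabs : Tabs hsE 100 (tabW OutC.hs_T hsm_ws) hsm_g 3 := tabs_tabW hsK_tabs (by decide +kernel) 3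

theorem hsm_base : IsBase hsE (genLt hsm_g 3) [4, 14, 79, 63, 99] := (hsK_top ▸ hsK_base).mono le_top

theorem hsm_rel : ∀ i, evalW hsm_g (m11_rels.get i) = 1 := rels_of_fixAll hsm_tabs hsm_base (by decide +kernel) (forall_mem_cons' hsm_r4 (forall_mem_cons' hsm_r14 (forall_mem_cons' hsm_r79 (forall_mem_cons' hsm_r63 (forall_mem_cons' hsm_r99 forall_mem_nil')))))

theorem hsm_gen : Gen (genLt hsm_g 3) hsm_g m11_rels 3 7920 :=
  ⟨rfl, hsm_rel, (hsmw_card (injOn_restrict (P := hsm_PQ 0) (Q := hsm_PQ 1) hsE_inj (by decide +kernel))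
    (tabs_res hsm_tabs (range_append _ (allLt_of_zero _) hsm_e0 rfl)) (m11_bnd hsm_rel))⟩


end Cfsg.Agent.Spor.MX
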