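import Mathlib
import Cfsg.Agent.Spor.MX.J3
import Cfsg.Agent.Spor.MX.Link2
import Cfsg.Agent.Spor.J3.Main

/-! Generated by tools/mx: letters in J3 -/

set_option autoImplicit false
set_option maxRecDepth 100000
set_option linter.unusedVariables false
set_option exponentiation.threshold 100000

namespace Cfsg.Agent.Spor.MX

open Cfsg.Agent.Spor

universe u

noncomputable def j3m_gc : BT :=
(.node (.node (.leaf (nat_lit 0x1004200040108020004200040100001004200800100001004000000108000004000800000000004000840000001000000800008000000000040100021004000040100001004200040100000000000040108001004000840100001004000800100021000200040000001000200040108020004200000108021000200800108001004200800100020000000800108000000000840108000))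
 (.leaf (nat_lit 0x1004200800000001000000800108021004000040108021004200040108001004200840100000000000840000000004200040000020000000000100020000200040000001004000800108001000200840100020000000040000021000200040008020004000840100000000200800008000004200800100001004000040108021004000040108020004000040000021004200840100000))
) (.node (.leaf (nat_lit 0x1004000840008001004200040100021004000840000000004000800000020000000040108000000000040108001000200840100001004200040108001000200840100021004200800108000004200040100000004000000000020000000840100001000000040100001004200040108021004000800108000000000040100020004000840100001004200840108001000200000108000))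
 (.leaf (nat_lit 0x1000200040108001000200840100020000200040100000004000840000021004000040108000000200800108000004200040100000000200000108021004000800100001004200840100001004200840108001000200800100020004000000100000000200800000000004200800108001004000800108020004000840100000004200000100021004200040108001000200840108001))
))

noncomputable def j3m_ws : LT :=
(.node (.node (.leaf [nat_lit 2,nat_lit 1,nat_lit 8,nat_lit 6,nat_lit 6,nat_lit 8,nat_lit 8,nat_lit 8,nat_lit 6,nat_lit 7,nat_lit 8,nat_lit 8,nat_lit 8,nat_lit 6,nat_lit 6,nat_lit 8,nat_lit 6,nat_lit 3,nat_lit 8,nat_lit 6,nat_lit 6,nat_lit 7,nat_lit 1,nat_lit 8])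
 (.leaf [nat_lit 8,nat_lit 8,nat_lit 8,nat_lit 6,nat_lit 6,nat_lit 8,nat_lit 6,nat_lit 6,nat_lit 8,nat_lit 6,nat_lit 3,nat_lit 8,nat_lit 8,nat_lit 8,nat_lit 4,nat_lit 8,nat_lit 8,nat_lit 8,nat_lit 6,nat_lit 6,nat_lit 8,nat_lit 6,nat_lit 6,nat_lit 8,nat_lit 4,nat_lit 2,nat_lit 1])
) (.node (.leaf [nat_lit 3,nat_lit 4,nat_lit 8,nat_lit 6,nat_lit 6,nat_lit 8,nat_lit 8,nat_lit 8,nat_lit 6,nat_lit 6,nat_lit 8,nat_lit 8,nat_lit 8,nat_lit 6,nat_lit 6,nat_lit 7,nat_lit 7,nat_lit 8,nat_lit 6,nat_lit 6,nat_lit 8,nat_lit 8,nat_lit 8,nat_lit 6,nat_lit 5,nat_lit 5,nat_lit 8,nat_lit 8,nat_lit 8,nat_lit 3])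
 (.leaf [nat_lit 6,nat_lit 3,nat_lit 8,nat_lit 8,nat_lit 8,nat_lit 6,nat_lit 6,nat_lit 8,nat_lit 8,nat_lit 8,nat_lit 6,nat_lit 6,nat_lit 8,nat_lit 8,nat_lit 8,nat_lit 7,nat_lit 5,nat_lit 5,nat_lit 1,nat_lit 6,nat_lit 8,nat_lit 7,nat_lit 6,nat_lit 6,nat_lit 5,nat_lit 4,nat_lit 5,nat_lit 5])
))

noncomputable def j3m_back : LT :=
(.node (.node (.node (.node (.leaf [])
 (.leaf [nat_lit 1,nat_lit 1,nat_lit 3,nat_lit 0,nat_lit 2,nat_lit 3,nat_lit 0,nat_lit 2])
) (.leaf [nat_lit 2,nat_lit 0,nat_lit 0,nat_lit 2,nat_lit 1,nat_lit 1,nat_lit 1,nat_lit 3,nat_lit 2,nat_lit 0,nat_lit 2,nat_lit 0,nat_lit 0,nat_lit 3,nat_lit 2])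
) (.node (.leaf [nat_lit 1,nat_lit 1,nat_lit 2,nat_lit 0,nat_lit 0,nat_lit 2,nat_lit 0,nat_lit 0,nat_lit 0,nat_lit 0,nat_lit 2,nat_lit 0,nat_lit 2,nat_lit 3,nat_lit 0,nat_lit 3,nat_lit 2,nat_lit 3,nat_lit 1,nat_lit 1,nat_lit 3,nat_lit 1,nat_lit 1,nat_lit 2])
 (.leaf [nat_lit 1,nat_lit 2,nat_lit 0,nat_lit 2,nat_lit 0,nat_lit 2,nat_lit 0,nat_lit 2,nat_lit 0,nat_lit 3,nat_lit 0,nat_lit 2,nat_lit 1,nat_lit 1,nat_lit 3,nat_lit 0,nat_lit 0,nat_lit 3])
)) (.node (.node (.leaf [nat_lit 0,nat_lit 0,nat_lit 2,nat_lit 0,nat_lit 0,nat_lit 2,nat_lit 0,nat_lit 2,nat_lit 0,nat_lit 3,nat_lit 1,nat_lit 3,nat_lit 1,nat_lit 3,nat_lit 2,nat_lit 1,nat_lit 2,nat_lit 0,nat_lit 0])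
 (.leaf [nat_lit 0,nat_lit 0,nat_lit 2,nat_lit 0,nat_lit 0,nat_lit 2,nat_lit 1,nat_lit 1,nat_lit 1,nat_lit 2,nat_lit 3,nat_lit 2,nat_lit 1,nat_lit 2,nat_lit 0,nat_lit 3,nat_lit 0,nat_lit 3])
) (.node (.leaf [nat_lit 0,nat_lit 0,nat_lit 0,nat_lit 2,nat_lit 0,nat_lit 2,nat_lit 1,nat_lit 2,nat_lit 1,nat_lit 1,nat_lit 1])
 (.leaf [nat_lit 0,nat_lit 2,nat_lit 0,nat_lit 0,nat_lit 0,nat_lit 2,nat_lit 0,nat_lit 2,nat_lit 0,nat_lit 0,nat_lit 0,nat_lit 3,nat_lit 1,nat_lit 1,nat_lit 2,nat_lit 3,nat_lit 1,nat_lit 2,nat_lit 1])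
)))

noncomputable def j3m_Z : List ℕ := [NM.F4x9.one, nat_lit 0x20000000000000000000000000000000000000800000000000000000000000000000000000020000000000000000000000000000000000000800000000000000000000000000000000000020000000000000000000000000000000000000800000000000000000000000000000000000020000000000000000000000000000000000000800000000000000000000000000000000000020, nat_lit 0x21000000000000000000000000000000000000840000000000000000000000000000000000021000000000000000000000000000000000000840000000000000000000000000000000000021000000000000000000000000000000000000840000000000000000000000000000000000021000000000000000000000000000000000000840000000000000000000000000000000000021]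

theorem j3m_w : wordsB NM.F4x9.mul NM.F4x9.one MJ3.gC j3m_gc.get 9 4 j3m_ws = true := by decide +kernel

theorem j3m_b0 : allRange (nat_lit 0) (nat_lit 9) (backZ NM.F4x9.mul NM.F4x9.one j3m_Z MJ3.gC j3m_gc.get 4 j3m_back) = true := by decide +kernel

theorem j3m_r : j3_rels.all (fun u => eqZ NM.F4x9.mul NM.F4x9.one j3m_Z j3m_gc.get 4 u []) = true := by decide +kernel

theorem j3m_c0 : eqZ NM.F4x9.mul NM.F4x9.one j3m_Z j3m_gc.get 4 (appL [1, 1, 1, 1, 1, 1, 1, 1, 2, 0, 2, 0, 2, 1, 3, 0, 3, 2, 1, 1, 2, 1] [1, 2, 0, 2, 1, 2, 1, 2, 0, 0, 3, 0, 2, 3, 0, 3, 0, 3, 0]) (appL [1, 2, 0, 2, 1, 2, 1, 2, 0, 0, 3, 0, 2, 3, 0, 3, 0, 3, 0] [1, 1, 1, 1, 1, 1, 1, 1, 2, 0, 2, 0, 2, 1, 3, 0, 3, 2, 1, 1, 2, 1]) = true := by decide +kernel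

variable (F : Type*) [Field F] [Fintype F] [hF : _root_.Fact (Fintype.card F = 4)] (ω : F) [hω : _root_.Fact (ω ^ 2 + ω + 1 = 0)]

theorem j3m_link : Link (MJ3.M F ω) (Cfsg.Spor.threeJ3 F ω).subtype (MJ3.π F ω) j3m_Z (MJ3.g F ω) MJ3.gC 9 := by
  refine ⟨fun x _ => ⟨(MJ3.par_C F ω x).1, rfl⟩, fun c hc => ?_⟩
  have h1 : ∀ c ∈ j3m_Z, ∃ k < 3, NM.evN NM.F4x9.mul NM.F4x9.one MJ3.gC (powW k [0]) = c := by decide +kernel
  obtain ⟨k, -, rfl⟩ := h1 c hc
  obtain ⟨h2, h3⟩ := NM.Model.evN_sound (M := MJ3.M F ω) (gc := MJ3.gC) (w := powW k [0]) fun x _ => (MJ3.par_C F ω x).1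
  refine ⟨h2, fun y hy => (QuotientGroup.eq_one_iff _).2 ?_⟩
  rw [h3, evalW_powW, evalW_cons, evalW_nil, mul_one] at hy
  rw [MJ3.center_eq, show y = MJ3.g F ω 0 ^ k from Subtype.ext hy]
  exact Subgroup.npow_mem_zpowers _ _

theorem j3m_top : genLt (fun x => MJ3.π F ω (MJ3.g F ω x)) 9 = ⊤ := by
  rw [← map_genLt' (MJ3.π F ω) (g := MJ3.g F ω) fun _ _ => rfl, show genLt (MJ3.g F ω) 9 = ⊤ by
    rw [← Subgroup.subgroupOf_self (Cfsg.Spor.threeJ3 F ω)]
    exact ((MJ3.par_C F ω).subgroupOf 9).symm.trans (by rw [MJ3.gen9])]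
  exact Subgroup.map_top_of_surjective _ (QuotientGroup.mk'_surjective _)

theorem j3m_gen : Gen ⊤ (fun x => MJ3.π F ω (evalW (MJ3.g F ω) (j3m_ws.get x))) j3_rels 4 50232960 :=
  (j3m_link F ω).gen (j3m_top F ω) (Subgroup.card_top.trans (MJ3.card_J3 F ω)) j3m_w (range_append _ (allLt_of_zero _) j3m_b0 rfl) j3m_r

theorem j3m_low : 3 ∣ Monoid.exponent (Ch.Mult (Cfsg.Spor.J3 F ω)) :=
  ((j3m_link F ω).words j3m_w).dvd_exponent (QuotientGroup.mk'_surjective _) (QuotientGroup.ker_mk' _).le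
    (by rw [QuotientGroup.ker_mk', MJ3.card_center]) (by norm_num) j3m_c0 (by decide +kernel)


end Cfsg.Agent.Spor.MX
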