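import Mathlib
import Cfsg.Agent.Spor.MX.Ru
import Cfsg.Agent.Spor.MX.Glue2
import Cfsg.Agent.Spor.Ru.Main

/-! Generated by tools/mx: letters in Ru -/

set_option autoImplicit false
set_option maxRecDepth 100000
set_option linter.unusedVariables false
set_option exponentiation.threshold 100000

namespace Cfsg.Agent.Spor.MX

open Cfsg.Agent.Spor

universe u

noncomputable def ru_ws : LT :=
(.node (.node (.node (.leaf [nat_lit 4,nat_lit 5,nat_lit 4,nat_lit 0,nat_lit 0,nat_lit 5,nat_lit 0,nat_lit 2,nat_lit 3,nat_lit 3,nat_lit 1,nat_lit 2,nat_lit 0,nat_lit 0])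
 (.leaf [nat_lit 1,nat_lit 4,nat_lit 4,nat_lit 1,nat_lit 6,nat_lit 2,nat_lit 5,nat_lit 0,nat_lit 4,nat_lit 1,nat_lit 5,nat_lit 3,nat_lit 1,nat_lit 3,nat_lit 1,nat_lit 3,nat_lit 0,nat_lit 3,nat_lit 0,nat_lit 0])
) (.leaf [nat_lit 3,nat_lit 3,nat_lit 5,nat_lit 3,nat_lit 0,nat_lit 3,nat_lit 5,nat_lit 1,nat_lit 3,nat_lit 3,nat_lit 2,nat_lit 3,nat_lit 2,nat_lit 1,nat_lit 2])
) (.node (.leaf [nat_lit 1,nat_lit 4,nat_lit 4,nat_lit 1,nat_lit 3,nat_lit 5,nat_lit 0,nat_lit 0,nat_lit 4,nat_lit 2,nat_lit 3,nat_lit 3,nat_lit 0,nat_lit 2,nat_lit 1])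
 (.leaf [nat_lit 4,nat_lit 0,nat_lit 4,nat_lit 1,nat_lit 3,nat_lit 3,nat_lit 2,nat_lit 1,nat_lit 2,nat_lit 1])
))

noncomputable def ru_back : LT :=
(.node (.node (.node (.node (.leaf [nat_lit 1,nat_lit 1,nat_lit 2,nat_lit 1,nat_lit 1,nat_lit 2,nat_lit 1,nat_lit 1,nat_lit 2,nat_lit 1,nat_lit 1,nat_lit 3,nat_lit 2,nat_lit 0,nat_lit 0,nat_lit 2,nat_lit 3,nat_lit 0,nat_lit 4,nat_lit 2,nat_lit 0,nat_lit 3,nat_lit 0,nat_lit 4,nat_lit 2,nat_lit 3,nat_lit 0,nat_lit 4,nat_lit 2,nat_lit 4])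
 (.leaf [nat_lit 0,nat_lit 2,nat_lit 0,nat_lit 2,nat_lit 0,nat_lit 0,nat_lit 0,nat_lit 0,nat_lit 2,nat_lit 1,nat_lit 3,nat_lit 1,nat_lit 1,nat_lit 3,nat_lit 2,nat_lit 0,nat_lit 3,nat_lit 0,nat_lit 4,nat_lit 2,nat_lit 0,nat_lit 4,nat_lit 3,nat_lit 1,nat_lit 2,nat_lit 4,nat_lit 2,nat_lit 4])
) (.leaf [nat_lit 1,nat_lit 1,nat_lit 1,nat_lit 1,nat_lit 1,nat_lit 1,nat_lit 2,nat_lit 1,nat_lit 2,nat_lit 1,nat_lit 1,nat_lit 2,nat_lit 0,nat_lit 2,nat_lit 0,nat_lit 0,nat_lit 3,nat_lit 2,nat_lit 3,nat_lit 0,nat_lit 2,nat_lit 1,nat_lit 3,nat_lit 2,nat_lit 0,nat_lit 4,nat_lit 2,nat_lit 0,nat_lit 3,nat_lit 0,nat_lit 4,nat_lit 2,nat_lit 3,nat_lit 0,nat_lit 4,nat_lit 2,nat_lit 4])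
) (.node (.leaf [nat_lit 0,nat_lit 0,nat_lit 0,nat_lit 0,nat_lit 2,nat_lit 0,nat_lit 0,nat_lit 0,nat_lit 0,nat_lit 0,nat_lit 2,nat_lit 0,nat_lit 0,nat_lit 3,nat_lit 1,nat_lit 3,nat_lit 1,nat_lit 3,nat_lit 1,nat_lit 3,nat_lit 2,nat_lit 0])
 (.leaf [nat_lit 0,nat_lit 0,nat_lit 0,nat_lit 2,nat_lit 1,nat_lit 1,nat_lit 2,nat_lit 1,nat_lit 1,nat_lit 1,nat_lit 2,nat_lit 1,nat_lit 3,nat_lit 1,nat_lit 1,nat_lit 2,nat_lit 3,nat_lit 2,nat_lit 4,nat_lit 3,nat_lit 4,nat_lit 2,nat_lit 4,nat_lit 2,nat_lit 1,nat_lit 2])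
)) (.node (.node (.leaf [nat_lit 0,nat_lit 2,nat_lit 0,nat_lit 0,nat_lit 0,nat_lit 0,nat_lit 2,nat_lit 1,nat_lit 1,nat_lit 1,nat_lit 2,nat_lit 3,nat_lit 1,nat_lit 1,nat_lit 3,nat_lit 2,nat_lit 3,nat_lit 1,nat_lit 3,nat_lit 2,nat_lit 4,nat_lit 2,nat_lit 0,nat_lit 3,nat_lit 0,nat_lit 4,nat_lit 2,nat_lit 3,nat_lit 0,nat_lit 4,nat_lit 2,nat_lit 4])
 (.leaf [nat_lit 0,nat_lit 0,nat_lit 0,nat_lit 2,nat_lit 0,nat_lit 0,nat_lit 0,nat_lit 0,nat_lit 2,nat_lit 1,nat_lit 1,nat_lit 1,nat_lit 2,nat_lit 0,nat_lit 0,nat_lit 3,nat_lit 0,nat_lit 2,nat_lit 3,nat_lit 1,nat_lit 2])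
) (.node (.leaf [nat_lit 0,nat_lit 0,nat_lit 0,nat_lit 0,nat_lit 2,nat_lit 1,nat_lit 2,nat_lit 0,nat_lit 0,nat_lit 0,nat_lit 0,nat_lit 0,nat_lit 3,nat_lit 0,nat_lit 0,nat_lit 0,nat_lit 3,nat_lit 1,nat_lit 3,nat_lit 0,nat_lit 0,nat_lit 3,nat_lit 4,nat_lit 2,nat_lit 0,nat_lit 3,nat_lit 0,nat_lit 4,nat_lit 2,nat_lit 3,nat_lit 0,nat_lit 4,nat_lit 2,nat_lit 4])
 (.leaf [nat_lit 0,nat_lit 0,nat_lit 0,nat_lit 2,nat_lit 1,nat_lit 1,nat_lit 1,nat_lit 2,nat_lit 0,nat_lit 0,nat_lit 3,nat_lit 2,nat_lit 1,nat_lit 3,nat_lit 1,nat_lit 3,nat_lit 1,nat_lit 2,nat_lit 4,nat_lit 2,nat_lit 0,nat_lit 0,nat_lit 3,nat_lit 0,nat_lit 4,nat_lit 3,nat_lit 1])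
)))

/-- The letters of the chain. -/
noncomputable def ru_g : ℕ → Cfsg.Spor.Ru := fun x => evalW MRu.k (ru_ws.get x)

theorem ru_k0 : allRange (nat_lit 0) (nat_lit 9) (backB MRu.ch_T ru_ws ru_back [nat_lit 0,nat_lit 28,nat_lit 50,nat_lit 33]) = true := by decide +kernel

theorem ru_r33 : fixAll (tabW MRu.ch_T ru_ws) ru_rels (nat_lit 33) = true := by decide +kernel

theorem ru_r50 : fixAll (tabW MRu.ch_T ru_ws) ru_rels (nat_lit 50) = true := by decide +kernel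

theorem ru_r28 : fixAll (tabW MRu.ch_T ru_ws) ru_rels (nat_lit 28) = true := by decide +kernel

theorem ru_r0 : fixAll (tabW MRu.ch_T ru_ws) ru_rels (nat_lit 0) = true := by decide +kernel

theorem ru_tabs : Tabs (finE 4060) 4060 (tabW MRu.ch_T ru_ws) ru_g 5 := tabs_tabW MRu.tabs (by decide +kernel) 5

theorem ru_eq : genLt ru_g 5 = genLt MRu.k 9 :=
  genLt_tabW MRu.tabs MRu.basek (back := ru_back) (by decide +kernel) (range_append _ (allLt_of_zero _) ru_k0 rfl)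

theorem ru_base : IsBase (finE 4060) (genLt ru_g 5) [0, 28, 50, 33] := ru_eq ▸ MRu.basek

theorem ru_gen : Gen ⊤ ru_g ru_rels 5 145926144000 :=
  gen_of_fixAll ru_tabs (ru_eq.trans MRu.topk) (MRu.topk ▸ MRu.basek) (Subgroup.card_top.trans MRu.card) (by decide +kernel) (forall_mem_cons' ru_r0 (forall_mem_cons' ru_r28 (forall_mem_cons' ru_r50 (forall_mem_cons' ru_r33 forall_mem_nil'))))


end Cfsg.Agent.Spor.MX
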