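import Mathlib
import Cfsg.Agent.Spor.MX.Glue

/-! Generated by tools/mx: the chain 31 < 2^5:31 < L2(32) -/

set_option autoImplicit false
set_option maxRecDepth 100000
set_option linter.unusedVariables false
set_option exponentiation.threshold 100000

namespace Cfsg.Agent.Spor.MX

open Cfsg.Agent.Spor

universe u

noncomputable def l32c_rels : LT :=
(.node (.node (.leaf [])
 (.leaf [nat_lit 0,nat_lit 0,nat_lit 0,nat_lit 0,nat_lit 0,nat_lit 0,nat_lit 0,nat_lit 0,nat_lit 0,nat_lit 0,nat_lit 0,nat_lit 0,nat_lit 0,nat_lit 0,nat_lit 0,nat_lit 0,nat_lit 0,nat_lit 0,nat_lit 0,nat_lit 0,nat_lit 0,nat_lit 0,nat_lit 0,nat_lit 0,nat_lit 0,nat_lit 0,nat_lit 0,nat_lit 0,nat_lit 0,nat_lit 0,nat_lit 0])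
) (.leaf [nat_lit 0,nat_lit 1])
)
noncomputable def l32c_inv : ℕ → ℕ := getP (nat_lit 8) (nat_lit 255) (nat_lit 0x1)
noncomputable def l32c_pi : ℕ → ℕ := getP (nat_lit 16) (nat_lit 65535) (nat_lit 0x10001)

noncomputable def l32c_L_t : BT :=
(.node (.node (.leaf (nat_lit 0x3fe))
 (.leaf (nat_lit 0))
) (.leaf (nat_lit 0x3fe))
)

noncomputable def l32c_L_rules : LT :=
(.leaf [nat_lit 0,nat_lit 1,nat_lit 0,nat_lit 0,nat_lit 1,nat_lit 1])


noncomputable def l32c_L_R : LT :=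
(.leaf [nat_lit 0,nat_lit 0,nat_lit 0])


noncomputable def l32c_C : LC :=
  ⟨⟨fun x c => Nat.shiftRight (BT.get l32c_L_t x) (Nat.mul (nat_lit 25) c),
  (nat_lit 1), (nat_lit 1), (nat_lit 1023), (nat_lit 10), (nat_lit 7), (nat_lit 1022), (nat_lit 0), (nat_lit 1), (nat_lit 2), (nat_lit 0), (nat_lit 0), (nat_lit 2), l32c_inv, l32c_L_rules, .leaf []⟩,
  (nat_lit 13), (nat_lit 0x41), (nat_lit 0xfff), (nat_lit 6), (nat_lit 2), (nat_lit 1), (nat_lit 1), (nat_lit 1), (nat_lit 63), (nat_lit 31), l32c_pi, l32c_rels, l32c_L_R⟩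

noncomputable def l32c_U_t : BT :=
(.node (.node (.leaf (nat_lit 0x1df003df006fa80e3a019e2034d805f680c32015d202cb804f280a2a011c20249803ee8082200db201c7802ea8061a009a20145801e6804120059200c3800e28020a001820041c0001))
 (.leaf (nat_lit 0x7ff80fff01ffe03ffc07ff80fff01ffe03ffc07ff80fff01ffe03ffc07ff80fff01ffe03ffc07ff80fff01ffe03ffc07ff80fff01ffe03ffc07ff80fff01ffe03ffc07ff80fff01ffe0))
) (.node (.leaf (nat_lit 0x81e74039dc075e00d7301b70031bc065a00b6b017600299c055600963013500217c04520075b00f400195c034e0055300b300113c024a0034b007200091c01460014300310001040042))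
 (.leaf (nat_lit 0x780f0f00d9c03a38032680e0d00b980363002a580d0b0099403228022480c090079002e2001a380b070058c02a18012280a05003880261000a180903001840220800208080100000000))
))

noncomputable def l32c_U_rules : LT :=
(.leaf [nat_lit 2,nat_lit 29,nat_lit 0,nat_lit 1,nat_lit 0,nat_lit 0,nat_lit 0,nat_lit 0,nat_lit 0,nat_lit 0,nat_lit 0,nat_lit 0,nat_lit 0,nat_lit 0,nat_lit 0,nat_lit 0,nat_lit 0,nat_lit 0,nat_lit 0,nat_lit 0,nat_lit 0,nat_lit 0,nat_lit 0,nat_lit 0,nat_lit 0,nat_lit 0,nat_lit 0,nat_lit 0,nat_lit 0,nat_lit 0,nat_lit 0,nat_lit 0,nat_lit 0,nat_lit 0])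


noncomputable def l32c_U_subs : LT :=
(.leaf [nat_lit 0,nat_lit 0,nat_lit 0,nat_lit 2])


noncomputable def l32c_U : TC :=
  ⟨fun x c => Nat.shiftRight (BT.get l32c_U_t x) (Nat.mul (nat_lit 19) c),
  (nat_lit 5), (nat_lit 31), (nat_lit 131071), (nat_lit 17), (nat_lit 3), (nat_lit 131040), (nat_lit 31), (nat_lit 31), (nat_lit 2), (nat_lit 0), (nat_lit 2), (nat_lit 3), l32c_inv, l32c_U_rules, l32c_U_subs⟩

noncomputable def l32b_rels : LT :=
(.node (.node (.node (.leaf [])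
 (.leaf [nat_lit 0,nat_lit 2,nat_lit 1,nat_lit 2,nat_lit 0,nat_lit 2,nat_lit 1,nat_lit 2])
) (.leaf [nat_lit 0,nat_lit 0,nat_lit 0,nat_lit 0,nat_lit 0,nat_lit 0,nat_lit 0,nat_lit 0,nat_lit 0,nat_lit 0,nat_lit 0,nat_lit 0,nat_lit 0,nat_lit 0,nat_lit 0,nat_lit 0,nat_lit 0,nat_lit 0,nat_lit 0,nat_lit 0,nat_lit 0,nat_lit 0,nat_lit 0,nat_lit 0,nat_lit 0,nat_lit 0,nat_lit 0,nat_lit 0,nat_lit 0,nat_lit 0,nat_lit 0])
) (.node (.node (.leaf [nat_lit 0,nat_lit 1])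
 (.leaf [nat_lit 0,nat_lit 0,nat_lit 0,nat_lit 0,nat_lit 0,nat_lit 2,nat_lit 1,nat_lit 1,nat_lit 1,nat_lit 2,nat_lit 1,nat_lit 1,nat_lit 2])
) (.leaf [nat_lit 2,nat_lit 2])
))
noncomputable def l32b_inv : ℕ → ℕ := getP (nat_lit 8) (nat_lit 255) (nat_lit 0x20001)
noncomputable def l32b_pi : ℕ → ℕ := getP (nat_lit 16) (nat_lit 65535) (nat_lit 0x300010001)

noncomputable def l32b_L_t : BT :=
(.node (.node (.leaf (nat_lit 0x3fe))
 (.leaf (nat_lit 0x3fe))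
) (.node (.leaf (nat_lit 0x3fe))
 (.leaf (nat_lit 0))
))

noncomputable def l32b_L_rules : LT :=
(.leaf [nat_lit 0,nat_lit 3,nat_lit 0,nat_lit 0,nat_lit 2,nat_lit 2])


noncomputable def l32b_L_R : LT :=
(.leaf [nat_lit 0,nat_lit 0,nat_lit 0])


noncomputable def l32b_C : LC :=
  ⟨⟨fun x c => Nat.shiftRight (BT.get l32b_L_t x) (Nat.mul (nat_lit 31) c),
  (nat_lit 1), (nat_lit 1), (nat_lit 1023), (nat_lit 10), (nat_lit 7), (nat_lit 1022), (nat_lit 0), (nat_lit 1), (nat_lit 3), (nat_lit 2), (nat_lit 0), (nat_lit 3), l32b_inv, l32b_L_rules, .leaf []⟩,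
  (nat_lit 13), (nat_lit 0x1041), (nat_lit 0x3ffff), (nat_lit 6), (nat_lit 3), (nat_lit 1), (nat_lit 3), (nat_lit 1), (nat_lit 63), (nat_lit 31), l32b_pi, l32b_rels, l32b_L_R⟩

noncomputable def l32b_U_t : BT :=
(.node (.node (.node (.leaf (nat_lit 0x2179b00175f00155c0013d40012d30011d200125a04159e04141d020e91001058000e56000c4c000b4b041099040f17000949040d150008ce0007470009cf040a1012058604078d02040500034304060a0404880001c10402040401020e0000))
 (.leaf (nat_lit 0x1c09a01c01801c01701805401805301805201801101809001801001808f01800e01408c01404c01404b01408a01400a01404901408801400801004701008601000501008401000400c08300c04300c08200c002008041008001004080000000))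
) (.leaf (nat_lit 0x16daa2161c92149700165e42131504169f621113000fd00014dd000dcf00135b000ccc001159420b8d000aca040f98040d96000848000bd2040c940006c6040a9100054404080e0003c304068b0002c20405090403870402850000c0040081))
) (.node (.leaf (nat_lit 0x52171e0015d800145782151d0017df7212190010d1221015000f50520e14000d4e04139c04129b04119a000ed6000a4a32098b22088d0007c8040c13040b1200064504090f0004c404070c0005c90004470002420403060001410401830e0040))
 (.leaf (nat_lit 0x1ffc001ffc001ffc001ffc001ffc001ffc001ffc001ffc001ffc001ffc001ffc001ffc001ffc001ffc001ffc001ffc001ffc001ffc001ffc001ffc001ffc001ffc001ffc001ffc001ffc001ffc001ffc001ffc001ffc001ffc001ffc001ffc0))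
))

noncomputable def l32b_U_rules : LT :=
(.node (.node (.node (.node (.leaf [nat_lit 4,nat_lit 3,nat_lit 1,nat_lit 0,nat_lit 2,nat_lit 0,nat_lit 2,nat_lit 1,nat_lit 2,nat_lit 0,nat_lit 2])
 (.leaf [nat_lit 5,nat_lit 4,nat_lit 1,nat_lit 1,nat_lit 0,nat_lit 0,nat_lit 2,nat_lit 1,nat_lit 1,nat_lit 1,nat_lit 1,nat_lit 1,nat_lit 2,nat_lit 0,nat_lit 0,nat_lit 2])
) (.leaf [nat_lit 4,nat_lit 4,nat_lit 1,nat_lit 2,nat_lit 0,nat_lit 2,nat_lit 1,nat_lit 2,nat_lit 0,nat_lit 2,nat_lit 1])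
) (.node (.node (.leaf [nat_lit 5,nat_lit 4,nat_lit 0,nat_lit 1,nat_lit 2,nat_lit 1,nat_lit 1,nat_lit 1,nat_lit 2,nat_lit 1,nat_lit 1,nat_lit 2,nat_lit 0,nat_lit 0,nat_lit 0,nat_lit 0])
 (.leaf [nat_lit 4,nat_lit 6,nat_lit 1,nat_lit 2,nat_lit 1,nat_lit 2,nat_lit 0,nat_lit 2,nat_lit 1,nat_lit 2,nat_lit 0])
) (.leaf [nat_lit 5,nat_lit 9,nat_lit 0,nat_lit 2,nat_lit 1,nat_lit 1,nat_lit 2,nat_lit 0,nat_lit 0,nat_lit 0,nat_lit 0,nat_lit 0,nat_lit 2,nat_lit 1,nat_lit 1,nat_lit 1])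
)) (.node (.node (.node (.leaf [nat_lit 5,nat_lit 8,nat_lit 0,nat_lit 0,nat_lit 2,nat_lit 1,nat_lit 1,nat_lit 2,nat_lit 0,nat_lit 0,nat_lit 0,nat_lit 0,nat_lit 0,nat_lit 2,nat_lit 1,nat_lit 1])
 (.leaf [nat_lit 5,nat_lit 7,nat_lit 1,nat_lit 2,nat_lit 1,nat_lit 1,nat_lit 1,nat_lit 1,nat_lit 1,nat_lit 2,nat_lit 0,nat_lit 0,nat_lit 2,nat_lit 0,nat_lit 0,nat_lit 0])
) (.leaf [nat_lit 4,nat_lit 5,nat_lit 1,nat_lit 1,nat_lit 2,nat_lit 1,nat_lit 2,nat_lit 0,nat_lit 2,nat_lit 1,nat_lit 2])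
) (.node (.leaf [nat_lit 5,nat_lit 1,nat_lit 1,nat_lit 1,nat_lit 0,nat_lit 2,nat_lit 0,nat_lit 0,nat_lit 0,nat_lit 2,nat_lit 1,nat_lit 1,nat_lit 1,nat_lit 1,nat_lit 1,nat_lit 2])
 (.leaf [nat_lit 5,nat_lit 5,nat_lit 1,nat_lit 1,nat_lit 0,nat_lit 2,nat_lit 1,nat_lit 1,nat_lit 1,nat_lit 1,nat_lit 1,nat_lit 2,nat_lit 0,nat_lit 0,nat_lit 2,nat_lit 0])
)))

noncomputable def l32b_U_subs : LT :=
(.leaf [nat_lit 0,nat_lit 0,nat_lit 0,nat_lit 3])


noncomputable def l32b_U : TC :=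
  ⟨fun x c => Nat.shiftRight (BT.get l32b_U_t x) (Nat.mul (nat_lit 24) c),
  (nat_lit 6), (nat_lit 63), (nat_lit 131071), (nat_lit 17), (nat_lit 127), (nat_lit 131008), (nat_lit 32), (nat_lit 32), (nat_lit 3), (nat_lit 2), (nat_lit 3), (nat_lit 4), l32b_inv, l32b_U_rules, l32b_U_subs⟩

noncomputable def l32p_rels : LT :=
(.node (.node (.node (.node (.leaf [])
 (.leaf [nat_lit 2,nat_lit 3,nat_lit 2,nat_lit 3,nat_lit 2,nat_lit 3])
) (.leaf [nat_lit 0,nat_lit 2,nat_lit 1,nat_lit 2,nat_lit 0,nat_lit 2,nat_lit 1,nat_lit 2])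
) (.node (.leaf [nat_lit 0,nat_lit 0,nat_lit 0,nat_lit 0,nat_lit 0,nat_lit 0,nat_lit 0,nat_lit 0,nat_lit 0,nat_lit 0,nat_lit 0,nat_lit 0,nat_lit 0,nat_lit 0,nat_lit 0,nat_lit 0,nat_lit 0,nat_lit 0,nat_lit 0,nat_lit 0,nat_lit 0,nat_lit 0,nat_lit 0,nat_lit 0,nat_lit 0,nat_lit 0,nat_lit 0,nat_lit 0,nat_lit 0,nat_lit 0,nat_lit 0])
 (.leaf [nat_lit 3,nat_lit 3])
)) (.node (.node (.leaf [nat_lit 0,nat_lit 1])
 (.leaf [nat_lit 0,nat_lit 0,nat_lit 0,nat_lit 0,nat_lit 0,nat_lit 2,nat_lit 1,nat_lit 1,nat_lit 1,nat_lit 2,nat_lit 1,nat_lit 1,nat_lit 2])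
) (.node (.leaf [nat_lit 2,nat_lit 2])
 (.leaf [nat_lit 0,nat_lit 3,nat_lit 0,nat_lit 3])
)))
noncomputable def l32p_inv : ℕ → ℕ := getP (nat_lit 8) (nat_lit 255) (nat_lit 0x3020001)
noncomputable def l32p_pi : ℕ → ℕ := getP (nat_lit 16) (nat_lit 65535) (nat_lit 0x6000300010001)

noncomputable def l32p_L_t : BT :=
(.node (.node (.node (.leaf (nat_lit 0x3fe))
 (.leaf (nat_lit 0))
) (.leaf (nat_lit 0x3fe))
) (.node (.leaf (nat_lit 0x3fe))
 (.leaf (nat_lit 0x3fe))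
))

noncomputable def l32p_L_rules : LT :=
(.leaf [nat_lit 0,nat_lit 6,nat_lit 0,nat_lit 0,nat_lit 3,nat_lit 3])


noncomputable def l32p_L_R : LT :=
(.leaf [nat_lit 0,nat_lit 0,nat_lit 0])


noncomputable def l32p_C : LC :=
  ⟨⟨fun x c => Nat.shiftRight (BT.get l32p_L_t x) (Nat.mul (nat_lit 31) c),
  (nat_lit 1), (nat_lit 1), (nat_lit 1023), (nat_lit 10), (nat_lit 7), (nat_lit 1022), (nat_lit 0), (nat_lit 1), (nat_lit 4), (nat_lit 3), (nat_lit 0), (nat_lit 4), l32p_inv, l32p_L_rules, .leaf []⟩,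
  (nat_lit 13), (nat_lit 0x1041), (nat_lit 0x3ffff), (nat_lit 6), (nat_lit 3), (nat_lit 1), (nat_lit 6), (nat_lit 1), (nat_lit 63), (nat_lit 31), l32p_pi, l32p_rels, l32p_L_R⟩

noncomputable def l32p_U_t : BT :=
(.node (.node (.node (.leaf (nat_lit 0x32209d001ad6001955001cdf001a5e00206032161400175b001d570015da00124e00114d04179ca21e0c000eca041419000e510013d8000ac8000fd2000bcf041013520807040c9032068600054404090b0407090003420404050402830201410e0000))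
 (.leaf (nat_lit 0x1ffc001ffc001ffc001ffc001ffc001ffc001ffc001ffc001ffc001ffc001ffc001ffc001ffc001ffc001ffc001ffc001ffc001ffc001ffc001ffc001ffc001ffc001ffc001ffc001ffc001ffc001ffc001ffc001ffc001ffc001ffc001ffc001ffc0))
) (.leaf (nat_lit 0x1f58b21b19001dddb21d9ed218160016d3001552001b5f041f200012ce00185cb211900010cb04169b04151a000d490011d5720c0c041297000a47000c4f0410940007c5040d11000644040a0d0004c304078a0406080404860002010401c20e0080))
) (.node (.node (.leaf (nat_lit 0xc2201b621c9de21a1c0020e00017d4821719c2159700145162138f621d18041a9f04191e00165a00104b920f8d820e10000cc9620b8c041216041115001e53000946040e92000745040a8e00084a0006c80004430405070002c20403040001810e0040))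
 (.leaf (nat_lit 0x1c09801c05601c05501c0d401c01401c09301c09201c0110180ce01808e01804e01804d01808b01800b01804a0180890180090140c80140480140870140c601400601408501400501008401004401008301000300c04200c0020080810040c0000000))
) (.leaf (nat_lit 0x121f9c001bda22199b0018d4001fe00019de121b9f42149500134e001c56421c170014d904189d121e8b220f10120d8d000f52000b48041318000dd10009c6001ed30008c942088a040b0f22058504098c0005c72203830003c41202420001000400c1))
))

noncomputable def l32p_U_rules : LT :=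
(.node (.node (.node (.node (.leaf [nat_lit 7,nat_lit 1,nat_lit 1,nat_lit 0,nat_lit 3,nat_lit 1,nat_lit 3])
 (.leaf [nat_lit 5,nat_lit 4,nat_lit 0,nat_lit 1,nat_lit 2,nat_lit 1,nat_lit 1,nat_lit 1,nat_lit 2,nat_lit 1,nat_lit 1,nat_lit 2,nat_lit 0,nat_lit 0,nat_lit 0,nat_lit 0])
) (.node (.leaf [nat_lit 7,nat_lit 0,nat_lit 1,nat_lit 3,nat_lit 1,nat_lit 3,nat_lit 1])
 (.leaf [nat_lit 4,nat_lit 5,nat_lit 1,nat_lit 1,nat_lit 2,nat_lit 1,nat_lit 2,nat_lit 0,nat_lit 2,nat_lit 1,nat_lit 2])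
)) (.node (.node (.leaf [nat_lit 7,nat_lit 1,nat_lit 0,nat_lit 3,nat_lit 0,nat_lit 3,nat_lit 0])
 (.leaf [nat_lit 5,nat_lit 11,nat_lit 1,nat_lit 0,nat_lit 1,nat_lit 2,nat_lit 0,nat_lit 0,nat_lit 2,nat_lit 0,nat_lit 0,nat_lit 0,nat_lit 2,nat_lit 1,nat_lit 1,nat_lit 1])
) (.node (.leaf [nat_lit 7,nat_lit 2,nat_lit 0,nat_lit 1,nat_lit 3,nat_lit 0,nat_lit 3])
 (.leaf [nat_lit 5,nat_lit 5,nat_lit 1,nat_lit 1,nat_lit 0,nat_lit 2,nat_lit 1,nat_lit 1,nat_lit 1,nat_lit 1,nat_lit 1,nat_lit 2,nat_lit 0,nat_lit 0,nat_lit 2,nat_lit 0])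
))) (.node (.node (.node (.leaf [nat_lit 8,nat_lit 4,nat_lit 1,nat_lit 3,nat_lit 2,nat_lit 3,nat_lit 2,nat_lit 3,nat_lit 2])
 (.leaf [nat_lit 5,nat_lit 1,nat_lit 1,nat_lit 1,nat_lit 0,nat_lit 2,nat_lit 0,nat_lit 0,nat_lit 0,nat_lit 2,nat_lit 1,nat_lit 1,nat_lit 1,nat_lit 1,nat_lit 1,nat_lit 2])
) (.node (.leaf [nat_lit 5,nat_lit 8,nat_lit 0,nat_lit 0,nat_lit 2,nat_lit 1,nat_lit 1,nat_lit 2,nat_lit 0,nat_lit 0,nat_lit 0,nat_lit 0,nat_lit 0,nat_lit 2,nat_lit 1,nat_lit 1])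
 (.leaf [nat_lit 5,nat_lit 9,nat_lit 0,nat_lit 2,nat_lit 1,nat_lit 1,nat_lit 2,nat_lit 0,nat_lit 0,nat_lit 0,nat_lit 0,nat_lit 0,nat_lit 2,nat_lit 1,nat_lit 1,nat_lit 1])
)) (.node (.node (.leaf [nat_lit 4,nat_lit 3,nat_lit 1,nat_lit 0,nat_lit 2,nat_lit 0,nat_lit 2,nat_lit 1,nat_lit 2,nat_lit 0,nat_lit 2])
 (.leaf [nat_lit 4,nat_lit 4,nat_lit 1,nat_lit 2,nat_lit 0,nat_lit 2,nat_lit 1,nat_lit 2,nat_lit 0,nat_lit 2,nat_lit 1])
) (.leaf [nat_lit 8,nat_lit 3,nat_lit 1,nat_lit 2,nat_lit 3,nat_lit 2,nat_lit 3,nat_lit 2,nat_lit 3])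
)))

noncomputable def l32p_U_subs : LT :=
(.leaf [nat_lit 0,nat_lit 0,nat_lit 0,nat_lit 4])


noncomputable def l32p_U : TC :=
  ⟨fun x c => Nat.shiftRight (BT.get l32p_U_t x) (Nat.mul (nat_lit 24) c),
  (nat_lit 6), (nat_lit 63), (nat_lit 131071), (nat_lit 17), (nat_lit 127), (nat_lit 131008), (nat_lit 33), (nat_lit 33), (nat_lit 4), (nat_lit 3), (nat_lit 4), (nat_lit 5), l32p_inv, l32p_U_rules, l32p_U_subs⟩

theorem l32c_b : l32c_C.base = true := by decide +kernel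

theorem l32c_s0 : l32c_C.slots (nat_lit 0) (nat_lit 1) = true := by decide +kernel

theorem l32c_U_c1 : l32c_U.rules.all (ruleOK l32c_U.m l32c_U.inv l32c_rels) = true := by decide +kernel
theorem l32c_U_c2 : l32c_U.subs.all (subOK l32c_U.m l32c_U.inv (LT.leaf [])) = true := by decide +kernel
theorem l32c_U_c3 : l32c_U.base = true := by decide +kernel

theorem l32c_U_s0 : l32c_U.slots (nat_lit 0) (nat_lit 31) = true := by decide +kernel

theorem l32c_U_c6 : l32c_U.rules.all (fun l => goodB (nat_lit 1) (nat_lit 2) l32c_U.mH l32c_rels (hdL l)) = true := by decide +kernel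

theorem l32b_b : l32b_C.base = true := by decide +kernel

theorem l32b_s0 : l32b_C.slots (nat_lit 0) (nat_lit 1) = true := by decide +kernel

theorem l32b_U_c1 : l32b_U.rules.all (ruleOK l32b_U.m l32b_U.inv l32b_rels) = true := by decide +kernel
theorem l32b_U_c2 : l32b_U.subs.all (subOK l32b_U.m l32b_U.inv (LT.leaf [])) = true := by decide +kernel
theorem l32b_U_c3 : l32b_U.base = true := by decide +kernel

theorem l32b_U_s0 : l32b_U.slots (nat_lit 0) (nat_lit 32) = true := by decide +kernel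

theorem l32b_U_c6 : l32b_U.rules.all (fun l => goodB (nat_lit 3) (nat_lit 3) l32b_U.mH l32b_rels (hdL l)) = true := by decide +kernel

theorem l32p_b : l32p_C.base = true := by decide +kernel

theorem l32p_s0 : l32p_C.slots (nat_lit 0) (nat_lit 1) = true := by decide +kernel

theorem l32p_U_c1 : l32p_U.rules.all (ruleOK l32p_U.m l32p_U.inv l32p_rels) = true := by decide +kernel
theorem l32p_U_c2 : l32p_U.subs.all (subOK l32p_U.m l32p_U.inv (LT.leaf [])) = true := by decide +kernel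
theorem l32p_U_c3 : l32p_U.base = true := by decide +kernel

theorem l32p_U_s0 : l32p_U.slots (nat_lit 0) (nat_lit 33) = true := by decide +kernel

theorem l32p_U_c6 : l32p_U.rules.all (fun l => goodB (nat_lit 6) (nat_lit 3) l32p_U.mH l32p_rels (hdL l)) = true := by decide +kernel

theorem l32c_up : l32c_C.Upto l32c_C.T.N := ((LC.upto_zero l32c_C).step _ l32c_s0)

theorem l32c_U_c4 : l32c_U.Upto l32c_U.N := ((TC.upto_zero l32c_U).step _ l32c_U_s0)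
theorem l32c_U_c5 : l32c_U.UptoE l32c_U.N := (TC.uptoE_n l32c_U)

theorem l32c_idx : Idx.{u} l32c_rels (nat_lit 1) (nat_lit 2) l32c_inv (nat_lit 0) (nat_lit 2) (nat_lit 31) :=
  idx_of_tc l32c_U_c1 l32c_U_c2 l32c_U_c3 l32c_U_c4 l32c_U_c5 l32c_U_c6

theorem l32c_bnd {G : Type u} [Group G] {g : ℕ → G} (h : ∀ i, evalW g (l32c_rels.get i) = 1) : Bnd g 2 31 :=
  Bnd.step (C := l32c_C) h (bnd_zero g) l32c_b l32c_idx

theorem l32b_up : l32b_C.Upto l32b_C.T.N := ((LC.upto_zero l32b_C).step _ l32b_s0)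

theorem l32b_U_c4 : l32b_U.Upto l32b_U.N := ((TC.upto_zero l32b_U).step _ l32b_U_s0)
theorem l32b_U_c5 : l32b_U.UptoE l32b_U.N := (TC.uptoE_n l32b_U)

theorem l32b_idx : Idx.{u} l32b_rels (nat_lit 3) (nat_lit 3) l32b_inv (nat_lit 2) (nat_lit 3) (nat_lit 32) :=
  idx_of_tc l32b_U_c1 l32b_U_c2 l32b_U_c3 l32b_U_c4 l32b_U_c5 l32b_U_c6

theorem l32b_low {G : Type u} [Group G] {g : ℕ → G} (h : ∀ i, evalW g (l32b_rels.get i) = 1) : ∀ i, evalW g (l32c_rels.get i) = 1 :=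
  rels_of_sub (by decide +kernel) h

theorem l32b_bnd {G : Type u} [Group G] {g : ℕ → G} (h : ∀ i, evalW g (l32b_rels.get i) = 1) : Bnd g 3 992 :=
  Bnd.step (C := l32b_C) h (l32c_bnd (l32b_low h)) l32b_b l32b_idx

theorem l32p_up : l32p_C.Upto l32p_C.T.N := ((LC.upto_zero l32p_C).step _ l32p_s0)

theorem l32p_U_c4 : l32p_U.Upto l32p_U.N := ((TC.upto_zero l32p_U).step _ l32p_U_s0)
theorem l32p_U_c5 : l32p_U.UptoE l32p_U.N := (TC.uptoE_n l32p_U)

theorem l32p_idx : Idx.{u} l32p_rels (nat_lit 6) (nat_lit 3) l32p_inv (nat_lit 3) (nat_lit 4) (nat_lit 33) :=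
  idx_of_tc l32p_U_c1 l32p_U_c2 l32p_U_c3 l32p_U_c4 l32p_U_c5 l32p_U_c6

theorem l32p_low {G : Type u} [Group G] {g : ℕ → G} (h : ∀ i, evalW g (l32p_rels.get i) = 1) : ∀ i, evalW g (l32b_rels.get i) = 1 :=
  rels_of_sub (by decide +kernel) h

theorem l32p_bnd {G : Type u} [Group G] {g : ℕ → G} (h : ∀ i, evalW g (l32p_rels.get i) = 1) : Bnd g 4 32736 :=
  Bnd.step (C := l32p_C) h (l32b_bnd (l32p_low h)) l32p_b l32p_idx


end Cfsg.Agent.Spor.MX
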