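import Mathlib
import Cfsg.Agent.Spor.Comp.Pres

/-! Generated by tools/pg: stabiliser chain l32k -/

set_option autoImplicit false
set_option maxRecDepth 100000
set_option linter.unusedVariables false
set_option exponentiation.threshold 100000

namespace Cfsg.Agent.Spor.MX

open Cfsg.Agent.Spor

noncomputable def l32k_S_t0 : BT :=
(.node (.node (.node (.node (.leaf (nat_lit 0x81724119050c35c2df09179d58e1d528f0c54da6c4658212))
 (.leaf (nat_lit 0x172cc60a59524e4913533d050669915b1c871f0c480279d040))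
) (.leaf (nat_lit 0x720518310108f40d38b30929761559351149f81d79b719680))
) (.node (.leaf (nat_lit 0x1f5114161460c278f3191c049a28e5d854b74135b204253720))
 (.leaf (nat_lit 0x81420cc24e3e075a6d44565d349561f79970b28d407181100))
)) (.node (.node (.leaf (nat_lit 0x151da64c79080d45400a39b10b7c65c375360f58521c081252))
 (.leaf (nat_lit 0x1830b5c955628d45239440f4c565a19c2076e01037c175e080))
) (.node (.leaf (nat_lit 0x193db2c449e7493478162805da21361c4140457ce191303095))
 (.leaf (nat_lit 0x520308930f39d81b6915175924d855e7dc64a2d03461c4040))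
)))

noncomputable def l32k_S_t : BT :=
l32k_S_t0

noncomputable def l32k_S : ℕ → ℕ → ℕ := fun x i => Nat.land (Nat.shiftRight (BT.get l32k_S_t x) (Nat.mul (nat_lit 6) i)) (nat_lit 63)

noncomputable def l32k_defs : LT :=
(.node (.node (.node (.node (.leaf [nat_lit 0])
 (.leaf [nat_lit 1,nat_lit 7])
) (.leaf [nat_lit 0,nat_lit 1,nat_lit 0,nat_lit 3,nat_lit 2,nat_lit 3,nat_lit 2])
) (.node (.leaf [nat_lit 1,nat_lit 0])
 (.leaf [nat_lit 1,nat_lit 5])
)) (.node (.node (.leaf [nat_lit 0])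
 (.leaf [nat_lit 0,nat_lit 0,nat_lit 1,nat_lit 2,nat_lit 2,nat_lit 2,nat_lit 2])
) (.node (.leaf [nat_lit 1,nat_lit 1])
 (.leaf [nat_lit 0,nat_lit 5,nat_lit 4,nat_lit 6,nat_lit 4,nat_lit 6,nat_lit 4])
)))
noncomputable def l32k_iota : ℕ → ℕ := getP (nat_lit 8) (nat_lit 255) (nat_lit 0x3010200040807)
noncomputable def l32k_inv : ℕ → ℕ := getP (nat_lit 8) (nat_lit 255) (nat_lit 0x5060304020001)
noncomputable def l32k_hws : LT := .leaf []

noncomputable def l32k_T_t0 : BT :=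
(.node (.node (.node (.leaf (nat_lit 0x520308930f39d81b6915175924d855e7dc64a2d03461c4040))
 (.leaf (nat_lit 0x1f5114161460c278f3191c049a28e5d854b74135b204253720))
) (.node (.leaf (nat_lit 0x720518310108f40d38b30929761559351149f81d79b719680))
 (.leaf (nat_lit 0x193db2c449e7493478162805da21361c4140457ce191303095))
)) (.node (.node (.leaf (nat_lit 0x172cc60a59524e4913533d050669915b1c871f0c480279d040))
 (.leaf (nat_lit 0x151da64c79080d45400a39b10b7c65c375360f58521c081252))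
) (.leaf (nat_lit 0x81724119050c35c2df09179d58e1d528f0c54da6c4658212))
))

noncomputable def l32k_T_t : BT :=
l32k_T_t0

noncomputable def l32k_T : ℕ → ℕ → ℕ := fun x i => Nat.land (Nat.shiftRight (BT.get l32k_T_t x) (Nat.mul (nat_lit 6) i)) (nat_lit 63)

noncomputable def l32k_E_t0 : BT :=
(.node (.node (.leaf (nat_lit 0x203181900c8084001830c0460a406180900440a40020208106083002028c0860030318210086044031811000602406202100880a100))
 (.leaf (nat_lit 0x70150038004007008002c04a00300300c005402e016809405e024016009001202f005802000c009006000c050022016800400000000))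
) (.leaf (nat_lit 0x6003809804a027003000808a0040238014086005012009c08c0270118090088005023011c08c008003801808a007023809804200000))
)

noncomputable def l32k_E_t : BT :=
l32k_E_t0

noncomputable def l32k_E : ℕ → ℕ → ℕ := fun x i => Nat.land (Nat.shiftRight (BT.get l32k_E_t x) (Nat.mul (nat_lit 13) i)) (nat_lit 8191)

theorem l32k_slp0 : allLt (nat_lit 7) (fun i => force (Nat.add (nat_lit 2) i) (slpOK l32k_S l32k_defs (nat_lit 33))) = true := by decide +kernel

theorem l32k_ren : allLt (nat_lit 7) (fun x => force (l32k_iota x) fun y => band (blt y (nat_lit 9)) (allRange (nat_lit 0) (nat_lit 33) fun i => Nat.beq (l32k_S y i) (l32k_T x i))) = true := by decide +kernel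

theorem l32k_L2_o : band (allRange (nat_lit 0) (nat_lit 33) (orbOK l32k_T (nat_lit 2) (l32k_E (nat_lit 2)) (Nat.beq (nat_lit 2)))) (band (Nat.ble (nat_lit 31) (count2 (nat_lit 33) fun p => Nat.ble 256 (l32k_E (nat_lit 2) p))) (allLt (nat_lit 0) (fun x => Nat.beq (l32k_T x (nat_lit 2)) (nat_lit 2)))) = true := by decide +kernel

theorem l32k_L1_o : band (allRange (nat_lit 0) (nat_lit 33) (orbOK l32k_T (nat_lit 3) (l32k_E (nat_lit 1)) (Nat.beq (nat_lit 1)))) (band (Nat.ble (nat_lit 32) (count2 (nat_lit 33) fun p => Nat.ble 256 (l32k_E (nat_lit 1) p))) (allLt (nat_lit 2) (fun x => Nat.beq (l32k_T x (nat_lit 1)) (nat_lit 1)))) = true := by decide +kernel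

theorem l32k_L0_o : band (allRange (nat_lit 0) (nat_lit 33) (orbOK l32k_T (nat_lit 7) (l32k_E (nat_lit 0)) (Nat.beq (nat_lit 0)))) (band (Nat.ble (nat_lit 33) (count2 (nat_lit 33) fun p => Nat.ble 256 (l32k_E (nat_lit 0) p))) (allLt (nat_lit 3) (fun x => Nat.beq (l32k_T x (nat_lit 0)) (nat_lit 0)))) = true := by decide +kernel

/-- The letters: a strong generating set, deepest stabiliser first. -/
noncomputable def l32k_g {G : Type*} [Group G] (a : ℕ → G) : ℕ → G := fun x => slp a 2 l32k_defs (l32k_iota x)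

theorem l32k_tabs {G α : Type*} [Group G] [MulAction G α] {e : ℕ → α} {a : ℕ → G} (h0 : Tabs e 33 l32k_S a 2) : Tabs e 33 l32k_T (l32k_g a) 7 :=
  Tabs.rename (ι := l32k_iota) (g := slp a 2 l32k_defs) ((Tabs.slp_base l32k_defs h0).slp_add (by decide) _ l32k_slp0) l32k_ren

theorem l32k_gen {G : Type*} [Group G] (a : ℕ → G) : genLt (l32k_g a) 7 = genLt a 2 :=
  genLt_slp_eq a l32k_defs (back := getP 8 255 (nat_lit 0x503)) (by decide +kernel)

theorem l32k_low2 {G α : Type*} [Group G] [MulAction G α] {e : ℕ → α} {a : ℕ → G} (he : Set.InjOn e (Set.Iio 33)) (h0 : Tabs e 33 l32k_S a 2) :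
    LowLevel (genLt (l32k_g a) 2) (genLt (l32k_g a) 0) (e 2) 31 :=
  Tabs.lowLevel (l32k_tabs h0) he (by decide) (by decide) (by decide) l32k_L2_o

theorem l32k_ge2 {G α : Type*} [Group G] [MulAction G α] {e : ℕ → α} {a : ℕ → G} (he : Set.InjOn e (Set.Iio 33)) (h0 : Tabs e 33 l32k_S a 2) :
    Finite (genLt (l32k_g a) 2) → 31 ≤ Nat.card (genLt (l32k_g a) 2) := fun hK =>
  (l32k_low2 he h0).card hK (one_le_card_fin _)

theorem l32k_fix2 {G α : Type*} [Group G] [MulAction G α] {e : ℕ → α} {a : ℕ → G} (he : Set.InjOn e (Set.Iio 33)) (h0 : Tabs e 33 l32k_S a 2) :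
    ∀ X : Subgroup G, Finite X → (genLt (l32k_g a) 2) ≤ X → 31 * Nat.card (fixB e X [2]) ≤ Nat.card X :=
  (l32k_low2 he h0).card_fix (card_fix_nil _ _)

theorem l32k_low1 {G α : Type*} [Group G] [MulAction G α] {e : ℕ → α} {a : ℕ → G} (he : Set.InjOn e (Set.Iio 33)) (h0 : Tabs e 33 l32k_S a 2) :
    LowLevel (genLt (l32k_g a) 3) (genLt (l32k_g a) 2) (e 1) 32 :=
  Tabs.lowLevel (l32k_tabs h0) he (by decide) (by decide) (by decide) l32k_L1_o

theorem l32k_ge1 {G α : Type*} [Group G] [MulAction G α] {e : ℕ → α} {a : ℕ → G} (he : Set.InjOn e (Set.Iio 33)) (h0 : Tabs e 33 l32k_S a 2) :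
    Finite (genLt (l32k_g a) 3) → 992 ≤ Nat.card (genLt (l32k_g a) 3) := fun hK =>
  (l32k_low1 he h0).card hK (l32k_ge2 he h0)

theorem l32k_fix1 {G α : Type*} [Group G] [MulAction G α] {e : ℕ → α} {a : ℕ → G} (he : Set.InjOn e (Set.Iio 33)) (h0 : Tabs e 33 l32k_S a 2) :
    ∀ X : Subgroup G, Finite X → (genLt (l32k_g a) 3) ≤ X → 992 * Nat.card (fixB e X [1, 2]) ≤ Nat.card X :=
  (l32k_low1 he h0).card_fix (l32k_fix2 he h0)

theorem l32k_low0 {G α : Type*} [Group G] [MulAction G α] {e : ℕ → α} {a : ℕ → G} (he : Set.InjOn e (Set.Iio 33)) (h0 : Tabs e 33 l32k_S a 2) :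
    LowLevel (genLt (l32k_g a) 7) (genLt (l32k_g a) 3) (e 0) 33 :=
  Tabs.lowLevel (l32k_tabs h0) he (by decide) (by decide) (by decide) l32k_L0_o

theorem l32k_ge0 {G α : Type*} [Group G] [MulAction G α] {e : ℕ → α} {a : ℕ → G} (he : Set.InjOn e (Set.Iio 33)) (h0 : Tabs e 33 l32k_S a 2) :
    Finite (genLt (l32k_g a) 7) → 32736 ≤ Nat.card (genLt (l32k_g a) 7) := fun hK =>
  (l32k_low0 he h0).card hK (l32k_ge1 he h0)

theorem l32k_fix0 {G α : Type*} [Group G] [MulAction G α] {e : ℕ → α} {a : ℕ → G} (he : Set.InjOn e (Set.Iio 33)) (h0 : Tabs e 33 l32k_S a 2) :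
    ∀ X : Subgroup G, Finite X → (genLt (l32k_g a) 7) ≤ X → 32736 * Nat.card (fixB e X [0, 1, 2]) ≤ Nat.card X :=
  (l32k_low0 he h0).card_fix (l32k_fix1 he h0)

theorem l32k_ub0 {G α : Type*} [Group G] [MulAction G α] {e : ℕ → α} {a : ℕ → G} (he : Set.InjOn e (Set.Iio 33)) (h0 : Tabs e 33 l32k_S a 2) (hub : Nat.card (genLt a 2) ≠ 0 ∧ Nat.card (genLt a 2) ≤ 32736) :
    Nat.card (genLt (l32k_g a) 7) ≠ 0 ∧ Nat.card (genLt (l32k_g a) 7) ≤ 32736 := by rw [l32k_gen]; exact hub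

theorem l32k_level0 {G α : Type*} [Group G] [MulAction G α] {e : ℕ → α} {a : ℕ → G} (he : Set.InjOn e (Set.Iio 33)) (h0 : Tabs e 33 l32k_S a 2) (hub : Nat.card (genLt a 2) ≠ 0 ∧ Nat.card (genLt a 2) ≤ 32736) :
    Level (genLt (l32k_g a) 7) (genLt (l32k_g a) 3) (e 0) 33 :=
  ((l32k_low0 he h0).level (c := 992) (l32k_ub0 he h0 hub) (l32k_ge1 he h0)).1

theorem l32k_ub1 {G α : Type*} [Group G] [MulAction G α] {e : ℕ → α} {a : ℕ → G} (he : Set.InjOn e (Set.Iio 33)) (h0 : Tabs e 33 l32k_S a 2) (hub : Nat.card (genLt a 2) ≠ 0 ∧ Nat.card (genLt a 2) ≤ 32736) :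
    Nat.card (genLt (l32k_g a) 3) ≠ 0 ∧ Nat.card (genLt (l32k_g a) 3) ≤ 992 :=
  ((l32k_low0 he h0).level (c := 992) (l32k_ub0 he h0 hub) (l32k_ge1 he h0)).2

theorem l32k_level1 {G α : Type*} [Group G] [MulAction G α] {e : ℕ → α} {a : ℕ → G} (he : Set.InjOn e (Set.Iio 33)) (h0 : Tabs e 33 l32k_S a 2) (hub : Nat.card (genLt a 2) ≠ 0 ∧ Nat.card (genLt a 2) ≤ 32736) :
    Level (genLt (l32k_g a) 3) (genLt (l32k_g a) 2) (e 1) 32 :=
  ((l32k_low1 he h0).level (c := 31) (l32k_ub1 he h0 hub) (l32k_ge2 he h0)).1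

theorem l32k_ub2 {G α : Type*} [Group G] [MulAction G α] {e : ℕ → α} {a : ℕ → G} (he : Set.InjOn e (Set.Iio 33)) (h0 : Tabs e 33 l32k_S a 2) (hub : Nat.card (genLt a 2) ≠ 0 ∧ Nat.card (genLt a 2) ≤ 32736) :
    Nat.card (genLt (l32k_g a) 2) ≠ 0 ∧ Nat.card (genLt (l32k_g a) 2) ≤ 31 :=
  ((l32k_low1 he h0).level (c := 31) (l32k_ub1 he h0 hub) (l32k_ge2 he h0)).2

theorem l32k_level2 {G α : Type*} [Group G] [MulAction G α] {e : ℕ → α} {a : ℕ → G} (he : Set.InjOn e (Set.Iio 33)) (h0 : Tabs e 33 l32k_S a 2) (hub : Nat.card (genLt a 2) ≠ 0 ∧ Nat.card (genLt a 2) ≤ 32736) :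
    Level (genLt (l32k_g a) 2) (genLt (l32k_g a) 0) (e 2) 31 :=
  ((l32k_low2 he h0).level (c := 1) (l32k_ub2 he h0 hub) (one_le_card_fin _)).1

theorem l32k_card2 {G α : Type*} [Group G] [MulAction G α] {e : ℕ → α} {a : ℕ → G} (he : Set.InjOn e (Set.Iio 33)) (h0 : Tabs e 33 l32k_S a 2) (hub : Nat.card (genLt a 2) ≠ 0 ∧ Nat.card (genLt a 2) ≤ 32736) :
    Nat.card (genLt (l32k_g a) 2) = 31 :=
  (l32k_level2 he h0 hub).card (card_genLt_zero _)

theorem l32k_base2 {G α : Type*} [Group G] [MulAction G α] {e : ℕ → α} {a : ℕ → G} (he : Set.InjOn e (Set.Iio 33)) (h0 : Tabs e 33 l32k_S a 2) (hub : Nat.card (genLt a 2) ≠ 0 ∧ Nat.card (genLt a 2) ≤ 32736) :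
    IsBase e (genLt (l32k_g a) 2) [2] :=
  (l32k_level2 he h0 hub).base (isBase_genLt_zero _ _)

theorem l32k_card1 {G α : Type*} [Group G] [MulAction G α] {e : ℕ → α} {a : ℕ → G} (he : Set.InjOn e (Set.Iio 33)) (h0 : Tabs e 33 l32k_S a 2) (hub : Nat.card (genLt a 2) ≠ 0 ∧ Nat.card (genLt a 2) ≤ 32736) :
    Nat.card (genLt (l32k_g a) 3) = 992 :=
  (l32k_level1 he h0 hub).card (l32k_card2 he h0 hub)

theorem l32k_base1 {G α : Type*} [Group G] [MulAction G α] {e : ℕ → α} {a : ℕ → G} (he : Set.InjOn e (Set.Iio 33)) (h0 : Tabs e 33 l32k_S a 2) (hub : Nat.card (genLt a 2) ≠ 0 ∧ Nat.card (genLt a 2) ≤ 32736) :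
    IsBase e (genLt (l32k_g a) 3) [1, 2] :=
  (l32k_level1 he h0 hub).base (l32k_base2 he h0 hub)

theorem l32k_card0 {G α : Type*} [Group G] [MulAction G α] {e : ℕ → α} {a : ℕ → G} (he : Set.InjOn e (Set.Iio 33)) (h0 : Tabs e 33 l32k_S a 2) (hub : Nat.card (genLt a 2) ≠ 0 ∧ Nat.card (genLt a 2) ≤ 32736) :
    Nat.card (genLt (l32k_g a) 7) = 32736 :=
  (l32k_level0 he h0 hub).card (l32k_card1 he h0 hub)

theorem l32k_base0 {G α : Type*} [Group G] [MulAction G α] {e : ℕ → α} {a : ℕ → G} (he : Set.InjOn e (Set.Iio 33)) (h0 : Tabs e 33 l32k_S a 2) (hub : Nat.card (genLt a 2) ≠ 0 ∧ Nat.card (genLt a 2) ≤ 32736) :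
    IsBase e (genLt (l32k_g a) 7) [0, 1, 2] :=
  (l32k_level0 he h0 hub).base (l32k_base1 he h0 hub)

theorem l32k_hinv {G α : Type*} [Group G] [MulAction G α] {e : ℕ → α} {a : ℕ → G} (he : Set.InjOn e (Set.Iio 33)) (h0 : Tabs e 33 l32k_S a 2) (hub : Nat.card (genLt a 2) ≠ 0 ∧ Nat.card (genLt a 2) ≤ 32736) : ∀ x < 7, l32k_g a x * l32k_g a (l32k_inv x) = 1 :=
  (l32k_tabs h0).hinv_of_base (l32k_base0 he h0 hub) (by decide +kernel)

theorem l32k_card {G α : Type*} [Group G] [MulAction G α] {e : ℕ → α} {a : ℕ → G} (he : Set.InjOn e (Set.Iio 33)) (h0 : Tabs e 33 l32k_S a 2) (hub : Nat.card (genLt a 2) ≠ 0 ∧ Nat.card (genLt a 2) ≤ 32736) :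
    Nat.card (genLt a 2) = 32736 := by
  rw [← l32k_gen]; exact l32k_card0 he h0 hub

end Cfsg.Agent.Spor.MX
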