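import Mathlib
import Cfsg.Agent.Spor.MX.L232
import Cfsg.Agent.Spor.MX.L232Ch
import Cfsg.Agent.Spor.MX.ClLink
import Cfsg.Agent.Cl.GFMid

/-! Generated by tools/mx: letters in L2(32) -/

set_option autoImplicit false
set_option maxRecDepth 100000
set_option linter.unusedVariables false
set_option exponentiation.threshold 100000

namespace Cfsg.Agent.Spor.MX

open Cfsg.Agent.Spor

universe u

noncomputable def l32k_M : ℕ → ℕ := BT.get (.node (.leaf (nat_lit 0x100c191a))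
   (.leaf (nat_lit 0x19191f15))
  )

noncomputable def l32k_P : ℕ → ℕ := getP (nat_lit 16) (nat_lit 65535) (nat_lit 0x1f011e011d011c011b011a0119011801170116011501140113011201110110010f010e010d010c010b010a0109010801070106010501040103010201010100010100)

noncomputable def l32k_A : ℕ → ℕ → ℕ := tabS (.node (.leaf (nat_lit 0xa19170e0b121c05160f01181d040a1309101e07021b150c1f060811140d031a19))
   (.leaf (nat_lit 0x7181c03140b0f10041b1f1b17080c13011e1a05120d0916021d1906110e0a151f))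
  ) (nat_lit 8) (nat_lit 255)

/-- The generators. -/
noncomputable def l32k_a : ℕ → Matrix.ProjectiveSpecialLinearGroup (Fin 2) Cl.GF32 := fun x => QuotientGroup.mk (PM.pick (Equiv.refl (Fin 2)) (slToMat 2 Cl.GF32) (l32k_M x))

/-- The points. -/
noncomputable def l32k_e : ℕ → Submodule Cl.GF32 (Fin 2 → Cl.GF32) := fun i => PM.ptOf Cl.gf32 (Equiv.refl (Fin 2)) (l32k_P i)

/-- The strong letters. -/
noncomputable def l32k_k : ℕ → Matrix.ProjectiveSpecialLinearGroup (Fin 2) Cl.GF32 := l32k_g l32k_a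

noncomputable def l32m_ws : LT :=
(.node (.node (.leaf [nat_lit 0,nat_lit 0,nat_lit 0,nat_lit 0,nat_lit 0,nat_lit 0,nat_lit 0,nat_lit 0,nat_lit 0,nat_lit 0,nat_lit 0,nat_lit 0])
 (.leaf [nat_lit 2,nat_lit 6,nat_lit 4,nat_lit 0,nat_lit 2,nat_lit 0,nat_lit 2,nat_lit 0,nat_lit 0,nat_lit 0,nat_lit 0,nat_lit 0,nat_lit 0])
) (.node (.leaf [nat_lit 1,nat_lit 1,nat_lit 1,nat_lit 1,nat_lit 1,nat_lit 1,nat_lit 1,nat_lit 1,nat_lit 1,nat_lit 1,nat_lit 1,nat_lit 1])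
 (.leaf [nat_lit 6,nat_lit 2,nat_lit 3,nat_lit 0,nat_lit 2,nat_lit 0,nat_lit 2,nat_lit 0,nat_lit 0,nat_lit 0,nat_lit 0,nat_lit 0,nat_lit 0,nat_lit 0,nat_lit 0])
))

noncomputable def l32m_back : LT :=
(.node (.node (.node (.leaf [nat_lit 0,nat_lit 0,nat_lit 0,nat_lit 0,nat_lit 0,nat_lit 0,nat_lit 0,nat_lit 0,nat_lit 0,nat_lit 0,nat_lit 0,nat_lit 0,nat_lit 0])
 (.leaf [nat_lit 0,nat_lit 0,nat_lit 0,nat_lit 0,nat_lit 0,nat_lit 0,nat_lit 0,nat_lit 0,nat_lit 0,nat_lit 0,nat_lit 0,nat_lit 0,nat_lit 0,nat_lit 0,nat_lit 0,nat_lit 2,nat_lit 0,nat_lit 0,nat_lit 0,nat_lit 0,nat_lit 3,nat_lit 2,nat_lit 1,nat_lit 2,nat_lit 1,nat_lit 1])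
) (.node (.leaf [nat_lit 0,nat_lit 0,nat_lit 0,nat_lit 0,nat_lit 0,nat_lit 0,nat_lit 2,nat_lit 0,nat_lit 0,nat_lit 0,nat_lit 3,nat_lit 2,nat_lit 1,nat_lit 1,nat_lit 2,nat_lit 1])
 (.leaf [nat_lit 0,nat_lit 0,nat_lit 0,nat_lit 0,nat_lit 0,nat_lit 0,nat_lit 0,nat_lit 0,nat_lit 0,nat_lit 0,nat_lit 0,nat_lit 0,nat_lit 0,nat_lit 2,nat_lit 0,nat_lit 2,nat_lit 0,nat_lit 3,nat_lit 2,nat_lit 0,nat_lit 0,nat_lit 0])
)) (.node (.node (.leaf [nat_lit 1,nat_lit 1,nat_lit 1,nat_lit 1,nat_lit 1,nat_lit 1,nat_lit 1,nat_lit 1,nat_lit 1,nat_lit 1,nat_lit 1,nat_lit 1,nat_lit 1])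
 (.leaf [nat_lit 0,nat_lit 0,nat_lit 0,nat_lit 0,nat_lit 0,nat_lit 0,nat_lit 0,nat_lit 0,nat_lit 0,nat_lit 0,nat_lit 2,nat_lit 0,nat_lit 2,nat_lit 0,nat_lit 3,nat_lit 2])
) (.leaf [nat_lit 1,nat_lit 1,nat_lit 1,nat_lit 1,nat_lit 1,nat_lit 1,nat_lit 1,nat_lit 1,nat_lit 1,nat_lit 2,nat_lit 0,nat_lit 0,nat_lit 0,nat_lit 2,nat_lit 3,nat_lit 2,nat_lit 0,nat_lit 2,nat_lit 0,nat_lit 0])
))

/-- The letters of the chain. -/
noncomputable def l32m_g : ℕ → Matrix.ProjectiveSpecialLinearGroup (Fin 2) Cl.GF32 := fun x => evalW l32k_k (l32m_ws.get x)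

theorem l32k_p0 : allRange (nat_lit 0) (nat_lit 33) (PM.ptsOK Cl.gf32 (nat_lit 2) (nat_lit 33) l32k_M l32k_P l32k_S l32k_A (nat_lit 0)) = true := by decide +kernel

theorem l32k_p1 : allRange (nat_lit 0) (nat_lit 33) (PM.ptsOK Cl.gf32 (nat_lit 2) (nat_lit 33) l32k_M l32k_P l32k_S l32k_A (nat_lit 1)) = true := by decide +kernel

theorem l32k_srt : allRange 0 33 (fun i => band (Nat.beq (PM.lead Cl.gf32 (l32k_P i) 2) 1)
    (bor (Nat.beq (Nat.succ i) 33) (blt (PM.key Cl.gf32 (l32k_P i) 2) (PM.key Cl.gf32 (l32k_P (Nat.succ i)) 2)))) = true := by decide +kernel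

theorem l32k_det : ∀ x < 2, (PM.matOf Cl.gf32 (Equiv.refl (Fin 2)) (l32k_M x)).det = 1 := by decide +kernel

theorem l32m_k0 : allRange (nat_lit 0) (nat_lit 7) (backB l32k_T l32m_ws l32m_back [nat_lit 0,nat_lit 1,nat_lit 2]) = true := by decide +kernel

theorem l32m_r2 : fixAll (tabW l32k_T l32m_ws) l32p_rels (nat_lit 2) = true := by decide +kernel

theorem l32m_r1 : fixAll (tabW l32k_T l32m_ws) l32p_rels (nat_lit 1) = true := by decide +kernel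

theorem l32m_r0 : fixAll (tabW l32k_T l32m_ws) l32p_rels (nat_lit 0) = true := by decide +kernel

theorem l32k_cardG : Nat.card (Matrix.ProjectiveSpecialLinearGroup (Fin 2) Cl.GF32) = 32736 := by
  have h := Cl.card_psl_two_mul (F := Cl.GF32)
  rw [Cl.natCard_GF32, show Nat.gcd 2 (32 - 1) = 1 by norm_num] at h
  omega

noncomputable local instance l32k_act : MulAction (Matrix.ProjectiveSpecialLinearGroup (Fin 2) Cl.GF32) (Submodule Cl.GF32 (Fin 2 → Cl.GF32)) := PM.pslAct 2 Cl.GF32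

theorem l32k_h0 : Tabs l32k_e 33 l32k_S l32k_a 2 :=
  Cl.Sm.tabs_psl l32k_det (Nat.forall_lt_succ_right.2 ⟨(Nat.forall_lt_succ_right.2 ⟨(fun _ h => absurd h (Nat.not_lt_zero _)), l32k_p0⟩), l32k_p1⟩)

theorem l32k_he : Set.InjOn l32k_e (Set.Iio 33) := PM.injOn_pts (Equiv.refl (Fin 2)) l32k_srt

theorem l32k_ktabs : Tabs l32k_e 33 l32k_T l32k_k 7 := l32k_tabs l32k_h0

theorem l32k_basek : IsBase l32k_e (genLt l32k_k 7) [0, 1, 2] := l32k_base0 l32k_he l32k_h0 (hub_of_card _ _ l32k_cardG)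

theorem l32k_topk : genLt l32k_k 7 = ⊤ := top_of_chain l32k_cardG (l32k_gen _) (l32k_card l32k_he l32k_h0 (hub_of_card _ _ l32k_cardG))

theorem l32m_tabs : Tabs l32k_e 33 (tabW l32k_T l32m_ws) l32m_g 4 := tabs_tabW l32k_ktabs (by decide +kernel) 4

theorem l32m_eq : genLt l32m_g 4 = genLt l32k_k 7 :=
  genLt_tabW l32k_ktabs l32k_basek (back := l32m_back) (by decide +kernel) (range_append _ (allLt_of_zero _) l32m_k0 rfl)

theorem l32m_base : IsBase l32k_e (genLt l32m_g 4) [0, 1, 2] := l32m_eq ▸ l32k_basek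

theorem l32m_gen : Gen ⊤ l32m_g l32p_rels 4 32736 :=
  gen_of_fixAll l32m_tabs (l32m_eq.trans l32k_topk) (l32k_topk ▸ l32k_basek) (Subgroup.card_top.trans l32k_cardG) (by decide +kernel) (forall_mem_cons' l32m_r0 (forall_mem_cons' l32m_r1 (forall_mem_cons' l32m_r2 forall_mem_nil')))


end Cfsg.Agent.Spor.MX
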