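import Mathlib
import Cfsg.Agent.Spor.MX.M22
import Cfsg.Agent.Spor.PC.Golay
import Cfsg.Agent.Spor.Blocks

/-! Generated by tools/mx: letters in M22 -/

set_option autoImplicit false
set_option maxRecDepth 100000
set_option linter.unusedVariables false
set_option exponentiation.threshold 100000

namespace Cfsg.Agent.Spor.MX

open Cfsg.Agent.Spor

universe u

noncomputable def m22w_S_t0 : BT :=
(.node (.node (.node (.node (.node (.leaf (nat_lit 0xbb472806aba1509608e653e6eb1220))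
 (.leaf (nat_lit 0xbc12ba18ad946c79b11553dc418820))
) (.leaf (nat_lit 0xb98a472507b2e745360f1c59590820))
) (.node (.leaf (nat_lit 0xba4cb9b5f08a24ca2ace154a321c20))
 (.leaf (nat_lit 0xbc0ea332364b892451ebaccad18820))
)) (.node (.node (.leaf (nat_lit 0xbd4c84d2c21b9ab2ccef2060a93220))
 (.leaf (nat_lit 0xbbc8c68cc944d4572e5185ab438820))
) (.node (.leaf (nat_lit 0xbc50d63c6aa92d07152614a67a2c20))
 (.leaf (nat_lit 0xbce8d549c7216ab45a0c4be2618820))
))) (.node (.node (.node (.leaf (nat_lit 0xb8e2f2d033312cb81d8d4a1c2aaa40))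
 (.leaf (nat_lit 0xbaeae9c1522d18db4464399e848820))
) (.node (.leaf (nat_lit 0xbc269ac9d65448c5be8831c6d28820))
 (.leaf (nat_lit 0xba9b5b48a93468864ceb811cf18820))
)) (.node (.node (.leaf (nat_lit 0xbc6d250c25439a2612744d5677c0c0))
 (.leaf (nat_lit 0xbb1f3a4232ab916218ed4a8ab18820))
) (.node (.leaf (nat_lit 0xbb5e329acc92e93141352214e89c20))
 (.leaf (nat_lit 0xbb5135bdd63160aa1ea964a2418820))
))))

noncomputable def m22w_S_t : BT :=
m22w_S_t0

noncomputable def m22w_S : ℕ → ℕ → ℕ := fun x i => Nat.land (Nat.shiftRight (BT.get m22w_S_t x) (Nat.mul (nat_lit 5) i)) (nat_lit 31)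

noncomputable def m22w_defs : LT :=
(.node (.node (.node (.node (.node (.leaf [nat_lit 0])
 (.leaf [nat_lit 1,nat_lit 15])
) (.leaf [nat_lit 0,nat_lit 6,nat_lit 6,nat_lit 5,nat_lit 6,nat_lit 5,nat_lit 7,nat_lit 5,nat_lit 7,nat_lit 5,nat_lit 7,nat_lit 7])
) (.node (.leaf [nat_lit 0])
 (.leaf [nat_lit 0,nat_lit 10,nat_lit 5,nat_lit 8])
)) (.node (.node (.leaf [nat_lit 0])
 (.leaf [nat_lit 1,nat_lit 8])
) (.node (.leaf [nat_lit 0,nat_lit 1,nat_lit 2])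
 (.leaf [nat_lit 1,nat_lit 13])
))) (.node (.node (.node (.leaf [nat_lit 0])
 (.leaf [nat_lit 0,nat_lit 7,nat_lit 5,nat_lit 6])
) (.node (.leaf [nat_lit 0,nat_lit 0,nat_lit 0,nat_lit 4,nat_lit 0,nat_lit 4,nat_lit 1,nat_lit 4,nat_lit 1,nat_lit 1])
 (.leaf [nat_lit 0,nat_lit 9,nat_lit 8,nat_lit 8])
)) (.node (.node (.leaf [nat_lit 0])
 (.leaf [nat_lit 0,nat_lit 8,nat_lit 9,nat_lit 10])
) (.node (.leaf [nat_lit 1,nat_lit 6])
 (.leaf [nat_lit 0,nat_lit 11,nat_lit 12,nat_lit 14,nat_lit 11])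
))))
noncomputable def m22w_iota : ℕ → ℕ := getP (nat_lit 8) (nat_lit 255) (nat_lit 0x4030201000706090c0b100f)
noncomputable def m22w_inv : ℕ → ℕ := getP (nat_lit 8) (nat_lit 255) (nat_lit 0xb090a070805060403020001)
noncomputable def m22w_hws : LT := .leaf []

noncomputable def m22w_T_t0 : BT :=
(.node (.node (.node (.node (.leaf (nat_lit 0xbb5135bdd63160aa1ea964a2418820))
 (.leaf (nat_lit 0xb8e2f2d033312cb81d8d4a1c2aaa40))
) (.leaf (nat_lit 0xbaeae9c1522d18db4464399e848820))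
) (.node (.node (.leaf (nat_lit 0xbb1f3a4232ab916218ed4a8ab18820))
 (.leaf (nat_lit 0xbc6d250c25439a2612744d5677c0c0))
) (.leaf (nat_lit 0xbb5e329acc92e93141352214e89c20))
)) (.node (.node (.node (.leaf (nat_lit 0xbc12ba18ad946c79b11553dc418820))
 (.leaf (nat_lit 0xbd4c84d2c21b9ab2ccef2060a93220))
) (.leaf (nat_lit 0xbc50d63c6aa92d07152614a67a2c20))
) (.node (.node (.leaf (nat_lit 0xbc0ea332364b892451ebaccad18820))
 (.leaf (nat_lit 0xba4cb9b5f08a24ca2ace154a321c20))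
) (.leaf (nat_lit 0xbb472806aba1509608e653e6eb1220))
)))

noncomputable def m22w_T_t : BT :=
m22w_T_t0

noncomputable def m22w_T : ℕ → ℕ → ℕ := fun x i => Nat.land (Nat.shiftRight (BT.get m22w_T_t x) (Nat.mul (nat_lit 5) i)) (nat_lit 31)

noncomputable def m22w_E_t0 : BT :=
(.node (.node (.node (.leaf (nat_lit 0xc158430760681d04302616c0585b0380ac12023058028258040660d02080000))
 (.leaf (nat_lit 0x10080000080000000000000000000000008000000000000000))
) (.leaf (nat_lit 0x140180d01a010028250160740201401807001023006050060240420000000000))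
) (.node (.leaf (nat_lit 0xc1181b0160100e03400806c1a0330140cc018130340b00e02b0280a40000000))
 (.leaf (nat_lit 0xc020030160100800301a0000101c0240500e00b03a0300c0010000000000000))
))

noncomputable def m22w_E_t : BT :=
m22w_E_t0

noncomputable def m22w_E : ℕ → ℕ → ℕ := fun x i => Nat.land (Nat.shiftRight (BT.get m22w_E_t x) (Nat.mul (nat_lit 11) i)) (nat_lit 2047)

theorem m22w_slp0 : allLt (nat_lit 12) (fun i => force (Nat.add (nat_lit 5) i) (slpOK m22w_S m22w_defs (nat_lit 24))) = true := by decide +kernel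

theorem m22w_ren : allLt (nat_lit 12) (fun x => force (m22w_iota x) fun y => band (blt y (nat_lit 17)) (allRange (nat_lit 0) (nat_lit 24) fun i => Nat.beq (m22w_S y i) (m22w_T x i))) = true := by decide +kernel

theorem m22w_L4_o : band (allRange (nat_lit 0) (nat_lit 24) (orbOK m22w_T (nat_lit 2) (m22w_E (nat_lit 4)) (Nat.beq (nat_lit 5)))) (band (Nat.ble (nat_lit 3) (count2 (nat_lit 24) fun p => Nat.ble 256 (m22w_E (nat_lit 4) p))) (allLt (nat_lit 0) (fun x => Nat.beq (m22w_T x (nat_lit 5)) (nat_lit 5)))) = true := by decide +kernel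

theorem m22w_L3_o : band (allRange (nat_lit 0) (nat_lit 24) (orbOK m22w_T (nat_lit 4) (m22w_E (nat_lit 3)) (Nat.beq (nat_lit 4)))) (band (Nat.ble (nat_lit 16) (count2 (nat_lit 24) fun p => Nat.ble 256 (m22w_E (nat_lit 3) p))) (allLt (nat_lit 2) (fun x => Nat.beq (m22w_T x (nat_lit 4)) (nat_lit 4)))) = true := by decide +kernel

theorem m22w_L2_o : band (allRange (nat_lit 0) (nat_lit 24) (orbOK m22w_T (nat_lit 5) (m22w_E (nat_lit 2)) (Nat.beq (nat_lit 3)))) (band (Nat.ble (nat_lit 20) (count2 (nat_lit 24) fun p => Nat.ble 256 (m22w_E (nat_lit 2) p))) (allLt (nat_lit 4) (fun x => Nat.beq (m22w_T x (nat_lit 3)) (nat_lit 3)))) = true := by decide +kernel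

theorem m22w_L1_o : band (allRange (nat_lit 0) (nat_lit 24) (orbOK m22w_T (nat_lit 7) (m22w_E (nat_lit 1)) (Nat.beq (nat_lit 2)))) (band (Nat.ble (nat_lit 21) (count2 (nat_lit 24) fun p => Nat.ble 256 (m22w_E (nat_lit 1) p))) (allLt (nat_lit 5) (fun x => Nat.beq (m22w_T x (nat_lit 2)) (nat_lit 2)))) = true := by decide +kernel

theorem m22w_L0_o : band (allRange (nat_lit 0) (nat_lit 24) (orbOK m22w_T (nat_lit 12) (m22w_E (nat_lit 0)) (Nat.beq (nat_lit 1)))) (band (Nat.ble (nat_lit 22) (count2 (nat_lit 24) fun p => Nat.ble 256 (m22w_E (nat_lit 0) p))) (allLt (nat_lit 7) (fun x => Nat.beq (m22w_T x (nat_lit 1)) (nat_lit 1)))) = true := by decide +kernel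

/-- The letters: a strong generating set, deepest stabiliser first. -/
noncomputable def m22w_g {G : Type*} [Group G] (a : ℕ → G) : ℕ → G := fun x => slp a 5 m22w_defs (m22w_iota x)

theorem m22w_tabs {G α : Type*} [Group G] [MulAction G α] {e : ℕ → α} {a : ℕ → G} (h0 : Tabs e 24 m22w_S a 5) : Tabs e 24 m22w_T (m22w_g a) 12 :=
  Tabs.rename (ι := m22w_iota) (g := slp a 5 m22w_defs) ((Tabs.slp_base m22w_defs h0).slp_add (by decide) _ m22w_slp0) m22w_ren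

theorem m22w_gen {G : Type*} [Group G] (a : ℕ → G) : genLt (m22w_g a) 12 = genLt a 5 :=
  genLt_slp_eq a m22w_defs (back := getP 8 255 (nat_lit 0xb0a090807)) (by decide +kernel)

theorem m22w_low4 {G α : Type*} [Group G] [MulAction G α] {e : ℕ → α} {a : ℕ → G} (he : Set.InjOn e (Set.Iio 24)) (h0 : Tabs e 24 m22w_S a 5) :
    LowLevel (genLt (m22w_g a) 2) (genLt (m22w_g a) 0) (e 5) 3 :=
  Tabs.lowLevel (m22w_tabs h0) he (by decide) (by decide) (by decide) m22w_L4_o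

theorem m22w_ge4 {G α : Type*} [Group G] [MulAction G α] {e : ℕ → α} {a : ℕ → G} (he : Set.InjOn e (Set.Iio 24)) (h0 : Tabs e 24 m22w_S a 5) :
    Finite (genLt (m22w_g a) 2) → 3 ≤ Nat.card (genLt (m22w_g a) 2) := fun hK =>
  (m22w_low4 he h0).card hK (one_le_card_fin _)

theorem m22w_fix4 {G α : Type*} [Group G] [MulAction G α] {e : ℕ → α} {a : ℕ → G} (he : Set.InjOn e (Set.Iio 24)) (h0 : Tabs e 24 m22w_S a 5) :
    ∀ X : Subgroup G, Finite X → (genLt (m22w_g a) 2) ≤ X → 3 * Nat.card (fixB e X [5]) ≤ Nat.card X :=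
  (m22w_low4 he h0).card_fix (card_fix_nil _ _)

theorem m22w_low3 {G α : Type*} [Group G] [MulAction G α] {e : ℕ → α} {a : ℕ → G} (he : Set.InjOn e (Set.Iio 24)) (h0 : Tabs e 24 m22w_S a 5) :
    LowLevel (genLt (m22w_g a) 4) (genLt (m22w_g a) 2) (e 4) 16 :=
  Tabs.lowLevel (m22w_tabs h0) he (by decide) (by decide) (by decide) m22w_L3_o

theorem m22w_ge3 {G α : Type*} [Group G] [MulAction G α] {e : ℕ → α} {a : ℕ → G} (he : Set.InjOn e (Set.Iio 24)) (h0 : Tabs e 24 m22w_S a 5) :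
    Finite (genLt (m22w_g a) 4) → 48 ≤ Nat.card (genLt (m22w_g a) 4) := fun hK =>
  (m22w_low3 he h0).card hK (m22w_ge4 he h0)

theorem m22w_fix3 {G α : Type*} [Group G] [MulAction G α] {e : ℕ → α} {a : ℕ → G} (he : Set.InjOn e (Set.Iio 24)) (h0 : Tabs e 24 m22w_S a 5) :
    ∀ X : Subgroup G, Finite X → (genLt (m22w_g a) 4) ≤ X → 48 * Nat.card (fixB e X [4, 5]) ≤ Nat.card X :=
  (m22w_low3 he h0).card_fix (m22w_fix4 he h0)

theorem m22w_low2 {G α : Type*} [Group G] [MulAction G α] {e : ℕ → α} {a : ℕ → G} (he : Set.InjOn e (Set.Iio 24)) (h0 : Tabs e 24 m22w_S a 5) :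
    LowLevel (genLt (m22w_g a) 5) (genLt (m22w_g a) 4) (e 3) 20 :=
  Tabs.lowLevel (m22w_tabs h0) he (by decide) (by decide) (by decide) m22w_L2_o

theorem m22w_ge2 {G α : Type*} [Group G] [MulAction G α] {e : ℕ → α} {a : ℕ → G} (he : Set.InjOn e (Set.Iio 24)) (h0 : Tabs e 24 m22w_S a 5) :
    Finite (genLt (m22w_g a) 5) → 960 ≤ Nat.card (genLt (m22w_g a) 5) := fun hK =>
  (m22w_low2 he h0).card hK (m22w_ge3 he h0)

theorem m22w_fix2 {G α : Type*} [Group G] [MulAction G α] {e : ℕ → α} {a : ℕ → G} (he : Set.InjOn e (Set.Iio 24)) (h0 : Tabs e 24 m22w_S a 5) :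
    ∀ X : Subgroup G, Finite X → (genLt (m22w_g a) 5) ≤ X → 960 * Nat.card (fixB e X [3, 4, 5]) ≤ Nat.card X :=
  (m22w_low2 he h0).card_fix (m22w_fix3 he h0)

theorem m22w_low1 {G α : Type*} [Group G] [MulAction G α] {e : ℕ → α} {a : ℕ → G} (he : Set.InjOn e (Set.Iio 24)) (h0 : Tabs e 24 m22w_S a 5) :
    LowLevel (genLt (m22w_g a) 7) (genLt (m22w_g a) 5) (e 2) 21 :=
  Tabs.lowLevel (m22w_tabs h0) he (by decide) (by decide) (by decide) m22w_L1_o

theorem m22w_ge1 {G α : Type*} [Group G] [MulAction G α] {e : ℕ → α} {a : ℕ → G} (he : Set.InjOn e (Set.Iio 24)) (h0 : Tabs e 24 m22w_S a 5) :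
    Finite (genLt (m22w_g a) 7) → 20160 ≤ Nat.card (genLt (m22w_g a) 7) := fun hK =>
  (m22w_low1 he h0).card hK (m22w_ge2 he h0)

theorem m22w_fix1 {G α : Type*} [Group G] [MulAction G α] {e : ℕ → α} {a : ℕ → G} (he : Set.InjOn e (Set.Iio 24)) (h0 : Tabs e 24 m22w_S a 5) :
    ∀ X : Subgroup G, Finite X → (genLt (m22w_g a) 7) ≤ X → 20160 * Nat.card (fixB e X [2, 3, 4, 5]) ≤ Nat.card X :=
  (m22w_low1 he h0).card_fix (m22w_fix2 he h0)

theorem m22w_low0 {G α : Type*} [Group G] [MulAction G α] {e : ℕ → α} {a : ℕ → G} (he : Set.InjOn e (Set.Iio 24)) (h0 : Tabs e 24 m22w_S a 5) :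
    LowLevel (genLt (m22w_g a) 12) (genLt (m22w_g a) 7) (e 1) 22 :=
  Tabs.lowLevel (m22w_tabs h0) he (by decide) (by decide) (by decide) m22w_L0_o

theorem m22w_ge0 {G α : Type*} [Group G] [MulAction G α] {e : ℕ → α} {a : ℕ → G} (he : Set.InjOn e (Set.Iio 24)) (h0 : Tabs e 24 m22w_S a 5) :
    Finite (genLt (m22w_g a) 12) → 443520 ≤ Nat.card (genLt (m22w_g a) 12) := fun hK =>
  (m22w_low0 he h0).card hK (m22w_ge1 he h0)

theorem m22w_fix0 {G α : Type*} [Group G] [MulAction G α] {e : ℕ → α} {a : ℕ → G} (he : Set.InjOn e (Set.Iio 24)) (h0 : Tabs e 24 m22w_S a 5) :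
    ∀ X : Subgroup G, Finite X → (genLt (m22w_g a) 12) ≤ X → 443520 * Nat.card (fixB e X [1, 2, 3, 4, 5]) ≤ Nat.card X :=
  (m22w_low0 he h0).card_fix (m22w_fix1 he h0)

theorem m22w_ub0 {G α : Type*} [Group G] [MulAction G α] {e : ℕ → α} {a : ℕ → G} (he : Set.InjOn e (Set.Iio 24)) (h0 : Tabs e 24 m22w_S a 5) (hub : Nat.card (genLt a 5) ≠ 0 ∧ Nat.card (genLt a 5) ≤ 443520) :
    Nat.card (genLt (m22w_g a) 12) ≠ 0 ∧ Nat.card (genLt (m22w_g a) 12) ≤ 443520 := by rw [m22w_gen]; exact hub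

theorem m22w_level0 {G α : Type*} [Group G] [MulAction G α] {e : ℕ → α} {a : ℕ → G} (he : Set.InjOn e (Set.Iio 24)) (h0 : Tabs e 24 m22w_S a 5) (hub : Nat.card (genLt a 5) ≠ 0 ∧ Nat.card (genLt a 5) ≤ 443520) :
    Level (genLt (m22w_g a) 12) (genLt (m22w_g a) 7) (e 1) 22 :=
  ((m22w_low0 he h0).level (c := 20160) (m22w_ub0 he h0 hub) (m22w_ge1 he h0)).1

theorem m22w_ub1 {G α : Type*} [Group G] [MulAction G α] {e : ℕ → α} {a : ℕ → G} (he : Set.InjOn e (Set.Iio 24)) (h0 : Tabs e 24 m22w_S a 5) (hub : Nat.card (genLt a 5) ≠ 0 ∧ Nat.card (genLt a 5) ≤ 443520) :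
    Nat.card (genLt (m22w_g a) 7) ≠ 0 ∧ Nat.card (genLt (m22w_g a) 7) ≤ 20160 :=
  ((m22w_low0 he h0).level (c := 20160) (m22w_ub0 he h0 hub) (m22w_ge1 he h0)).2

theorem m22w_level1 {G α : Type*} [Group G] [MulAction G α] {e : ℕ → α} {a : ℕ → G} (he : Set.InjOn e (Set.Iio 24)) (h0 : Tabs e 24 m22w_S a 5) (hub : Nat.card (genLt a 5) ≠ 0 ∧ Nat.card (genLt a 5) ≤ 443520) :
    Level (genLt (m22w_g a) 7) (genLt (m22w_g a) 5) (e 2) 21 :=
  ((m22w_low1 he h0).level (c := 960) (m22w_ub1 he h0 hub) (m22w_ge2 he h0)).1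

theorem m22w_ub2 {G α : Type*} [Group G] [MulAction G α] {e : ℕ → α} {a : ℕ → G} (he : Set.InjOn e (Set.Iio 24)) (h0 : Tabs e 24 m22w_S a 5) (hub : Nat.card (genLt a 5) ≠ 0 ∧ Nat.card (genLt a 5) ≤ 443520) :
    Nat.card (genLt (m22w_g a) 5) ≠ 0 ∧ Nat.card (genLt (m22w_g a) 5) ≤ 960 :=
  ((m22w_low1 he h0).level (c := 960) (m22w_ub1 he h0 hub) (m22w_ge2 he h0)).2

theorem m22w_level2 {G α : Type*} [Group G] [MulAction G α] {e : ℕ → α} {a : ℕ → G} (he : Set.InjOn e (Set.Iio 24)) (h0 : Tabs e 24 m22w_S a 5) (hub : Nat.card (genLt a 5) ≠ 0 ∧ Nat.card (genLt a 5) ≤ 443520) :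
    Level (genLt (m22w_g a) 5) (genLt (m22w_g a) 4) (e 3) 20 :=
  ((m22w_low2 he h0).level (c := 48) (m22w_ub2 he h0 hub) (m22w_ge3 he h0)).1

theorem m22w_ub3 {G α : Type*} [Group G] [MulAction G α] {e : ℕ → α} {a : ℕ → G} (he : Set.InjOn e (Set.Iio 24)) (h0 : Tabs e 24 m22w_S a 5) (hub : Nat.card (genLt a 5) ≠ 0 ∧ Nat.card (genLt a 5) ≤ 443520) :
    Nat.card (genLt (m22w_g a) 4) ≠ 0 ∧ Nat.card (genLt (m22w_g a) 4) ≤ 48 :=
  ((m22w_low2 he h0).level (c := 48) (m22w_ub2 he h0 hub) (m22w_ge3 he h0)).2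

theorem m22w_level3 {G α : Type*} [Group G] [MulAction G α] {e : ℕ → α} {a : ℕ → G} (he : Set.InjOn e (Set.Iio 24)) (h0 : Tabs e 24 m22w_S a 5) (hub : Nat.card (genLt a 5) ≠ 0 ∧ Nat.card (genLt a 5) ≤ 443520) :
    Level (genLt (m22w_g a) 4) (genLt (m22w_g a) 2) (e 4) 16 :=
  ((m22w_low3 he h0).level (c := 3) (m22w_ub3 he h0 hub) (m22w_ge4 he h0)).1

theorem m22w_ub4 {G α : Type*} [Group G] [MulAction G α] {e : ℕ → α} {a : ℕ → G} (he : Set.InjOn e (Set.Iio 24)) (h0 : Tabs e 24 m22w_S a 5) (hub : Nat.card (genLt a 5) ≠ 0 ∧ Nat.card (genLt a 5) ≤ 443520) :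
    Nat.card (genLt (m22w_g a) 2) ≠ 0 ∧ Nat.card (genLt (m22w_g a) 2) ≤ 3 :=
  ((m22w_low3 he h0).level (c := 3) (m22w_ub3 he h0 hub) (m22w_ge4 he h0)).2

theorem m22w_level4 {G α : Type*} [Group G] [MulAction G α] {e : ℕ → α} {a : ℕ → G} (he : Set.InjOn e (Set.Iio 24)) (h0 : Tabs e 24 m22w_S a 5) (hub : Nat.card (genLt a 5) ≠ 0 ∧ Nat.card (genLt a 5) ≤ 443520) :
    Level (genLt (m22w_g a) 2) (genLt (m22w_g a) 0) (e 5) 3 :=
  ((m22w_low4 he h0).level (c := 1) (m22w_ub4 he h0 hub) (one_le_card_fin _)).1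

theorem m22w_card4 {G α : Type*} [Group G] [MulAction G α] {e : ℕ → α} {a : ℕ → G} (he : Set.InjOn e (Set.Iio 24)) (h0 : Tabs e 24 m22w_S a 5) (hub : Nat.card (genLt a 5) ≠ 0 ∧ Nat.card (genLt a 5) ≤ 443520) :
    Nat.card (genLt (m22w_g a) 2) = 3 :=
  (m22w_level4 he h0 hub).card (card_genLt_zero _)

theorem m22w_base4 {G α : Type*} [Group G] [MulAction G α] {e : ℕ → α} {a : ℕ → G} (he : Set.InjOn e (Set.Iio 24)) (h0 : Tabs e 24 m22w_S a 5) (hub : Nat.card (genLt a 5) ≠ 0 ∧ Nat.card (genLt a 5) ≤ 443520) :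
    IsBase e (genLt (m22w_g a) 2) [5] :=
  (m22w_level4 he h0 hub).base (isBase_genLt_zero _ _)

theorem m22w_card3 {G α : Type*} [Group G] [MulAction G α] {e : ℕ → α} {a : ℕ → G} (he : Set.InjOn e (Set.Iio 24)) (h0 : Tabs e 24 m22w_S a 5) (hub : Nat.card (genLt a 5) ≠ 0 ∧ Nat.card (genLt a 5) ≤ 443520) :
    Nat.card (genLt (m22w_g a) 4) = 48 :=
  (m22w_level3 he h0 hub).card (m22w_card4 he h0 hub)

theorem m22w_base3 {G α : Type*} [Group G] [MulAction G α] {e : ℕ → α} {a : ℕ → G} (he : Set.InjOn e (Set.Iio 24)) (h0 : Tabs e 24 m22w_S a 5) (hub : Nat.card (genLt a 5) ≠ 0 ∧ Nat.card (genLt a 5) ≤ 443520) :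
    IsBase e (genLt (m22w_g a) 4) [4, 5] :=
  (m22w_level3 he h0 hub).base (m22w_base4 he h0 hub)

theorem m22w_card2 {G α : Type*} [Group G] [MulAction G α] {e : ℕ → α} {a : ℕ → G} (he : Set.InjOn e (Set.Iio 24)) (h0 : Tabs e 24 m22w_S a 5) (hub : Nat.card (genLt a 5) ≠ 0 ∧ Nat.card (genLt a 5) ≤ 443520) :
    Nat.card (genLt (m22w_g a) 5) = 960 :=
  (m22w_level2 he h0 hub).card (m22w_card3 he h0 hub)

theorem m22w_base2 {G α : Type*} [Group G] [MulAction G α] {e : ℕ → α} {a : ℕ → G} (he : Set.InjOn e (Set.Iio 24)) (h0 : Tabs e 24 m22w_S a 5) (hub : Nat.card (genLt a 5) ≠ 0 ∧ Nat.card (genLt a 5) ≤ 443520) :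
    IsBase e (genLt (m22w_g a) 5) [3, 4, 5] :=
  (m22w_level2 he h0 hub).base (m22w_base3 he h0 hub)

theorem m22w_card1 {G α : Type*} [Group G] [MulAction G α] {e : ℕ → α} {a : ℕ → G} (he : Set.InjOn e (Set.Iio 24)) (h0 : Tabs e 24 m22w_S a 5) (hub : Nat.card (genLt a 5) ≠ 0 ∧ Nat.card (genLt a 5) ≤ 443520) :
    Nat.card (genLt (m22w_g a) 7) = 20160 :=
  (m22w_level1 he h0 hub).card (m22w_card2 he h0 hub)

theorem m22w_base1 {G α : Type*} [Group G] [MulAction G α] {e : ℕ → α} {a : ℕ → G} (he : Set.InjOn e (Set.Iio 24)) (h0 : Tabs e 24 m22w_S a 5) (hub : Nat.card (genLt a 5) ≠ 0 ∧ Nat.card (genLt a 5) ≤ 443520) :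
    IsBase e (genLt (m22w_g a) 7) [2, 3, 4, 5] :=
  (m22w_level1 he h0 hub).base (m22w_base2 he h0 hub)

theorem m22w_card0 {G α : Type*} [Group G] [MulAction G α] {e : ℕ → α} {a : ℕ → G} (he : Set.InjOn e (Set.Iio 24)) (h0 : Tabs e 24 m22w_S a 5) (hub : Nat.card (genLt a 5) ≠ 0 ∧ Nat.card (genLt a 5) ≤ 443520) :
    Nat.card (genLt (m22w_g a) 12) = 443520 :=
  (m22w_level0 he h0 hub).card (m22w_card1 he h0 hub)

theorem m22w_base0 {G α : Type*} [Group G] [MulAction G α] {e : ℕ → α} {a : ℕ → G} (he : Set.InjOn e (Set.Iio 24)) (h0 : Tabs e 24 m22w_S a 5) (hub : Nat.card (genLt a 5) ≠ 0 ∧ Nat.card (genLt a 5) ≤ 443520) :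
    IsBase e (genLt (m22w_g a) 12) [1, 2, 3, 4, 5] :=
  (m22w_level0 he h0 hub).base (m22w_base1 he h0 hub)

theorem m22w_hinv {G α : Type*} [Group G] [MulAction G α] {e : ℕ → α} {a : ℕ → G} (he : Set.InjOn e (Set.Iio 24)) (h0 : Tabs e 24 m22w_S a 5) (hub : Nat.card (genLt a 5) ≠ 0 ∧ Nat.card (genLt a 5) ≤ 443520) : ∀ x < 12, m22w_g a x * m22w_g a (m22w_inv x) = 1 :=
  (m22w_tabs h0).hinv_of_base (m22w_base0 he h0 hub) (by decide +kernel)

theorem m22w_card {G α : Type*} [Group G] [MulAction G α] {e : ℕ → α} {a : ℕ → G} (he : Set.InjOn e (Set.Iio 24)) (h0 : Tabs e 24 m22w_S a 5) (hub : Nat.card (genLt a 5) ≠ 0 ∧ Nat.card (genLt a 5) ≤ 443520) :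
    Nat.card (genLt a 5) = 443520 := by
  rw [← m22w_gen]; exact m22w_card0 he h0 hub

theorem m22_gen : ∃ g : ℕ → Spor.M22, Tabs Golay.ptOf 24 m22w_S g 5 ∧ Gen ⊤ g m22_rels 5 443520 := by
  obtain ⟨g, hg⟩ := PC.exists_tabs (H := Spor.M22) (t := m22w_S_t) (m := 5) fun x hx =>
    PC.inH_M22 ((allLt_iff _ fun x => PC.isM22 (m22w_S_t.get x)).1 (by decide +kernel) x hx)
  have hc : Nat.card (⊤ : Subgroup Spor.M22) = 443520 := by rw [Subgroup.card_top, Golay.card_M22]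
  have hK : ∀ x < 5, g x ∈ (⊤ : Subgroup Spor.M22) := fun _ _ => Subgroup.mem_top _
  exact ⟨g, hg, gen_of_base hg (genLt_eq_of_card hK hc (m22w_card PC.ptOf_injOn hg (card_genLt_le hK hc)))
    (PC.isBase_range _) hc (by decide +kernel)⟩

end Cfsg.Agent.Spor.MX
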