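import Mathlib
import Cfsg.Agent.Spor.MX.Glue

/-! Generated by tools/mx: the chain 8 < 3^(1+2):8 < U3(3) -/

set_option autoImplicit false
set_option maxRecDepth 100000
set_option linter.unusedVariables false
set_option exponentiation.threshold 100000

namespace Cfsg.Agent.Spor.MX

open Cfsg.Agent.Spor

universe u

noncomputable def u33c_rels : LT :=
(.node (.node (.leaf [])
 (.leaf [nat_lit 0,nat_lit 0,nat_lit 0,nat_lit 0,nat_lit 0,nat_lit 0,nat_lit 0,nat_lit 0])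
) (.leaf [nat_lit 0,nat_lit 1])
)
noncomputable def u33c_inv : ℕ → ℕ := getP (nat_lit 8) (nat_lit 255) (nat_lit 0x1)
noncomputable def u33c_pi : ℕ → ℕ := getP (nat_lit 16) (nat_lit 65535) (nat_lit 0x10001)

noncomputable def u33c_L_t : BT :=
(.node (.node (.leaf (nat_lit 0x3fe))
 (.leaf (nat_lit 0))
) (.leaf (nat_lit 0x3fe))
)

noncomputable def u33c_L_rules : LT :=
(.leaf [nat_lit 0,nat_lit 1,nat_lit 0,nat_lit 0,nat_lit 1,nat_lit 1])


noncomputable def u33c_L_R : LT :=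
(.leaf [nat_lit 0,nat_lit 0,nat_lit 0])


noncomputable def u33c_C : LC :=
  ⟨⟨fun x c => Nat.shiftRight (BT.get u33c_L_t x) (Nat.mul (nat_lit 21) c),
  (nat_lit 1), (nat_lit 1), (nat_lit 1023), (nat_lit 10), (nat_lit 7), (nat_lit 1022), (nat_lit 0), (nat_lit 1), (nat_lit 2), (nat_lit 0), (nat_lit 0), (nat_lit 2), u33c_inv, u33c_L_rules, .leaf []⟩,
  (nat_lit 13), (nat_lit 0x11), (nat_lit 0xff), (nat_lit 4), (nat_lit 2), (nat_lit 1), (nat_lit 1), (nat_lit 1), (nat_lit 15), (nat_lit 8), u33c_pi, u33c_rels, u33c_L_R⟩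

noncomputable def u33c_U_t : BT :=
(.node (.node (.leaf (nat_lit 0x4073002d2018e00728042800c200870001))
 (.leaf (nat_lit 0x3ff81ffc0ffe07ff03ff81ffc0ffe07ff0))
) (.node (.leaf (nat_lit 0x6a803dc012700a60028c019000210022))
 (.leaf (nat_lit 0x20028c0506006201210008404020000000))
))

noncomputable def u33c_U_rules : LT :=
(.leaf [nat_lit 2,nat_lit 6,nat_lit 1,nat_lit 0,nat_lit 1,nat_lit 1,nat_lit 1,nat_lit 1,nat_lit 1,nat_lit 1,nat_lit 1])


noncomputable def u33c_U_subs : LT :=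
(.leaf [nat_lit 0,nat_lit 0,nat_lit 0,nat_lit 2])


noncomputable def u33c_U : TC :=
  ⟨fun x c => Nat.shiftRight (BT.get u33c_U_t x) (Nat.mul (nat_lit 17) c),
  (nat_lit 4), (nat_lit 15), (nat_lit 32767), (nat_lit 15), (nat_lit 3), (nat_lit 32752), (nat_lit 8), (nat_lit 8), (nat_lit 2), (nat_lit 0), (nat_lit 2), (nat_lit 3), u33c_inv, u33c_U_rules, u33c_U_subs⟩

noncomputable def u33b_rels : LT :=
(.node (.node (.node (.leaf [])
 (.leaf [nat_lit 2,nat_lit 2,nat_lit 2])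
) (.leaf [nat_lit 0,nat_lit 0,nat_lit 0,nat_lit 0,nat_lit 0,nat_lit 0,nat_lit 0,nat_lit 0])
) (.node (.node (.leaf [nat_lit 0,nat_lit 1])
 (.leaf [nat_lit 0,nat_lit 2,nat_lit 0,nat_lit 2,nat_lit 1,nat_lit 2,nat_lit 1,nat_lit 3])
) (.leaf [nat_lit 2,nat_lit 3])
))
noncomputable def u33b_inv : ℕ → ℕ := getP (nat_lit 8) (nat_lit 255) (nat_lit 0x2030001)
noncomputable def u33b_pi : ℕ → ℕ := getP (nat_lit 16) (nat_lit 65535) (nat_lit 0x3000300010001)

noncomputable def u33b_L_t : BT :=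
(.node (.node (.node (.leaf (nat_lit 0x3fe))
 (.leaf (nat_lit 0))
) (.leaf (nat_lit 0x3fe))
) (.node (.leaf (nat_lit 0x3fe))
 (.leaf (nat_lit 0x3fe))
))

noncomputable def u33b_L_rules : LT :=
(.leaf [nat_lit 0,nat_lit 3,nat_lit 0,nat_lit 0,nat_lit 3,nat_lit 3])


noncomputable def u33b_L_R : LT :=
(.leaf [nat_lit 0,nat_lit 0,nat_lit 0])


noncomputable def u33b_C : LC :=
  ⟨⟨fun x c => Nat.shiftRight (BT.get u33b_L_t x) (Nat.mul (nat_lit 25) c),
  (nat_lit 1), (nat_lit 1), (nat_lit 1023), (nat_lit 10), (nat_lit 7), (nat_lit 1022), (nat_lit 0), (nat_lit 1), (nat_lit 4), (nat_lit 2), (nat_lit 0), (nat_lit 4), u33b_inv, u33b_L_rules, .leaf []⟩,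
  (nat_lit 13), (nat_lit 0x111), (nat_lit 0xfff), (nat_lit 4), (nat_lit 3), (nat_lit 1), (nat_lit 3), (nat_lit 1), (nat_lit 15), (nat_lit 8), u33b_pi, u33b_rels, u33b_L_R⟩

noncomputable def u33b_U_t : BT :=
(.node (.node (.node (.leaf (nat_lit 0x1443464006bd000b2f0015e40027b0005db3908cd221528441d25485ec0007b1520b1608285c0029700067000136a000d9088184020853000fcc0007880041500016104040e08061410081870000))
 (.leaf (nat_lit 0x3ff8007ff000ffe001ffc003ff8007ff000ffe001ffc003ff8007ff000ffe001ffc003ff8007ff000ffe001ffc003ff8007ff000ffe001ffc003ff8007ff000ffe001ffc003ff8007ff000ffe0))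
) (.leaf (nat_lit 0x32d800619800cfa0018f2002de0004950009750014ee001b9c003990005e6000c60001294002770003e4000858082250001518002e9040d2208153c1022682038b04049000028000071020041))
) (.node (.node (.leaf (nat_lit 0x8435640069d000bf100145cc42e55084c5800ab30010d0842b5d883c831064c0416308414340047a0209d6000b5e642014003b9000329000446241f1c000d102034a000242080718100a2070020))
 (.leaf (nat_lit 0x281d80503980802f01001c0200b00403500804a01001002019c0402380606600c08c0181940302280606400c0880180900303180604300c0060100880200100402100800200818001020000000))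
) (.leaf (nat_lit 0x433600862bc90b568214a6083268084aa0008aa041832041c440035381060f000acc0413340023281040b00074808245408164000263040da4081740102470203cc04051204030400030020082))
))

noncomputable def u33b_U_rules : LT :=
(.node (.node (.node (.node (.leaf [nat_lit 4,nat_lit 1,nat_lit 0,nat_lit 3,nat_lit 2,nat_lit 2])
 (.leaf [nat_lit 5,nat_lit 3,nat_lit 0,nat_lit 3,nat_lit 1,nat_lit 2,nat_lit 1,nat_lit 3,nat_lit 0,nat_lit 2,nat_lit 0])
) (.leaf [nat_lit 5,nat_lit 2,nat_lit 0,nat_lit 1,nat_lit 2,nat_lit 1,nat_lit 2,nat_lit 1,nat_lit 3,nat_lit 0,nat_lit 2])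
) (.node (.node (.leaf [nat_lit 5,nat_lit 4,nat_lit 0,nat_lit 0,nat_lit 2,nat_lit 1,nat_lit 3,nat_lit 0,nat_lit 2,nat_lit 0,nat_lit 2])
 (.leaf [nat_lit 5,nat_lit 7,nat_lit 1,nat_lit 0,nat_lit 2,nat_lit 0,nat_lit 3,nat_lit 0,nat_lit 3,nat_lit 1,nat_lit 3])
) (.leaf [nat_lit 5,nat_lit 0,nat_lit 0,nat_lit 1,nat_lit 2,nat_lit 0,nat_lit 2,nat_lit 1,nat_lit 2,nat_lit 1,nat_lit 3])
)) (.node (.node (.node (.leaf [nat_lit 5,nat_lit 1,nat_lit 1,nat_lit 1,nat_lit 3,nat_lit 0,nat_lit 3,nat_lit 1,nat_lit 3,nat_lit 1,nat_lit 2])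
 (.leaf [nat_lit 5,nat_lit 0,nat_lit 1,nat_lit 3,nat_lit 0,nat_lit 3,nat_lit 0,nat_lit 3,nat_lit 1,nat_lit 3,nat_lit 1])
) (.leaf [nat_lit 5,nat_lit 6,nat_lit 0,nat_lit 0,nat_lit 3,nat_lit 0,nat_lit 2,nat_lit 0,nat_lit 2,nat_lit 1,nat_lit 2])
) (.node (.leaf [nat_lit 2,nat_lit 2,nat_lit 0,nat_lit 1,nat_lit 0,nat_lit 0,nat_lit 0,nat_lit 0,nat_lit 0,nat_lit 0,nat_lit 0])
 (.leaf [nat_lit 5,nat_lit 5,nat_lit 1,nat_lit 0,nat_lit 3,nat_lit 1,nat_lit 2,nat_lit 0,nat_lit 3,nat_lit 0,nat_lit 3])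
)))

noncomputable def u33b_U_subs : LT :=
(.leaf [nat_lit 0,nat_lit 0,nat_lit 0,nat_lit 4])


noncomputable def u33b_U : TC :=
  ⟨fun x c => Nat.shiftRight (BT.get u33b_U_t x) (Nat.mul (nat_lit 23) c),
  (nat_lit 5), (nat_lit 31), (nat_lit 65535), (nat_lit 16), (nat_lit 127), (nat_lit 65504), (nat_lit 27), (nat_lit 27), (nat_lit 4), (nat_lit 2), (nat_lit 4), (nat_lit 5), u33b_inv, u33b_U_rules, u33b_U_subs⟩

noncomputable def u33p_rels : LT :=
(.node (.node (.node (.node (.leaf [])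
 (.leaf [nat_lit 0,nat_lit 2,nat_lit 4,nat_lit 3,nat_lit 4,nat_lit 2,nat_lit 1,nat_lit 4])
) (.leaf [nat_lit 2,nat_lit 2,nat_lit 2])
) (.node (.leaf [nat_lit 0,nat_lit 0,nat_lit 0,nat_lit 0,nat_lit 0,nat_lit 0,nat_lit 0,nat_lit 0])
 (.leaf [nat_lit 4,nat_lit 4])
)) (.node (.node (.node (.leaf [nat_lit 0,nat_lit 1])
 (.leaf [nat_lit 0,nat_lit 2,nat_lit 4,nat_lit 2,nat_lit 0,nat_lit 2,nat_lit 4,nat_lit 2,nat_lit 0,nat_lit 2,nat_lit 4,nat_lit 2])
) (.leaf [nat_lit 0,nat_lit 2,nat_lit 0,nat_lit 2,nat_lit 1,nat_lit 2,nat_lit 1,nat_lit 3])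
) (.node (.leaf [nat_lit 2,nat_lit 3])
 (.leaf [nat_lit 0,nat_lit 0,nat_lit 0,nat_lit 4,nat_lit 0,nat_lit 4])
)))
noncomputable def u33p_inv : ℕ → ℕ := getP (nat_lit 8) (nat_lit 255) (nat_lit 0x402030001)
noncomputable def u33p_pi : ℕ → ℕ := getP (nat_lit 16) (nat_lit 65535) (nat_lit 0x60003000300010001)

noncomputable def u33p_L_t : BT :=
(.node (.node (.node (.leaf (nat_lit 0x3fe))
 (.leaf (nat_lit 0x3fe))
) (.leaf (nat_lit 0x3fe))
) (.node (.node (.leaf (nat_lit 0x3fe))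
 (.leaf (nat_lit 0))
) (.leaf (nat_lit 0x3fe))
))

noncomputable def u33p_L_rules : LT :=
(.leaf [nat_lit 0,nat_lit 6,nat_lit 0,nat_lit 0,nat_lit 4,nat_lit 4])


noncomputable def u33p_L_R : LT :=
(.leaf [nat_lit 0,nat_lit 0,nat_lit 0])


noncomputable def u33p_C : LC :=
  ⟨⟨fun x c => Nat.shiftRight (BT.get u33p_L_t x) (Nat.mul (nat_lit 33) c),
  (nat_lit 1), (nat_lit 1), (nat_lit 1023), (nat_lit 10), (nat_lit 7), (nat_lit 1022), (nat_lit 0), (nat_lit 1), (nat_lit 5), (nat_lit 4), (nat_lit 0), (nat_lit 5), u33p_inv, u33p_L_rules, .leaf []⟩,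
  (nat_lit 13), (nat_lit 0x8421), (nat_lit 0xfffff), (nat_lit 5), (nat_lit 4), (nat_lit 1), (nat_lit 6), (nat_lit 1), (nat_lit 31), (nat_lit 12), u33p_pi, u33p_rels, u33p_L_R⟩

noncomputable def u33p_U_t : BT :=
(.node (.node (.node (.leaf (nat_lit 0x8910da00113b000ef0910e13000d2d000d77990b8e910bd5890aca000f79000a3269084c020dd80007af000971000cb60005453904e9020b143103870002e300058b0002620203480202860202040100c1070000))
 (.leaf (nat_lit 0x19115a00117bb10f15000eb2290d93000cf4000f39490cd6000db7810e986109890008aa6107cc5106cd0006ee0007ef4905ab2908900009b12103c82903052103e40003270004061901e30901420000a0020081))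
) (.node (.leaf (nat_lit 0x1077000ff40010bb00103a000fb9000c2b000c76000e78000a68000ab30008e700093100072600076f00062500066d020b550004840004ca0209d202081002068e0205cc0204290001810001c3020102070040))
 (.leaf (nat_lit 0xc07700c07400a03000a00f00a02d00a06b00a04b00a00900a06800a048008067008047008066008046008065008045008025008064008044008004006023006003006022006002004061004041002080000000))
)) (.node (.node (.leaf (nat_lit 0x59111a0010fb410f52000def410d56590c8c000bf4000b29000e38790a1171094d020ed959078e000bb5020d17000870410566000af300050a0003640003a80002a302052b0002220202c70202450000e1070020))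
 (.leaf (nat_lit 0xffe000ffe000ffe000ffe000ffe000ffe000ffe000ffe000ffe000ffe000ffe000ffe000ffe000ffe000ffe000ffe000ffe000ffe000ffe000ffe000ffe000ffe000ffe000ffe000ffe000ffe000ffe000ffe0))
) (.leaf (nat_lit 0x111099111018a90f97a10e5402105b110c55000b6b020fda110a920009e811091000082711074e0006a611064c0005e5020c161104a9000444020a530208d102070f02060d02046a1101a2000121020163070060))
))

noncomputable def u33p_U_rules : LT :=
(.node (.node (.node (.node (.node (.leaf [nat_lit 7,nat_lit 1,nat_lit 1,nat_lit 0,nat_lit 4,nat_lit 1,nat_lit 1,nat_lit 1,nat_lit 4])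
 (.leaf [nat_lit 7,nat_lit 0,nat_lit 1,nat_lit 4,nat_lit 1,nat_lit 4,nat_lit 1,nat_lit 1,nat_lit 1])
) (.leaf [nat_lit 7,nat_lit 1,nat_lit 0,nat_lit 1,nat_lit 0,nat_lit 4,nat_lit 0,nat_lit 4,nat_lit 0])
) (.node (.node (.leaf [nat_lit 7,nat_lit 2,nat_lit 1,nat_lit 4,nat_lit 1,nat_lit 1,nat_lit 1,nat_lit 4,nat_lit 1])
 (.leaf [nat_lit 5,nat_lit 5,nat_lit 0,nat_lit 3,nat_lit 1,nat_lit 3,nat_lit 0,nat_lit 2,nat_lit 0,nat_lit 2,nat_lit 1])
) (.leaf [nat_lit 8,nat_lit 4,nat_lit 0,nat_lit 4,nat_lit 2,nat_lit 1,nat_lit 4,nat_lit 0,nat_lit 2,nat_lit 4,nat_lit 3])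
)) (.node (.node (.node (.leaf [nat_lit 4,nat_lit 1,nat_lit 0,nat_lit 3,nat_lit 2,nat_lit 2])
 (.leaf [nat_lit 7,nat_lit 4,nat_lit 1,nat_lit 0,nat_lit 1,nat_lit 4,nat_lit 1,nat_lit 4,nat_lit 1])
) (.leaf [nat_lit 9,nat_lit 9,nat_lit 1,nat_lit 4,nat_lit 3,nat_lit 1,nat_lit 3,nat_lit 4,nat_lit 3,nat_lit 1,nat_lit 3,nat_lit 4,nat_lit 3,nat_lit 1,nat_lit 3])
) (.node (.node (.leaf [nat_lit 7,nat_lit 3,nat_lit 1,nat_lit 0,nat_lit 1,nat_lit 1,nat_lit 4,nat_lit 1,nat_lit 4])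
 (.leaf [nat_lit 7,nat_lit 3,nat_lit 0,nat_lit 4,nat_lit 0,nat_lit 4,nat_lit 0,nat_lit 0,nat_lit 0])
) (.leaf [nat_lit 5,nat_lit 0,nat_lit 0,nat_lit 1,nat_lit 2,nat_lit 0,nat_lit 2,nat_lit 1,nat_lit 2,nat_lit 1,nat_lit 3])
))) (.node (.node (.node (.node (.leaf [nat_lit 8,nat_lit 5,nat_lit 1,nat_lit 4,nat_lit 3,nat_lit 1,nat_lit 4,nat_lit 0,nat_lit 3,nat_lit 4,nat_lit 2])
 (.leaf [nat_lit 5,nat_lit 7,nat_lit 1,nat_lit 0,nat_lit 2,nat_lit 0,nat_lit 3,nat_lit 0,nat_lit 3,nat_lit 1,nat_lit 3])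
) (.leaf [nat_lit 7,nat_lit 5,nat_lit 0,nat_lit 4,nat_lit 0,nat_lit 0,nat_lit 0,nat_lit 4,nat_lit 0])
) (.node (.node (.leaf [nat_lit 8,nat_lit 0,nat_lit 1,nat_lit 4,nat_lit 0,nat_lit 3,nat_lit 4,nat_lit 2,nat_lit 4,nat_lit 3,nat_lit 1])
 (.leaf [nat_lit 5,nat_lit 0,nat_lit 1,nat_lit 3,nat_lit 0,nat_lit 3,nat_lit 0,nat_lit 3,nat_lit 1,nat_lit 3,nat_lit 1])
) (.leaf [nat_lit 5,nat_lit 6,nat_lit 0,nat_lit 0,nat_lit 3,nat_lit 0,nat_lit 2,nat_lit 0,nat_lit 2,nat_lit 1,nat_lit 2])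
)) (.node (.node (.node (.leaf [nat_lit 8,nat_lit 3,nat_lit 1,nat_lit 4,nat_lit 2,nat_lit 4,nat_lit 3,nat_lit 1,nat_lit 4,nat_lit 0,nat_lit 3])
 (.leaf [nat_lit 5,nat_lit 5,nat_lit 1,nat_lit 0,nat_lit 3,nat_lit 1,nat_lit 2,nat_lit 0,nat_lit 3,nat_lit 0,nat_lit 3])
) (.leaf [nat_lit 5,nat_lit 2,nat_lit 0,nat_lit 1,nat_lit 2,nat_lit 1,nat_lit 2,nat_lit 1,nat_lit 3,nat_lit 0,nat_lit 2])
) (.node (.leaf [nat_lit 5,nat_lit 4,nat_lit 0,nat_lit 0,nat_lit 2,nat_lit 1,nat_lit 3,nat_lit 0,nat_lit 2,nat_lit 0,nat_lit 2])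
 (.leaf [nat_lit 5,nat_lit 1,nat_lit 1,nat_lit 1,nat_lit 3,nat_lit 0,nat_lit 3,nat_lit 1,nat_lit 3,nat_lit 1,nat_lit 2])
))))

noncomputable def u33p_U_subs : LT :=
(.leaf [nat_lit 0,nat_lit 0,nat_lit 0,nat_lit 5])


noncomputable def u33p_U : TC :=
  ⟨fun x c => Nat.shiftRight (BT.get u33p_U_t x) (Nat.mul (nat_lit 24) c),
  (nat_lit 5), (nat_lit 31), (nat_lit 65535), (nat_lit 16), (nat_lit 255), (nat_lit 65504), (nat_lit 28), (nat_lit 28), (nat_lit 5), (nat_lit 4), (nat_lit 5), (nat_lit 6), u33p_inv, u33p_U_rules, u33p_U_subs⟩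

theorem u33c_b : u33c_C.base = true := by decide +kernel

theorem u33c_s0 : u33c_C.slots (nat_lit 0) (nat_lit 1) = true := by decide +kernel

theorem u33c_U_c1 : u33c_U.rules.all (ruleOK u33c_U.m u33c_U.inv u33c_rels) = true := by decide +kernel
theorem u33c_U_c2 : u33c_U.subs.all (subOK u33c_U.m u33c_U.inv (LT.leaf [])) = true := by decide +kernel
theorem u33c_U_c3 : u33c_U.base = true := by decide +kernel

theorem u33c_U_s0 : u33c_U.slots (nat_lit 0) (nat_lit 8) = true := by decide +kernel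

theorem u33c_U_c6 : u33c_U.rules.all (fun l => goodB (nat_lit 1) (nat_lit 2) u33c_U.mH u33c_rels (hdL l)) = true := by decide +kernel

theorem u33b_b : u33b_C.base = true := by decide +kernel

theorem u33b_s0 : u33b_C.slots (nat_lit 0) (nat_lit 1) = true := by decide +kernel

theorem u33b_U_c1 : u33b_U.rules.all (ruleOK u33b_U.m u33b_U.inv u33b_rels) = true := by decide +kernel
theorem u33b_U_c2 : u33b_U.subs.all (subOK u33b_U.m u33b_U.inv (LT.leaf [])) = true := by decide +kernel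
theorem u33b_U_c3 : u33b_U.base = true := by decide +kernel

theorem u33b_U_s0 : u33b_U.slots (nat_lit 0) (nat_lit 27) = true := by decide +kernel

theorem u33b_U_c6 : u33b_U.rules.all (fun l => goodB (nat_lit 3) (nat_lit 3) u33b_U.mH u33b_rels (hdL l)) = true := by decide +kernel

theorem u33p_b : u33p_C.base = true := by decide +kernel

theorem u33p_s0 : u33p_C.slots (nat_lit 0) (nat_lit 1) = true := by decide +kernel

theorem u33p_U_c1 : u33p_U.rules.all (ruleOK u33p_U.m u33p_U.inv u33p_rels) = true := by decide +kernel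
theorem u33p_U_c2 : u33p_U.subs.all (subOK u33p_U.m u33p_U.inv (LT.leaf [])) = true := by decide +kernel
theorem u33p_U_c3 : u33p_U.base = true := by decide +kernel

theorem u33p_U_s0 : u33p_U.slots (nat_lit 0) (nat_lit 28) = true := by decide +kernel

theorem u33p_U_c6 : u33p_U.rules.all (fun l => goodB (nat_lit 6) (nat_lit 4) u33p_U.mH u33p_rels (hdL l)) = true := by decide +kernel

theorem u33c_up : u33c_C.Upto u33c_C.T.N := ((LC.upto_zero u33c_C).step _ u33c_s0)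

theorem u33c_U_c4 : u33c_U.Upto u33c_U.N := ((TC.upto_zero u33c_U).step _ u33c_U_s0)
theorem u33c_U_c5 : u33c_U.UptoE u33c_U.N := (TC.uptoE_n u33c_U)

theorem u33c_idx : Idx.{u} u33c_rels (nat_lit 1) (nat_lit 2) u33c_inv (nat_lit 0) (nat_lit 2) (nat_lit 8) :=
  idx_of_tc u33c_U_c1 u33c_U_c2 u33c_U_c3 u33c_U_c4 u33c_U_c5 u33c_U_c6

theorem u33c_bnd {G : Type u} [Group G] {g : ℕ → G} (h : ∀ i, evalW g (u33c_rels.get i) = 1) : Bnd g 2 8 :=
  Bnd.step (C := u33c_C) h (bnd_zero g) u33c_b u33c_idx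

theorem u33b_up : u33b_C.Upto u33b_C.T.N := ((LC.upto_zero u33b_C).step _ u33b_s0)

theorem u33b_U_c4 : u33b_U.Upto u33b_U.N := ((TC.upto_zero u33b_U).step _ u33b_U_s0)
theorem u33b_U_c5 : u33b_U.UptoE u33b_U.N := (TC.uptoE_n u33b_U)

theorem u33b_idx : Idx.{u} u33b_rels (nat_lit 3) (nat_lit 3) u33b_inv (nat_lit 2) (nat_lit 4) (nat_lit 27) :=
  idx_of_tc u33b_U_c1 u33b_U_c2 u33b_U_c3 u33b_U_c4 u33b_U_c5 u33b_U_c6

theorem u33b_low {G : Type u} [Group G] {g : ℕ → G} (h : ∀ i, evalW g (u33b_rels.get i) = 1) : ∀ i, evalW g (u33c_rels.get i) = 1 :=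
  rels_of_sub (by decide +kernel) h

theorem u33b_bnd {G : Type u} [Group G] {g : ℕ → G} (h : ∀ i, evalW g (u33b_rels.get i) = 1) : Bnd g 4 216 :=
  Bnd.step (C := u33b_C) h (u33c_bnd (u33b_low h)) u33b_b u33b_idx

theorem u33p_up : u33p_C.Upto u33p_C.T.N := ((LC.upto_zero u33p_C).step _ u33p_s0)

theorem u33p_U_c4 : u33p_U.Upto u33p_U.N := ((TC.upto_zero u33p_U).step _ u33p_U_s0)
theorem u33p_U_c5 : u33p_U.UptoE u33p_U.N := (TC.uptoE_n u33p_U)

theorem u33p_idx : Idx.{u} u33p_rels (nat_lit 6) (nat_lit 4) u33p_inv (nat_lit 4) (nat_lit 5) (nat_lit 28) :=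
  idx_of_tc u33p_U_c1 u33p_U_c2 u33p_U_c3 u33p_U_c4 u33p_U_c5 u33p_U_c6

theorem u33p_low {G : Type u} [Group G] {g : ℕ → G} (h : ∀ i, evalW g (u33p_rels.get i) = 1) : ∀ i, evalW g (u33b_rels.get i) = 1 :=
  rels_of_sub (by decide +kernel) h

theorem u33p_bnd {G : Type u} [Group G] {g : ℕ → G} (h : ∀ i, evalW g (u33p_rels.get i) = 1) : Bnd g 5 6048 :=
  Bnd.step (C := u33p_C) h (u33b_bnd (u33p_low h)) u33p_b u33p_idx


end Cfsg.Agent.Spor.MX
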