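import Mathlib
import Cfsg.Agent.Spor.Comp.Pres

/-! Generated by tools/pg: stabiliser chain u33k -/

set_option autoImplicit false
set_option maxRecDepth 100000
set_option linter.unusedVariables false
set_option exponentiation.threshold 100000

namespace Cfsg.Agent.Spor.MX

open Cfsg.Agent.Spor

noncomputable def u33k_S_t0 : BT :=
(.node (.node (.node (.node (.leaf (nat_lit 0x59181c2419b9df08b4567695341ab49147b))
 (.leaf (nat_lit 0x4eec7cae336160e25f4da9914549f810c20))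
) (.leaf (nat_lit 0x7cc364b7301af5231c858e18870b75a5d40))
) (.node (.leaf (nat_lit 0x2a979b0a440df08add9da6c79185a0b715))
 (.leaf (nat_lit 0x2c6aa16083d4174d9ec9906e873d8d99b20))
)) (.node (.node (.node (.leaf (nat_lit 0xb56f09c658ceb745b08130daa13ca9401c7))
 (.leaf (nat_lit 0xd36e476568a1ab12c193b1f69c2a4f10c20))
) (.leaf (nat_lit 0x6d70191b4c84ca27dcf9758745250bd9220))
) (.node (.leaf (nat_lit 0x8ca74cef50bd6d83052e7a08302cad51d82))
 (.leaf (nat_lit 0x1d59972b4895c337af7421cc56da224c300))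
)))

noncomputable def u33k_S_t : BT :=
u33k_S_t0

noncomputable def u33k_S : ℕ → ℕ → ℕ := fun x i => Nat.land (Nat.shiftRight (BT.get u33k_S_t x) (Nat.mul (nat_lit 5) i)) (nat_lit 31)

noncomputable def u33k_defs : LT :=
(.node (.node (.node (.node (.leaf [nat_lit 0])
 (.leaf [nat_lit 0,nat_lit 5,nat_lit 4,nat_lit 4])
) (.leaf [nat_lit 0,nat_lit 0,nat_lit 0,nat_lit 0,nat_lit 3])
) (.node (.leaf [nat_lit 1,nat_lit 0])
 (.leaf [nat_lit 1,nat_lit 4])
)) (.node (.node (.node (.leaf [nat_lit 0])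
 (.leaf [nat_lit 1,nat_lit 8])
) (.leaf [nat_lit 0,nat_lit 0,nat_lit 3,nat_lit 2,nat_lit 1])
) (.node (.leaf [nat_lit 1,nat_lit 1])
 (.leaf [nat_lit 1,nat_lit 5])
)))
noncomputable def u33k_iota : ℕ → ℕ := getP (nat_lit 8) (nat_lit 255) (nat_lit 0x301020006040908)
noncomputable def u33k_inv : ℕ → ℕ := getP (nat_lit 8) (nat_lit 255) (nat_lit 0x607040502030001)
noncomputable def u33k_hws : LT := .leaf []

noncomputable def u33k_T_t0 : BT :=
(.node (.node (.node (.leaf (nat_lit 0x4eec7cae336160e25f4da9914549f810c20))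
 (.leaf (nat_lit 0x59181c2419b9df08b4567695341ab49147b))
) (.node (.leaf (nat_lit 0x7cc364b7301af5231c858e18870b75a5d40))
 (.leaf (nat_lit 0xb56f09c658ceb745b08130daa13ca9401c7))
)) (.node (.node (.leaf (nat_lit 0xd36e476568a1ab12c193b1f69c2a4f10c20))
 (.leaf (nat_lit 0x2a979b0a440df08add9da6c79185a0b715))
) (.node (.leaf (nat_lit 0x2c6aa16083d4174d9ec9906e873d8d99b20))
 (.leaf (nat_lit 0x8ca74cef50bd6d83052e7a08302cad51d82))
)))

noncomputable def u33k_T_t : BT :=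
u33k_T_t0

noncomputable def u33k_T : ℕ → ℕ → ℕ := fun x i => Nat.land (Nat.shiftRight (BT.get u33k_T_t x) (Nat.mul (nat_lit 5) i)) (nat_lit 31)

noncomputable def u33k_E_t0 : BT :=
(.node (.node (.leaf (nat_lit 0x40ac0181b00606c1d02404806c1d83401606c0d8240360ac0580b0540ec098130260281a01900))
 (.leaf (nat_lit 0x201000000000000010000000040000000000001004000006034058010000000000000))
) (.leaf (nat_lit 0xa0540501303600c0581602c0500600d0280500e01d0080280e01d01600c0680c00a0300c80000))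
)

noncomputable def u33k_E_t : BT :=
u33k_E_t0

noncomputable def u33k_E : ℕ → ℕ → ℕ := fun x i => Nat.land (Nat.shiftRight (BT.get u33k_E_t x) (Nat.mul (nat_lit 11) i)) (nat_lit 2047)

theorem u33k_slp0 : allLt (nat_lit 8) (fun i => force (Nat.add (nat_lit 2) i) (slpOK u33k_S u33k_defs (nat_lit 28))) = true := by decide +kernel

theorem u33k_ren : allLt (nat_lit 8) (fun x => force (u33k_iota x) fun y => band (blt y (nat_lit 10)) (allRange (nat_lit 0) (nat_lit 28) fun i => Nat.beq (u33k_S y i) (u33k_T x i))) = true := by decide +kernel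

theorem u33k_L2_o : band (allRange (nat_lit 0) (nat_lit 28) (orbOK u33k_T (nat_lit 2) (u33k_E (nat_lit 2)) (Nat.beq (nat_lit 4)))) (band (Nat.ble (nat_lit 8) (count2 (nat_lit 28) fun p => Nat.ble 256 (u33k_E (nat_lit 2) p))) (allLt (nat_lit 0) (fun x => Nat.beq (u33k_T x (nat_lit 4)) (nat_lit 4)))) = true := by decide +kernel

theorem u33k_L1_o : band (allRange (nat_lit 0) (nat_lit 28) (orbOK u33k_T (nat_lit 4) (u33k_E (nat_lit 1)) (Nat.beq (nat_lit 1)))) (band (Nat.ble (nat_lit 27) (count2 (nat_lit 28) fun p => Nat.ble 256 (u33k_E (nat_lit 1) p))) (allLt (nat_lit 2) (fun x => Nat.beq (u33k_T x (nat_lit 1)) (nat_lit 1)))) = true := by decide +kernel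

theorem u33k_L0_o : band (allRange (nat_lit 0) (nat_lit 28) (orbOK u33k_T (nat_lit 8) (u33k_E (nat_lit 0)) (Nat.beq (nat_lit 0)))) (band (Nat.ble (nat_lit 28) (count2 (nat_lit 28) fun p => Nat.ble 256 (u33k_E (nat_lit 0) p))) (allLt (nat_lit 4) (fun x => Nat.beq (u33k_T x (nat_lit 0)) (nat_lit 0)))) = true := by decide +kernel

/-- The letters: a strong generating set, deepest stabiliser first. -/
noncomputable def u33k_g {G : Type*} [Group G] (a : ℕ → G) : ℕ → G := fun x => slp a 2 u33k_defs (u33k_iota x)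

theorem u33k_tabs {G α : Type*} [Group G] [MulAction G α] {e : ℕ → α} {a : ℕ → G} (h0 : Tabs e 28 u33k_S a 2) : Tabs e 28 u33k_T (u33k_g a) 8 :=
  Tabs.rename (ι := u33k_iota) (g := slp a 2 u33k_defs) ((Tabs.slp_base u33k_defs h0).slp_add (by decide) _ u33k_slp0) u33k_ren

theorem u33k_gen {G : Type*} [Group G] (a : ℕ → G) : genLt (u33k_g a) 8 = genLt a 2 :=
  genLt_slp_eq a u33k_defs (back := getP 8 255 (nat_lit 0x604)) (by decide +kernel)

theorem u33k_low2 {G α : Type*} [Group G] [MulAction G α] {e : ℕ → α} {a : ℕ → G} (he : Set.InjOn e (Set.Iio 28)) (h0 : Tabs e 28 u33k_S a 2) :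
    LowLevel (genLt (u33k_g a) 2) (genLt (u33k_g a) 0) (e 4) 8 :=
  Tabs.lowLevel (u33k_tabs h0) he (by decide) (by decide) (by decide) u33k_L2_o

theorem u33k_ge2 {G α : Type*} [Group G] [MulAction G α] {e : ℕ → α} {a : ℕ → G} (he : Set.InjOn e (Set.Iio 28)) (h0 : Tabs e 28 u33k_S a 2) :
    Finite (genLt (u33k_g a) 2) → 8 ≤ Nat.card (genLt (u33k_g a) 2) := fun hK =>
  (u33k_low2 he h0).card hK (one_le_card_fin _)

theorem u33k_fix2 {G α : Type*} [Group G] [MulAction G α] {e : ℕ → α} {a : ℕ → G} (he : Set.InjOn e (Set.Iio 28)) (h0 : Tabs e 28 u33k_S a 2) :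
    ∀ X : Subgroup G, Finite X → (genLt (u33k_g a) 2) ≤ X → 8 * Nat.card (fixB e X [4]) ≤ Nat.card X :=
  (u33k_low2 he h0).card_fix (card_fix_nil _ _)

theorem u33k_low1 {G α : Type*} [Group G] [MulAction G α] {e : ℕ → α} {a : ℕ → G} (he : Set.InjOn e (Set.Iio 28)) (h0 : Tabs e 28 u33k_S a 2) :
    LowLevel (genLt (u33k_g a) 4) (genLt (u33k_g a) 2) (e 1) 27 :=
  Tabs.lowLevel (u33k_tabs h0) he (by decide) (by decide) (by decide) u33k_L1_o

theorem u33k_ge1 {G α : Type*} [Group G] [MulAction G α] {e : ℕ → α} {a : ℕ → G} (he : Set.InjOn e (Set.Iio 28)) (h0 : Tabs e 28 u33k_S a 2) :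
    Finite (genLt (u33k_g a) 4) → 216 ≤ Nat.card (genLt (u33k_g a) 4) := fun hK =>
  (u33k_low1 he h0).card hK (u33k_ge2 he h0)

theorem u33k_fix1 {G α : Type*} [Group G] [MulAction G α] {e : ℕ → α} {a : ℕ → G} (he : Set.InjOn e (Set.Iio 28)) (h0 : Tabs e 28 u33k_S a 2) :
    ∀ X : Subgroup G, Finite X → (genLt (u33k_g a) 4) ≤ X → 216 * Nat.card (fixB e X [1, 4]) ≤ Nat.card X :=
  (u33k_low1 he h0).card_fix (u33k_fix2 he h0)

theorem u33k_low0 {G α : Type*} [Group G] [MulAction G α] {e : ℕ → α} {a : ℕ → G} (he : Set.InjOn e (Set.Iio 28)) (h0 : Tabs e 28 u33k_S a 2) :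
    LowLevel (genLt (u33k_g a) 8) (genLt (u33k_g a) 4) (e 0) 28 :=
  Tabs.lowLevel (u33k_tabs h0) he (by decide) (by decide) (by decide) u33k_L0_o

theorem u33k_ge0 {G α : Type*} [Group G] [MulAction G α] {e : ℕ → α} {a : ℕ → G} (he : Set.InjOn e (Set.Iio 28)) (h0 : Tabs e 28 u33k_S a 2) :
    Finite (genLt (u33k_g a) 8) → 6048 ≤ Nat.card (genLt (u33k_g a) 8) := fun hK =>
  (u33k_low0 he h0).card hK (u33k_ge1 he h0)

theorem u33k_fix0 {G α : Type*} [Group G] [MulAction G α] {e : ℕ → α} {a : ℕ → G} (he : Set.InjOn e (Set.Iio 28)) (h0 : Tabs e 28 u33k_S a 2) :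
    ∀ X : Subgroup G, Finite X → (genLt (u33k_g a) 8) ≤ X → 6048 * Nat.card (fixB e X [0, 1, 4]) ≤ Nat.card X :=
  (u33k_low0 he h0).card_fix (u33k_fix1 he h0)

theorem u33k_ub0 {G α : Type*} [Group G] [MulAction G α] {e : ℕ → α} {a : ℕ → G} (he : Set.InjOn e (Set.Iio 28)) (h0 : Tabs e 28 u33k_S a 2) (hub : Nat.card (genLt a 2) ≠ 0 ∧ Nat.card (genLt a 2) ≤ 6048) :
    Nat.card (genLt (u33k_g a) 8) ≠ 0 ∧ Nat.card (genLt (u33k_g a) 8) ≤ 6048 := by rw [u33k_gen]; exact hub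

theorem u33k_level0 {G α : Type*} [Group G] [MulAction G α] {e : ℕ → α} {a : ℕ → G} (he : Set.InjOn e (Set.Iio 28)) (h0 : Tabs e 28 u33k_S a 2) (hub : Nat.card (genLt a 2) ≠ 0 ∧ Nat.card (genLt a 2) ≤ 6048) :
    Level (genLt (u33k_g a) 8) (genLt (u33k_g a) 4) (e 0) 28 :=
  ((u33k_low0 he h0).level (c := 216) (u33k_ub0 he h0 hub) (u33k_ge1 he h0)).1

theorem u33k_ub1 {G α : Type*} [Group G] [MulAction G α] {e : ℕ → α} {a : ℕ → G} (he : Set.InjOn e (Set.Iio 28)) (h0 : Tabs e 28 u33k_S a 2) (hub : Nat.card (genLt a 2) ≠ 0 ∧ Nat.card (genLt a 2) ≤ 6048) :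
    Nat.card (genLt (u33k_g a) 4) ≠ 0 ∧ Nat.card (genLt (u33k_g a) 4) ≤ 216 :=
  ((u33k_low0 he h0).level (c := 216) (u33k_ub0 he h0 hub) (u33k_ge1 he h0)).2

theorem u33k_level1 {G α : Type*} [Group G] [MulAction G α] {e : ℕ → α} {a : ℕ → G} (he : Set.InjOn e (Set.Iio 28)) (h0 : Tabs e 28 u33k_S a 2) (hub : Nat.card (genLt a 2) ≠ 0 ∧ Nat.card (genLt a 2) ≤ 6048) :
    Level (genLt (u33k_g a) 4) (genLt (u33k_g a) 2) (e 1) 27 :=
  ((u33k_low1 he h0).level (c := 8) (u33k_ub1 he h0 hub) (u33k_ge2 he h0)).1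

theorem u33k_ub2 {G α : Type*} [Group G] [MulAction G α] {e : ℕ → α} {a : ℕ → G} (he : Set.InjOn e (Set.Iio 28)) (h0 : Tabs e 28 u33k_S a 2) (hub : Nat.card (genLt a 2) ≠ 0 ∧ Nat.card (genLt a 2) ≤ 6048) :
    Nat.card (genLt (u33k_g a) 2) ≠ 0 ∧ Nat.card (genLt (u33k_g a) 2) ≤ 8 :=
  ((u33k_low1 he h0).level (c := 8) (u33k_ub1 he h0 hub) (u33k_ge2 he h0)).2

theorem u33k_level2 {G α : Type*} [Group G] [MulAction G α] {e : ℕ → α} {a : ℕ → G} (he : Set.InjOn e (Set.Iio 28)) (h0 : Tabs e 28 u33k_S a 2) (hub : Nat.card (genLt a 2) ≠ 0 ∧ Nat.card (genLt a 2) ≤ 6048) :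
    Level (genLt (u33k_g a) 2) (genLt (u33k_g a) 0) (e 4) 8 :=
  ((u33k_low2 he h0).level (c := 1) (u33k_ub2 he h0 hub) (one_le_card_fin _)).1

theorem u33k_card2 {G α : Type*} [Group G] [MulAction G α] {e : ℕ → α} {a : ℕ → G} (he : Set.InjOn e (Set.Iio 28)) (h0 : Tabs e 28 u33k_S a 2) (hub : Nat.card (genLt a 2) ≠ 0 ∧ Nat.card (genLt a 2) ≤ 6048) :
    Nat.card (genLt (u33k_g a) 2) = 8 :=
  (u33k_level2 he h0 hub).card (card_genLt_zero _)

theorem u33k_base2 {G α : Type*} [Group G] [MulAction G α] {e : ℕ → α} {a : ℕ → G} (he : Set.InjOn e (Set.Iio 28)) (h0 : Tabs e 28 u33k_S a 2) (hub : Nat.card (genLt a 2) ≠ 0 ∧ Nat.card (genLt a 2) ≤ 6048) :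
    IsBase e (genLt (u33k_g a) 2) [4] :=
  (u33k_level2 he h0 hub).base (isBase_genLt_zero _ _)

theorem u33k_card1 {G α : Type*} [Group G] [MulAction G α] {e : ℕ → α} {a : ℕ → G} (he : Set.InjOn e (Set.Iio 28)) (h0 : Tabs e 28 u33k_S a 2) (hub : Nat.card (genLt a 2) ≠ 0 ∧ Nat.card (genLt a 2) ≤ 6048) :
    Nat.card (genLt (u33k_g a) 4) = 216 :=
  (u33k_level1 he h0 hub).card (u33k_card2 he h0 hub)

theorem u33k_base1 {G α : Type*} [Group G] [MulAction G α] {e : ℕ → α} {a : ℕ → G} (he : Set.InjOn e (Set.Iio 28)) (h0 : Tabs e 28 u33k_S a 2) (hub : Nat.card (genLt a 2) ≠ 0 ∧ Nat.card (genLt a 2) ≤ 6048) :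
    IsBase e (genLt (u33k_g a) 4) [1, 4] :=
  (u33k_level1 he h0 hub).base (u33k_base2 he h0 hub)

theorem u33k_card0 {G α : Type*} [Group G] [MulAction G α] {e : ℕ → α} {a : ℕ → G} (he : Set.InjOn e (Set.Iio 28)) (h0 : Tabs e 28 u33k_S a 2) (hub : Nat.card (genLt a 2) ≠ 0 ∧ Nat.card (genLt a 2) ≤ 6048) :
    Nat.card (genLt (u33k_g a) 8) = 6048 :=
  (u33k_level0 he h0 hub).card (u33k_card1 he h0 hub)

theorem u33k_base0 {G α : Type*} [Group G] [MulAction G α] {e : ℕ → α} {a : ℕ → G} (he : Set.InjOn e (Set.Iio 28)) (h0 : Tabs e 28 u33k_S a 2) (hub : Nat.card (genLt a 2) ≠ 0 ∧ Nat.card (genLt a 2) ≤ 6048) :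
    IsBase e (genLt (u33k_g a) 8) [0, 1, 4] :=
  (u33k_level0 he h0 hub).base (u33k_base1 he h0 hub)

theorem u33k_hinv {G α : Type*} [Group G] [MulAction G α] {e : ℕ → α} {a : ℕ → G} (he : Set.InjOn e (Set.Iio 28)) (h0 : Tabs e 28 u33k_S a 2) (hub : Nat.card (genLt a 2) ≠ 0 ∧ Nat.card (genLt a 2) ≤ 6048) : ∀ x < 8, u33k_g a x * u33k_g a (u33k_inv x) = 1 :=
  (u33k_tabs h0).hinv_of_base (u33k_base0 he h0 hub) (by decide +kernel)

theorem u33k_card {G α : Type*} [Group G] [MulAction G α] {e : ℕ → α} {a : ℕ → G} (he : Set.InjOn e (Set.Iio 28)) (h0 : Tabs e 28 u33k_S a 2) (hub : Nat.card (genLt a 2) ≠ 0 ∧ Nat.card (genLt a 2) ≤ 6048) :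
    Nat.card (genLt a 2) = 6048 := by
  rw [← u33k_gen]; exact u33k_card0 he h0 hub

end Cfsg.Agent.Spor.MX
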