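import Mathlib
import Cfsg.Agent.Spor.MX.U33
import Cfsg.Agent.Spor.MX.U33Ch
import Cfsg.Agent.Spor.MX.ClLink
import Cfsg.Agent.Cl.Sm.U33

/-! Generated by tools/mx: letters in U3(3) -/

set_option autoImplicit false
set_option maxRecDepth 100000
set_option linter.unusedVariables false
set_option exponentiation.threshold 100000

namespace Cfsg.Agent.Spor.MX

open Cfsg.Agent.Spor

universe u

noncomputable def u33k_M : ℕ → ℕ := BT.get (.node (.leaf (nat_lit 0x80203060808020504))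
   (.leaf (nat_lit 0x605070108060802))
  )

noncomputable def u33k_P : ℕ → ℕ := getP (nat_lit 24) (nat_lit 16777215) (nat_lit 0x80801040801020801010801000701000601000501080401040401020401010401000301080201040201020201010201080101040101020101010101070001060001050001030001070100060100050100030100)

noncomputable def u33k_A : ℕ → ℕ → ℕ := tabS (.node (.leaf (nat_lit 0x5060204080305020308060503070301010507080607020107080702))
   (.leaf (nat_lit 0x8030407050608070503060401080605050301040403010706020704))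
  ) (nat_lit 8) (nat_lit 255)

/-- The generators. -/
noncomputable def u33k_a : ℕ → PSU 3 Cl.GF9 3 := fun x => (PM.suOf Cl.gf9 3 3 (u33k_M x) : PSU 3 Cl.GF9 3)

/-- The points. -/
noncomputable def u33k_e : ℕ → Submodule Cl.GF9 (Fin 3 → Cl.GF9) := fun i => PM.ptOf Cl.gf9 (Equiv.refl (Fin 3)) (u33k_P i)

/-- The strong letters. -/
noncomputable def u33k_k : ℕ → PSU 3 Cl.GF9 3 := u33k_g u33k_a

noncomputable def u33m_ws : LT :=
(.node (.node (.node (.leaf [nat_lit 4,nat_lit 6,nat_lit 3,nat_lit 3,nat_lit 0,nat_lit 2])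
 (.leaf [nat_lit 6,nat_lit 0,nat_lit 2,nat_lit 1,nat_lit 3,nat_lit 0,nat_lit 0,nat_lit 0,nat_lit 0])
) (.leaf [nat_lit 5,nat_lit 3,nat_lit 3,nat_lit 0,nat_lit 2,nat_lit 1])
) (.node (.leaf [nat_lit 3,nat_lit 7,nat_lit 3,nat_lit 0,nat_lit 2,nat_lit 0])
 (.leaf [nat_lit 2,nat_lit 2,nat_lit 5,nat_lit 2,nat_lit 0,nat_lit 2,nat_lit 0,nat_lit 0])
))

noncomputable def u33m_back : LT :=
(.node (.node (.node (.leaf [nat_lit 1,nat_lit 1,nat_lit 3,nat_lit 1,nat_lit 2,nat_lit 1,nat_lit 4,nat_lit 2])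
 (.leaf [nat_lit 0,nat_lit 0,nat_lit 3,nat_lit 0,nat_lit 3,nat_lit 0,nat_lit 4,nat_lit 2,nat_lit 0,nat_lit 2,nat_lit 0,nat_lit 3])
) (.node (.leaf [nat_lit 3,nat_lit 0,nat_lit 3,nat_lit 0,nat_lit 4])
 (.leaf [nat_lit 1,nat_lit 1,nat_lit 2,nat_lit 1,nat_lit 1,nat_lit 4])
)) (.node (.node (.leaf [nat_lit 0,nat_lit 0,nat_lit 0,nat_lit 0,nat_lit 2,nat_lit 1,nat_lit 1,nat_lit 4,nat_lit 3,nat_lit 0,nat_lit 3,nat_lit 0])
 (.leaf [nat_lit 1,nat_lit 1,nat_lit 2,nat_lit 1,nat_lit 3,nat_lit 1,nat_lit 3,nat_lit 4,nat_lit 3,nat_lit 1,nat_lit 2,nat_lit 1])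
) (.node (.leaf [nat_lit 0,nat_lit 0,nat_lit 0,nat_lit 4,nat_lit 2,nat_lit 1,nat_lit 2])
 (.leaf [nat_lit 1,nat_lit 1,nat_lit 4,nat_lit 2,nat_lit 1,nat_lit 1])
)))

/-- The letters of the chain. -/
noncomputable def u33m_g : ℕ → PSU 3 Cl.GF9 3 := fun x => evalW u33k_k (u33m_ws.get x)

theorem u33k_p0 : allRange (nat_lit 0) (nat_lit 28) (PM.ptsOK Cl.gf9 (nat_lit 3) (nat_lit 28) u33k_M u33k_P u33k_S u33k_A (nat_lit 0)) = true := by decide +kernel

theorem u33k_p1 : allRange (nat_lit 0) (nat_lit 28) (PM.ptsOK Cl.gf9 (nat_lit 3) (nat_lit 28) u33k_M u33k_P u33k_S u33k_A (nat_lit 1)) = true := by decide +kernel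

theorem u33k_srt : allRange 0 28 (fun i => band (Nat.beq (PM.lead Cl.gf9 (u33k_P i) 3) 1)
    (bor (Nat.beq (Nat.succ i) 28) (blt (PM.key Cl.gf9 (u33k_P i) 3) (PM.key Cl.gf9 (u33k_P (Nat.succ i)) 3)))) = true := by decide +kernel

theorem u33k_uni : allLt 2 (fun x => PM.uniOK Cl.gf9 3 3 (u33k_M x)) = true := by decide +kernel

theorem u33k_det : ∀ x < 2, (PM.matOf Cl.gf9 (Equiv.refl (Fin 3)) (u33k_M x)).det = 1 := by decide +kernel

theorem u33m_k0 : allRange (nat_lit 0) (nat_lit 8) (backB u33k_T u33m_ws u33m_back [nat_lit 0,nat_lit 1,nat_lit 4]) = true := by decide +kernel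

theorem u33m_r4 : fixAll (tabW u33k_T u33m_ws) u33p_rels (nat_lit 4) = true := by decide +kernel

theorem u33m_r1 : fixAll (tabW u33k_T u33m_ws) u33p_rels (nat_lit 1) = true := by decide +kernel

theorem u33m_r0 : fixAll (tabW u33k_T u33m_ws) u33p_rels (nat_lit 0) = true := by decide +kernel

theorem u33k_cardG : Nat.card (PSU 3 Cl.GF9 3) = 6048 := Cl.Sm.card_PSU33

noncomputable local instance u33k_act : MulAction (PSU 3 Cl.GF9 3) (Submodule Cl.GF9 (Fin 3 → Cl.GF9)) := PM.psuAct (n := 3) (q := 3) (Cl.TF.card_eq (D := Cl.gf9)) (by norm_num)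

theorem u33k_h0 : Tabs u33k_e 28 u33k_S u33k_a 2 :=
  PM.tabs_psu (D := Cl.gf9) (n := 3) (q := 3) rfl (by norm_num) u33k_uni u33k_det (A := u33k_A) (Nat.forall_lt_succ_right.2 ⟨(Nat.forall_lt_succ_right.2 ⟨(fun _ h => absurd h (Nat.not_lt_zero _)), u33k_p0⟩), u33k_p1⟩)

theorem u33k_he : Set.InjOn u33k_e (Set.Iio 28) := PM.injOn_pts (Equiv.refl (Fin 3)) u33k_srt

theorem u33k_ktabs : Tabs u33k_e 28 u33k_T u33k_k 8 := u33k_tabs u33k_h0

theorem u33k_basek : IsBase u33k_e (genLt u33k_k 8) [0, 1, 4] := u33k_base0 u33k_he u33k_h0 (hub_of_card _ _ u33k_cardG)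

theorem u33k_topk : genLt u33k_k 8 = ⊤ := top_of_chain u33k_cardG (u33k_gen _) (u33k_card u33k_he u33k_h0 (hub_of_card _ _ u33k_cardG))

theorem u33m_tabs : Tabs u33k_e 28 (tabW u33k_T u33m_ws) u33m_g 5 := tabs_tabW u33k_ktabs (by decide +kernel) 5

theorem u33m_eq : genLt u33m_g 5 = genLt u33k_k 8 :=
  genLt_tabW u33k_ktabs u33k_basek (back := u33m_back) (by decide +kernel) (range_append _ (allLt_of_zero _) u33m_k0 rfl)

theorem u33m_base : IsBase u33k_e (genLt u33m_g 5) [0, 1, 4] := u33m_eq ▸ u33k_basek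

theorem u33m_gen : Gen ⊤ u33m_g u33p_rels 5 6048 :=
  gen_of_fixAll u33m_tabs (u33m_eq.trans u33k_topk) (u33k_topk ▸ u33k_basek) (Subgroup.card_top.trans u33k_cardG) (by decide +kernel) (forall_mem_cons' u33m_r0 (forall_mem_cons' u33m_r1 (forall_mem_cons' u33m_r4 forall_mem_nil')))


end Cfsg.Agent.Spor.MX
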