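import Mathlib
import Cfsg.Agent.Spor.MX.McL
import Cfsg.Agent.Spor.MX.M11

/-! Generated by tools/mx: the chains McL < Co3 and M11 < 2 x M11 < 3^5:(2 x M11) -/

set_option autoImplicit false
set_option maxRecDepth 100000
set_option linter.unusedVariables false
set_option exponentiation.threshold 100000

namespace Cfsg.Agent.Spor.MX

open Cfsg.Agent.Spor

universe u

noncomputable def co3_rels : LT :=
(.node (.node (.node (.node (.node (.node (.leaf [])
 (.leaf [nat_lit 0,nat_lit 0,nat_lit 0,nat_lit 2,nat_lit 0,nat_lit 2,nat_lit 1,nat_lit 1,nat_lit 1,nat_lit 2,nat_lit 4,nat_lit 3,nat_lit 2,nat_lit 0,nat_lit 3,nat_lit 1,nat_lit 2,nat_lit 3,nat_lit 4,nat_lit 1,nat_lit 2,nat_lit 1,nat_lit 1,nat_lit 1,nat_lit 2,nat_lit 3,nat_lit 1,nat_lit 2,nat_lit 1,nat_lit 1,nat_lit 2])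
) (.leaf [nat_lit 0,nat_lit 0,nat_lit 0,nat_lit 2,nat_lit 3,nat_lit 1,nat_lit 1,nat_lit 2,nat_lit 0,nat_lit 3,nat_lit 1,nat_lit 2,nat_lit 0,nat_lit 0,nat_lit 3,nat_lit 2,nat_lit 1,nat_lit 3,nat_lit 0,nat_lit 2,nat_lit 0,nat_lit 2,nat_lit 0,nat_lit 2])
) (.node (.node (.leaf [nat_lit 3,nat_lit 3])
 (.leaf [nat_lit 0,nat_lit 0,nat_lit 0,nat_lit 2,nat_lit 1,nat_lit 1,nat_lit 2,nat_lit 4,nat_lit 3,nat_lit 1,nat_lit 1,nat_lit 1,nat_lit 4,nat_lit 0,nat_lit 0,nat_lit 0,nat_lit 3,nat_lit 4,nat_lit 2,nat_lit 0,nat_lit 3,nat_lit 0,nat_lit 0,nat_lit 2,nat_lit 3,nat_lit 2,nat_lit 1,nat_lit 1,nat_lit 2,nat_lit 0,nat_lit 2])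
) (.leaf [nat_lit 0,nat_lit 0,nat_lit 0,nat_lit 2,nat_lit 1,nat_lit 1,nat_lit 1,nat_lit 2,nat_lit 1,nat_lit 2,nat_lit 1,nat_lit 4,nat_lit 1,nat_lit 4,nat_lit 2,nat_lit 4,nat_lit 0,nat_lit 4,nat_lit 0,nat_lit 2,nat_lit 0,nat_lit 2])
)) (.node (.node (.node (.leaf [nat_lit 0,nat_lit 2,nat_lit 0,nat_lit 2,nat_lit 0,nat_lit 2,nat_lit 0,nat_lit 2,nat_lit 0,nat_lit 2,nat_lit 0,nat_lit 2,nat_lit 0,nat_lit 2,nat_lit 0,nat_lit 2])
 (.leaf [nat_lit 0,nat_lit 0,nat_lit 0,nat_lit 2,nat_lit 0,nat_lit 4,nat_lit 0,nat_lit 3,nat_lit 2,nat_lit 0,nat_lit 3,nat_lit 2,nat_lit 1,nat_lit 3,nat_lit 2,nat_lit 1,nat_lit 1,nat_lit 1,nat_lit 2,nat_lit 0,nat_lit 0,nat_lit 0,nat_lit 2,nat_lit 1,nat_lit 2,nat_lit 0,nat_lit 2,nat_lit 4,nat_lit 1,nat_lit 2,nat_lit 3])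
) (.leaf [nat_lit 0,nat_lit 0,nat_lit 0,nat_lit 3,nat_lit 1,nat_lit 1,nat_lit 1,nat_lit 2,nat_lit 3,nat_lit 1,nat_lit 3,nat_lit 1,nat_lit 1,nat_lit 2,nat_lit 0,nat_lit 2,nat_lit 0,nat_lit 0,nat_lit 2,nat_lit 0,nat_lit 0,nat_lit 2,nat_lit 0,nat_lit 2,nat_lit 3,nat_lit 2])
) (.node (.node (.leaf [nat_lit 0,nat_lit 0,nat_lit 3,nat_lit 0,nat_lit 2,nat_lit 0,nat_lit 2,nat_lit 0,nat_lit 2,nat_lit 0,nat_lit 0,nat_lit 3,nat_lit 0,nat_lit 2,nat_lit 0,nat_lit 2,nat_lit 0,nat_lit 2])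
 (.leaf [nat_lit 0,nat_lit 0,nat_lit 0,nat_lit 4,nat_lit 2,nat_lit 0,nat_lit 0,nat_lit 4,nat_lit 1,nat_lit 1,nat_lit 2,nat_lit 4,nat_lit 1,nat_lit 2,nat_lit 3,nat_lit 1,nat_lit 3,nat_lit 2,nat_lit 1,nat_lit 3,nat_lit 0,nat_lit 2,nat_lit 1,nat_lit 2,nat_lit 1,nat_lit 2,nat_lit 0,nat_lit 0,nat_lit 2,nat_lit 0,nat_lit 2,nat_lit 1,nat_lit 2])
) (.leaf [nat_lit 0,nat_lit 3,nat_lit 0,nat_lit 3,nat_lit 0,nat_lit 3,nat_lit 0,nat_lit 3,nat_lit 0,nat_lit 4,nat_lit 3,nat_lit 4,nat_lit 3,nat_lit 4])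
))) (.node (.node (.node (.node (.leaf [nat_lit 0,nat_lit 0,nat_lit 0,nat_lit 0,nat_lit 0,nat_lit 0,nat_lit 0])
 (.leaf [nat_lit 0,nat_lit 0,nat_lit 0,nat_lit 2,nat_lit 0,nat_lit 2,nat_lit 0,nat_lit 4,nat_lit 1,nat_lit 2,nat_lit 1,nat_lit 1,nat_lit 1,nat_lit 2,nat_lit 3,nat_lit 0,nat_lit 2,nat_lit 0,nat_lit 0,nat_lit 0,nat_lit 2,nat_lit 1,nat_lit 1,nat_lit 2,nat_lit 0,nat_lit 2,nat_lit 0,nat_lit 0,nat_lit 0,nat_lit 4,nat_lit 2])
) (.leaf [nat_lit 0,nat_lit 0,nat_lit 0,nat_lit 2,nat_lit 1,nat_lit 1,nat_lit 2,nat_lit 0,nat_lit 2,nat_lit 1,nat_lit 1,nat_lit 3,nat_lit 0,nat_lit 3,nat_lit 2,nat_lit 3,nat_lit 1,nat_lit 3,nat_lit 0,nat_lit 2,nat_lit 1,nat_lit 3,nat_lit 2,nat_lit 3,nat_lit 2])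
) (.node (.node (.leaf [nat_lit 0,nat_lit 0,nat_lit 0,nat_lit 2,nat_lit 1,nat_lit 1,nat_lit 2,nat_lit 0,nat_lit 2,nat_lit 1,nat_lit 3,nat_lit 2,nat_lit 3,nat_lit 2,nat_lit 1,nat_lit 2,nat_lit 3,nat_lit 2])
 (.leaf [nat_lit 0,nat_lit 0,nat_lit 2,nat_lit 0,nat_lit 4,nat_lit 0,nat_lit 2,nat_lit 1,nat_lit 2,nat_lit 0,nat_lit 2,nat_lit 3,nat_lit 1,nat_lit 4,nat_lit 2,nat_lit 3,nat_lit 1,nat_lit 2,nat_lit 0,nat_lit 3,nat_lit 2,nat_lit 0,nat_lit 2,nat_lit 3,nat_lit 2,nat_lit 0,nat_lit 2,nat_lit 0,nat_lit 0,nat_lit 2,nat_lit 1,nat_lit 2])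
) (.leaf [nat_lit 0,nat_lit 0,nat_lit 2,nat_lit 0,nat_lit 2,nat_lit 1,nat_lit 2,nat_lit 1,nat_lit 2,nat_lit 1,nat_lit 4,nat_lit 2,nat_lit 3,nat_lit 2,nat_lit 4,nat_lit 1,nat_lit 2,nat_lit 0,nat_lit 3,nat_lit 2,nat_lit 3,nat_lit 2,nat_lit 1,nat_lit 2,nat_lit 0,nat_lit 2])
)) (.node (.node (.node (.leaf [nat_lit 0,nat_lit 0,nat_lit 2,nat_lit 1,nat_lit 1,nat_lit 2,nat_lit 0,nat_lit 2,nat_lit 0,nat_lit 2,nat_lit 1,nat_lit 1,nat_lit 2,nat_lit 0,nat_lit 0,nat_lit 2,nat_lit 1,nat_lit 2,nat_lit 1,nat_lit 2])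
 (.leaf [nat_lit 0,nat_lit 0,nat_lit 2,nat_lit 0,nat_lit 2,nat_lit 0,nat_lit 0,nat_lit 2,nat_lit 1,nat_lit 1,nat_lit 2,nat_lit 0,nat_lit 2,nat_lit 4,nat_lit 2,nat_lit 4,nat_lit 2,nat_lit 3,nat_lit 4,nat_lit 1,nat_lit 2,nat_lit 3,nat_lit 4,nat_lit 1,nat_lit 3,nat_lit 0,nat_lit 3,nat_lit 1,nat_lit 3,nat_lit 0,nat_lit 2])
) (.leaf [nat_lit 4,nat_lit 4])
) (.node (.node (.leaf [nat_lit 0,nat_lit 0,nat_lit 0,nat_lit 2,nat_lit 0,nat_lit 0,nat_lit 0,nat_lit 2,nat_lit 1,nat_lit 3,nat_lit 0,nat_lit 3,nat_lit 2,nat_lit 3,nat_lit 1,nat_lit 1,nat_lit 2,nat_lit 0,nat_lit 0,nat_lit 3,nat_lit 1,nat_lit 2,nat_lit 3])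
 (.leaf [nat_lit 0,nat_lit 0,nat_lit 0,nat_lit 2,nat_lit 0,nat_lit 2,nat_lit 0,nat_lit 2,nat_lit 1,nat_lit 1,nat_lit 4,nat_lit 1,nat_lit 2,nat_lit 1,nat_lit 3,nat_lit 1,nat_lit 2,nat_lit 0,nat_lit 2,nat_lit 4,nat_lit 1,nat_lit 3,nat_lit 0,nat_lit 0,nat_lit 2,nat_lit 1,nat_lit 3,nat_lit 2,nat_lit 0,nat_lit 2,nat_lit 1,nat_lit 1,nat_lit 1,nat_lit 2])
) (.leaf [nat_lit 0,nat_lit 0,nat_lit 2,nat_lit 0,nat_lit 0,nat_lit 3,nat_lit 2,nat_lit 1,nat_lit 3,nat_lit 2,nat_lit 3,nat_lit 1,nat_lit 2,nat_lit 4,nat_lit 2,nat_lit 1,nat_lit 2,nat_lit 4,nat_lit 3,nat_lit 2,nat_lit 0,nat_lit 4,nat_lit 2,nat_lit 1,nat_lit 1,nat_lit 2,nat_lit 1,nat_lit 2,nat_lit 0,nat_lit 2])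
)))) (.node (.node (.node (.node (.node (.leaf [nat_lit 0,nat_lit 1])
 (.leaf [nat_lit 0,nat_lit 0,nat_lit 0,nat_lit 2,nat_lit 0,nat_lit 2,nat_lit 1,nat_lit 1,nat_lit 3,nat_lit 1,nat_lit 1,nat_lit 4,nat_lit 0,nat_lit 2,nat_lit 0,nat_lit 0,nat_lit 0,nat_lit 2,nat_lit 3,nat_lit 4,nat_lit 2,nat_lit 4,nat_lit 1,nat_lit 2,nat_lit 1,nat_lit 1,nat_lit 2])
) (.leaf [nat_lit 0,nat_lit 0,nat_lit 0,nat_lit 2,nat_lit 1,nat_lit 1,nat_lit 2,nat_lit 0,nat_lit 3,nat_lit 2,nat_lit 1,nat_lit 1,nat_lit 2,nat_lit 0,nat_lit 2,nat_lit 1,nat_lit 2,nat_lit 0,nat_lit 2,nat_lit 3,nat_lit 1,nat_lit 2,nat_lit 0,nat_lit 0,nat_lit 2])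
) (.node (.node (.leaf [nat_lit 0,nat_lit 2,nat_lit 1,nat_lit 3,nat_lit 0,nat_lit 2,nat_lit 1,nat_lit 3,nat_lit 0,nat_lit 2,nat_lit 1,nat_lit 3,nat_lit 0,nat_lit 2,nat_lit 1,nat_lit 3])
 (.leaf [nat_lit 0,nat_lit 0,nat_lit 0,nat_lit 2,nat_lit 1,nat_lit 2,nat_lit 1,nat_lit 1,nat_lit 2,nat_lit 1,nat_lit 3,nat_lit 2,nat_lit 1,nat_lit 3,nat_lit 0,nat_lit 0,nat_lit 4,nat_lit 0,nat_lit 2,nat_lit 1,nat_lit 3,nat_lit 2,nat_lit 0,nat_lit 2,nat_lit 0,nat_lit 0,nat_lit 4,nat_lit 1,nat_lit 2,nat_lit 0,nat_lit 2])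
) (.leaf [nat_lit 0,nat_lit 0,nat_lit 0,nat_lit 2,nat_lit 1,nat_lit 1,nat_lit 4,nat_lit 2,nat_lit 0,nat_lit 3,nat_lit 1,nat_lit 2,nat_lit 4,nat_lit 0,nat_lit 0,nat_lit 2,nat_lit 1,nat_lit 3,nat_lit 0,nat_lit 2,nat_lit 0,nat_lit 2,nat_lit 0,nat_lit 2])
)) (.node (.node (.node (.leaf [nat_lit 0,nat_lit 0,nat_lit 2,nat_lit 1,nat_lit 1,nat_lit 2,nat_lit 0,nat_lit 0,nat_lit 2,nat_lit 1,nat_lit 1,nat_lit 2,nat_lit 0,nat_lit 0,nat_lit 2,nat_lit 1,nat_lit 1,nat_lit 2])
 (.leaf [nat_lit 0,nat_lit 0,nat_lit 2,nat_lit 0,nat_lit 4,nat_lit 2,nat_lit 0,nat_lit 2,nat_lit 0,nat_lit 2,nat_lit 0,nat_lit 0,nat_lit 3,nat_lit 0,nat_lit 4,nat_lit 1,nat_lit 2,nat_lit 3,nat_lit 0,nat_lit 3,nat_lit 2,nat_lit 3,nat_lit 1,nat_lit 2,nat_lit 0,nat_lit 2,nat_lit 0,nat_lit 2,nat_lit 0,nat_lit 2])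
) (.leaf [nat_lit 0,nat_lit 0,nat_lit 2,nat_lit 1,nat_lit 2,nat_lit 1,nat_lit 2,nat_lit 1,nat_lit 2,nat_lit 1,nat_lit 3,nat_lit 0,nat_lit 0,nat_lit 2,nat_lit 1,nat_lit 3,nat_lit 1,nat_lit 1,nat_lit 2,nat_lit 0,nat_lit 0,nat_lit 2,nat_lit 1,nat_lit 3,nat_lit 1,nat_lit 2])
) (.node (.node (.leaf [nat_lit 0,nat_lit 0,nat_lit 2,nat_lit 1,nat_lit 1,nat_lit 2,nat_lit 0,nat_lit 2,nat_lit 3,nat_lit 0,nat_lit 3,nat_lit 0,nat_lit 2,nat_lit 1,nat_lit 3,nat_lit 1,nat_lit 3,nat_lit 1,nat_lit 2])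
 (.leaf [nat_lit 0,nat_lit 0,nat_lit 0,nat_lit 2,nat_lit 0,nat_lit 0,nat_lit 0,nat_lit 2,nat_lit 0,nat_lit 0,nat_lit 2,nat_lit 1,nat_lit 1,nat_lit 2,nat_lit 1,nat_lit 2,nat_lit 0,nat_lit 0,nat_lit 3,nat_lit 2,nat_lit 1,nat_lit 3,nat_lit 0,nat_lit 0,nat_lit 0,nat_lit 2,nat_lit 0,nat_lit 4,nat_lit 2,nat_lit 4,nat_lit 1,nat_lit 4,nat_lit 2,nat_lit 4])
) (.leaf [nat_lit 0,nat_lit 2,nat_lit 0,nat_lit 3,nat_lit 1,nat_lit 2,nat_lit 1,nat_lit 4,nat_lit 2,nat_lit 1,nat_lit 3,nat_lit 0,nat_lit 4,nat_lit 1,nat_lit 3,nat_lit 0,nat_lit 2,nat_lit 4])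
))) (.node (.node (.node (.node (.leaf [nat_lit 2,nat_lit 2])
 (.leaf [nat_lit 0,nat_lit 0,nat_lit 0,nat_lit 2,nat_lit 0,nat_lit 2,nat_lit 0,nat_lit 0,nat_lit 0,nat_lit 4,nat_lit 3,nat_lit 0,nat_lit 0,nat_lit 0,nat_lit 2,nat_lit 3,nat_lit 2,nat_lit 0,nat_lit 4,nat_lit 0,nat_lit 2,nat_lit 1,nat_lit 2,nat_lit 0,nat_lit 2,nat_lit 1,nat_lit 3,nat_lit 0,nat_lit 2,nat_lit 1,nat_lit 2])
) (.leaf [nat_lit 0,nat_lit 0,nat_lit 0,nat_lit 3,nat_lit 1,nat_lit 2,nat_lit 0,nat_lit 2,nat_lit 1,nat_lit 2,nat_lit 1,nat_lit 3,nat_lit 0,nat_lit 0,nat_lit 2,nat_lit 1,nat_lit 3,nat_lit 2,nat_lit 0,nat_lit 2,nat_lit 1,nat_lit 2,nat_lit 1,nat_lit 1,nat_lit 2])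
) (.node (.node (.leaf [nat_lit 2,nat_lit 3,nat_lit 2,nat_lit 3,nat_lit 2,nat_lit 3,nat_lit 2,nat_lit 3,nat_lit 2,nat_lit 3,nat_lit 2,nat_lit 3])
 (.leaf [nat_lit 0,nat_lit 0,nat_lit 2,nat_lit 0,nat_lit 2,nat_lit 0,nat_lit 0,nat_lit 2,nat_lit 1,nat_lit 1,nat_lit 2,nat_lit 1,nat_lit 4,nat_lit 1,nat_lit 2,nat_lit 0,nat_lit 0,nat_lit 2,nat_lit 3,nat_lit 0,nat_lit 4,nat_lit 0,nat_lit 3,nat_lit 0,nat_lit 0,nat_lit 2,nat_lit 1,nat_lit 2,nat_lit 1,nat_lit 3,nat_lit 2,nat_lit 1,nat_lit 2])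
) (.leaf [nat_lit 0,nat_lit 0,nat_lit 0,nat_lit 4,nat_lit 0,nat_lit 3,nat_lit 1,nat_lit 1,nat_lit 3,nat_lit 0,nat_lit 0,nat_lit 3,nat_lit 1,nat_lit 4,nat_lit 1,nat_lit 1,nat_lit 1,nat_lit 2,nat_lit 1,nat_lit 3,nat_lit 1,nat_lit 3,nat_lit 0,nat_lit 3,nat_lit 0,nat_lit 2])
)) (.node (.node (.node (.leaf [nat_lit 0,nat_lit 0,nat_lit 0,nat_lit 2,nat_lit 1,nat_lit 1,nat_lit 2,nat_lit 1,nat_lit 2,nat_lit 0,nat_lit 0,nat_lit 0,nat_lit 2,nat_lit 1,nat_lit 2,nat_lit 0,nat_lit 2,nat_lit 1,nat_lit 2,nat_lit 1,nat_lit 2,nat_lit 1,nat_lit 2])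
 (.leaf [nat_lit 0,nat_lit 0,nat_lit 0,nat_lit 2,nat_lit 1,nat_lit 2,nat_lit 0,nat_lit 0,nat_lit 0,nat_lit 2,nat_lit 3,nat_lit 1,nat_lit 3,nat_lit 2,nat_lit 1,nat_lit 3,nat_lit 2,nat_lit 4,nat_lit 1,nat_lit 1,nat_lit 1,nat_lit 2,nat_lit 3,nat_lit 2,nat_lit 0,nat_lit 0,nat_lit 0,nat_lit 4,nat_lit 1,nat_lit 1,nat_lit 2])
) (.leaf [nat_lit 3,nat_lit 4,nat_lit 3,nat_lit 4,nat_lit 3,nat_lit 4])
) (.node (.node (.leaf [nat_lit 0,nat_lit 0,nat_lit 0,nat_lit 2,nat_lit 1,nat_lit 1,nat_lit 2,nat_lit 0,nat_lit 2,nat_lit 1,nat_lit 2,nat_lit 1,nat_lit 2,nat_lit 3,nat_lit 2,nat_lit 3,nat_lit 0,nat_lit 2,nat_lit 3,nat_lit 2,nat_lit 3,nat_lit 2,nat_lit 1,nat_lit 3])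
 (.leaf [nat_lit 0,nat_lit 0,nat_lit 0,nat_lit 2,nat_lit 0,nat_lit 3,nat_lit 2,nat_lit 3,nat_lit 1,nat_lit 2,nat_lit 0,nat_lit 3,nat_lit 1,nat_lit 1,nat_lit 3,nat_lit 4,nat_lit 1,nat_lit 1,nat_lit 2,nat_lit 0,nat_lit 0,nat_lit 2,nat_lit 4,nat_lit 1,nat_lit 1,nat_lit 2,nat_lit 0,nat_lit 0,nat_lit 2,nat_lit 1,nat_lit 2,nat_lit 0,nat_lit 2,nat_lit 1,nat_lit 2])
) (.leaf [nat_lit 0,nat_lit 0,nat_lit 0,nat_lit 3,nat_lit 1,nat_lit 2,nat_lit 3,nat_lit 2,nat_lit 4,nat_lit 0,nat_lit 4,nat_lit 1,nat_lit 4,nat_lit 3,nat_lit 2,nat_lit 3,nat_lit 0,nat_lit 4,nat_lit 1,nat_lit 2,nat_lit 1,nat_lit 1,nat_lit 2,nat_lit 0,nat_lit 2,nat_lit 0,nat_lit 0,nat_lit 2,nat_lit 0,nat_lit 2])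
)))))
noncomputable def co3_inv : ℕ → ℕ := getP (nat_lit 8) (nat_lit 255) (nat_lit 0x403020001)
noncomputable def co3_pi : ℕ → ℕ := getP (nat_lit 16) (nat_lit 65535) (nat_lit 0x160008000300010001)

noncomputable def co3_L_t0 : BT :=
(.node (.node (.node (.node (.node (.node (.leaf (nat_lit 0xffe000000000000000000000000000000000000000000000000000000000000000000000000000000000000000001142400000000000000000000000000000000000000000000000000000000000000000000000000000000000000856a68000000000000000000000000000000000000000000000000000000000000000000000000000000000000010a94b00000000000000000000000000000000000000000000000000000000000000000000000000000000000000007e100000000000000000000000000000000000000000000000000000000000000000000000000000000000000042811c0240000000000000001009800000000000000000000000000000000000000000000000000000000000020c45f958000000000000000000000000000000000000000000000000000000000000000000000000000000000000000390700000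00000000000000000000000000000000000000000000000000000000000000000000000000000000021187c000000000000000000000000000000000000000000000000000000000000000000000000000000000000004228f4000000000000000000000000000000000000000000000000000000000000000000000000000000000000008419c80000000000000000000000000000000000000000000000000000000000000000000000000000000000000004b200000000000000000000000000000000000000000000000000000000000000000000000000000000000000020f46a0000000000000000000000000000000000000000000000000000000000000000000000000000000000000000b41400000000000000000000000000000000000000000000000000000000000000000000000000000000000000838178000000001000000000000000000000000000000000000000000000000000000000000000000000000024000291000000000000000000000000000000000000000000000000000000000000000000000000000000000000000004a08000000000000000000000000000000000000000000000000000000000000000000000000000000000000004180a4000000000000000000000000000000000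000000000000000000000000000000000000000000000000000003ff80000000000000000000000000000000000000000000000000000000000000000000000000000000000000001058260000000000000000000000000000000000000000000000000000000000000000000000000000000000000020a4460000000000000000000000000000000000000000000000000000000000000000000000000000000000000000640c000000000000000000000000000000000000000000000000000000000000000000000000000000000000003ff8000000000000000000000000000000000000000000000000000000000000000000000000000000000000000103c1a00000000000000000000000000000000000000000000000000000000000000000000000000000000000000206c2e0000000000000000000000000000000000000000000000000000000000000000000000000000000000000040c05000000000000000000000000000000000000000000000000000000000000000000000000000000000000000815088000000000000000000000000000000000000000000000000000000000000000000000000000000000000010210e0000000000000000000000000000000000000000000000000000000000000000000000000000000000000000120200000000000000000000000000000000000000000000000000000000000000000000000000000000000000404018000000000000000000000000000000000000000000000000000000000000000000000000000000000000008030100000000000000000000000000000000000000000000000000000000000000000000000000000000000000380000))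
 (.leaf (nat_lit 0x30010016001000003c01e000003000001200700500380040000000000024000009801002600c009001f613ed50000000000000000000000000000000000000000000000000000000000000000000000000000000000000001ffc00022005008801401600b0018000022000001804402600c002800000000000900000260050050008024004d45023b0000000000000000000000000000000000000000000000000000000000000000000000000000000000000001bd630000000000000000000000000000000000000000000000000000000000000000000000000000000000000002e0be000000000000000000000000000000000000000000000000000000000000000000000000000000000000001ffc00000000000000000000000000000000000000000000000000000000000000000000000000000000000000003ff80003001c004009001400200400000400000100080044000012000000000000000000000080080010000002001f4a9000000000000000000000000000000000000000000000000000000000000000000000000000000000000000ffe0000f008803c002012009003c0020030000014006003005000800000000000040000000080028020002007a426ee380080020058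00c01a011006000000c000004801400a0080018000000000000000000000b0028038000004c84d4c480000000000000000000000000000000000000000000000000000000000000000000000000000000000000016356000000000000000000000000000000000000000000000000000000000000000000000000000000000000000ffe0000500180180020120068028000010000003801600b00200080000020000000002001000002001001300524285600000000000000000000000000000000000000000000000000000000000000000000000000000000000000003ff800000000000000000000000000000000000000000000000000000000000000000000000000000000000000007ff00000000000000000000000000000000000000000000000000000000000000000000000000000000000000000ffe0000700100140260020008018026011000003c0220110050048000000000004c00000000200280080120026026da0401000d00480400140090040000002013009000c00a006007004c02401200200180240110090048012009b851abc0000000000000000000000000000000000000000000000000000000000000000000000000000000000000007ff00000003001c0130088004014001003000001a013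004004c02201200800000060060080004000004006800ed148508000000000000000000000000000000000000000000000000000000000000000000000000000000000000001ffc00000000000000000000000000000000000000000000000000000000000000000000000000000000000000000a6a50000000000000000000000000000000000000000000000000000000000000000000000000000000000000007ff00000000000000000000000000000000000000000000000000000000000000000000000000000000000000000ffe0000000000000000000000000000000000000000000000000000000000000000000000000000000000000000052120000000000000000000000000000000000000000000000000000000000000000000000000000000000000003ff8000440020050090014002004000004400000f008804802201200000000000130000000002005001804c01e001ae7e00580000060130010004004000009000002201200900440260000000000000000000000c00a0020000004003269200900000440020120098048000002000000c00400200180040000000000000000000008803c0240000098006560c0000000000000000000000000000000000000000000000000000000000000000000000000000000000000009e2300000160110028030002013000004800000500000080120040000048000012000004c00a00300980000233ca1170))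
) (.leaf (nat_lit 0x7800400201300100000000000090000026013009804c02600000000000000000000004004000000001921318a6000000000000000000000000000000000000000000000000000000000000000000000000000000000000001ffc000000000000000000000000000000000000000000020000000000000000000000000000000000000000130008a370000000000000000000000000000000000000000000000000000000000000000000000000000000000000000e0250000000000000000000000000000000000000000000000000000000000000000000000000000000000000022cd2c0010000000000000000000000000000000000000000008000000000000000000000000000000000000090003514800000000000000000000000000000000000000000000000000000000000000000000000000000000000000066120000000000000000000000000000000000000000000000000000000000000000000000000000000000000007ff00000000000000000000000000000000000000000000000000000000000000000000000000000000000000000ffe00006001002c01c00d0008028000010000002c020011009803c000000000004800401200600380080000062d283d14000000000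000000000000000000000000000000000000000000000000000000000000000000000000000003ff8000000000000000000000000000000000000000000000000000000000000000000000000000000000000000115e9200180480260010090000000000000800000200000000000000000000000000000000004c0260000000009592ea5c0000000000000000000000000000000000000000000000000000000000000000000000000000000000000002f084000000000000000000000000000000000000000000000000000000000000000000000000000000000000008ae4880000000000000000000000000000000000000000000000000000000000000000000000000000000000000115a90000000000000000000000000000000000000000000000000000000000000000000000000000000000000000ffe00000000000000000000000000000000000000000000000000000000000000000000000000000000000000001ffc00000000000000000000000000000000000000000000000000000000000000000000000000000000000000003ff8000000220020008044006002000004400001200880440180010000000000013009804c00a0090018048000949e56c00000000000000000000000000000000000000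00000000000000000000000000000000000000000000000022a3180110088028020009001802400000d000002801c00f00700400000000000000000000004804000c0000072427a5dc000000000000000000000000000000000000000000000000000000000000000000000000000000000000000528d8000000000000000000000000000000000000000000000000000000000000000000000000000000000000011438500000000000000000000000000000000000000000000000000000000000000000000000000000000000000227b0400000000000000000000000000000000000000000000000000000000000000000000000000000000000000027c64000000000000000000000000000000000000000000000000000000000000000000000000000000000000003ff8000480180120048048012003000004802401000300040040070088000000007006803000a002007804400080a267c0000000000000000004c00000000000000000000000000000000000000000000000000000000000000004f91303800000000000000000000000000000000000000000000000000000000000000000000000000000000000000025460000000000000000000000000000000000000000000000000000000000000000000000000000000000000003ff800000000000000000000000000000000000000000000000000000000000000000000000000000000000000007ff00))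
) (.node (.node (.leaf (nat_lit 0x2256f4000000000000000000000000000000000000000000000004c00000000000000000000000000000000001000431ac000000000000000000000000000000000000000000000000000000000000000000000000000000000000003ff800000000000000000000000000000000000000000000000000000000000000000000000000000000000000007ff000008008024001009004c02200000100000040020008004002000000000000200100080000220130010038c93ce9800000000000000000000000000000000000000000000000000000000000000000000000000000000000000021854000000000000000000000000000000000000000000000000000000000000000000000000000000000000003ff800000000000000000000000000000000000000000000000000000000000000000000000000000000000000007ff00000000000000000000000000000000000000000000000000000000000000000000000000000000000000000ffe000000000000000000000000000000000000000000000000000000000000000000000000000000000000000001f84c0000000000000000000000000000000000000000000000000000000000000000000000000000000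00000003ff80000001000d002803400a004000004c00000300180000100050000008000001008800002200400180440180023364007801802200e00500180160000030000002009003801c01c0000000000004013000003c01200d0008034a13f6aa000000000000000000000000000000000000000000000000000000000000000000000000000000000000001ffc000000000000000000000000000000000000000000000000000000000000000000000000000000000000000003a8900440100030088018026002000004000000f00900480040110000000000000009000001e00100100480104c98a440000000000000000000000000000000000000000098000000000000000000000000000000000000000004001ccba00000000000000000000000000000000000000000000000000000000000000000000000000000000000000441da800000000000000000000000000000000000000000000000000000000000000000000000000000000000000880340000000000000000000000000000000000000000000000000000000000000000000000000000000000000010f765000000400000000000000000000000000000000000000000000000000000000000000000000000000004c001bcb60000000000000000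000000000000000000000000000000000000000000000000000000000000000000000043bd88000000000000000000000000000000000000000000013000000000000000000000000000000000000001000692d0000000000000000400000000000000000000008000000000000000000000000000000000000000000024000e25c0000000000000000000000000000000000000000000000000000000000000000000000000000000000000000b61800000000000000000000000000000000000000000000000000000000000000000000000000000000000000439d7800000000000000000000000000000000000004c000000000000000000000000000000000000000000001000672c8000000000000000000000000000000000000000000000000000000000000000000000000000000000000000550b0000000000000009800000000000000000000000000000000000000000000000000000000000000000004000be5000000000000000000000000000000000000000000000000000000000000000000000000000000000000000430d5002600000000000000000000000000000000000000000000000000000000000000000000000000000000118427078000000000000000000000000000000000000000000000000000000000000000000000000000000000000000490a))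
 (.leaf (nat_lit 0x1ffc00000000000000000000000000000000000000000000000000000000000000000000000000000000000000000f0c3001c024001000804800400000000000000130098048022001000000000000000000000080050010000009d09dd9a000000000000000000000000000000000000000000000000000000000000000000000000000000000000000ffe0000000000000000000000000000000000000000000000000000000000000000000000000000000000000000075dd0000000000000000000000000000000000000000000000000000000000000000000000000000000000000003ff800000000000000000000000000000000000000000000000000000000000000000000000000000000000000001d27100280040060110038000004000009800002000100080100220000000000000000000004c0000000000023793db44000000000000000000000000000000000000000000000000000000000000000000000000000000000000001ffc00014000000004c0040000000000004000000000400200500980000000000000000000012008804c000009da4e4d00000000000000000000000000000000000000000000000000000000000000000000000000000000000000001c669))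
) (.leaf (nat_lit 0x2708600100080000000000000000000001000000000200100000000000000000000000000000004c0000000080005fd5c00000000000000000000000000000000000000000000000000000000000000000000000000000000000000099210010018001003803000e00f00000140040050090018018009001800000000b00380200020030000004000002295100000000000000000000000000000000000000000000000000000000000000000000000000000000000000025c8000000000040000000000000000000000004c0000000000000000000000000000000000000000020000088005ca6c0260110060028000003000000000a000007000c00a01100500000240000090014026013003003c00800300116d20000000000000000000000000000000000000000000000000000000000000000000000000000000000000007ff0000000000000000000000000000000000000000000000000000000000000000000000000000000000000000024e7600a0060034026000003802400000a000001c012006008004c00000000000080000010020034018002001a02809e4000000000000000000000000000000000000000000000000000000000000000000000000000000000000003ff80002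00160010080024000012000004000001100000080000100000000000000009000001200e009804801c0023f8d00000000000000000000000000000000000000000000000000000000000000000000000000000000000000023e6e000000000000000000000000000000000000000000000000000000000000000000000000000000000000001ffc000000000000000000000000000000000000000000000000000000000000000000000000000000000000000008d9a00000000000000000000000000000000000000000000000000000000000000000000000000000000000000011933000000000000000000000000000000000000000000000000000000000000000000000000000000000000000ffe00000000000000000000000000000000000000000000000000000000000000000000000000000000000000000448c4020008001804400c013000800002000000780480240010088000000000000004402601100180080260088a4c8338048004013009800c0240000000008000001001000800a0130000000000000000000001e00d00900000110c9a795000000000000000000000000000000000000000000000000200000000000000000000000000000000004800268fa002000804c000000000000000000100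0000400200100080040000000000000000000000004c026000007c02614fc000000000000000000000000000000000000000000000000000000000000000000000000000000000000008e1cf80140000120008048022011000001c00000500200100100020000008000000000800002000a0080004012f499f5800300180080120020004004000008800001c012008804802400000080000000130008044008004008802800366a00000000000000000000000000000000000000000000000000000000000000000000000000000000000000003ecb0000000000000000000000000000000000000000000000000000000000000000000000000000000000000003ff800000000000000000000000000000000000000000000000000000000000000000000000000000000000000011bf9d0000000000000000000000000000000000000000000000000000000000000000000000000000000000000001e854000000000000000000000000000000000000000000000000000000000000000000000000000000000000001ffc00000000000000000000000000000000000000000000000000000000000000000000000000000000000000003ff800000000000000000000000000000000000000000000000000000000000000000000000000000000000000000ec27))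
)) (.node (.node (.node (.leaf (nat_lit 0xffe000000000000000000000000000000000000000000000000000000000000000000000000000000000000000042d14000000000000000000000000000000000000000000000000000000000000000000000000000000000001300021840000000000000000000000000000000000000000000000000000000000000000000000000000000000000007ff00000000000000000000000000000000000000000000000000000000000000000000000000000000000000000ffe00000000000000000000000000000000000000000000000000000000000000000000000000000000000000001ffc00000000000000000000000000000000000000000000000000000000000000000000000000000000000000003ff8000000000000000000000000000000000000000000000000000000000000000000000000000000000000000109c4500000000000000000000000000000000000000000000000000000000000000000000000000000000000000212482000000000000000000000000000000000000000000000000000000000000000000000000000000000000001ffc00000000000000000000000000000000000000000000000000000000000000000000000000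000000000000008449e00000000000000000000000000000000000000000000000000000000000000000000000000000000000000108138000000000000000000000000000000000000000000000000000000000000000000000000000000000000000ffe000000000000000000000000000000000000000000000000000000000000000000000000000000000000000041e4d0000000000000000000000000000000000000000000000000000000000000000000000000000000000000003ff8000000000000000000000000000000000000000000000000000000000000000000000000000000000000260002704000000000000000000000000000000000000000000000000000000000000000000000000000000000000000ffe00000000000000000000000000000000000000000000000000000000000000000000000000000000000000001ffc000000000000000000000000000000000000000000000000000000000000000000000000000000000000130000f818000000000000000000000000000000000000000000000000000000000000000000000000000000000000007ff00000000000000000000000000000000000000000000000000000000000000000000000000000000000000000ffe00000000000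000000000000000000000000000000000000000000000000000000000000000000000000000001ffc000000000000000000000000000000000000000000000000000000000000000000000000000000000000130000b810000000000000000000000000000000000000000000000000000000000000000000000000000000000000010421d000000000000000000000000000000000000000000000000000000000000000000000000000000000000000ffe00000000000000000000000000000000000000000000000000000000000000000000000000000000000000001ffc0000000000000000000000000000000000000000000000000000000000000000000000000000000002600102407828000000000000000000000000000000000000000000000000000000000000000000000000000000000000010261000000000000000000000000000000000000000000000000000000000000000000000000000000000000000203c1a00000000000000000000000000000000000000000000000000000000000000000000000000000000000000405824000000000000000000000000000000000000000000000000000000000000000000000000000000000013000028000000000000000000000000000000000000000000000000000000000000000000000000000000000000000100401))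
 (.leaf (nat_lit 0xffe00000000000000000000000000000000000000000000000000000000000000000000000000000000000009800709a0000000000000000000000000000000000000000000000000000000000000000000000000000000000000003ff800000000000000000000000000000000000000000000000000000000000000000000000000000000000000007ff00000000000000000000000000000000000000000000000000000000000000000000000000000000000000000ffe00000000000000000000000000000000000000000000000000000000000000000000000000000000000000001ffc00000000000000000000000000000000000000000000000000000000000000000000000000000000000000003ff800000000000000000000000000000000000000000000000000000000000000000000000000000000000000007ff00000000000000000000000000000000000000000000000000000000000000000000000000000000000000000ffe0000c000803801a0110028028000012000804800a0080008038004000000003c018004005002c01e00700865289658000000000000000000000000000000000000000000000000000000000000000000000000000000000000003ff800000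000000000000000000000000000000000000000000000000000000000000000000000000000000000007ff00000000000000000000000000000000000000000000000000000000000000000000000000000000000000000ffe00000000000000000000000000000000000000000000000000000000000000000000000000000000000000001ffc0000e0060028048006002001804c01c000006804001c00d009000000000000000480000040070014022006024dd3a8000000000000000000000000000000000000000000000000000000000000000000000000000000000000007ff00000000000000000000000000000000000000000000000000000000000000000000000000000000000004c002b09e000000000000000000000000000000000000000000000000000000000000000000000000000000000000001ffc0001000100080480040100060000002001008004401e00300980040000020080048004001005800401c007be51ec60000000000000000000000000000000000000000000000000000000000000000000000000000000000000007ff00000000000000000000000000000000000000000000000000000000000000000000000000000000000004c002a09400000000000000000000000000000000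0000000000000000000000000000000000000000000000000000001ffc00000000000000000000000000000000000000000000000000000000000000000000000000000000000000003ff8000000000000000000000000000000000000000000000000000000000000000000000000000000000000260014b49000000000000000000000000000000000000000000000000000000000000000000000000000000000000000ffe00000000000000000000000000000000000000000000000000000000000000000000000000000000000000001ffc00000000000000000000000000000000000000000000000000000000000000000000000000000000000000003ff800000000000000000000000000000000000000000000000000000000000000000000000000000000000000007ff00000000000000000000000000000000000000000000000000000000000000000000000000000000000000000ffe00000000000000000000000000000000000000000000000000000000000000000000000000000000000000001ffc00000000000000000000000000000000000000000000000000000000000000000000000000000000000000003ff800000000000000000000000000000000000000000000000000000000000000000000000000000000000000007ff00))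
) (.leaf (nat_lit 0xffe00000000000000000000000000000000000000000000000000000000000000000000000000000000000000001ffc00000000000000000000000000000000000000000000000000000000000000000000000000000000000000008b64c8000000000000000000000000000000000000000000000000000000000000000000000000000000000000007ff00002801000c0060030038016000000004c00200e006000c00a0130000000004006007804c010006003802000440f8005005800400800e001801000000f0000004022013002000c00001200000480020130058034004001005800860ec000000000000000000000000000000000000000000000000000000000000000000000000000000000000003ff800000000000000000000000000000000000000000000000000000000000000000000000000000000000000007ff00000000000000000000000000000000000000000000000000000000000000000000000000000000000000000ffe00000000000000000000000000000000000000000000000000000000000000000000000000000000000000001ffc00000000000000000000000000000000000000000000000000000000000000000000000000000000000000003ff80000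0000000000000000000000000000000000000000000000000000000000000000000000000000000000007ff00000000000000000000000000000000000000000000000000000000000000000000000000000000000000000ffe00000000000000000000000000000000000000000000000000000000000000000000000000000000000000001ffc00000000000000000000000000000000000000000000000000000000000000000000000000000000000000003ff800000000000000000000000000000000000000000000000000000000000000000000000000000000000026000b51e0000000000000000000000000000000000000000000000000000000000000000000000000000000000000022af1e0000000000000000000000000000000000000000000000000000000000000000000000000000000130008122c47c000000000000000000000000000000000000000000000000000000000000000000000000000000000000003ff800000000000000000000000000000000000000000000000000000000000000000000000000000000000000007ff00000000000000000000000000000000000000000000000000000000000000000000000000000000000000000ffe000000000000000000000000000000000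0000000000000000000000000000000000000000000000000000000453e2c000000000000000000000000000000000000000000000000000000000000000000000000000000000000008a54400000000000000000000000000000000000000000000000000000000000000000000000000000000000000114987000000000000000000000000000000000000000000000000000000000000000000000000000000000000000ffe00000000000000000000000000000000000000000000000000000000000000000000000000000000000000001ffc000000000000000000000000000000000000000000000000000000000000000000000000000000000000130004e8c0000000000000000000000000000000000000000000000000000000000000000000000000000000000000007ff00000000000000000000000000000000000000000000000000000000000000000000000000000000000000000ffe0000e000003c01e00a002803400000d000002001a00c00480400000000000000004012002001c012002006800850a8000000000000000000000000000000000000000000000000000000000000000000000000000000000013000498b803c02000e007003800c0090000000002013003002002200f0008000000012007001400200c00700380140021e24))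
) (.node (.node (.leaf (nat_lit 0xffe00000000000000000000000000000000000000000000000000000000000000000000000000000000000000001ffc00000000000000000000000000000000000000000000000000000000000000000000000000000000000000003ff800000000000000000000000000000000000000000000000000000000000000000000000000000000000000007ff0000780240260100030044020000002800002600300080400220000010000004013000802400e0120098020d942eb4000000000000000000000000000000000000000000000000000000000000000000000000000000000000001ffc00000000000000000000000000000000000000000000000000000000000000000000000000000000000000003ff8000000000000000000000000000000000000000000000000000000000000000000000000000000000000260008214007804c026000000804c026001000800000200100100140260000000000000000000003c01a0130000034b9368d6000000000000000000000000000000000000000000000000000000000000000000000000000000000000001ffc0000000000000000000000000000000001000000000000000000000000000000000000000000000000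001200082b48000000000000000000000000000000000000000000000000000000000000000000000000000000000000007ff00000000000000000000000000000000000000000000000000000000000000000000000000000000000000000ffe00000000000000000000000000000000000000000000000000000000000000000000000000000000000000001ffc00000000000000000000000000000000000000000000000000000000000000000000000000000000000000003ff800000000000000000000000000000000000000000000000000000000000000000000000000000000000000007ff00000000000000000000000000000000000000000000000000000000000000000000000000000000000000000ffe000000000000000000000000000000000000000000000000000000000000000000000000980000000130010121bcb8000000000000000000000000000000000000000000000000004c0000000000000000000000000002600202483168000000000000000000000000000000000000000000000000000000000000000000000000000000000000007ff000000000000000000000000000000000000000000000000000000000004c00000000000000000000000004910ce4a006000001400a00a0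07801c000007000003000e00800580100000000000000024002008003401601200311284d08000000000004c0000000000000000000000000000000000000000000000000000000000000000000000120431148000000000000000000000000000000000000000000000000000000000000000000000000000000000000010ed61000000000000000000000000000000000000000000000000000000000000000000000000000000000000000ffe00000000000000000000000000000000000000000000000000000000000000000000000000000000000000001ffc0000000000000000000000000000000000000000000000000000000000010000000000000000000000001200034158014008006003001801c00b000000002600100700300060050098000000002003003c026008003001801234a1d40000000000000000000000000000000000000000000000000000000000000000000000000000000000000000ffe00000000000000000000000000000000000000000000000000000000000000000000000000000000000000001ffc00000000000000000000000000000000000000000000000000000000000000000000000000000000000000003ff800000000000000000000000000000000000000000000000000000000000000000000000000000000000000007ff00))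
 (.leaf (nat_lit 0x130000000000013001012792a8000000000000000000000000000000000000000000000000000000000000000000000000000000000000003ff800000000000000000000000000000000000000000000000000000000000000000000000000000000000000007ff00000000000000000000000000000000000000000000000000000000000000000000000000000000000000000ffe00000000000000000000000000000000000000000000000000000000000000000000000000000000000000001ffc00000000000000000000000000000000000000000000000000000000000000000000000000000000000000003ff800000000000000000000000000000000000000000000000000000000000000000000000000000000000000007ff00000000000000000000000000000000000000000000000000000000000000000000000000000000000000000ffe00000000000000000000000000000000000000000000000000000000000000000000000000000000000000001ffc00000000000000000000000000000000000000000000000000000000000000000000000000000000000000003ff800000000000000000000000000000000000000000000000000000000000000000000000000000000000000007ff00))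
) (.leaf (nat_lit 0xffe00000000000000000000000000000000000000000000000000000000000000000000000000000000000000001ffc00000000000000000000000000000000000000000000000000000000000000000000000000000000000000003ff80003c02000e007003800c0090000000002013003002002200f0008000000012007001400200c007003401604a1f5b000000000000000000000000000000000000000000000000000000000000000000000000000000000000000ffe0001000280440260030098048000003000800c008006004800000000000000000000000080030020000009cb27e1e8000000000000000000000000000000000000000000000000000000000000000000000000000000000000003ff800000000000000000000000000000000000000000000000000000000000000000000000000000000000000007ff00000000000000000000000000000000000000000000000000000000000000000000000000000000000000000ffe00000000000000000000000000000000000000000000000000000000000000000000000000000000000000001ffc00000000000000000000000000000000000000000000000000000000000000000000000000000000000000003ff80000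0000000000000000000000000000000000000000000000000000000000000000000000000000000000007ff00000000000000000000000000000000000000000000000000000000000000000000000000000000000000000ffe00000000000000000000000000000000000000000000000000000000000000000000000000000000000000001ffc00000000000000000000000000000000000000000000000000000000000000000000000000000000000000003ff800000000000000000000000000000000000000000000000000000000000000000000000000000000000000007ff00000000000000000000000000000000000000000000000000000000000000000000000000000000000000000ffe00000000000000000000000000260000000000000000000000000000000000000000000000000000000000c62455b8000000000000000000000000000000000000000000000000000000000000000000000000000000000000003ff800000000000000000000000000000000000000000000000000000000000000000000000000000000000000007ff00002800400200000980040020130098000026013009003c0020000000000000000000001400e00100000180036a6e0000000000000000000000000000000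00000000000000000000000000000000000000000000000000000001ffc000000000000000000000000000000001300000000000000000000000000000000000000000000000000017e4821a8000000000000000000000000000000000000000000000000000000000000000000000000000000000000011c19e000000000000000000000000000000000000000000000000000000000000000000000000000000000000000ffe00005005800400800e001801000000f0000004022013002000c0000120000048004013004802c004013008812869e00000000000000000000000000000000000000000000000000000000000009800000000000000000000017647cb28000000000000000000000000000000000000000000000000000000000000000000000000000000000000007ff00000000000000000000000000000000000000000000000000000000000000000000000000000000000000000ffe00000000000000000000000000000000000000000000000000000000000000000000000000000000000000001ffc0000000000000000000000000000000000000000000000000000000000000000000000000000000000001300077140000000000000000000000000000000000000000000000000000000000000000000000000000000000000007ff00))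
))) (.node (.node (.node (.node (.leaf (nat_lit 0xffe00000000000000000000000000000000000000000000000000000000000000000000000000000000000000001ffc00000000000000000000000000000000000000000000000000000000000000000000000000000000000000003ff800000000000000000000000000000000000000000000000000000000000000000000000000000000000000000410800000000000000000000000000000000000000000000000000000000000000000000000000000000000000214e94001001003c00201200900400000040000014008004003800400000000000000000000068024020000007082674680240000000000000001009800000000000000000000010000000000000000000000000000000000000010e46b0a0000000000000000000000000000000000000000000000000000000000000000000000000000000000000010964300000000000000000000000000000000000000000000000000000000000000000000000000000000000000211c7e011001002400600e008002c000008000002c010008006800c0000000000000000000003804c018000007852678580000000000000000000000000000000000000000000000000000000000000000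0000000000000000000000019830008000000000000002600100000000000000000000026000000000000000000000000000000000000026000d71900000000000000000000000000000000000000000000000000000000000000000000000000000000000000005e0a0000000000000000000000000000000000000000000000000000000000000000000000000000000000000041d8c8000000000000000000000000000000000000000000000000000000000000000000000000000000000000008391800000000000000000000000000000000000000000000000000000000000000000000000000000000000000106b2d0000000000000000000000000000000000000000000000000000000000000000000000000000000000000020ca5600000000000000000000000000000000000000000000000000000000000000000000000000000000000000418ca800000000000000000000000000000000000000000000000000000000000000000000000000004c000002044100680000000000000000000000000000000000000000000000000000000000000000000000000000000000000105c28000000000000000000000000000000000000000000000000000000000000000000000000000000000000000036060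0000000000000000000000000000000000000000000000000000000000000000000000000000000000000413084000000000000000000000000000000000000000000000000000000000000000000000000000000000000003ff800000000000000000000000000000000000000000000000000000000000000000000000000000000000000010401c000000000000000000000000000000000000000000000000000000000000000000000000000000000000000026040000000000000000000000000000000000000000000000000000000000000000000000000000000000000040c854000000000000000000000000000000000000000000000000000000000000000000000000000000000000008170980000000000000000000000000000000000000000000000000000000000000000000000000000000000000000b01000000000000000000000000000000000000000000000000000000000000000000000000000000000000002034160000000000000000000000000000000000000000000000000000000000000000000000000000000000000040481c000000000000000000000000000000000000000000000000000000000000000000000000000000000000008050200000000000000000000000000000000000000000000000000000000000000000000000000000000000000380200))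
 (.leaf (nat_lit 0x200000100100050004010000007000001801000900440220000000000000000000001c018004000001c003e4ee000003002c00a0050098028000006000002800c0010090014026000000000c000001000002801e0020076b27e664000000000000000000000000000000000000000000000000000000000000000000000000000000000000003ff800000000000000000000000000000000000000000000000000000000000000000000000000000000000000007ff00008000001c001009004801e000002000000c00400200240020000000000002000000003c01400f00080440034d080000000000000000000000000000000000000000000000000000000000000000000000000000000000000005b97800000e004803c01e001005000001c0000050038026002007800400000000880000260000050014024006000fd4f000002600000000000000000000000000000009804c00000000000000000000000000000001000000000400182960000000000000000000000000000000000000000000000000000000000000000000000000000000000000002d2b800000080000000000000000000000000000000200100000000000000000000000000000004c000000009552606600220000070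008020012007800000800000300100080070010000000000000000000000e0050040000013000d2428000000000000000000000000000000000000000000000000000000000000000000000000000000000000007ff00007800402000100900040260000098000002001000804800000000000000000130000048026000009804f192f8d0000000000000000000000000000000000000000000000000000000000000000000000000000000000000001ffc00000000000000000000000000000000000000000000000000000000000000000000000000000000000000003ff80002c000009008801c006006000003000000a008003c0160110000044000000009800001200f003004c018001cea2000000000000000000000000000000000000000000000000000000000000000000000000000000000000000ffe0000000000000000000000000000000000000000000000000000000000000000000000000000000000000000055934000000000000000000000000000000000000000000000000000000000000000000000000000000000000000aa258000000000000000000000000000000000000000000000000000000000000000000000000000000000000007ff00005000000e013009801401e0000028000020013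0068000024012009000000000200800180240020020006d94814c00f001000802600200000040000000000048026013009804c0000000000000026000000800c0020010090008069401a012001804c0060010018000024000008804c026013009800000000000900000260010028008024004b24d8c48000000000000000000000000000000000000000000000000000000000000000000000000000000000000007ff00000000000000000000000000000000000000000000000000000000000000000000000000000000000000000ffe0001200100040240050098004000000000004c00000200280480000000000048000000006803c026012006d727adf400600000300480080020028000020000007004002000d009000000000000000000000060050010000001aa4d1ca80100000060098008004005000004000000e00800400160130000000000013000000000a00a002804c007509a59b0000000000000000000000000000000000000000000000000000000000000000000000000000000000000002808e00b000000c02600200100080000120000044024012009004c00000000000000000000018014004000009d2266164006002000804c0040000000000000000009800000000300980000000000000000000013009800000000ea24c04080000000000000000000000000000000000000000000000000000000000000000000000000000000000000013a45))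
) (.leaf (nat_lit 0x1d44c0000000000000000000000000000000000000000000000000000000000000000000000000000000000000045b6680000000000000000000000000000000000000000000000000000000000000000000000000000000000000007212800000000000000000000000000000000000000000000000000000000000000000000000000000000000001168970098000000000000000000000000980000000000000000000000000000000000000000000000000000009991b4a600000000000000000000000000000000000000000000000000000000000000000000000000000000000000034090012000008800402401200900000040000018008004002000800000000000000000000110078048000001000ccc10000000000000000000000000000000000000000000000000000000000000000000000000000000000000007ff000000000000000000000000000000000000000000000000000000000000000000000000000000000000000001924600000000000000000000000000000000000000000000000000000000000000000000000000000000000000031c8801400e004004800c0020048000022000008004402600f0090000000000009000c0220130078008006004585072a800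800200000000000000000000008000000000800400000000000040000000000000000013000000001a70983500008000000000000000000000000080000000000000000000000000000000000000000000000000000048001b6b6000000000000000000000040000000000000000000000000000000000000000000000000000000000009aa22f5100000000000000000000000000000000000000000000000000000000000000000000000000000000000000005c90004802600000000000000000000048000000009804c000000000004c0000000000000000001000000000e0018454000000000000000000000000000000000000000000000000000000000000000000000000000000000000000ffe00000000000000000000000000000000000000000000000000000000000000000000000000000000000000001ffc00000000000000000000000000000000000000000000000000000000000000000000000000000000000000008aac7002001201100580340160040000044024011002004c0240090088000000006006002c00e006008003c024002227c0000000000000000000000000000000000000000000000000000000000000000000000000000000000000022a71a0000000000000000000000000000000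000000000000000000000000000000000000000000000000000000002a06c01200d0030000026004002800001e000007003801a0070000000000000000000000000a0080018000011000ffbc80100000060090010004005000004000000e008004001c0120000000000000000000000c00a00200000260019b3b00000000000000000000000000000000000000000000000000000000000000000000000000000000000000227f06000000000000000000000000000000000000000000000000000000000000000000000000000000000000001ffc000000000000000000000000000000000000000000000000000000000000000000000000000000000000000089cc00000000000000000000001300000000000000000000000000000000000000000000000000000000000002000be5200000000000000000000000000000000000000000000000000000000000000000000000000000000000000012e300000000000000000000000000000000000000000000000000000000000000000000000000000000000000044d5f801400c002802001200a0080000004002000803c000003005000c000000007002001200e008001400a012001179e8000000000000000000000000000000000000000000000000000000000000000000000000000000000000007ff00))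
) (.node (.node (.leaf (nat_lit 0x11e2e00300100040260020000000000000000004c000000001804c0000000000000000000009804c0000000071d25ecf8014008007803001600a0020000024012009801400001100500440000000030030016006002003c01e00238517208000000000000000000000000000000000000000000000000000000000000000000000000000000000000007ff00008000001c002008004801e000002000000c0040020018004000000000000000000000380140100000004d133490007002800001e00d004004c000003000001000c00d006003c000012000004000601200500080140000009828e1c4000000000000000000000000000000000000000000000000000000000000000000000000000000000000008923b0000000000000000000000000000000000000000000000000000000000000000000000000000000000000007ff00000000000000000000000000000000000000000000000000000000000000000000000000000000000000002240e8000000000000000000000000000000000000000000000000000000000000000000000000000000000000004471c800000000000000000000000000000000000000000000000000000000000000000000000000000000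0000003ff80004801c0060078024026001000004400000a008803401000f0000008000004008800402000200300000000022b29000000000000000000000000000000000000000000000000000000000000000000000000000000000000000ffe000000000000000000000000000000000000000000000000000000000000000000000000000000000000000001dc48000000000000000000000000000000000000000000000000000000000000000000000000000000000000003ff800000000000000000000000000000000000000000000000000000000000000000000000000000000000000000731100000000000000000000000000000000000000000000000000000000000000000000000000000000000000221ad8000000000000000000000000000000000000000000000000000000000000000000000000000000000000004425ac00000000000000000000000000000000000000000000000000000000000000000000000000000000000000036080000000000000000000000000000000000000000000000000000000000000000000000000000000000000010fe670000000000000000000000000000000000000000000000000000000000000000000000000000000000000000cc1e00000000000000000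00000000000000000000000000000000000000000000000000000000000000000000001903800400600700140160010098000006000005000c00e00c0028000024000008000c0260040090038000000045151a00000000000000000000000000000000000000000000000000000000000000000000000000000000000000005d0c000000000000000000000000000000000000000000000000000000000000000000000000000000000000000ffe000000000000000000000000000000000000000000000000000000000000000000000000000000000000000043a57c00000000000000000000000000000000000000000000000000000000000000000000000000000000000000871ae8000000000000000000000000000000000000000000000000000000000000000000000000000000000000010cf5a000000000000000000000000000000000000000000000000000000000000000000000000000000000000002190ae0000000000000000000000000000000000000000000000000000000000000000000000000000000000000043195800000000000000000000000000000000000000000000000000000000000000000000000000000000000000026850000000000000000000000000000000000000000000000000000000000000000000000000000000000000010b851))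
 (.leaf (nat_lit 0x1ffc000020020078004024012008000000800000280100080070008000000000000000000000d004804000000ea24f7d48000000000000000000000000000000000000000000000000000000000000000000000000000000000000001dc7f0050008018002007804401c000003000001000500300280040000000000000000000002800800e000003f993b54e00a0000034002001007801400000f00000100020070000008004002000000002400400700080240100098009062c00a01200900040240000098000000000001000400200100080000000000000004000013008804c026002aa50045004c020007002002401e0080000028000009003800401e004000000800000300800000020100080048021c4a307a0000000000000000000000000000000000000000000000000000000000000000000000000000000000000003a0de009000002c00600d00880380000080000028008005004800c0000030000000002000005801401c0010046e273640000000000000000000000000000000000000000000000000000000000000000000000000000000000000000e4350000000000000000000000000000000000000000000000000000000000000000000000000000000000000007ff00))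
) (.leaf (nat_lit 0x23b7500000000000000000000000000000000000000000000000000000000000000000000000000000000000000004d908004012009800801e0010098000000000000800002400f001000000000000100000000070028004004007000f6430030016003004801c012010000000c004003008000400400b001800000000e004002401a00e002001400534a214c000000000000000000000000000000000000000000000000000000000000000000000000000000000000000ffe00001002003402000b002803000000a000002c01a0130028040000012000004400800000980100080020020008c6900160070070000002010007800000a000003001800e00d0000000000000000000000000a0020038000003924ff248000000000000000000000000000000000000000000000000000000000000000000000000000000000000007ff000080000018004005004c0180000030000010004001000c006000000000000000000000340100100000036393e33e000000000000000000000000000000000000000000000000000000000000000000000000000000000000000494e4000000000000000000000000000000000000000000000000000000000000000000000000000000000000003ff8000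000000000000000000000000000000000000000000000000000000000000000000000000000000000000012137000000000000000000000000000000000000000000000000000000000000000000000000000000000000000ffe00000000000000000000000000000000000000000000000000000000000000000000000000000000000000000474d801a00f000001400e00c0008000022000008003800e0080028000004000002004400400a00900280000130011c9d001800c00b00780240060070000028000007006803401a00f0000000000000009000000c0120040000012149af6600000000000000000000000000000000000000000000000000000000000000000000000000000000000000239f46000000000000000000000000000000000000000000000000000000000000000000000000000000000000001ffc00000000000000000000000000000000000000000000000000000000000000000000000000000000000000003ff8000000000000000000000000000000000000000000000000000000000000000000000000000000000000000010e2f0000000000000000000000000000000000000000000000000000000000000000000000000000000000000002145c000000000000000000000000000000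00000000000000000000000000000000000000000000000000000000471e8401800100700080240060080000014013006002801600b0008044024012002001402000500980280100077c51a3c001402600400980080260010000004000013009804c0040000000000000000000800000400100000040020017d930000000000000000000000000000000000000000000000000000000000000000000000000000000000000001fe5800e007002400a00b008803400000a000003400e0070038014000000000000000400000700080180000058006c1c0000000000000000000000000000000000000000000000000000000000000000000000000000000000000003ff8000480080090080024002007000003800000b007804001a0100000000000000000004c01200e002800001ce8a0a64000000000000000000000000000000000000000000000000000000000000000000000000000000000000000ffe0000000000000000000000000000000000004c000000000000000000000000000000000000000000000000b623c580000000000000000000000000000000000000000000000000000000000000000000000000000000000000003ff800000000000000000000000000000000000010000000000000000000000000000000000000000000000026000f262))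
)) (.node (.node (.node (.leaf (nat_lit 0)) (.leaf (nat_lit 0))) (.leaf (nat_lit 0))) (.node (.node (.leaf (nat_lit 0)) (.leaf (nat_lit 0))) (.leaf (nat_lit 0)))))) (.node (.node (.node (.node (.node (.leaf (nat_lit 0xffe00000000000000000000000000000000000000000000000000000000000000000000000000000000000000001ffc00000000000000000000000000000000000000000000000000000000000000000000000000000000000000003ff8000000000000000000002000000000000000000000000000000000000000000000000000000000000000260009943000000000000000000000000000000000000000000000000000000000000000000000000000000000000002148920000000000000000000000000000000000000000000000000000000000000000000000000000000000000000f4200000000000000000000000000000000000000000000000000000000000000000000000000000000000000084f230000000000000000000000000000000000000000000000000000000000000000000000000000000000000010944200000000000000000000000000000000000000000000000000000000000000000000000000000000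000000006e0e000000000000000000000000000000000000000000000000000000000000000000000000000000000000001ffc00000000000000000000000000000000000000000000000000000000000000000000000000000000000000008429d000000000000000000000000000000000000000000000000000000000000000000000000000000000000000031060000000000000000000000000000000000000000000000000000000000000000000000000000000000000020fa6c0000000000000000000000000000000000000000000000000000000000000000000000000000000000000041d0c4000000000000000000000000000000000000000000000000000000000000000000000000000000000000000158280000000130000000000000000000000000000000000000000000000000000000000000000000000000041082810000800000000000000000000000000000000000000000000000000000000000000000000000000000004c0009e4200000000000000000000000000000000000000000000000000000000000000000000000000000000000000008810000000000000000000000000000000000000000000000000000000000000000000000000000000000000003ff8000000000000000000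000000000000000000000000000000000000000000000000000000000000000000000105a270000000000000000000000000000000000000000000000000000000000000000000000000000000000000020a84800000000000000000000000000000000000000000000000000000000000000000000000000000000000000412080000000000000000000000000000000000000000000000000000000000000000000000000000000000000008220f00000000000000000000000000000000000000000000000000000000000000000000000000000000000000103e1b000000000000000000000000000000000000000000000000000000000000000000000000000000000000002070300000000000000000000000000000000000000000000000000000000000000000000000000000000000000000440800000000000000000000000000000000000000000000000000000000000000000000000000000000000000816090000000000000000000000000000000000000000000000000000000000000000000000000000000000000010240f0000000000000000000000000000000000000000000000000000000000000000000000000000000000000020301400000000000000000000000000000000000000000000000000000000000000000000000000000000000000001c04000000000000000000000000000000000000000000000000000000000000000000000000000000000000008040180000000000000000000000000000000000000000000000000000000000000000000000000000000000000380100))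
 (.leaf (nat_lit 0x388d2000000000000000000000000000000000000000000000000000000000000000000000000000000000000001ffc00000000000000000000000000000000000000000000000000000000000000000000000000000000000000000e03200100180110018038002013000001000000500100080000030000000000000001000000a0130090008011a09be72000000002600000000000000000000000002000000000000000000000000000000000000000013000000f392e2f400d001004c02600200900000000000000004002002001804c0000000000000000000008003c02400000800077aa0000000000000000000000000000000000000000000000000000000000000000000000000000000000000003ff800000000000000000000000000000000000000000000000000000000000000000000000000000000000000007ff00000000000000000000000000000000000000000000000000000000000000000000000000000000000000000ffe0000000000000000000000000000000000000000000000000000000000000000000000000000000000000000059d6c00401200080040220020000000024000009804802400f00080000000000000000000005003800800000c000d4360044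026000000804c0000000000044000000009800001a001000004800001200980000260020008044007389fd6f000000000000000000000000000000000000000000000000000000000000000000000000000000000000000ffe0000000000000000000000000000000000000000000000000000000000000000000000000000000000000000057d50000000000000000000000000000000000000000000000000000000000000000000000000000000000000000aea880000000000000000000000000000000000000000000000000000000000000000000000000000000000000015b50000000000000000000000000000000000000000000000000000000000000000000000000000000000000000ffe00000000000000000000000000000000000000000000000000000000000000000000000000000000000000001ffc000180090098010016000001000000800000180000240000020000000000000000800000b0030004004006ba51f3a0000000000000000000000000000000000000000000000000000000000000000000000000000000000000001524b000000000000000000000000000000000000000000000000000000000000000000000000000000000000000ffe0000000000000000000000000000000000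0000000000000000000000000000000000000000000000000000001ffc00020012004804400e003004000001c000005803c01e00c008800000000000000000000090078018000010000d54a8000000000000000000000000000000000000000000000000000000000000000000000000000000000000007ff00000000000000000000000000000000000000000000000000000000000000000000000000000000000000000ffe00000000000000000000000000000000000000000000000000000000000000000000000000000000000000004782a4000000000000000000000000000000000000000000000000000000000000000000000000000000000000000a2240000000000000000000000000000000000000000000000000000000000000000000000000000000000000007ff0000580000060130010004004000009000002201200900440260000000000000000000000c00a002000000451329040000000000000000000000000000000000000000000000000000000000000000000000000000000000000004f91c01a01200780040240130070004006000002800c00600a001000000000000080000000100050040004010000dbc7003c02200e009800800e00a000001000000600480240200120000048000000009804c00000c00600040140021692))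
) (.leaf (nat_lit 0x22df360000000000000000000000000000000000000000000000000000000000000000000000000000000000000003a09800000000000000000000000000000000000000000200000000000000000000000000000000000000001368472978000000000000004c00000000000000000000098000000000000000000000000000000000000000000004288e128000004c000000000000000000000000000000000000000000000000000000000000000000000000000005911ba56000000000000000000000000000000000000000000000800000000000000000000000000000000000009b12344a40000000000000000000000000000000000000040000000000000000000000000000000000000000000136046692803c0000020098008006003000003400000f00800400180120000048000000009800000800a002004c016001a068009804c000000000000000000000980000000130098000000000000000000000000000000020000000011712fcfc00000000000000000000000000000000000000000000000000000000000000000000000000000000000000458a5000a00e001801801400e004800001c000009802c01a00d00300000000000090004000005005801c026007000fe1980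00000000000000000000000000000000000000000000000000000000000000000000000000000000000000c422002804c0260010090000000000001000000200100080040020000000000000000000004c02400000000380031abe0130000000000000000000000000000000000000000098000000000000000000000000000000000000010a234d68020008009803401000d002800001e012007800801c008005804400000000480340180130088000026000505143e003801c0100010040026012000000c000006001000c004002000004c000000000804c006010008000c014989b267000000000000000000000000000000000000000000000000000000000000000000000000000000000000000ffe00000000000000000000000000000000000000000000000000000000000000000000000000000000000000001ffc00000000000000000000000000000000000000000000000000000000000000000000000000000000000000000570e804c02400200980080020030000048000012009004c0260130000000000013009804c000003000804800c001e83b00000000000000000000000000000000000000000000000000000000000000000000000000000000000000015438000000000000000000000000000000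00000000000000000000000000000000000000000000000000000000453224012000008800402401300900000040000018008004003000800000000000000000000110078048000013444c94180000000000000000000000000000000000000000000000000000000000000000000000000000000000000114786000000000000000000000000000000000000000000000000000000000000000000000000000000000000000142340000000000000000000000000000000000000000000000000000000000000000000000000000000000000044ee0401c012004801800e01300500000080000048010006001002800000000000100480040080030040000008001082b000c0180110018038002012000001000000500100080240030000000000000001000000a01300900080180018b3000000000000000000000000000000000000000000000000000000000000000000000000000000000000000226efe0000000000000000000000000000000000000000000000000000000000000000000000000000000000000044c5f4000000000000000000000000000000000000000000000000000000000000000000000000000000000000003ff8000000000000000000000000000000000000000000000000000000000000000000000000000000000000000112d7b))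
) (.node (.node (.leaf (nat_lit 0x9004c00200000000000000000098000026013009804c0260000000000000000000000000200100000140030cd40000000000000000000000000000000000000000000000000000000000000000000000000000000000000002345c000000000000000000000000000000000000000000000000000000000000000000000000000000000000000458b0000000000000000000000000000000000000000000000000000000000000000000000000000000000000007ff0000000000000000000000000000000000000000000000000000000000000000000000000000000000000000224cee000000000000000000000000000000000000000000000000000000000000000000000000000000000000001ffc00000000000000000000000000000000000000000000000000000000000000000000000000000000000000000420a8000000000000000000000000000000000000000000000000000000000000000000000000000000000000007ff0000000000000000000000000000000000000000000000000000000000000000000000000000000000000000223ce6000000000000000000000000000000000000000000000000000000000000000000000000000000000000001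ffc000000000000000000000000000000000000000000000000000000000000000000000000000000000000000003d8980000000000000000000000000000000000000000000000000000000000000000000000000000000000000111a71000000000000000000000000000000000000000000000000000000000000000000000000000000000000002230e0000000000000000000000000000000000000000000000000000000000000000000000000000000000000001ffc0000000000000000000000000000000000000000000000000000000000000000000000000000000000000000888b70000000000000000000000000000000000000000000000000000000000000000000000000000000000000007ff000000000000000000000000000000000000000000000000000000000000000000000000000000000000000000e22201100100040260020000000000013000004c0000000000000000000000000000000000080040000000090005d94c000000000000000000000000000000000000000000000000000000000000000000000000000000000000003ff800000000000000000000000000000000000000000000000000000000000000000000000000000000000000010fa660010000000000000004c0020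000000000000000000000000000000000000000000000000000000000004800180320000000000000000000000000000000000000000000000000000000000000000000000000000000000000043cd8c000000000000000000000000000000000000000000000000000000000000000000000000000000000000000308700000000000000004000000000000000000000000000000000000000000000000000000000000000000263885e230000000000000000000000000000000000000000000000000000000000000000000000000000000000000021d6c0000000000000000000000000000000000000000000000000000000000000000000000000000000000000000164300000000000000000000000000000000000000000000000000000000000000000000000000000000000000086fae0000000000000000000000000000000000000000000000000000000000000000000000000000000000000010cb590000000000000000000000000000000000000000000000000000000000000000000000000000000000000000a616000000000000000000000000000000000000000000000000000000000000000000000000000000000000004315540000000000000000000000000000000000000000000000000000000000000000000000000000000000000085da900000000000000000000000000000000000000000000000000000000000000000000000000000000000002884a14))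
 (.leaf (nat_lit 0x1ffc00010006008000801e01300800000080000020010006000001000000000000000000000100060048000013ea4f9cc0038020009009800000a005000003800000b006802800c01200000000000020000004020001004000801a001f79f000000000000000000000000000000000000000000000000000000000000000000000000000000000000000ffe00000000000000000000000000000000000000000000000000000000000000000000000000000000000000001ffc00006000000000000000000000000000000000000000001000000000000000000040000130098000026012e44eac980040060080050000022000000003c000006008803c00600a0000008000002007800400200e0028040023c0a2c79000000000000000000000000000000000000000000000000000000000000000000000000000000000000000ffe0000f009804400600d00000480000010000010026013008000c000000000000000000000080000000000060007ba8c000000000000000000000000000000000000000000000000000000000000000000000000000000000000003ff80002800000000080480000000000048000000009804c01e001000000000000000000000040030008000016001caa1))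
) (.leaf (nat_lit 0xffe00003009803c00400f0098040000003000001400600200180080000000000004000000009803c022001002ce26b61000000000000000000000000000000000000000000000000980000000000000000000000000000000000214499b5800801000200580080160110000008004004007004c02400d001800000000d003802001e012002800c0000022744000000000000000000000000000000000000000000000000000000000000000000000000000000000000000ffe000000000000000000000000000000000000000000000000000000000000000000000000000000000000000004b0fc014008003800400000d0058000014000006802c01c00400080000000000090000026010003802002401100101bb003000e00b002002801600c000004c002002008803c01c00600080080040100070008006002001002c016002368d001800c0140040058044016000003800001400600280180080000000000000000000002c00800e0000018003d494003007800c01e00900480440000030000044006001004003c0000000000008000001007802802400200800081674000000000000000000000000000000000000000000000000000000000000000000000000000000000000003ff80000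0000000000000000000000000000000000000000000000000000000000000000000000000000000000011d6a6000000000000000000000000000000000000000000000000000000000000000000000000000000000000000ffe00000000000000000000000000000000000000000000000000000000000000000000000000000000000000001ffc00000000000000000000000000000000000000000000000000000000000000000000000000000000000000008e8d200000120030078020026001000000800000f00000480160100000008000002000000401e01100080000060021280000000000000000000000000000000000000000000000000000000000000000000000000000000000000000ffe000000000000000000000000000000000000000000130000000000000000000000000000000000000000008a244d74000000000000000000000000000000000000000000000000000000000000000000000000000000000000003ff800000006012009800c022012000000c000002001800c0100130000000000001000800401e00b0088008000001e64c000000000000000000000000000000000000000000000000200000000000000000000000000000000004a112167c0000000000000000000000000000000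00000000000000000000000000000000000000000000000000000000420b8000000000000000000000000000000000000000000000000000000000000000000000000000000000000008e2d00000000000000000000000000000000000000000000000000000000000000000000000000000000000000001012d000000000000000000000000000000000000000000000000000000000000000000000000000000000000000ffe00000000000000000000000000000000000000000000000000000000000000000000000000000000000000001ffc000000000000000000000000000000000000000000000000000000000000000000000000000000000000000007c160000018007007801c01e0100000004000011008800001800f00000480000130018000006010008800c010e4a3234000000000000000000000000000000000000000000000000000000000000000000000000000000000000002379380000000000000000000000000000000000000000000000000000000000000000000000000000000000000003c0a8000000000000000000000000000000000000000000000000000000000000000000000000000000000000003ff800000000000000000000000000000000000000000000000000000000000000000000000000000000000000007ff00))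
)) (.node (.node (.node (.leaf (nat_lit 0x806120000000000000000000000000000000000000000000000000000000000000000000000000000000000000010042400000000000000000000000000000000000000000000000000000000000000000000000000000000000000202040000000000000000000000000000000000000000000000000000000000000000000000000000000000000004020800000000000000000000000000000000000000000000000000000000000000000000000000000000000000080210000000000000000000000000000000000000000000000000000000000000000000000000000000000000001000200000000000000000000000000000000000000000000000000000000000000000000000000000000000000020183800000000000000000000000000000000000000000000000000000000000000000000000000000000000000401070000000000000000000000000000000000000000000000000000000000000000000000000000000000000008000e00000000000000000000000000000000000000000000000000000000000000000000000000000000000000100c18000000000000000000000000000000000000000000000000000000000000000000000000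0000000000000020103000000000000000000000000000000000000000000000000000000000000000000000000000000000000000400060000000000000000000000000000000000000000000000000000000000000000000000000000000000000006040a000000000000000000000000000000000000000000000000000000000000000000000000000000000000000c041400000000000000000000000000000000000000000000000000000000000000000000000000000000000000180028000000000000000000000000000000000000000000000000000000000000000000000000000000000000003040400000000000000000000000000000000000000000000000000000000000000000000000000000000000000060208000000000000000000000000000000000000000000000000000000000000000000000000000000000000000c001000000000000000000000000000000000000000000000000000000000000000000000000000000000000000182018000000000000000000000000000000000000000000000000000000000000000000000000000000000000003030300000000000000000000000000000000000000000000000000000000000000000000000000000000000000060406000000000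000000000000000000000000000000000000000000000000000000000000000000000000000000c040c00000000000000000000000000000000000000000000000000000000000000000000000000000000000000182010000000000000000000000000000000000000000000000000000000000000000000000000000000000000003030200000000000000000000000000000000000000000000000000000000000000000000000000000000000000060404000000000000000000000000000000000000000000000000000000000000000000000000000000000000000c00080000000000000000000000000000000000000000000000000000000000000000000000000000000000000010180800000000000000000000000000000000000000000000000000000000000000000000000000000000000000202010000000000000000000000000000000000000000000000000000000000000000000000000000000000000004020200000000000000000000000000000000000000000000000000000000000000000000000000000000000000080004000000000000000000000000000000000000000000000000000000000000000000000000000000000000000820000000000000000000000000000000000000000000000000000000000000000000000000000000000000000000000))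
 (.leaf (nat_lit 0xc00d2000000000000000000000000000000000000000000000000000000000000000000000000000000000000001811a0000000000000000000000000000000000000000000000000000000000000000000000000000000000000003003200000000000000000000000000000000000000000000000000000000000000000000000000000000000000060163000000000000000000000000000000000000000000000000000000000000000000000000000000000000000c02be00000000000000000000000000000000000000000000000000000000000000000000000000000000000000180978000000000000000000000000000000000000000000000000000000000000000000000000000000000000003022e8000000000000000000000000000000000000000000000000000000000000000000000000000000000000006035d000000000000000000000000000000000000000000000000000000000000000000000000000000000000000c04b80000000000000000000000000000000000000000000000000000000000000000000000000000000000000018016c00000000000000000000000000000000000000000000000000000000000000000000000000000000000000301ab0000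0000000000000000000000000000000000000000000000000000000000000000000000000000000000060156000000000000000000000000000000000000000000000000000000000000000000000000000000000000000c06a800000000000000000000000000000000000000000000000000000000000000000000000000000000000000180150000000000000000000000000000000000000000000000000000000000000000000000000000000000000003002880000000000000000000000000000000000000000000000000000000000000000000000000000000000000060050000000000000000000000000000000000000000000000000000000000000000000000000000000000000000c089e0000000000000000000000000000000000000000000000000000000000000000000000000000000000000018093400000000000000000000000000000000000000000000000000000000000000000000000000000000000000301258000000000000000000000000000000000000000000000000000000000000000000000000000000000000006004b000000000000000000000000000000000000000000000000000000000000000000000000000000000000000c089400000000000000000000000000000000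000000000000000000000000000000000000000000000000000000180d2800000000000000000000000000000000000000000000000000000000000000000000000000000000000000300a500000000000000000000000000000000000000000000000000000000000000000000000000000000000000060449000000000000000000000000000000000000000000000000000000000000000000000000000000000000000c089000000000000000000000000000000000000000000000000000000000000000000000000000000000000000180520000000000000000000000000000000000000000000000000000000000000000000000000000000000000003002400000000000000000000000000000000000000000000000000000000000000000000000000000000000000060347000000000000000000000000000000000000000000000000000000000000000000000000000000000000000c048e0000000000000000000000000000000000000000000000000000000000000000000000000000000000000018011c00000000000000000000000000000000000000000000000000000000000000000000000000000000000000300a300000000000000000000000000000000000000000000000000000000000000000000000000000000000000060245))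
) (.leaf (nat_lit 0xa044c00000000000000000000000000000000000000000000000000000000000000000000000000000000000000140098000000000000000000000000000000000000000000000000000000000000000000000000000000000000002811280000000000000000000000000000000000000000000000000000000000000000000000000000000000000050125000000000000000000000000000000000000000000000000000000000000000000000000000000000000000a064800000000000000000000000000000000000000000000000000000000000000000000000000000000000000140890000000000000000000000000000000000000000000000000000000000000000000000000000000000000002809200000000000000000000000000000000000000000000000000000000000000000000000000000000000000050323000000000000000000000000000000000000000000000000000000000000000000000000000000000000000a0446000000000000000000000000000000000000000000000000000000000000000000000000000000000000001408880000000000000000000000000000000000000000000000000000000000000000000000000000000000000028091000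00000000000000000000000000000000000000000000000000000000000000000000000000000000000050022000000000000000000000000000000000000000000000000000000000000000000000000000000000000000a06420000000000000000000000000000000000000000000000000000000000000000000000000000000000000014048400000000000000000000000000000000000000000000000000000000000000000000000000000000000000281100000000000000000000000000000000000000000000000000000000000000000000000000000000000000005041e000000000000000000000000000000000000000000000000000000000000000000000000000000000000000a063c00000000000000000000000000000000000000000000000000000000000000000000000000000000000000140c74000000000000000000000000000000000000000000000000000000000000000000000000000000000000002800e8000000000000000000000000000000000000000000000000000000000000000000000000000000000000005031c000000000000000000000000000000000000000000000000000000000000000000000000000000000000000a00380000000000000000000000000000000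000000000000000000000000000000000000000000000000000000014086c000000000000000000000000000000000000000000000000000000000000000000000000000000000000002808d8000000000000000000000000000000000000000000000000000000000000000000000000000000000000005031a000000000000000000000000000000000000000000000000000000000000000000000000000000000000000a003400000000000000000000000000000000000000000000000000000000000000000000000000000000000000140464000000000000000000000000000000000000000000000000000000000000000000000000000000000000002820c00000000000000000000000000000000000000000000000000000000000000000000000000000000000000050318000000000000000000000000000000000000000000000000000000000000000000000000000000000000000a043000000000000000000000000000000000000000000000000000000000000000000000000000000000000000140460000000000000000000000000000000000000000000000000000000000000000000000000000000000000002820b80000000000000000000000000000000000000000000000000000000000000000000000000000000000000050317))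
) (.node (.node (.leaf (nat_lit 0xa042e0000000000000000000000000000000000000000000000000000000000000000000000000000000000000014005c000000000000000000000000000000000000000000000000000000000000000000000000000000000000002800b00000000000000000000000000000000000000000000000000000000000000000000000000000000000000050415000000000000000000000000000000000000000000000000000000000000000000000000000000000000000a062a00000000000000000000000000000000000000000000000000000000000000000000000000000000000000140454000000000000000000000000000000000000000000000000000000000000000000000000000000000000002800a80000000000000000000000000000000000000000000000000000000000000000000000000000000000000050414000000000000000000000000000000000000000000000000000000000000000000000000000000000000000a06280000000000000000000000000000000000000000000000000000000000000000000000000000000000000010044c00000000000000000000000000000000000000000000000000000000000000000000000000000000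000000200098000000000000000000000000000000000000000000000000000000000000000000000000000000000000004041200000000000000000000000000000000000000000000000000000000000000000000000000000000000000080624000000000000000000000000000000000000000000000000000000000000000000000000000000000000001008480000000000000000000000000000000000000000000000000000000000000000000000000000000000000020089000000000000000000000000000000000000000000000000000000000000000000000000000000000000000402110000000000000000000000000000000000000000000000000000000000000000000000000000000000000008002200000000000000000000000000000000000000000000000000000000000000000000000000000000000000100c4000000000000000000000000000000000000000000000000000000000000000000000000000000000000000201080000000000000000000000000000000000000000000000000000000000000000000000000000000000000004030f0000000000000000000000000000000000000000000000000000000000000000000000000000000000000008041e00000000000000000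00000000000000000000000000000000000000000000000000000000000000000000010083800000000000000000000000000000000000000000000000000000000000000000000000000000000000000200070000000000000000000000000000000000000000000000000000000000000000000000000000000000000004020c000000000000000000000000000000000000000000000000000000000000000000000000000000000000000802180000000000000000000000000000000000000000000000000000000000000000000000000000000000000010003000000000000000000000000000000000000000000000000000000000000000000000000000000000000000201858000000000000000000000000000000000000000000000000000000000000000000000000000000000000004010b0000000000000000000000000000000000000000000000000000000000000000000000000000000000000008001600000000000000000000000000000000000000000000000000000000000000000000000000000000000000100c2800000000000000000000000000000000000000000000000000000000000000000000000000000000000000201050000000000000000000000000000000000000000000000000000000000000000000000000000000000000004010a))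
 (.leaf (nat_lit 0x1c0e2000000000000000000000000000000000000000000000000000000000000000000000000000000000000000380c30000000000000000000000000000000000000000000000000000000000000000000000000000000000000007027f000000000000000000000000000000000000000000000000000000000000000000000000000000000000000e06fc000000000000000000000000000000000000000000000000000000000000000000000000000000000000001c05d000000000000000000000000000000000000000000000000000000000000000000000000000000000000000381b980000000000000000000000000000000000000000000000000000000000000000000000000000000000000060171000000000000000000000000000000000000000000000000000000000000000000000000000000000000000c04de00000000000000000000000000000000000000000000000000000000000000000000000000000000000000180db8000000000000000000000000000000000000000000000000000000000000000000000000000000000000003013500000000000000000000000000000000000000000000000000000000000000000000000000000000000000060169))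
) (.leaf (nat_lit 0xc02860000000000000000000000000000000000000000000000000000000000000000000000000000000000000018090800000000000000000000000000000000000000000000000000000000000000000000000000000000000000300a100000000000000000000000000000000000000000000000000000000000000000000000000000000000000060341000000000000000000000000000000000000000000000000000000000000000000000000000000000000000c0280000000000000000000000000000000000000000000000000000000000000000000000000000000000000001800fc000000000000000000000000000000000000000000000000000000000000000000000000000000000000003019f0000000000000000000000000000000000000000000000000000000000000000000000000000000000000006033c000000000000000000000000000000000000000000000000000000000000000000000000000000000000000c0276000000000000000000000000000000000000000000000000000000000000000000000000000000000000001808e4000000000000000000000000000000000000000000000000000000000000000000000000000000000000003019c000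00000000000000000000000000000000000000000000000000000000000000000000000000000000000060237000000000000000000000000000000000000000000000000000000000000000000000000000000000000000c026e000000000000000000000000000000000000000000000000000000000000000000000000000000000000001408d8000000000000000000000000000000000000000000000000000000000000000000000000000000000000002809a00000000000000000000000000000000000000000000000000000000000000000000000000000000000000050133000000000000000000000000000000000000000000000000000000000000000000000000000000000000000a0664000000000000000000000000000000000000000000000000000000000000000000000000000000000000001404c400000000000000000000000000000000000000000000000000000000000000000000000000000000000000281980000000000000000000000000000000000000000000000000000000000000000000000000000000000000005022f000000000000000000000000000000000000000000000000000000000000000000000000000000000000000a045c0000000000000000000000000000000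00000000000000000000000000000000000000000000000000000001400b800000000000000000000000000000000000000000000000000000000000000000000000000000000000000281968000000000000000000000000000000000000000000000000000000000000000000000000000000000000005002d000000000000000000000000000000000000000000000000000000000000000000000000000000000000000a0458000000000000000000000000000000000000000000000000000000000000000000000000000000000000001404b000000000000000000000000000000000000000000000000000000000000000000000000000000000000000280160000000000000000000000000000000000000000000000000000000000000000000000000000000000000005032a000000000000000000000000000000000000000000000000000000000000000000000000000000000000000a0254000000000000000000000000000000000000000000000000000000000000000000000000000000000000001400a8000000000000000000000000000000000000000000000000000000000000000000000000000000000000002821400000000000000000000000000000000000000000000000000000000000000000000000000000000000000050127))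
))) (.node (.node (.node (.node (.leaf (nat_lit 0x8e120000000000000000000000000000000000000000000000000000000000000000000000000000000000000042c93c00000000000000000000000000000000000000000000000000000000000000000000000000000000000000857a70000000000000000000000000000000000000000000000000000000000000000000000000000000000000010ab4c00880040040130010004002000009800002401300980000260000000000000000000000400400100000444931c86000000000000000000000000000000000000000000000000000000000000000000000000000000000000004289200000000000000000000000000000000000000000000000000000000000000000000000000000000000000001d8380000000000000000000000000000000000000000000000000000000000000000000000000000000000000109a44000000000000000000000000000000000000000000000000000000000000000000000000000000000000002120800000000000000000000000000000000000000000000000000000000000000000000000000000000000000000d41800000000000000000000000000000000000000000000000000000000000000000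0000000000000000000008439d80000000000000000000000000000000000000000000000000000000000000000000000000000000000000107f37000000000000000000000000000000000000000000000000000000000000000000000000000000000000000ffe000000000000000000000000000000000000000000000000000000000000000000000000000000000000000041e0cc000000000000000000000000000000000000000000000000000000000000000000000000000000000000003ff8000000000000000000000000000000000000000000000000000000000000000000000000000000000000000106d2e0000000000000000000000000000000000000000000000000000000000000000000000000000000000000020d25800000000000000000000000000000000000000000000000000000000000000000000000004c00000000083208c38000000000000000000000000000000000000000000000000000000000000000000000000000000000000003ff8000000000000000000000000000000000000000000000000000000000000000000000000000000000000000001d030000000000000000000000000000000000000000000000000000000000000000000000000000000000000020ac4a00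000000000000000000000000000000000000000000000000000000000000000000000000000000000000414088000000000000000000000000000000000000000000000000000000000000000000000000000000000000008230f80000000000000000000000000000000000000000000000000000000000000000000000000000000000000001502000000000000000000000000000000000000000000000000000000000000000000000000000000000000002074320000000000000000000000000000000000000000000000000000000000000000000000000000000000000040d058000000000000000000000000000000000000000000000000000000000000000000000000000000000000000070080000000000000000000000000000000000000000000000000000000000000000000002600000000000020080c040000000000000000000000000000000000000000000000000000000000000000000000000000000000000020381800000000000000000000000000000000000000000000000000000000000000000000000000000000000000405020000000000000000000000000000000000000000000000000000000000000000000000000000000000000008068280000000000000000000000000000000000000000000000000000000000000000000000000000000000000380300))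
 (.leaf (nat_lit 0xffe0000c000803801a0110028028000012000804800a0080008038004000000003c018004005002c01e0060096128de78000000000000000000000000000000000000000000000000000000000000000000000000000000000000003ff80000c0180110018034002013000000400000500080040240030000000000000000804c00e000009000c01fa4a0c67000000000000000000000000000000000000000000000000000000000000000000000000000000000000000ffe0001200980480240070080008000001000000800a007006004800000000000400000120030020020010004c82819d8000000000000000000000000000000000000000000000000000000000000000000000000000000000000003ff8000000000000000000000000000000000000000000000000000000000000000000000000000000000000000016b5d0018030020006004803c004000005000402600d007004400e002000000801c00f00100000080060058003314470e00f0000040002012000804c00001300000040000000090000000000000000002600000900000000130008005e9a0000000000000000000000000000000000000000000000000000000000000000000000000000000000000000b2ab0000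000000000000000000000000000000000000000000000000000000000000000000000000000000000007ff000000000000000000000000000000000000000000000000000000000000000000000000000000000000000002c2a8000000000000000000000000000000000000000000000000000000000000000000000000000000000000001ffc000040050020048008001001000001e0000070044020012008800000000000000480000130038010024012c44dc3580000000060090014004004000003800000e008004001c0120000044000000009800000c00a002004c01b049ab59000000000000000000000000000000000000000000000000000000980000000000000000000000009800f092b2c2000000000000000000000000000000000000000000000000000000000000000000000000000000000000001ffc000200020050040010003003000001c000005003801c00e008000000000000000000260080070018000012bc4cb3f8000000000000000000000000000000000000000000000000000000000000000000000000000000000000007ff00000000000000000000000000000000000000000000000000000000000000000000000000000000000000000ffe0000000000000000000000000000000000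0000000000000000000000000000000000000000000000000000001ffc00000000000000000000000000000000000000000000000000000000000000000000000000000000000000003ff800000000000000000000000000000000000000000000000000000000000000000000000000000000000000011e2aa008802000800e0058014024000005004c002007003000c01a012000004800c005009000002000e0048000004492e000002001800a009008002400000a00000380120080050014000000000004c02601300280400160120045827c2180000000000000000000000000000000000000000000000000000000000000004c0000000000000026003ac4a2b80000000000000000000000000000000000000000000000000000000000000000000000000000000000000001424700000000000000000000000000000000000000000000000000000000000026000000004c000000009801299339060110090010000013001800c000010000004002001000600000000000000000000000003802c008000005000689b0000000000000000000000000000000000000000000000000000000000000000000000000000000000000003ff80002400a005002802401e008000002c00000f005002401c0050000000000000000000000600c005000001f40a1980))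
) (.leaf (nat_lit 0x98034024002007800002600000100000080000000044004000000000000000200000180020120010001a9322be000000000000000000000000000000000000000000000000000000000000000000000000000000000000001ffc00000000000000000000000000000000000000000000000000000000000000000000000000000000000000008b54c0000000000000000000000000000000000000000000000000000000000000000000000000000000000000007ff000000000000000000000000000000000000000000000000000000000000000000000000000000000000000001b2480000000000000000000000000000000000000000000000000000000000000002600000100080000010080003f598000000007000801e012008000000c00000300100080060010000006000000000400000e0050040002007000d6480000000000000000000000000000000000000000000000000000000000000000000000000000000000000007ff0000900000260010090000026000000000000200000000480020000000000000000000000000000000000157930e5e00000000000000000000000000000000000000000000000000000000000000000000000000000000000000459254000000000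000000000000000000000000000000000000000000000000000000000000000000000000000003ff800000000000000000000000000000000000000000000000000000000000000000000000000000000000000011609300000000000000000000000000000000000000000000000000000000000000000000000000000000000000018442012000004c002012000000000000000000040000000090004000000000000000000000000000000000020005d1e80000000000000000000000000002600000000000000000000000000000000000000000000000000000015245d288000000000000000000000000000000000000000000000000000004c000000000000000000000000000029c8b6280000000000000000000000000000000000000000000000000000000000000000000000000000000000000001663c0000000000000000000000000000000000000000000000000000000000000000000000000000000000000002c074000000000000000000000000000000000000000000000000000000000000000000000000000000000000003ff800000000000000000000000000000000000000000000000000000000000000000000000000000000000000000ac1c00000000000000000000000000000000000000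0000000000000000000000000000000000000000000000000ffe0000000000000000000000000000000000000000000000000000000000000000000000000000000000000000453a2800000000000000000000000000000000000000000000000000000000000000000026000000000000000146453248000000000000000000000000000000000000000000000000000000000000000000000000000000000000000a31a0000000000000000000000000000000000000000000000000000000000000000000000000000000000000022830800b002000402600200980040000100000044024012008004c0000000000000024000008800c004012000a1262518000000000000000000000000000000000000000000000000000000000000000000000000000000000000003ff8000000000000000000000000000000000000000000000000000000000000000000000000000000000000000009b18001804c024001009004c026000000800000400100080000020000000000000000000004c024013000000c0031e360030070048004010000004c00000600000100040020098008000000000000000400000280000240020031e2821c800000000000000000000000000000000000000000000000000000000000000000000000000000000000000897be00000000000000000000000000000000000000000000000000000000000000000000000000000000000000009117))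
) (.node (.node (.leaf (nat_lit 0x2804800200000000000000000008000000000000000802600000000000000010000004026000000802c002f0d40000000000000000000000000000000000000000000000000000000000000000000000000000000000000044a5e400e009005804000c012006804c018012001800c00600d00700440000000020030014010000003c01a00f0011dba000000000000000000000000000000000000000000000000000000000000000000000000000000000000001128780000000000000000000000000000000000000000000000000000000000000000000000000000000000000001102a000000000000000000000000000000000000000000000000000000000000000000000000000000000000001ffc00000000000000000000000000000000000000000000000000000000000000000000000000000000000000003ff800000000000000000000000000000000000000000000000000000000000000000000000000000000000000011227500000000000000000000000000000000000000000000000000000000000000000000000000000000000000010028000000000000000000000000000000000000000000000000000000000000000000000000000000000000001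ffc00000000000000000000000000000000000000000000000000004c000000000000000000000000000000012c43e1a8024000002006803c00a0120000010000012002801801c00d0000000000000000004c00c001007800000e54a3c34000000000000000000000000000000000000000000000000000000000000000000000000000000000000000ffe00000000000000000000000000000000000000000000000000000000000000000000000000000000000000004459bc000000000000000000000000000000000000000000000000000000000000000000000000000000000000003ff8000000000000000000000000000000000000000000000000000000000000000000000000000000000000000110f6d001000000201300100000020000000000026000000000802600000000000000000000000000000000003c00310ae0000000000000000000000000000000000000000000000000000000000000000000000000000000000000001b840000000000000000000000000000000000000000000000000000000000000000000000000000000000000008813480000000000000000000000000000000000000000000000000000000000000000000000000000000000000006a0f000000000000000000000000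000000000000000000000000000000000000000000000000000000000000000ffe000000000000000000000000000000000000000000000000000000000000000000000000000000000000000043d5900000000000000000000000000000000000000000000010000000000000000000000001300980000000011e46a948000000000000000000000000000000000000000000000000000000400000000000000000000000000026000b750000000000000000000000000000000000000000000000000000000000000000000000000000000000000000ffe00000000000000000000000000000000000000000000000000000000000000000000000000000000000000001ffc000000000000000000000000000000000000000000000000000000000000000000000000000000000000000002b858000000000000000000000000000000000000000000000000000000000000000000000000000000000000010d85b000000000000000000000000000000000000000000000000000000000000000000000000000000000000002194b00000000000000000000000000000000000000000000000000000000000000000000000000000000000000001442800000000000000000000000000000000000000000000000000000000000000000000000000000000000000860a9800c0000000000000000000000000000000000000000020000000000000000000000002601300000000242c8dc20))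
 (.leaf (nat_lit 0x78e20000000000000000000000000000000000000000000000000000000000000000000000000000000000000003ff80004c002009001803801e00e000001c00000b0040024014003000000000000000000040100000060000019109dfa80000000000000000000000000000000000000000000000000000000000000000000000000000000000000003b2fc000000000000000000000000000000000000000000000000000000000000000000000000000000000000001ffc00000000000000000000000000000000000000000000000000000000000000000000000000000000000000000ea398000000000000000000000000000000000000000000000000000000000000000000000000000000000000007ff00000000000000000000000000000000000000000000000000000000000000000000000000000000000000000ffe00000000000000000000000000000000000000000000000000000000000000000000000000000000000000000731b8000000000000000000000000000000000000000000000000000000000000000000000000000000000000003ff800000000000000000000000000000000000000000000000000000000000000000000000000000000000000007ff00))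
) (.leaf (nat_lit 0x20048014004006004401c000003000001400600300180080000000000000000000803000c00e00000080032f1a0000000000000000000000000000000000000000000000000000000000000000000000000000000000000047629c000000000000000000000000000000000000000000000000000000000000000000000000000000000000003ff8000000000000000000000000000000000000000000000000000000000000000000000000000000000000000013041000801800e005004803c014000000000002600e006000c00a00000000000040060078004012006004000661438f600200000040260020000000000000000004c000000001004c000000000000000000000000000000000084a25cd48000000000000000000000000000000000000000000000000000000000000000000000000000000000000000951f0000000000000000000000000000000000000000000000000000000000000000000000000000000000000007ff0000080180240070020038004000008000000400f006800000e0000000000002000000004c0040050008042413eaee002000800800400d0020048000013000004801e00d00400080000000000010000002007003000800400580081e68000000000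000000000000000000000000000000000000000000000000000000000000000000000000000000919c003401600900200380040070008020004011008804400e00600180000000100040028008000002801c00a00a3a3d0000000000000000000000000000000000000000000000000000000000000000000000000000000000000023a74a0110030008024004000000400000e000004002401200080480000000000000024000007800000401200700082508000000000000000000000000000000000000000000000000000000000000000000000000000000000000003ff800000000000000000000000000000000000000000000000000000000000000000080000000000000004022001468500000000000000000000000000000000000000000000000000000000000000000000000000000000000000022e6400000000000000000000000000000000000000000000000000000000000000000000000000000000000000472e880000000000000000000000000000000000000000000000000000000000000000000000000000000000000008818000c0040100000004022011000001000000400200100100000000000000000000000001a0090080000015109a182009003c020002008004c024000002800000c00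300200080060000000000000002000000401a0100010008003732200f001004c00000000000000000130000000000000009000400000000000000260000098004000013004c125dcfc00000000000000000000000000000000000000000000000000000000000000000000000000000000000000081968014000004009800802600100000040000130000000004000000000000000000080000040000000004026dc979960088020006011003804c002000009800001e01300980080220000000000000013000803400000200880140041b380000000000000000000000000000000000000000000000000000000000000000200000900480000130023c23f168000000000000000000000000000000000000000000000000000000000000000000000000000000000000003ff800000000000000000000000000000000000000000000000000000000000000000000000000000000000000000f62a003800801600f00680040140000080000016010009004401e0000000000024002009003401e0040000021c1416c600e000001c00c006008802800000c000003c01200700500180000000000008004013007804801600400137286d88000000000000000000000000000000000000000000000000000000000000000000000000000000000000003ff800000000000000000000000000000000000000000000000000000000000000000000000000000000000000007ff00))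
)) (.node (.node (.node (.leaf (nat_lit 0)) (.leaf (nat_lit 0))) (.leaf (nat_lit 0))) (.node (.node (.leaf (nat_lit 0)) (.leaf (nat_lit 0))) (.leaf (nat_lit 0)))))))

noncomputable def co3_L_t : BT :=
co3_L_t0

noncomputable def co3_L_rules : LT :=
(.node (.node (.node (.node (.node (.node (.node (.leaf [nat_lit 0x130000000000002,nat_lit 26,nat_lit 13,nat_lit 1,nat_lit 3,nat_lit 2,nat_lit 4,nat_lit 0,nat_lit 2,nat_lit 0,nat_lit 2,nat_lit 0,nat_lit 2,nat_lit 1,nat_lit 2,nat_lit 1,nat_lit 1,nat_lit 2,nat_lit 1,nat_lit 2,nat_lit 0,nat_lit 2,nat_lit 3,nat_lit 2,nat_lit 3,nat_lit 1,nat_lit 2,nat_lit 0,nat_lit 4,nat_lit 2])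
 (.leaf [nat_lit 0,nat_lit 19,nat_lit 23,nat_lit 1,nat_lit 0,nat_lit 1,nat_lit 2,nat_lit 0,nat_lit 0,nat_lit 2,nat_lit 0,nat_lit 2,nat_lit 1,nat_lit 2,nat_lit 3,nat_lit 0,nat_lit 2,nat_lit 1,nat_lit 1,nat_lit 3,nat_lit 0,nat_lit 2,nat_lit 0,nat_lit 2,nat_lit 1,nat_lit 2,nat_lit 0,nat_lit 3,nat_lit 1])
) (.node (.leaf [nat_lit 0,nat_lit 4,nat_lit 5,nat_lit 1,nat_lit 0,nat_lit 2,nat_lit 1,nat_lit 2,nat_lit 1,nat_lit 2,nat_lit 1,nat_lit 2,nat_lit 1,nat_lit 2,nat_lit 1,nat_lit 2,nat_lit 1,nat_lit 2,nat_lit 1,nat_lit 2])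
 (.leaf [nat_lit 0x9800000000000000000000000000000000003,nat_lit 33,nat_lit 12,nat_lit 1,nat_lit 0,nat_lit 2,nat_lit 1,nat_lit 4,nat_lit 0,nat_lit 0,nat_lit 3,nat_lit 0,nat_lit 0,nat_lit 2,nat_lit 1,nat_lit 2,nat_lit 1,nat_lit 1,nat_lit 1,nat_lit 2,nat_lit 0,nat_lit 0,nat_lit 2,nat_lit 0,nat_lit 4,nat_lit 2,nat_lit 4,nat_lit 3,nat_lit 2,nat_lit 1,nat_lit 1])
)) (.node (.node (.leaf [nat_lit 0x4c00000000000000000000000000000000000000000000000000000000000000000000002,nat_lit 44,nat_lit 25,nat_lit 1,nat_lit 4,nat_lit 1,nat_lit 1,nat_lit 2,nat_lit 4,nat_lit 1,nat_lit 1,nat_lit 1,nat_lit 2,nat_lit 0,nat_lit 2,nat_lit 1,nat_lit 2,nat_lit 1,nat_lit 1,nat_lit 2,nat_lit 0,nat_lit 2,nat_lit 0,nat_lit 2,nat_lit 1,nat_lit 3,nat_lit 0,nat_lit 2,nat_lit 3,nat_lit 0,nat_lit 3,nat_lit 2,nat_lit 0,nat_lit 4,nat_lit 2,nat_lit 0,nat_lit 0])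
 (.leaf [nat_lit 0,nat_lit 20,nat_lit 22,nat_lit 1,nat_lit 3,nat_lit 1,nat_lit 1,nat_lit 1,nat_lit 2,nat_lit 3,nat_lit 2,nat_lit 1,nat_lit 2,nat_lit 1,nat_lit 1,nat_lit 2,nat_lit 1,nat_lit 1,nat_lit 2,nat_lit 1,nat_lit 2,nat_lit 0,nat_lit 0,nat_lit 3,nat_lit 0,nat_lit 3,nat_lit 2,nat_lit 0,nat_lit 0,nat_lit 0])
) (.node (.leaf [nat_lit 0x4000000000000000000000000000000000000000000000,nat_lit 36,nat_lit 0,nat_lit 0,nat_lit 1,nat_lit 0,nat_lit 0,nat_lit 2,nat_lit 0,nat_lit 4,nat_lit 0,nat_lit 3,nat_lit 2,nat_lit 0,nat_lit 3,nat_lit 2,nat_lit 1,nat_lit 3,nat_lit 2,nat_lit 1,nat_lit 1,nat_lit 1,nat_lit 2,nat_lit 0,nat_lit 0,nat_lit 0,nat_lit 2,nat_lit 1,nat_lit 2,nat_lit 0,nat_lit 2,nat_lit 4,nat_lit 1,nat_lit 2,nat_lit 3])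
 (.leaf [nat_lit 0,nat_lit 14,nat_lit 0,nat_lit 0,nat_lit 1,nat_lit 0,nat_lit 0,nat_lit 2,nat_lit 0,nat_lit 0,nat_lit 0,nat_lit 2,nat_lit 1,nat_lit 3,nat_lit 0,nat_lit 3,nat_lit 2,nat_lit 3,nat_lit 1,nat_lit 1,nat_lit 2,nat_lit 0,nat_lit 0,nat_lit 3,nat_lit 1,nat_lit 2,nat_lit 3])
))) (.node (.node (.node (.leaf [nat_lit 0,nat_lit 7,nat_lit 18,nat_lit 0,nat_lit 2,nat_lit 1,nat_lit 2,nat_lit 1,nat_lit 2,nat_lit 0,nat_lit 0,nat_lit 0,nat_lit 2,nat_lit 1,nat_lit 1,nat_lit 2,nat_lit 1,nat_lit 2,nat_lit 0,nat_lit 0,nat_lit 0,nat_lit 2,nat_lit 1,nat_lit 2,nat_lit 0,nat_lit 2,nat_lit 1])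
 (.leaf [nat_lit 0,nat_lit 21,nat_lit 23,nat_lit 0,nat_lit 3,nat_lit 1,nat_lit 2,nat_lit 0,nat_lit 0,nat_lit 2,nat_lit 1,nat_lit 2,nat_lit 1,nat_lit 2,nat_lit 1,nat_lit 2,nat_lit 1,nat_lit 3,nat_lit 0,nat_lit 0,nat_lit 2,nat_lit 1,nat_lit 3,nat_lit 1,nat_lit 1,nat_lit 2,nat_lit 0,nat_lit 0,nat_lit 2,nat_lit 1])
) (.node (.leaf [nat_lit 0,nat_lit 4,nat_lit 0,nat_lit 0,nat_lit 1,nat_lit 2,nat_lit 0,nat_lit 2,nat_lit 0,nat_lit 2,nat_lit 0,nat_lit 2,nat_lit 0,nat_lit 2,nat_lit 0,nat_lit 2,nat_lit 0,nat_lit 2,nat_lit 0,nat_lit 2])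
 (.leaf [nat_lit 0,nat_lit 7,nat_lit 0,nat_lit 0,nat_lit 1,nat_lit 0,nat_lit 0,nat_lit 2,nat_lit 1,nat_lit 1,nat_lit 2,nat_lit 1,nat_lit 2,nat_lit 0,nat_lit 0,nat_lit 0,nat_lit 2,nat_lit 1,nat_lit 2,nat_lit 0,nat_lit 2,nat_lit 1,nat_lit 2,nat_lit 1,nat_lit 2,nat_lit 1,nat_lit 2])
)) (.node (.node (.leaf [nat_lit 0,nat_lit 10,nat_lit 6,nat_lit 0,nat_lit 2,nat_lit 0,nat_lit 2,nat_lit 1,nat_lit 3,nat_lit 2,nat_lit 3,nat_lit 2,nat_lit 1,nat_lit 2,nat_lit 3,nat_lit 2,nat_lit 0,nat_lit 0,nat_lit 0,nat_lit 2,nat_lit 1,nat_lit 1])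
 (.leaf [nat_lit 0,nat_lit 13,nat_lit 16,nat_lit 0,nat_lit 3,nat_lit 1,nat_lit 2,nat_lit 0,nat_lit 0,nat_lit 2,nat_lit 1,nat_lit 1,nat_lit 2,nat_lit 0,nat_lit 2,nat_lit 3,nat_lit 0,nat_lit 3,nat_lit 0,nat_lit 2,nat_lit 1,nat_lit 3,nat_lit 1])
) (.leaf [nat_lit 0,nat_lit 20,nat_lit 10,nat_lit 0,nat_lit 3,nat_lit 1,nat_lit 1,nat_lit 2,nat_lit 0,nat_lit 2,nat_lit 0,nat_lit 0,nat_lit 2,nat_lit 0,nat_lit 0,nat_lit 2,nat_lit 0,nat_lit 2,nat_lit 3,nat_lit 2,nat_lit 0,nat_lit 0,nat_lit 0,nat_lit 3,nat_lit 1,nat_lit 1,nat_lit 1,nat_lit 2,nat_lit 3,nat_lit 1])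
))) (.node (.node (.node (.node (.leaf [nat_lit 0x9800000000000000000000000000000000000000000000000000000000000000000000000004,nat_lit 45,nat_lit 3,nat_lit 1,nat_lit 1,nat_lit 4,nat_lit 2,nat_lit 4,nat_lit 1,nat_lit 2,nat_lit 1,nat_lit 1,nat_lit 1,nat_lit 3,nat_lit 0,nat_lit 2,nat_lit 3,nat_lit 1,nat_lit 1,nat_lit 2,nat_lit 0,nat_lit 2,nat_lit 0,nat_lit 0,nat_lit 2,nat_lit 1,nat_lit 1,nat_lit 2,nat_lit 1,nat_lit 1,nat_lit 1,nat_lit 2,nat_lit 1,nat_lit 1,nat_lit 1,nat_lit 4,nat_lit 2,nat_lit 4])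
 (.leaf [nat_lit 0,nat_lit 10,nat_lit 10,nat_lit 0,nat_lit 3,nat_lit 2,nat_lit 3,nat_lit 2,nat_lit 1,nat_lit 2,nat_lit 3,nat_lit 2,nat_lit 0,nat_lit 0,nat_lit 0,nat_lit 2,nat_lit 1,nat_lit 1,nat_lit 2,nat_lit 0,nat_lit 2,nat_lit 1])
) (.node (.leaf [nat_lit 0,nat_lit 2,nat_lit 2,nat_lit 1,nat_lit 0,nat_lit 1,nat_lit 1,nat_lit 1,nat_lit 1,nat_lit 1,nat_lit 1])
 (.leaf [nat_lit 0,nat_lit 7,nat_lit 21,nat_lit 1,nat_lit 0,nat_lit 1,nat_lit 2,nat_lit 0,nat_lit 2,nat_lit 0,nat_lit 2,nat_lit 0,nat_lit 2,nat_lit 1,nat_lit 2,nat_lit 0,nat_lit 2,nat_lit 1,nat_lit 1,nat_lit 1,nat_lit 2,nat_lit 0,nat_lit 2,nat_lit 0,nat_lit 0,nat_lit 2,nat_lit 1])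
)) (.node (.node (.leaf [nat_lit 0,nat_lit 20,nat_lit 5,nat_lit 0,nat_lit 0,nat_lit 1,nat_lit 2,nat_lit 3,nat_lit 1,nat_lit 3,nat_lit 1,nat_lit 1,nat_lit 2,nat_lit 0,nat_lit 2,nat_lit 0,nat_lit 0,nat_lit 2,nat_lit 0,nat_lit 0,nat_lit 2,nat_lit 0,nat_lit 2,nat_lit 3,nat_lit 2,nat_lit 0,nat_lit 0,nat_lit 0,nat_lit 3,nat_lit 1])
 (.leaf [nat_lit 0,nat_lit 15,nat_lit 2,nat_lit 1,nat_lit 2,nat_lit 3,nat_lit 2,nat_lit 3,nat_lit 2,nat_lit 1,nat_lit 3,nat_lit 2,nat_lit 3,nat_lit 2,nat_lit 0,nat_lit 2,nat_lit 0,nat_lit 2,nat_lit 1,nat_lit 2,nat_lit 0,nat_lit 0,nat_lit 2,nat_lit 1,nat_lit 1,nat_lit 1,nat_lit 3,nat_lit 0])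
) (.node (.leaf [nat_lit 0x2000000000000000000000000000000000000000000,nat_lit 35,nat_lit 13,nat_lit 0,nat_lit 1,nat_lit 2,nat_lit 3,nat_lit 2,nat_lit 0,nat_lit 4,nat_lit 0,nat_lit 2,nat_lit 1,nat_lit 2,nat_lit 0,nat_lit 2,nat_lit 1,nat_lit 3,nat_lit 0,nat_lit 2,nat_lit 1,nat_lit 2,nat_lit 0,nat_lit 0,nat_lit 0,nat_lit 2,nat_lit 0,nat_lit 2,nat_lit 0,nat_lit 0,nat_lit 0,nat_lit 4,nat_lit 3,nat_lit 0,nat_lit 0])
 (.leaf [nat_lit 0,nat_lit 17,nat_lit 15,nat_lit 0,nat_lit 0,nat_lit 2,nat_lit 0,nat_lit 2,nat_lit 3,nat_lit 1,nat_lit 2,nat_lit 0,nat_lit 0,nat_lit 2,nat_lit 0,nat_lit 0,nat_lit 0,nat_lit 2,nat_lit 1,nat_lit 1,nat_lit 2,nat_lit 0,nat_lit 3,nat_lit 2,nat_lit 1,nat_lit 1,nat_lit 2,nat_lit 0,nat_lit 2])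
))) (.node (.node (.node (.leaf [nat_lit 0x26000000000000000000000000000000000000000000000000000000000000000000000000000000002,nat_lit 47,nat_lit 15,nat_lit 1,nat_lit 0,nat_lit 2,nat_lit 0,nat_lit 0,nat_lit 4,nat_lit 3,nat_lit 0,nat_lit 0,nat_lit 3,nat_lit 1,nat_lit 2,nat_lit 0,nat_lit 3,nat_lit 2,nat_lit 3,nat_lit 1,nat_lit 2,nat_lit 1,nat_lit 1,nat_lit 1,nat_lit 2,nat_lit 0,nat_lit 2,nat_lit 1,nat_lit 2,nat_lit 0,nat_lit 2,nat_lit 1,nat_lit 1,nat_lit 2,nat_lit 0,nat_lit 0,nat_lit 4,nat_lit 2,nat_lit 1])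
 (.leaf [nat_lit 0x260000000000000002,nat_lit 27,nat_lit 4,nat_lit 1,nat_lit 3,nat_lit 0,nat_lit 3,nat_lit 0,nat_lit 2,nat_lit 0,nat_lit 0,nat_lit 0,nat_lit 4,nat_lit 0,nat_lit 3,nat_lit 1,nat_lit 1,nat_lit 3,nat_lit 0,nat_lit 0,nat_lit 3,nat_lit 1,nat_lit 4,nat_lit 1,nat_lit 1,nat_lit 1,nat_lit 2,nat_lit 1,nat_lit 3,nat_lit 1])
) (.node (.leaf [nat_lit 0,nat_lit 13,nat_lit 16,nat_lit 1,nat_lit 2,nat_lit 1,nat_lit 1,nat_lit 2,nat_lit 0,nat_lit 3,nat_lit 0,nat_lit 3,nat_lit 0,nat_lit 2,nat_lit 1,nat_lit 3,nat_lit 1,nat_lit 3,nat_lit 2,nat_lit 1,nat_lit 2,nat_lit 0,nat_lit 0])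
 (.leaf [nat_lit 0,nat_lit 21,nat_lit 5,nat_lit 0,nat_lit 0,nat_lit 2,nat_lit 1,nat_lit 2,nat_lit 1,nat_lit 3,nat_lit 0,nat_lit 0,nat_lit 2,nat_lit 1,nat_lit 3,nat_lit 1,nat_lit 1,nat_lit 2,nat_lit 0,nat_lit 0,nat_lit 2,nat_lit 1,nat_lit 3,nat_lit 1,nat_lit 2,nat_lit 0,nat_lit 0,nat_lit 2,nat_lit 1,nat_lit 2])
)) (.node (.node (.leaf [nat_lit 0,nat_lit 15,nat_lit 21,nat_lit 0,nat_lit 2,nat_lit 1,nat_lit 3,nat_lit 0,nat_lit 0,nat_lit 0,nat_lit 2,nat_lit 1,nat_lit 1,nat_lit 2,nat_lit 0,nat_lit 2,nat_lit 1,nat_lit 2,nat_lit 1,nat_lit 2,nat_lit 3,nat_lit 2,nat_lit 3,nat_lit 0,nat_lit 2,nat_lit 3,nat_lit 2,nat_lit 3])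
 (.leaf [nat_lit 0x400000000000000000000000000000000,nat_lit 32,nat_lit 19,nat_lit 0,nat_lit 0,nat_lit 2,nat_lit 1,nat_lit 1,nat_lit 1,nat_lit 2,nat_lit 3,nat_lit 1,nat_lit 2,nat_lit 1,nat_lit 1,nat_lit 2,nat_lit 0,nat_lit 0,nat_lit 0,nat_lit 2,nat_lit 0,nat_lit 2,nat_lit 1,nat_lit 1,nat_lit 1,nat_lit 2,nat_lit 4,nat_lit 3,nat_lit 2,nat_lit 0,nat_lit 3,nat_lit 1,nat_lit 2,nat_lit 3,nat_lit 4])
) (.leaf [nat_lit 0x40000000000000000000,nat_lit 28,nat_lit 5,nat_lit 0,nat_lit 3,nat_lit 0,nat_lit 3,nat_lit 0,nat_lit 4,nat_lit 3,nat_lit 4,nat_lit 3,nat_lit 4,nat_lit 0,nat_lit 3,nat_lit 0,nat_lit 3,nat_lit 0])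
)))) (.node (.node (.node (.node (.node (.leaf [nat_lit 0x4c000004,nat_lit 24,nat_lit 7,nat_lit 1,nat_lit 2,nat_lit 4,nat_lit 0,nat_lit 4,nat_lit 0,nat_lit 2,nat_lit 0,nat_lit 2,nat_lit 0,nat_lit 0,nat_lit 0,nat_lit 2,nat_lit 1,nat_lit 1,nat_lit 1,nat_lit 2,nat_lit 1,nat_lit 2,nat_lit 1,nat_lit 4,nat_lit 1,nat_lit 4])
 (.leaf [nat_lit 0x800000000000000000000000000000000000,nat_lit 33,nat_lit 16,nat_lit 0,nat_lit 1,nat_lit 2,nat_lit 3,nat_lit 4,nat_lit 2,nat_lit 4,nat_lit 1,nat_lit 2,nat_lit 1,nat_lit 1,nat_lit 2,nat_lit 0,nat_lit 0,nat_lit 0,nat_lit 2,nat_lit 0,nat_lit 2,nat_lit 1,nat_lit 1,nat_lit 3,nat_lit 1,nat_lit 1,nat_lit 4,nat_lit 0,nat_lit 2,nat_lit 0,nat_lit 0])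
) (.node (.leaf [nat_lit 0,nat_lit 14,nat_lit 4,nat_lit 0,nat_lit 1,nat_lit 0,nat_lit 0,nat_lit 2,nat_lit 1,nat_lit 3,nat_lit 0,nat_lit 3,nat_lit 2,nat_lit 3,nat_lit 1,nat_lit 1,nat_lit 2,nat_lit 0,nat_lit 0,nat_lit 3,nat_lit 1,nat_lit 2,nat_lit 3,nat_lit 0,nat_lit 0,nat_lit 0,nat_lit 2])
 (.leaf [nat_lit 0,nat_lit 19,nat_lit 3,nat_lit 0,nat_lit 3,nat_lit 1,nat_lit 2,nat_lit 0,nat_lit 2,nat_lit 1,nat_lit 2,nat_lit 1,nat_lit 3,nat_lit 0,nat_lit 0,nat_lit 2,nat_lit 1,nat_lit 3,nat_lit 2,nat_lit 0,nat_lit 2,nat_lit 1,nat_lit 2,nat_lit 1,nat_lit 1,nat_lit 2,nat_lit 0,nat_lit 0,nat_lit 0])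
)) (.node (.node (.leaf [nat_lit 0x1300000000000000000000000002,nat_lit 30,nat_lit 12,nat_lit 1,nat_lit 4,nat_lit 2,nat_lit 0,nat_lit 2,nat_lit 4,nat_lit 2,nat_lit 0,nat_lit 3,nat_lit 2,nat_lit 3,nat_lit 0,nat_lit 2,nat_lit 3,nat_lit 1,nat_lit 1,nat_lit 2,nat_lit 1,nat_lit 1,nat_lit 2,nat_lit 1,nat_lit 2,nat_lit 0,nat_lit 2,nat_lit 0,nat_lit 0,nat_lit 2,nat_lit 4,nat_lit 1,nat_lit 2,nat_lit 3])
 (.leaf [nat_lit 0,nat_lit 7,nat_lit 6,nat_lit 0,nat_lit 2,nat_lit 1,nat_lit 2,nat_lit 0,nat_lit 0,nat_lit 0,nat_lit 2,nat_lit 1,nat_lit 2,nat_lit 0,nat_lit 2,nat_lit 1,nat_lit 2,nat_lit 1,nat_lit 2,nat_lit 1,nat_lit 2,nat_lit 0,nat_lit 0,nat_lit 0,nat_lit 2,nat_lit 1,nat_lit 1])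
) (.node (.leaf [nat_lit 0x13000000000000000000000000000000000000000000000000000000000000000000000000000002,nat_lit 46,nat_lit 18,nat_lit 1,nat_lit 1,nat_lit 3,nat_lit 0,nat_lit 2,nat_lit 0,nat_lit 4,nat_lit 0,nat_lit 0,nat_lit 2,nat_lit 1,nat_lit 2,nat_lit 1,nat_lit 2,nat_lit 1,nat_lit 1,nat_lit 1,nat_lit 2,nat_lit 0,nat_lit 0,nat_lit 0,nat_lit 2,nat_lit 1,nat_lit 2,nat_lit 3,nat_lit 0,nat_lit 2,nat_lit 1,nat_lit 1,nat_lit 3,nat_lit 0,nat_lit 4,nat_lit 2,nat_lit 1,nat_lit 2])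
 (.leaf [nat_lit 0x40000000000000000000,nat_lit 28,nat_lit 6,nat_lit 0,nat_lit 1,nat_lit 3,nat_lit 0,nat_lit 4,nat_lit 3,nat_lit 4,nat_lit 3,nat_lit 4,nat_lit 0,nat_lit 3,nat_lit 0,nat_lit 3,nat_lit 0,nat_lit 3])
))) (.node (.node (.node (.leaf [nat_lit 0,nat_lit 2,nat_lit 5,nat_lit 0,nat_lit 1,nat_lit 0,nat_lit 0,nat_lit 0,nat_lit 0,nat_lit 0,nat_lit 0])
 (.leaf [nat_lit 0x9800000000000000000000000000000000003,nat_lit 33,nat_lit 18,nat_lit 1,nat_lit 3,nat_lit 0,nat_lit 0,nat_lit 2,nat_lit 1,nat_lit 2,nat_lit 1,nat_lit 1,nat_lit 1,nat_lit 2,nat_lit 0,nat_lit 0,nat_lit 2,nat_lit 0,nat_lit 4,nat_lit 2,nat_lit 4,nat_lit 3,nat_lit 2,nat_lit 1,nat_lit 1,nat_lit 1,nat_lit 2,nat_lit 1,nat_lit 4,nat_lit 0,nat_lit 0])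
) (.node (.leaf [nat_lit 0x80000000000000000000000000000000000000000000000000000000000000,nat_lit 41,nat_lit 21,nat_lit 0,nat_lit 2,nat_lit 0,nat_lit 2,nat_lit 0,nat_lit 0,nat_lit 4,nat_lit 1,nat_lit 2,nat_lit 0,nat_lit 2,nat_lit 0,nat_lit 0,nat_lit 0,nat_lit 2,nat_lit 1,nat_lit 2,nat_lit 1,nat_lit 1,nat_lit 2,nat_lit 1,nat_lit 3,nat_lit 2,nat_lit 1,nat_lit 3,nat_lit 0,nat_lit 0,nat_lit 4,nat_lit 0,nat_lit 2,nat_lit 1,nat_lit 3])
 (.leaf [nat_lit 0,nat_lit 14,nat_lit 21,nat_lit 1,nat_lit 0,nat_lit 1,nat_lit 3,nat_lit 2,nat_lit 0,nat_lit 3,nat_lit 1,nat_lit 1,nat_lit 2,nat_lit 0,nat_lit 0,nat_lit 3,nat_lit 2,nat_lit 3,nat_lit 1,nat_lit 3,nat_lit 0,nat_lit 2,nat_lit 1,nat_lit 1,nat_lit 1,nat_lit 2,nat_lit 1])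
)) (.node (.node (.leaf [nat_lit 0,nat_lit 10,nat_lit 11,nat_lit 0,nat_lit 2,nat_lit 3,nat_lit 2,nat_lit 1,nat_lit 2,nat_lit 3,nat_lit 2,nat_lit 0,nat_lit 0,nat_lit 0,nat_lit 2,nat_lit 1,nat_lit 1,nat_lit 2,nat_lit 0,nat_lit 2,nat_lit 1,nat_lit 3])
 (.leaf [nat_lit 0x4000000000000000000000000000000000000000000000,nat_lit 36,nat_lit 23,nat_lit 0,nat_lit 0,nat_lit 2,nat_lit 0,nat_lit 2,nat_lit 4,nat_lit 1,nat_lit 2,nat_lit 3,nat_lit 0,nat_lit 0,nat_lit 0,nat_lit 2,nat_lit 0,nat_lit 4,nat_lit 0,nat_lit 3,nat_lit 2,nat_lit 0,nat_lit 3,nat_lit 2,nat_lit 1,nat_lit 3,nat_lit 2,nat_lit 1,nat_lit 1,nat_lit 1,nat_lit 2,nat_lit 0,nat_lit 0,nat_lit 0,nat_lit 2])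
) (.leaf [nat_lit 0,nat_lit 20,nat_lit 0,nat_lit 1,nat_lit 2,nat_lit 3,nat_lit 2,nat_lit 1,nat_lit 2,nat_lit 1,nat_lit 1,nat_lit 2,nat_lit 1,nat_lit 1,nat_lit 2,nat_lit 1,nat_lit 2,nat_lit 0,nat_lit 0,nat_lit 3,nat_lit 0,nat_lit 3,nat_lit 2,nat_lit 0,nat_lit 0,nat_lit 0,nat_lit 3,nat_lit 1,nat_lit 1,nat_lit 1])
))) (.node (.node (.node (.node (.leaf [nat_lit 0,nat_lit 10,nat_lit 9,nat_lit 0,nat_lit 0,nat_lit 3,nat_lit 2,nat_lit 3,nat_lit 2,nat_lit 1,nat_lit 2,nat_lit 3,nat_lit 2,nat_lit 0,nat_lit 0,nat_lit 0,nat_lit 2,nat_lit 1,nat_lit 1,nat_lit 2,nat_lit 0,nat_lit 2])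
 (.leaf [nat_lit 0x4c0000000000000000000000000000000000000000000000000000000002,nat_lit 40,nat_lit 18,nat_lit 1,nat_lit 4,nat_lit 0,nat_lit 0,nat_lit 0,nat_lit 3,nat_lit 4,nat_lit 2,nat_lit 0,nat_lit 0,nat_lit 2,nat_lit 1,nat_lit 1,nat_lit 1,nat_lit 2,nat_lit 1,nat_lit 2,nat_lit 0,nat_lit 0,nat_lit 2,nat_lit 3,nat_lit 2,nat_lit 1,nat_lit 1,nat_lit 3,nat_lit 1,nat_lit 2,nat_lit 4,nat_lit 3,nat_lit 1,nat_lit 1,nat_lit 1])
) (.node (.leaf [nat_lit 0,nat_lit 21,nat_lit 12,nat_lit 0,nat_lit 1,nat_lit 2,nat_lit 1,nat_lit 3,nat_lit 1,nat_lit 1,nat_lit 2,nat_lit 0,nat_lit 0,nat_lit 2,nat_lit 1,nat_lit 3,nat_lit 1,nat_lit 2,nat_lit 0,nat_lit 0,nat_lit 2,nat_lit 1,nat_lit 2,nat_lit 1,nat_lit 2,nat_lit 1,nat_lit 2,nat_lit 1,nat_lit 3,nat_lit 0])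
 (.leaf [nat_lit 0x100000000000000000000000000,nat_lit 30,nat_lit 18,nat_lit 0,nat_lit 3,nat_lit 2,nat_lit 0,nat_lit 4,nat_lit 2,nat_lit 1,nat_lit 1,nat_lit 2,nat_lit 1,nat_lit 2,nat_lit 0,nat_lit 2,nat_lit 0,nat_lit 0,nat_lit 2,nat_lit 0,nat_lit 0,nat_lit 3,nat_lit 2,nat_lit 1,nat_lit 3,nat_lit 2,nat_lit 3,nat_lit 1,nat_lit 2,nat_lit 4,nat_lit 2,nat_lit 1,nat_lit 2,nat_lit 4])
)) (.node (.node (.leaf [nat_lit 0x4c00000000000000000000000000000002,nat_lit 32,nat_lit 16,nat_lit 1,nat_lit 3,nat_lit 1,nat_lit 2,nat_lit 3,nat_lit 4,nat_lit 2,nat_lit 0,nat_lit 0,nat_lit 0,nat_lit 2,nat_lit 1,nat_lit 2,nat_lit 1,nat_lit 1,nat_lit 1,nat_lit 2,nat_lit 0,nat_lit 0,nat_lit 2,nat_lit 0,nat_lit 3,nat_lit 2,nat_lit 0,nat_lit 0,nat_lit 0,nat_lit 2,nat_lit 0,nat_lit 4,nat_lit 3,nat_lit 2,nat_lit 0])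
 (.leaf [nat_lit 0x4c0000000000000000003,nat_lit 28,nat_lit 10,nat_lit 1,nat_lit 3,nat_lit 1,nat_lit 3,nat_lit 1,nat_lit 4,nat_lit 3,nat_lit 4,nat_lit 3,nat_lit 4,nat_lit 1,nat_lit 3,nat_lit 1,nat_lit 3,nat_lit 1])
) (.leaf [nat_lit 0x98000000000000000000000000000000000000000000000002,nat_lit 37,nat_lit 20,nat_lit 1,nat_lit 2,nat_lit 1,nat_lit 2,nat_lit 1,nat_lit 2,nat_lit 4,nat_lit 1,nat_lit 2,nat_lit 1,nat_lit 1,nat_lit 2,nat_lit 1,nat_lit 2,nat_lit 1,nat_lit 2,nat_lit 1,nat_lit 2,nat_lit 0,nat_lit 3,nat_lit 2,nat_lit 3,nat_lit 1,nat_lit 3,nat_lit 2,nat_lit 0,nat_lit 4,nat_lit 1,nat_lit 3,nat_lit 1,nat_lit 1])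
)) (.node (.node (.node (.leaf [nat_lit 0x200000000000000000000000000000000000000000000000000000000000000000000,nat_lit 43,nat_lit 16,nat_lit 0,nat_lit 1,nat_lit 2,nat_lit 3,nat_lit 0,nat_lit 4,nat_lit 0,nat_lit 3,nat_lit 0,nat_lit 0,nat_lit 2,nat_lit 1,nat_lit 2,nat_lit 1,nat_lit 3,nat_lit 2,nat_lit 1,nat_lit 2,nat_lit 0,nat_lit 0,nat_lit 2,nat_lit 0,nat_lit 2,nat_lit 0,nat_lit 0,nat_lit 2,nat_lit 1,nat_lit 1,nat_lit 2,nat_lit 1,nat_lit 4,nat_lit 1,nat_lit 2,nat_lit 0])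
 (.leaf [nat_lit 0,nat_lit 10,nat_lit 12,nat_lit 1,nat_lit 1,nat_lit 0,nat_lit 2,nat_lit 1,nat_lit 1,nat_lit 1,nat_lit 2,nat_lit 3,nat_lit 2,nat_lit 0,nat_lit 2,nat_lit 3,nat_lit 2,nat_lit 3,nat_lit 0,nat_lit 2,nat_lit 1,nat_lit 2])
) (.node (.leaf [nat_lit 0,nat_lit 18,nat_lit 7,nat_lit 0,nat_lit 1,nat_lit 2,nat_lit 1,nat_lit 1,nat_lit 3,nat_lit 0,nat_lit 3,nat_lit 2,nat_lit 3,nat_lit 1,nat_lit 3,nat_lit 0,nat_lit 2,nat_lit 1,nat_lit 3,nat_lit 2,nat_lit 3,nat_lit 2,nat_lit 0,nat_lit 0,nat_lit 0,nat_lit 2,nat_lit 1,nat_lit 1,nat_lit 2])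
 (.leaf [nat_lit 0x8000000000000000000000000000000000000000000000000,nat_lit 37,nat_lit 20,nat_lit 0,nat_lit 2,nat_lit 3,nat_lit 1,nat_lit 2,nat_lit 0,nat_lit 2,nat_lit 0,nat_lit 2,nat_lit 0,nat_lit 2,nat_lit 0,nat_lit 0,nat_lit 2,nat_lit 0,nat_lit 4,nat_lit 2,nat_lit 0,nat_lit 2,nat_lit 0,nat_lit 2,nat_lit 0,nat_lit 0,nat_lit 3,nat_lit 0,nat_lit 4,nat_lit 1,nat_lit 2,nat_lit 3,nat_lit 0,nat_lit 3])
)) (.node (.node (.leaf [nat_lit 0,nat_lit 15,nat_lit 0,nat_lit 1,nat_lit 3,nat_lit 0,nat_lit 2,nat_lit 3,nat_lit 2,nat_lit 3,nat_lit 2,nat_lit 1,nat_lit 3,nat_lit 2,nat_lit 3,nat_lit 2,nat_lit 0,nat_lit 2,nat_lit 0,nat_lit 2,nat_lit 1,nat_lit 2,nat_lit 0,nat_lit 0,nat_lit 2,nat_lit 1,nat_lit 1,nat_lit 1])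
 (.leaf [nat_lit 0,nat_lit 13,nat_lit 10,nat_lit 1,nat_lit 3,nat_lit 2,nat_lit 1,nat_lit 2,nat_lit 0,nat_lit 0,nat_lit 2,nat_lit 1,nat_lit 1,nat_lit 2,nat_lit 0,nat_lit 3,nat_lit 0,nat_lit 3,nat_lit 0,nat_lit 2,nat_lit 1,nat_lit 3,nat_lit 1])
) (.leaf [nat_lit 0x4c00000000000000000000000000000002,nat_lit 32,nat_lit 21,nat_lit 1,nat_lit 2,nat_lit 0,nat_lit 0,nat_lit 0,nat_lit 2,nat_lit 1,nat_lit 2,nat_lit 1,nat_lit 1,nat_lit 1,nat_lit 2,nat_lit 0,nat_lit 0,nat_lit 2,nat_lit 0,nat_lit 3,nat_lit 2,nat_lit 0,nat_lit 0,nat_lit 0,nat_lit 2,nat_lit 0,nat_lit 4,nat_lit 3,nat_lit 2,nat_lit 0,nat_lit 3,nat_lit 1,nat_lit 2,nat_lit 3,nat_lit 4])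
))))) (.node (.node (.node (.node (.node (.node (.leaf [nat_lit 0x26002,nat_lit 23,nat_lit 4,nat_lit 1,nat_lit 4,nat_lit 3,nat_lit 4,nat_lit 3,nat_lit 4,nat_lit 3])
 (.leaf [nat_lit 0x4c0000000000000000003,nat_lit 28,nat_lit 12,nat_lit 1,nat_lit 3,nat_lit 1,nat_lit 4,nat_lit 3,nat_lit 4,nat_lit 3,nat_lit 4,nat_lit 1,nat_lit 3,nat_lit 1,nat_lit 3,nat_lit 1,nat_lit 3,nat_lit 1])
) (.node (.leaf [nat_lit 0,nat_lit 13,nat_lit 2,nat_lit 1,nat_lit 3,nat_lit 0,nat_lit 3,nat_lit 0,nat_lit 2,nat_lit 1,nat_lit 3,nat_lit 1,nat_lit 3,nat_lit 2,nat_lit 1,nat_lit 2,nat_lit 0,nat_lit 0,nat_lit 2,nat_lit 1,nat_lit 1,nat_lit 2,nat_lit 0])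
 (.leaf [nat_lit 0x26003,nat_lit 23,nat_lit 3,nat_lit 1,nat_lit 3,nat_lit 4,nat_lit 3,nat_lit 4,nat_lit 3,nat_lit 4])
)) (.node (.node (.leaf [nat_lit 0x2600000000000000000000000000000000000000000000000000000000000000000001,nat_lit 43,nat_lit 20,nat_lit 1,nat_lit 4,nat_lit 0,nat_lit 2,nat_lit 0,nat_lit 0,nat_lit 2,nat_lit 1,nat_lit 1,nat_lit 2,nat_lit 1,nat_lit 2,nat_lit 1,nat_lit 1,nat_lit 2,nat_lit 0,nat_lit 2,nat_lit 3,nat_lit 0,nat_lit 2,nat_lit 0,nat_lit 2,nat_lit 1,nat_lit 1,nat_lit 3,nat_lit 1,nat_lit 4,nat_lit 1,nat_lit 3,nat_lit 2,nat_lit 1,nat_lit 1,nat_lit 2,nat_lit 0])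
 (.leaf [nat_lit 0,nat_lit 5,nat_lit 6,nat_lit 1,nat_lit 2,nat_lit 0,nat_lit 0,nat_lit 2,nat_lit 1,nat_lit 1,nat_lit 2,nat_lit 0,nat_lit 0,nat_lit 2,nat_lit 1,nat_lit 1,nat_lit 2,nat_lit 0,nat_lit 0,nat_lit 2,nat_lit 1,nat_lit 1])
) (.node (.leaf [nat_lit 0x1000000000000000000000000000000000000000,nat_lit 34,nat_lit 2,nat_lit 0,nat_lit 1,nat_lit 2,nat_lit 0,nat_lit 2,nat_lit 0,nat_lit 4,nat_lit 1,nat_lit 2,nat_lit 1,nat_lit 1,nat_lit 1,nat_lit 2,nat_lit 3,nat_lit 0,nat_lit 2,nat_lit 0,nat_lit 0,nat_lit 0,nat_lit 2,nat_lit 1,nat_lit 1,nat_lit 2,nat_lit 0,nat_lit 2,nat_lit 0,nat_lit 0,nat_lit 0,nat_lit 4,nat_lit 2,nat_lit 0,nat_lit 0])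
 (.leaf [nat_lit 0,nat_lit 19,nat_lit 0,nat_lit 1,nat_lit 2,nat_lit 0,nat_lit 0,nat_lit 2,nat_lit 0,nat_lit 2,nat_lit 1,nat_lit 2,nat_lit 3,nat_lit 0,nat_lit 2,nat_lit 1,nat_lit 1,nat_lit 3,nat_lit 0,nat_lit 2,nat_lit 0,nat_lit 2,nat_lit 1,nat_lit 2,nat_lit 0,nat_lit 3,nat_lit 1,nat_lit 1,nat_lit 1])
))) (.node (.node (.node (.leaf [nat_lit 0,nat_lit 10,nat_lit 7,nat_lit 1,nat_lit 3,nat_lit 0,nat_lit 2,nat_lit 1,nat_lit 2,nat_lit 0,nat_lit 0,nat_lit 2,nat_lit 1,nat_lit 1,nat_lit 1,nat_lit 2,nat_lit 3,nat_lit 2,nat_lit 0,nat_lit 2,nat_lit 3,nat_lit 2])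
 (.leaf [nat_lit 0,nat_lit 10,nat_lit 0,nat_lit 1,nat_lit 2,nat_lit 3,nat_lit 2,nat_lit 0,nat_lit 2,nat_lit 3,nat_lit 2,nat_lit 3,nat_lit 0,nat_lit 2,nat_lit 1,nat_lit 2,nat_lit 0,nat_lit 0,nat_lit 2,nat_lit 1,nat_lit 1,nat_lit 1])
) (.node (.leaf [nat_lit 0x260000000000000000000000000000000000000000000000000000002,nat_lit 39,nat_lit 8,nat_lit 1,nat_lit 3,nat_lit 2,nat_lit 0,nat_lit 0,nat_lit 0,nat_lit 4,nat_lit 2,nat_lit 3,nat_lit 0,nat_lit 2,nat_lit 3,nat_lit 0,nat_lit 3,nat_lit 2,nat_lit 1,nat_lit 1,nat_lit 1,nat_lit 2,nat_lit 0,nat_lit 2,nat_lit 1,nat_lit 1,nat_lit 1,nat_lit 2,nat_lit 0,nat_lit 0,nat_lit 4,nat_lit 1,nat_lit 1,nat_lit 1,nat_lit 2])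
 (.leaf [nat_lit 0,nat_lit 13,nat_lit 8,nat_lit 1,nat_lit 3,nat_lit 1,nat_lit 3,nat_lit 2,nat_lit 1,nat_lit 2,nat_lit 0,nat_lit 0,nat_lit 2,nat_lit 1,nat_lit 1,nat_lit 2,nat_lit 0,nat_lit 3,nat_lit 0,nat_lit 3,nat_lit 0,nat_lit 2,nat_lit 1])
)) (.node (.node (.leaf [nat_lit 0,nat_lit 17,nat_lit 11,nat_lit 0,nat_lit 0,nat_lit 2,nat_lit 0,nat_lit 2,nat_lit 1,nat_lit 2,nat_lit 0,nat_lit 2,nat_lit 3,nat_lit 1,nat_lit 2,nat_lit 0,nat_lit 0,nat_lit 2,nat_lit 0,nat_lit 0,nat_lit 0,nat_lit 2,nat_lit 1,nat_lit 1,nat_lit 2,nat_lit 0,nat_lit 3,nat_lit 2,nat_lit 1])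
 (.leaf [nat_lit 0,nat_lit 16,nat_lit 2,nat_lit 1,nat_lit 2,nat_lit 1,nat_lit 2,nat_lit 1,nat_lit 3,nat_lit 0,nat_lit 2,nat_lit 3,nat_lit 1,nat_lit 1,nat_lit 2,nat_lit 0,nat_lit 3,nat_lit 1,nat_lit 2,nat_lit 0,nat_lit 0,nat_lit 3,nat_lit 2,nat_lit 1,nat_lit 1,nat_lit 1,nat_lit 2,nat_lit 1])
) (.leaf [nat_lit 0,nat_lit 19,nat_lit 0,nat_lit 0,nat_lit 1,nat_lit 0,nat_lit 0,nat_lit 3,nat_lit 1,nat_lit 2,nat_lit 0,nat_lit 2,nat_lit 1,nat_lit 2,nat_lit 1,nat_lit 3,nat_lit 0,nat_lit 0,nat_lit 2,nat_lit 1,nat_lit 3,nat_lit 2,nat_lit 0,nat_lit 2,nat_lit 1,nat_lit 2,nat_lit 1,nat_lit 1,nat_lit 2])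
))) (.node (.node (.node (.node (.leaf [nat_lit 0,nat_lit 18,nat_lit 14,nat_lit 0,nat_lit 2,nat_lit 3,nat_lit 1,nat_lit 3,nat_lit 0,nat_lit 2,nat_lit 1,nat_lit 3,nat_lit 2,nat_lit 3,nat_lit 2,nat_lit 0,nat_lit 0,nat_lit 0,nat_lit 2,nat_lit 1,nat_lit 1,nat_lit 2,nat_lit 0,nat_lit 2,nat_lit 1,nat_lit 1,nat_lit 3,nat_lit 0,nat_lit 3])
 (.leaf [nat_lit 0,nat_lit 18,nat_lit 6,nat_lit 1,nat_lit 0,nat_lit 3,nat_lit 0,nat_lit 3,nat_lit 2,nat_lit 3,nat_lit 1,nat_lit 3,nat_lit 0,nat_lit 0,nat_lit 2,nat_lit 1,nat_lit 2,nat_lit 0,nat_lit 0,nat_lit 2,nat_lit 1,nat_lit 1,nat_lit 1,nat_lit 2,nat_lit 3,nat_lit 2,nat_lit 3,nat_lit 0,nat_lit 2])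
) (.node (.leaf [nat_lit 0x4c0000000000000000003,nat_lit 28,nat_lit 9,nat_lit 1,nat_lit 0,nat_lit 3,nat_lit 1,nat_lit 3,nat_lit 1,nat_lit 4,nat_lit 3,nat_lit 4,nat_lit 3,nat_lit 4,nat_lit 1,nat_lit 3,nat_lit 1,nat_lit 3])
 (.leaf [nat_lit 0x8000000000000000000000000000000000000000000000013,nat_lit 37,nat_lit 14,nat_lit 0,nat_lit 4,nat_lit 1,nat_lit 2,nat_lit 3,nat_lit 0,nat_lit 3,nat_lit 2,nat_lit 3,nat_lit 1,nat_lit 2,nat_lit 0,nat_lit 2,nat_lit 0,nat_lit 2,nat_lit 0,nat_lit 2,nat_lit 0,nat_lit 0,nat_lit 2,nat_lit 0,nat_lit 4,nat_lit 2,nat_lit 0,nat_lit 2,nat_lit 0,nat_lit 2,nat_lit 0,nat_lit 0,nat_lit 3,nat_lit 0])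
)) (.node (.node (.leaf [nat_lit 0,nat_lit 10,nat_lit 5,nat_lit 1,nat_lit 3,nat_lit 2,nat_lit 3,nat_lit 0,nat_lit 2,nat_lit 1,nat_lit 2,nat_lit 0,nat_lit 0,nat_lit 2,nat_lit 1,nat_lit 1,nat_lit 1,nat_lit 2,nat_lit 3,nat_lit 2,nat_lit 0,nat_lit 2])
 (.leaf [nat_lit 0,nat_lit 10,nat_lit 13,nat_lit 0,nat_lit 2,nat_lit 1,nat_lit 2,nat_lit 3,nat_lit 2,nat_lit 0,nat_lit 0,nat_lit 0,nat_lit 2,nat_lit 1,nat_lit 1,nat_lit 2,nat_lit 0,nat_lit 2,nat_lit 1,nat_lit 3,nat_lit 2,nat_lit 3])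
) (.node (.leaf [nat_lit 0,nat_lit 13,nat_lit 8,nat_lit 0,nat_lit 3,nat_lit 0,nat_lit 3,nat_lit 0,nat_lit 2,nat_lit 1,nat_lit 3,nat_lit 1,nat_lit 3,nat_lit 1,nat_lit 2,nat_lit 0,nat_lit 0,nat_lit 2,nat_lit 1,nat_lit 1,nat_lit 2,nat_lit 0,nat_lit 2])
 (.leaf [nat_lit 0,nat_lit 17,nat_lit 0,nat_lit 0,nat_lit 1,nat_lit 0,nat_lit 0,nat_lit 2,nat_lit 1,nat_lit 1,nat_lit 2,nat_lit 0,nat_lit 3,nat_lit 2,nat_lit 1,nat_lit 1,nat_lit 2,nat_lit 0,nat_lit 2,nat_lit 1,nat_lit 2,nat_lit 0,nat_lit 2,nat_lit 3,nat_lit 1,nat_lit 2,nat_lit 0,nat_lit 0,nat_lit 2])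
))) (.node (.node (.node (.leaf [nat_lit 0x130000000000000000000000000000000000000000000000000003,nat_lit 38,nat_lit 8,nat_lit 1,nat_lit 4,nat_lit 3,nat_lit 2,nat_lit 0,nat_lit 4,nat_lit 3,nat_lit 2,nat_lit 4,nat_lit 2,nat_lit 4,nat_lit 2,nat_lit 1,nat_lit 2,nat_lit 0,nat_lit 0,nat_lit 2,nat_lit 1,nat_lit 1,nat_lit 2,nat_lit 1,nat_lit 2,nat_lit 1,nat_lit 1,nat_lit 2,nat_lit 1,nat_lit 3,nat_lit 0,nat_lit 3,nat_lit 1,nat_lit 3,nat_lit 0])
 (.leaf [nat_lit 0x400000000000000000000000000000000,nat_lit 32,nat_lit 9,nat_lit 0,nat_lit 2,nat_lit 4,nat_lit 3,nat_lit 2,nat_lit 0,nat_lit 3,nat_lit 1,nat_lit 2,nat_lit 3,nat_lit 4,nat_lit 1,nat_lit 2,nat_lit 1,nat_lit 1,nat_lit 1,nat_lit 2,nat_lit 3,nat_lit 1,nat_lit 2,nat_lit 1,nat_lit 1,nat_lit 2,nat_lit 0,nat_lit 0,nat_lit 0,nat_lit 2,nat_lit 0,nat_lit 2,nat_lit 1,nat_lit 1,nat_lit 1])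
) (.node (.leaf [nat_lit 0x26000000000000000000000000000000000000000002,nat_lit 35,nat_lit 13,nat_lit 1,nat_lit 0,nat_lit 2,nat_lit 3,nat_lit 2,nat_lit 1,nat_lit 1,nat_lit 1,nat_lit 3,nat_lit 4,nat_lit 1,nat_lit 1,nat_lit 1,nat_lit 2,nat_lit 1,nat_lit 2,nat_lit 1,nat_lit 1,nat_lit 1,nat_lit 2,nat_lit 0,nat_lit 2,nat_lit 1,nat_lit 3,nat_lit 0,nat_lit 2,nat_lit 1,nat_lit 2,nat_lit 0,nat_lit 2,nat_lit 1,nat_lit 4])
 (.leaf [nat_lit 0,nat_lit 14,nat_lit 15,nat_lit 0,nat_lit 0,nat_lit 2,nat_lit 0,nat_lit 0,nat_lit 3,nat_lit 1,nat_lit 2,nat_lit 3,nat_lit 0,nat_lit 0,nat_lit 0,nat_lit 2,nat_lit 0,nat_lit 0,nat_lit 0,nat_lit 2,nat_lit 1,nat_lit 3,nat_lit 0,nat_lit 3,nat_lit 2,nat_lit 3,nat_lit 1])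
)) (.node (.node (.leaf [nat_lit 0,nat_lit 19,nat_lit 3,nat_lit 1,nat_lit 2,nat_lit 0,nat_lit 2,nat_lit 1,nat_lit 2,nat_lit 3,nat_lit 0,nat_lit 2,nat_lit 1,nat_lit 1,nat_lit 3,nat_lit 0,nat_lit 2,nat_lit 0,nat_lit 2,nat_lit 1,nat_lit 2,nat_lit 0,nat_lit 3,nat_lit 1,nat_lit 1,nat_lit 1,nat_lit 2,nat_lit 0,nat_lit 0])
 (.leaf [nat_lit 0,nat_lit 19,nat_lit 18,nat_lit 0,nat_lit 1,nat_lit 2,nat_lit 1,nat_lit 2,nat_lit 1,nat_lit 1,nat_lit 2,nat_lit 0,nat_lit 0,nat_lit 0,nat_lit 3,nat_lit 1,nat_lit 2,nat_lit 0,nat_lit 2,nat_lit 1,nat_lit 2,nat_lit 1,nat_lit 3,nat_lit 0,nat_lit 0,nat_lit 2,nat_lit 1,nat_lit 3,nat_lit 2])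
) (.leaf [nat_lit 0x200000000000000000000000000000,nat_lit 31,nat_lit 4,nat_lit 0,nat_lit 0,nat_lit 2,nat_lit 3,nat_lit 2,nat_lit 4,nat_lit 0,nat_lit 4,nat_lit 1,nat_lit 4,nat_lit 3,nat_lit 2,nat_lit 3,nat_lit 0,nat_lit 4,nat_lit 1,nat_lit 2,nat_lit 1,nat_lit 1,nat_lit 2,nat_lit 0,nat_lit 2,nat_lit 0,nat_lit 0,nat_lit 2,nat_lit 0,nat_lit 2,nat_lit 0,nat_lit 0,nat_lit 0,nat_lit 3])
)))) (.node (.node (.node (.node (.node (.leaf [nat_lit 0x98000000002,nat_lit 25,nat_lit 14,nat_lit 1,nat_lit 3,nat_lit 1,nat_lit 2,nat_lit 4,nat_lit 0,nat_lit 0,nat_lit 2,nat_lit 1,nat_lit 1,nat_lit 1,nat_lit 2,nat_lit 1,nat_lit 2,nat_lit 1,nat_lit 2,nat_lit 1,nat_lit 3,nat_lit 0,nat_lit 2,nat_lit 1,nat_lit 1,nat_lit 4,nat_lit 2,nat_lit 0])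
 (.leaf [nat_lit 0,nat_lit 18,nat_lit 16,nat_lit 0,nat_lit 0,nat_lit 3,nat_lit 0,nat_lit 2,nat_lit 1,nat_lit 3,nat_lit 2,nat_lit 3,nat_lit 2,nat_lit 0,nat_lit 0,nat_lit 0,nat_lit 2,nat_lit 1,nat_lit 1,nat_lit 2,nat_lit 0,nat_lit 2,nat_lit 1,nat_lit 1,nat_lit 3,nat_lit 0,nat_lit 3,nat_lit 2,nat_lit 3])
) (.node (.leaf [nat_lit 0x260000000000000002,nat_lit 27,nat_lit 17,nat_lit 1,nat_lit 3,nat_lit 0,nat_lit 0,nat_lit 3,nat_lit 1,nat_lit 4,nat_lit 1,nat_lit 1,nat_lit 1,nat_lit 2,nat_lit 1,nat_lit 3,nat_lit 1,nat_lit 3,nat_lit 0,nat_lit 3,nat_lit 0,nat_lit 2,nat_lit 0,nat_lit 0,nat_lit 0,nat_lit 4,nat_lit 0,nat_lit 3,nat_lit 1,nat_lit 1])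
 (.leaf [nat_lit 0,nat_lit 14,nat_lit 10,nat_lit 1,nat_lit 2,nat_lit 3,nat_lit 1,nat_lit 3,nat_lit 0,nat_lit 2,nat_lit 1,nat_lit 1,nat_lit 1,nat_lit 2,nat_lit 1,nat_lit 1,nat_lit 1,nat_lit 3,nat_lit 2,nat_lit 0,nat_lit 3,nat_lit 1,nat_lit 1,nat_lit 2,nat_lit 0,nat_lit 0,nat_lit 3])
)) (.node (.node (.leaf [nat_lit 0,nat_lit 16,nat_lit 3,nat_lit 1,nat_lit 0,nat_lit 2,nat_lit 1,nat_lit 3,nat_lit 0,nat_lit 2,nat_lit 3,nat_lit 1,nat_lit 1,nat_lit 2,nat_lit 0,nat_lit 3,nat_lit 1,nat_lit 2,nat_lit 0,nat_lit 0,nat_lit 3,nat_lit 2,nat_lit 1,nat_lit 1,nat_lit 1,nat_lit 2,nat_lit 1,nat_lit 2])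
 (.leaf [nat_lit 0x980000000000000000000003,nat_lit 29,nat_lit 14,nat_lit 1,nat_lit 3,nat_lit 1,nat_lit 2,nat_lit 1,nat_lit 4,nat_lit 2,nat_lit 1,nat_lit 3,nat_lit 0,nat_lit 4,nat_lit 1,nat_lit 3,nat_lit 0,nat_lit 2,nat_lit 4,nat_lit 0,nat_lit 2,nat_lit 0])
) (.node (.leaf [nat_lit 0,nat_lit 10,nat_lit 6,nat_lit 1,nat_lit 2,nat_lit 3,nat_lit 0,nat_lit 2,nat_lit 1,nat_lit 2,nat_lit 0,nat_lit 0,nat_lit 2,nat_lit 1,nat_lit 1,nat_lit 1,nat_lit 2,nat_lit 3,nat_lit 2,nat_lit 0,nat_lit 2,nat_lit 3])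
 (.leaf [nat_lit 0,nat_lit 18,nat_lit 10,nat_lit 1,nat_lit 2,nat_lit 3,nat_lit 1,nat_lit 3,nat_lit 0,nat_lit 0,nat_lit 2,nat_lit 1,nat_lit 2,nat_lit 0,nat_lit 0,nat_lit 2,nat_lit 1,nat_lit 1,nat_lit 1,nat_lit 2,nat_lit 3,nat_lit 2,nat_lit 3,nat_lit 0,nat_lit 2,nat_lit 1,nat_lit 3,nat_lit 0,nat_lit 3])
))) (.node (.node (.node (.leaf [nat_lit 0,nat_lit 15,nat_lit 15,nat_lit 0,nat_lit 3,nat_lit 0,nat_lit 2,nat_lit 3,nat_lit 2,nat_lit 3,nat_lit 2,nat_lit 1,nat_lit 3,nat_lit 0,nat_lit 0,nat_lit 0,nat_lit 2,nat_lit 1,nat_lit 1,nat_lit 2,nat_lit 0,nat_lit 2,nat_lit 1,nat_lit 2,nat_lit 1,nat_lit 2,nat_lit 3,nat_lit 2])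
 (.leaf [nat_lit 0x2000000000000000000000000000000000000000013,nat_lit 35,nat_lit 9,nat_lit 0,nat_lit 4,nat_lit 3,nat_lit 0,nat_lit 0,nat_lit 0,nat_lit 2,nat_lit 3,nat_lit 2,nat_lit 0,nat_lit 4,nat_lit 0,nat_lit 2,nat_lit 1,nat_lit 2,nat_lit 0,nat_lit 2,nat_lit 1,nat_lit 3,nat_lit 0,nat_lit 2,nat_lit 1,nat_lit 2,nat_lit 0,nat_lit 0,nat_lit 0,nat_lit 2,nat_lit 0,nat_lit 2,nat_lit 0,nat_lit 0,nat_lit 0])
) (.node (.leaf [nat_lit 0,nat_lit 21,nat_lit 3,nat_lit 0,nat_lit 0,nat_lit 2,nat_lit 1,nat_lit 2,nat_lit 1,nat_lit 2,nat_lit 1,nat_lit 3,nat_lit 0,nat_lit 0,nat_lit 2,nat_lit 1,nat_lit 3,nat_lit 1,nat_lit 1,nat_lit 2,nat_lit 0,nat_lit 0,nat_lit 2,nat_lit 1,nat_lit 3,nat_lit 1,nat_lit 2,nat_lit 0,nat_lit 0,nat_lit 2])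
 (.leaf [nat_lit 0x800000000000000000000000000000000000000000000000000000000000000000000000000,nat_lit 45,nat_lit 28,nat_lit 0,nat_lit 2,nat_lit 4,nat_lit 1,nat_lit 4,nat_lit 2,nat_lit 4,nat_lit 0,nat_lit 0,nat_lit 0,nat_lit 2,nat_lit 0,nat_lit 0,nat_lit 0,nat_lit 2,nat_lit 0,nat_lit 0,nat_lit 2,nat_lit 1,nat_lit 1,nat_lit 2,nat_lit 1,nat_lit 2,nat_lit 0,nat_lit 0,nat_lit 3,nat_lit 2,nat_lit 1,nat_lit 3,nat_lit 0,nat_lit 0,nat_lit 0,nat_lit 2,nat_lit 0,nat_lit 4])
)) (.node (.node (.leaf [nat_lit 0x98000000001,nat_lit 25,nat_lit 11,nat_lit 1,nat_lit 4,nat_lit 2,nat_lit 0,nat_lit 3,nat_lit 1,nat_lit 2,nat_lit 4,nat_lit 0,nat_lit 0,nat_lit 2,nat_lit 1,nat_lit 1,nat_lit 1,nat_lit 2,nat_lit 1,nat_lit 2,nat_lit 1,nat_lit 2,nat_lit 1,nat_lit 3,nat_lit 0,nat_lit 2,nat_lit 1,nat_lit 1])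
 (.leaf [nat_lit 0x13000000000000000000000000000000000000002,nat_lit 34,nat_lit 0,nat_lit 1,nat_lit 2,nat_lit 4,nat_lit 1,nat_lit 1,nat_lit 1,nat_lit 2,nat_lit 1,nat_lit 2,nat_lit 0,nat_lit 0,nat_lit 2,nat_lit 1,nat_lit 1,nat_lit 1,nat_lit 2,nat_lit 1,nat_lit 3,nat_lit 2,nat_lit 0,nat_lit 0,nat_lit 0,nat_lit 2,nat_lit 0,nat_lit 4,nat_lit 1,nat_lit 2,nat_lit 1,nat_lit 2,nat_lit 1,nat_lit 1,nat_lit 1])
) (.leaf [nat_lit 0x980000000000000000000002,nat_lit 29,nat_lit 5,nat_lit 1,nat_lit 4,nat_lit 1,nat_lit 3,nat_lit 0,nat_lit 2,nat_lit 4,nat_lit 0,nat_lit 2,nat_lit 0,nat_lit 3,nat_lit 1,nat_lit 2,nat_lit 1,nat_lit 4,nat_lit 2,nat_lit 1,nat_lit 3,nat_lit 0])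
))) (.node (.node (.node (.node (.leaf [nat_lit 0,nat_lit 6,nat_lit 0,nat_lit 1,nat_lit 2,nat_lit 0,nat_lit 2,nat_lit 0,nat_lit 2,nat_lit 1,nat_lit 1,nat_lit 2,nat_lit 0,nat_lit 0,nat_lit 2,nat_lit 1,nat_lit 2,nat_lit 1,nat_lit 2,nat_lit 0,nat_lit 0,nat_lit 2,nat_lit 1,nat_lit 1])
 (.leaf [nat_lit 0,nat_lit 7,nat_lit 12,nat_lit 0,nat_lit 2,nat_lit 1,nat_lit 2,nat_lit 0,nat_lit 2,nat_lit 1,nat_lit 2,nat_lit 1,nat_lit 2,nat_lit 1,nat_lit 2,nat_lit 0,nat_lit 0,nat_lit 0,nat_lit 2,nat_lit 1,nat_lit 1,nat_lit 2,nat_lit 1,nat_lit 2,nat_lit 0,nat_lit 0,nat_lit 0])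
) (.node (.leaf [nat_lit 0x2600000000000000000000000000004,nat_lit 31,nat_lit 16,nat_lit 1,nat_lit 3,nat_lit 4,nat_lit 0,nat_lit 4,nat_lit 1,nat_lit 4,nat_lit 2,nat_lit 3,nat_lit 2,nat_lit 0,nat_lit 3,nat_lit 1,nat_lit 1,nat_lit 1,nat_lit 2,nat_lit 1,nat_lit 2,nat_lit 1,nat_lit 1,nat_lit 2,nat_lit 1,nat_lit 2,nat_lit 0,nat_lit 0,nat_lit 2,nat_lit 0,nat_lit 4,nat_lit 1,nat_lit 3,nat_lit 2])
 (.leaf [nat_lit 0x4c000004,nat_lit 24,nat_lit 16,nat_lit 1,nat_lit 1,nat_lit 0,nat_lit 2,nat_lit 1,nat_lit 1,nat_lit 1,nat_lit 2,nat_lit 1,nat_lit 2,nat_lit 1,nat_lit 4,nat_lit 1,nat_lit 4,nat_lit 2,nat_lit 4,nat_lit 0,nat_lit 4,nat_lit 0,nat_lit 2,nat_lit 0,nat_lit 2,nat_lit 0])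
)) (.node (.node (.leaf [nat_lit 0x40000000000000000000000000000000000000000000000000000000013,nat_lit 40,nat_lit 7,nat_lit 0,nat_lit 4,nat_lit 3,nat_lit 1,nat_lit 1,nat_lit 1,nat_lit 4,nat_lit 0,nat_lit 0,nat_lit 0,nat_lit 3,nat_lit 4,nat_lit 2,nat_lit 0,nat_lit 3,nat_lit 0,nat_lit 0,nat_lit 2,nat_lit 3,nat_lit 2,nat_lit 1,nat_lit 1,nat_lit 2,nat_lit 0,nat_lit 2,nat_lit 0,nat_lit 0,nat_lit 0,nat_lit 2,nat_lit 1,nat_lit 1,nat_lit 2])
 (.leaf [nat_lit 0,nat_lit 10,nat_lit 11,nat_lit 1,nat_lit 2,nat_lit 0,nat_lit 0,nat_lit 2,nat_lit 1,nat_lit 1,nat_lit 1,nat_lit 2,nat_lit 3,nat_lit 2,nat_lit 0,nat_lit 2,nat_lit 3,nat_lit 2,nat_lit 3,nat_lit 0,nat_lit 2,nat_lit 1])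
) (.leaf [nat_lit 0,nat_lit 16,nat_lit 14,nat_lit 1,nat_lit 3,nat_lit 1,nat_lit 2,nat_lit 0,nat_lit 0,nat_lit 3,nat_lit 2,nat_lit 1,nat_lit 1,nat_lit 1,nat_lit 2,nat_lit 1,nat_lit 2,nat_lit 1,nat_lit 2,nat_lit 1,nat_lit 3,nat_lit 0,nat_lit 2,nat_lit 3,nat_lit 1,nat_lit 1,nat_lit 2,nat_lit 0])
)) (.node (.node (.node (.leaf [nat_lit 0x98000000002,nat_lit 25,nat_lit 6,nat_lit 1,nat_lit 3,nat_lit 0,nat_lit 2,nat_lit 1,nat_lit 1,nat_lit 4,nat_lit 2,nat_lit 0,nat_lit 3,nat_lit 1,nat_lit 2,nat_lit 4,nat_lit 0,nat_lit 0,nat_lit 2,nat_lit 1,nat_lit 1,nat_lit 1,nat_lit 2,nat_lit 1,nat_lit 2,nat_lit 1,nat_lit 2,nat_lit 1])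
 (.leaf [nat_lit 0,nat_lit 14,nat_lit 18,nat_lit 1,nat_lit 0,nat_lit 2,nat_lit 1,nat_lit 1,nat_lit 1,nat_lit 3,nat_lit 2,nat_lit 0,nat_lit 3,nat_lit 1,nat_lit 1,nat_lit 2,nat_lit 0,nat_lit 0,nat_lit 3,nat_lit 2,nat_lit 3,nat_lit 1,nat_lit 3,nat_lit 0,nat_lit 2,nat_lit 1,nat_lit 1])
) (.node (.leaf [nat_lit 0x26000000000000000000000000000000000000000000000000000000000000000000000000000000002,nat_lit 47,nat_lit 23,nat_lit 1,nat_lit 3,nat_lit 1,nat_lit 2,nat_lit 0,nat_lit 3,nat_lit 2,nat_lit 3,nat_lit 1,nat_lit 2,nat_lit 1,nat_lit 1,nat_lit 1,nat_lit 2,nat_lit 0,nat_lit 2,nat_lit 1,nat_lit 2,nat_lit 0,nat_lit 2,nat_lit 1,nat_lit 1,nat_lit 2,nat_lit 0,nat_lit 0,nat_lit 4,nat_lit 2,nat_lit 1,nat_lit 1,nat_lit 2,nat_lit 0,nat_lit 0,nat_lit 4,nat_lit 3,nat_lit 0,nat_lit 0])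
 (.leaf [nat_lit 0,nat_lit 10,nat_lit 14,nat_lit 0,nat_lit 0,nat_lit 2,nat_lit 3,nat_lit 2,nat_lit 0,nat_lit 0,nat_lit 0,nat_lit 2,nat_lit 1,nat_lit 1,nat_lit 2,nat_lit 0,nat_lit 2,nat_lit 1,nat_lit 3,nat_lit 2,nat_lit 3,nat_lit 2])
)) (.node (.node (.leaf [nat_lit 0x1300000000000000000000000000000000000000000000000000000000000000002,nat_lit 42,nat_lit 22,nat_lit 1,nat_lit 0,nat_lit 2,nat_lit 0,nat_lit 2,nat_lit 1,nat_lit 4,nat_lit 1,nat_lit 2,nat_lit 1,nat_lit 1,nat_lit 2,nat_lit 0,nat_lit 2,nat_lit 1,nat_lit 1,nat_lit 2,nat_lit 1,nat_lit 2,nat_lit 3,nat_lit 2,nat_lit 1,nat_lit 2,nat_lit 3,nat_lit 1,nat_lit 2,nat_lit 0,nat_lit 3,nat_lit 2,nat_lit 4,nat_lit 0,nat_lit 3,nat_lit 2])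
 (.leaf [nat_lit 0x4c000000000000000000000000000000000000000000001,nat_lit 36,nat_lit 3,nat_lit 1,nat_lit 4,nat_lit 2,nat_lit 1,nat_lit 2,nat_lit 0,nat_lit 2,nat_lit 1,nat_lit 1,nat_lit 1,nat_lit 2,nat_lit 0,nat_lit 0,nat_lit 0,nat_lit 2,nat_lit 3,nat_lit 0,nat_lit 2,nat_lit 3,nat_lit 1,nat_lit 2,nat_lit 3,nat_lit 1,nat_lit 4,nat_lit 1,nat_lit 2,nat_lit 1,nat_lit 1,nat_lit 1,nat_lit 3,nat_lit 2,nat_lit 0])
) (.leaf [nat_lit 0x130000000000000000000000000000000000000000000000000003,nat_lit 38,nat_lit 12,nat_lit 1,nat_lit 4,nat_lit 3,nat_lit 2,nat_lit 4,nat_lit 2,nat_lit 4,nat_lit 2,nat_lit 1,nat_lit 2,nat_lit 0,nat_lit 0,nat_lit 2,nat_lit 1,nat_lit 1,nat_lit 2,nat_lit 1,nat_lit 2,nat_lit 1,nat_lit 1,nat_lit 2,nat_lit 1,nat_lit 3,nat_lit 0,nat_lit 3,nat_lit 1,nat_lit 3,nat_lit 0,nat_lit 4,nat_lit 3,nat_lit 2,nat_lit 0])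
))))))

noncomputable def co3_L_R : LT :=
(.node (.node (.node (.node (.node (.node (.leaf [nat_lit 8,nat_lit 4,nat_lit 0x120000000000002])
 (.leaf [nat_lit 7,nat_lit 10,nat_lit 0xe001001804c00200100080000240000088048022010009800000000000000000000040030008000006])
) (.leaf [nat_lit 22,nat_lit 110,nat_lit 0x480000000000000000000000000000000000000000000000000000000003])
) (.node (.node (.leaf [nat_lit 8,nat_lit 53,nat_lit 0x4800000000000000000000000000000002])
 (.leaf [nat_lit 31,nat_lit 152,nat_lit 0xe000003000801c0130098000004000000804001a0070008000026002008801802000d0028004004001])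
) (.leaf [nat_lit 43,nat_lit 33,nat_lit 0x8002003804400e0030020000020000006804402001200880000000000000000000005004801000000d])
)) (.node (.node (.node (.leaf [nat_lit 8,nat_lit 14,nat_lit 0x90000000002])
 (.leaf [nat_lit 16,nat_lit 169,nat_lit 0x2200a0030044010001003000001c000007804002400e008800002400000900040000070048004026007])
) (.leaf [nat_lit 8,nat_lit 70,nat_lit 0x400800100480080120010000018000007004002000c0090000000000000004000000e0030010020002])
) (.node (.leaf [nat_lit 11,nat_lit 81,nat_lit 0x12000000000000000000000000220000000000000003000000000000000000000000110088000000011])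
 (.leaf [nat_lit 14,nat_lit 108,nat_lit 0x1c0030088004022012009000000400000180040020000008000000000000000000000f0068048000002])
))) (.node (.node (.node (.node (.leaf [nat_lit 22,nat_lit 5,nat_lit 0x24003])
 (.leaf [nat_lit 18,nat_lit 66,nat_lit 0xc004002801c0060100038000014000008002000e0070038000000000001000000000a0090030004007])
) (.leaf [nat_lit 11,nat_lit 3,nat_lit 0x401300000000000000000000004000000004c026000000000000000000000000000000008000000012])
) (.node (.leaf [nat_lit 8,nat_lit 81,nat_lit 0x240000000000000000000000000000000000000000000000000000002])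
 (.leaf [nat_lit 16,nat_lit 89,nat_lit 0x12000008800402401300900000040000018004004003000804c00000000000000000110078048000001])
)) (.node (.node (.node (.leaf [nat_lit 5,nat_lit 33,nat_lit 0x22000000000000000000000000000000000000000000000000000000000000000000000000000000003])
 (.leaf [nat_lit 38,nat_lit 68,nat_lit 0x12001001800c008002009800001c002004000c01c012002800c000013005003400600e002803c000008])
) (.leaf [nat_lit 18,nat_lit 82,nat_lit 0xa006002804400c013001800001c0000068040020010008800000000000000480000130038010024011])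
) (.node (.leaf [nat_lit 12,nat_lit 96,nat_lit 0x90000000000000000000000000000000000000000000000002])
 (.leaf [nat_lit 5,nat_lit 155,nat_lit 0x201200100000260010008000022000009004402000d000000000000000000000000050040008000012])
)))) (.node (.node (.node (.node (.node (.leaf [nat_lit 28,nat_lit 0,nat_lit 0x40000000000000026000])
 (.leaf [nat_lit 6,nat_lit 108,nat_lit 0x1c00000900000020130098000004000001000c0060060000000000000009000002600e0070048024012])
) (.leaf [nat_lit 3,nat_lit 62,nat_lit 0xc004001004800800000000000000000090000000006009000000000000000000000120090000000008])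
) (.node (.leaf [nat_lit 8,nat_lit 73,nat_lit 0x240000000000000002])
 (.leaf [nat_lit 42,nat_lit 89,nat_lit 0x6001003004800800300280000200000070040020010009000000000000000000000050050010000011])
)) (.node (.node (.node (.leaf [nat_lit 2,nat_lit 16,nat_lit 0x3800000000000000000000000000000000000000000000000000000000000000000000000006])
 (.leaf [nat_lit 43,nat_lit 164,nat_lit 0x1c001009802c002004007800000c001001002801a007005800000000000000040020110040024002007])
) (.leaf [nat_lit 6,nat_lit 17,nat_lit 0x2600c009000801e00100980000060000020000000012001000000000000000080000060008048004012])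
) (.node (.leaf [nat_lit 16,nat_lit 4,nat_lit 0x6000000000000000000000000000000000000000001000000000000000000000000120090000000000])
 (.leaf [nat_lit 14,nat_lit 24,nat_lit 0xc0120018000022003001000001e000008804001c00d0000000000000000800000000a006800c002001])
))) (.node (.node (.node (.node (.leaf [nat_lit 3,nat_lit 13,nat_lit 0x48000004])
 (.leaf [nat_lit 22,nat_lit 122,nat_lit 0x1800a007004800c012008000000c00200300200180120000000000000000000000000c0020030000013])
) (.leaf [nat_lit 12,nat_lit 46,nat_lit 0x80040000048008000000000000c000001001000800e00900000000000000008000000006004000400e])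
) (.node (.leaf [nat_lit 23,nat_lit 41,nat_lit 0x4400000000000000000000000000000003000000000000000000000000110088000002006])
 (.leaf [nat_lit 11,nat_lit 72,nat_lit 0x24004002001001800e00380000180000080030018000002000000000000000000000000040020000009])
)) (.node (.node (.node (.leaf [nat_lit 22,nat_lit 41,nat_lit 0x4800000000000000000000000000000000000000000000000000000000000000000000003])
 (.leaf [nat_lit 11,nat_lit 124,nat_lit 0x1a00a003801401800200300040120020098048024007003800c0000000080020014003009001000e00a])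
) (.leaf [nat_lit 8,nat_lit 95,nat_lit 0x2400600800100140000090000008000004000000000e0020000000000000001000000c0010040008000])
) (.node (.leaf [nat_lit 22,nat_lit 101,nat_lit 0x900000000000000000000003])
 (.leaf [nat_lit 7,nat_lit 66,nat_lit 0xe01300180000000010008000022000008804402001000000000000000000000000003003000c000008])
)))))

noncomputable def co3_C : LC :=
  ⟨⟨fun x c => Nat.rec (nat_lit 0) (fun j _ => Nat.shiftRight (chunk co3_L_t (nat_lit 3) x j) (Nat.mul (nat_lit 367) (Nat.land c (nat_lit 31)))) (Nat.add (Nat.shiftRight c (nat_lit 5)) (nat_lit 1)),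
  (nat_lit 8), (nat_lit 255), (nat_lit 524287), (nat_lit 19), (nat_lit 1023), (nat_lit 524032), (nat_lit 0), (nat_lit 171), (nat_lit 5), (nat_lit 4), (nat_lit 0), (nat_lit 5), co3_inv, co3_L_rules, .leaf []⟩,
  (nat_lit 29), (nat_lit 0x3e01f00f807c03e01f00f807c03e01f00f807c03e01f00f807c03e01f00f807c03e01f00f807c03e01f), (nat_lit 0x1fe0ff07f83fc1fe0ff07f83fc1fe0ff07f83fc1fe0ff07f83fc1fe0ff07f83fc1fe0ff07f83fc1fe0ff), (nat_lit 13), (nat_lit 26), (nat_lit 20), (nat_lit 22), (nat_lit 31), (nat_lit 255), (nat_lit 35), co3_pi, co3_rels, co3_L_R⟩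

noncomputable def co3_U_t : BT :=
(.node (.node (.node (.leaf (nat_lit 0xac0748002ae1d0f31ab385c686a9dea000a9f718726a65f01c9a8f730002a19921c9a7e6f40029dd871a1a6e83000298d56f31a5e68fcc695610000a46523f2690daff31a3a70c0028b93df31a297bc72686d51000a4a86400282d35f31a056086867fdfdf699f57b80027a52a0009e14a3e467794e1c99d260e6e672d97f699c26600026d51e6199b07a072669da69b999f4e4002aea2600098e4616a661919f419805940025c516f3196a6c4726579dc0007005100012c110000a718740012b10e00058e6b80024352300080f654001291090009547f00028c21600049e423bc5ff96cdf17c25f400126104ee194271c00125103000492408001239013a18f87ac0021cd710004883fc00278e0d0004907b0001d21851998ed49c002aaa2400047c3e9c05be19a000aa188c00267a050007fa628002ada25da946d58eb854b5dae7976d7c8001a69ca00098580b9a625d6f00045f3ac002249f6000ac289c00266a04e517365f8001c4df3e4967a474001144e140184c394001134e08e95df6cc0029ea1e0006fc680001a790fb496d259c0018a159df17c6630002505370004393577a6481a100092a494002642030004313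4f7655c16400042b3480010a4d1dc170c524001d097800080d4b76a58b94100041f3290661593000041a324001060c80007eb7140029861bd696c63b40029621a7914bc6b00029961c38158f52b4e566d5db096083d00017f5b4002a9788800240533002a8d887446001de0008757833e5928d70003f42f4002836123a163250c000fb8bb000a888833661a936cd13e7678000f90b6cb94c57772c623da8ca153b67e78605d73c9981a7b4000f60b38019476a7205f01998897a37c6685c854d0003ce2c7166321b540178933310583d5b002a7c87c000f10ab0005332f0000f00a97018087dc000ef0a80006f46c000217d600009ce82afa5364d600065f53c000eb8a5b59837600000ea8a20008166e0002145e5000a2c854001ce55c00039f2800025ce00b598ef492e658b10600039727c000e549e3a19157e2d85fc9bb00083f3d6d65f10a300038b270002499e3b4984e76c002822110003832640020c1764017b4268001e99e40007bf4b0002279aa000375250000dcc93b096d46e8000c689100067570800110dc9ae152366c000ddd6900031023ce05ff0ba0009f883c0026f6080004c37e8001ab0e3a9169733c724db11ca79622704001871b90006a05a20c59f0ad000644556925734c70007aa62e8e59d8dfa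318292a8001665bf3a18b4604002539f50002e6202824d55110002e21fe7e59a98f000a40862625921e100042f7007253b0f79e17ad5b400132c9d00096f7fc72547da29b95e951e6c5f357a7017c875e685f4d740002c61de625d9dd98198b87d25c5ab4cb0008472fc00a86614002a1284dc062ed400009ee83800194d8e9318665ec000ab8709198da6ae446171220009c5824001e78738e9823760001dc19100029e1b8000a706d0009396900023ed5e0002961b000a7420b000724670000a406b88987a5ac00201de60002a04ae1456a8f884956730c00a6b6070005b339a0c4d98f90029a581a0665157c0007984f80009e066002978806005c39947e9519371f657c8c17c156943000a571fe00026a18c0092b5fb7915b03b8000990610024a97e4000d6cf300033f188000d050b00075d1e00009585f7498c6755ce5538de0007781d1ca6409327198642380020f5e9000248175c662bd000008342c800920de700077a5e40008f05b70178b3600091e5e2000236169ba567d136d94e8319b25ae13a00247377c0008b057000329214000898560005011e40008885500069374c0015791200021c15000193dce00245c758000c71660005096d8000848516495506f8000838500024587518659c9526096943c0009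149d100244e73c009129cd000200138009119cb49163a390001500db00243e7200007d84c0001f412c001b44985a95731a0685358e90024367100007a848000560454000798470001e41180016b5b700068c694000778450024246f000241d770003b06100007584400059e39c000748425195633100007384100240f6c800133d4b0001c8100001628da0024056b40006fc3f0001bd0f8008fdda70001b90f52a4ce8ae0001b50f0001c81934913535300008a0f247932f14c008f859d0001a40e5144d2c8600075f178008f4d9600019c0e08a60b5880023c7640000d80710001920dd065aed890023c16340020d961000881284000618354018395d4008ecd860001800d0f05548f60007354f0001cf9450023a25fce85ce9530001720c4001d5c92381825314008e21720006693f4008e11700023805b80005882f3517bc3f0008de16a0005c420c0005682d0005d02d4001778ce1c93361f0008c456200079a1e80005382b00230b57c000704c00001440a8008c055a0001381ec0004c0290022fd560008bed570006aa1d4008bd5540005f13a0000490270022ed540001f491a0d14e6164000470260022d75189e4c7c3a0001120949a5ee1380022cf508008b253f00010908c008b053b0006a84808a5e092f000101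0880021c0d40022b34d0008aad310022a54b80003d4210022994a4008a4d26000788258008a252100228547c00039c1f00227d46c0089d5171d14b42e40089bd141c94b83640003681d00225f4340089650a00225341c00893d050000d006c008904fe0022393ec0003281a0005ed2106853f8f11990c30780003001900221f3bc008864ec0022153a80006bcb81715b71280002d0170022053880002c0160021fb37454571c691394b61940002a0150005a4254001c446f00056c208008784d00021db3340002701310963621c001440a60f14cc1f8008714c20000910480086e8be0d163e2bc324cd05800014a2300086a8b70021a12d0008664b000218e2b00005088a00218329c0085eca4000136224001c08320000710340085a49b00215f25c0005188b0000670300085449000214b2340004c88800005f02c0001ac2e0021212040084647d07105603c0001440a0021061d80083f87200004b0240083b06a0020e419c00837864000043020008354600020cd1700e44543600003b01c0082dc520020b113c0082b44d0020a512400014c2400209810c0000b4050020880ec0000a4100000250100081d03300206e0c00081902c00205c0a0000064030020480800081001c0020380600080c01400202a0440080840e0000090040080400600200600801c00000))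
 (.leaf (nat_lit 0xad1ac688eb46afa26009aaf799306aaddf000ac789cda6a7622369a9578eb46a3220369a83707f869ee1efb1a7473eb469a9a1009a5b83002694597ad1a4d6300268fa18009a36846b468ce16009a2581bca687ddae01a175b760684212000a3785fec6805840009f24b7e667bd96ad19e78340029721be019d66893e673e0a0009bf47f6066e1b9e019b25a400289a15f519a17ec02665a0431999262c002625c736997c74cc665d92c009968537ca6589400094b37f42c656dfc0009a281400174d520006f04ec0012a10a0004a6424001ecd1d0004a24200024456b1e98e878bbe5d413a00049a4140022dd8f00049640d1c64f92b0007d8678306265a800048c3fef062cdea3b9868695026101931e97f179c002ac225a198f1794002015a9000a968840023a5f30004783e40011d8f7000aac8900011c8f4000774600ee57e1dc0004673c8002882140004633bc001184ec31979275cd85d25d600045b3a40024f4fc00097d804001154e3000828629025df53d000a75876185b65a60006a4590885b20e00b17d5644001114dd3d96d87254a596987e019888080010ecd700072c6b0002301730004353500010ccd3000a8487c0019bce20006056c4001a1149a596e14ab6e5900da00042332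cac60c5880009b9820001074c90596426df605618f800041631c001cc92200041231b58622d31d596046fc001030c38816cd6bc0018c55900068a3b5305cadc50004002fc00235d9d909804790002269ec000843574001b69ce0008697a4000fc8bc0003f02ec00275e0b000a6b870000fa8b78295e867f325f5ded0c18d66a8000f80b50c15e766c000f70b40006f25a15e5c94f3000a528680027c20ec799364a0001964c80008417a0000f30b00007d672e20589990bc18b67c1aa5bdd8e36964563400293a1900099380d5e609dd10003ba29c0020c9ba00065b7229c550d860003b229400280a10bc191c408002280ee0003a8284ee5dcddd3693a45fc000e84a00007da460000e749f0009182f8001e45544718125e6425d51550003932753861c57600038f270002074b11e98bf710002549258817e5438001df0bd0008e03ec00247d36000a1884ece64c16c1819107d07a5d916a0009b381ec65bc599000371246c0576cca0003182424a5a8dcd3f962158e0a575cb9ad19245842c63f12652990957c000c288c8a984269c001b3d20000620306a253f55a4e96306ba9c5a055800056e444000be8850007555e2965e417a0002f4209d85749fa0002f02041e5751500092eb212865d811a0009697fc0016e89262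16e64d0000b807e6796836f8000b707d00065d2ca7a560d460002d61ed045a38e80002d21e4024da8d50002ce1e000258dfe0007b0464001bd92f00077e740ee5cb48b0b16ef7e4001d45f20004de4340022f8990002ba1c8be64796e23995525c001b9d4b0002b01c24a620c8800088c6c8000aa86f9096f54f8001c54d90029f183c0025de0000093f7b8001b89bd00093b2980024dd9500092345c0023f5608a99515c8002394ce00028e1aa205cc5b4879958486185b395c0029be824000a10674e17b27d8001a187f8295d946c001d854e4717af4fd5e5f657d1e992249c0009d0657f95444500015151500026e18dee57f9120e956d55c0009a062000266184001f99717814dd4e40017586076151342c00929df80024a57dc009285f54718ec41c0009485e0024997c40009385d0024957bc002475830008553340009185c00248b7ac001f2cd600923f17c3064f1d43198df5bc0008e05a00247778400161db60024757800008c05800022e15c0091c5de000726660009199db0094f7229aa5a88f00024627657c627d823296896b4009181d800021814d9e531cea00245a754001a3d440006351419056d8e600020c13d88599868002454748c259b9c0000204138001b25cc5f16cc37c0007f84d0024447280013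c8ad5d95f936c001905bc0b17144b80007c84900243a718ac5f28fe00036b5080090d1c3002432709625768d25797192cc000d90a90001e011558639124429854404000768440024226ec0017716600241c6e14a5961940024156d4009045b30001cc1000015084a00240b6c13e57d8864e961f56d384708c00023ff6ad30645d7b41177b5c0008fc5a40023ef68c0006cc3b0005d8588000d88470023e96811c469c430023df670008f6d9a00071a3451259714740981c5d0008f2d920001980dd0a56843c0094f1370da4640ac0007a823402462caa411363341025f9ca80023b9624fe64e9290023b1614f656a4a43b96502500005e0310023a7604008e817e00239c5f00005c0300023925dc008e397518133d26c02459c323698bd4e0d85f80980009564d40005782e00015c0b4001944a30001580b0ca56e54c00237059c008c5d653197ac23cc265308e2f97a72ac008c255e00072e4f00013e0f10004ef12c0022113200012e0a00017dcc20022f9558000bb14f2b160620c008bcd530022ef54400048026289685470008b7d4a0022db52000180c510022d5514000440240022d150c008b35411f16ca1903e5e88760001050888e5e10742219591cc008ae5370000fb084008abd330022a94c07c5c74520000f30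807c64486c1e99491ac008a35230090ea08c00199ce400228347800038c1e002273458001b2c7700226d44c00899d1000226543c1e57550c0002403f40089450600224d410008915000000cc0680088dcfa0000c80640088bcf600222d3d40013ac340000be0600013d8290022173ac001c786e1816021f05a58d0e700220b39400880ce10021fd3780002b0151494ee224305504c40021f1360000290141213612e0000280130021df33c008764cc0001a82d800025c120f958810400872cc50e954807000023c110d96820f4001688ae0021b22e802421c3a0091a90e40002080f0021972bc3041f42a00007a0382e53a8560b10760cc0005a09a0021772880085bc9e00006d0300085749600215b25400855c9300006302c0001f8360814f51500084b48700005b02800847c8007966005800843c7a0000eb1a4008410750020fa1c40083c86d0000470200083886605956f0740015243f00003f01c00832c5b0020c71640082f455000037018001984250020ab13000828c4800209f1180082584200208e0f800009c040020810e00081e43500001f00c0081b02f0020620ac008168270000170080081181f00203e06c0080d81700900f0140080981000201e0340080580900000500000801001))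
) (.node (.leaf (nat_lit 0xfc1ac4751366af626ae9ab176c002a91c6fe9aa288fc86a7222f21a9387bf06a29aaf21a8287c002a5221000a6d5cbf069998dae9a5d86eba694db2fc1a477f19a6905a3ae9a3869ff068c5d9ae9a275bbe268859cf89a1481c76684612a41a098440027f12ffa99f978c7667b20e4d99e553c00276d26f899d4660002721259699c68244c66e9d8000a1584fc866ad9e00099c46850665e0300099881000260d1729197a4fc7665d179a4196c52fc86591b3941664614002922190006eb4793652f9faf1957f6fc00238df09017ef5c6665dfd82f0994f4e0001281080008cb46000127106000796779686389f8ee994a606046215300007d05f7b661b5cb5b195a7afb461f96f000859680001218fe00084b77c001208fd0004803f00011f8fb0009fa83c0022913600075b62ebc62ad27e8984a79d505e55f100046c3d11851a9dc000ab2894001194f0000a328580026ee08661762754001bb5d200076375c002b1627000457392105bb1d60006a6738001da965e418cc73f8e5a95d1e2963c388001124de00086e7b0001a7157000441377825565c8df97753d400aa8e240008774c40020452b0117cc70d505c25c200056644ddc534d120005807e400165d50dc96b76f76c5b79bc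af17b6584001788ed00053966f665d0d40d9141b6df5e5434ea01170a6ac0019354a0009657f80029521a00040e312405c1d494615b56bc0017911400060b6434c500d3400070b6d4002a2e20d1991b6a4000fe8be000a3985f405919582716a169610649d7b000a428600015e0d00008cf4a8de6161e90003e62dc0026b2060004c136400288a14ca95386e71853215e0003da2cc0027560b000663537225d298c811821404000f40b1c696003eb186225329018fe493125829ad0003c62ac001b7589000a67870001d2d9603175a7870660ed8ac096dc63b006235880003b629efc5530d10006657f6f458a9590008a85fc001e01f600094b7bc000e98a1bb18a760cd65cf17eba17cf7b55065117c000928690000e649f000975802e45d3178b799344a4000e449d0008de57c001f7d3b00079c52000a9b21d0007f07de405f6d7000087f7a80028a2159997f85b4000df49700037b25acc60816ab2151d46d3457fd680006d7570000d490caf1769742ba55c964000314242b657e8af0007b76ec000c388eab98dd5d40013259a00032c56aaa5b596700030422ddc4cad5d00062b61000191da6a6969b729a05951430002f8212945845460005853629056f4ef68165645a8a5659be0009e6834000ba080a1166265c00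0d410d00096d7fc0a5931b40007086c06c5e6d739f13262d0001849549016b4514000b507a00065555a725a40cf5a154624c001d11b800097b804000b20779996db4f4000b10769797de5d0000b00750002be1d0002541f596998c4de56628de20002b61c8001011ac94178535000222992921876714002219ee0029fb842405ccd2e8f988e4b4000a886e8d1810712326339a10009355dc000a606c0008ac78000a76a0c0029c78280023fd9189192b1b4001e50aa86974d1c0000a20690005762ee105ba9fb83951143c000a006700051e5a400a66e0500027a19a046329f300298280800195d51000272191f8578dae7c9565704001351c07a135e444045839100005124747652e8f277134f531da4d456600025c180464d108800025817c00927df40008c428800926df227186040c0455e5040008614140009285d00082265400222073000244170009215e80024817980091fde500247d790001805934d932a3e5bc59b0bd000232164001588d200077671c0091addd00022a1580012ed0e6b14f9194009191da0005be548000878542f15e16e9a25348ec68167f384001439b66694d018998585c8700058c3018c56d0e65b179f394009159d300020813c0018f5cd0006803ac0008084e5e14d537c009121cc00244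0724001460b60001f81317255f4a55b94c06756c56115302950c35c0007b8495a16b3354001e19330001e811d605584f600054d6195c55dda20006915080014c0bc5496b2335505c60cc0001d81114e5458ca0001d410c0014884a0001d01040a4d70ad509703314009035b150159530d3c5558c229160730536562ce74d18ba2fc008fe5a800066d3e12e54bcce4a157547c4a57943e0001b10ec0006b43a0023e567d1a545cdc46155c2d4000c9d470023d9664000678380023cf6510e604c8d0005fb5880006583700035d3180014a8450023c563c0c5e4d220001880d4001c705b0023b561cfc5384a600057e368f245f49400017a0c8ec630d070023a56000005d0310023985e8e45d3c9e0023905d80005b0303797ab26cdc5e049a0001640bcd65fb89800237c5b0008de96b0005bc2040005f8a4000547504bc51bc920001540b0008c4d630001500ac008c35600008142c00005202a00230356cbc44f87c0001340a4000d150a0006183a0b4569c5000012a0a0008bdd5500012609c0014545a2915bb254008b9d4e00011e098a053947e15932d1c40004fc8a271113160008b4d4400010d09000042c230022c74f8008b0d3c0022bf4e8008af539219887400008ad53500032e1f4001d39210000f7084008a852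c00092c48c008a5d280000ef0807862086a002287480764db81f00227f4700089e5190004fa3c40089c5150000dd074001344e900034712c00896d0b0022574240003481b00224940800890cff1b171b2a06a5450820022313dc0004507b0000c20640088a4f300050b134008874ee0000ba060624c94521795ae0b40016a08600220738c008804e015950a1540087dcdb1413461844c5484c80021ed3584a59f8480021e734c4655503f0315292b000875ccb0021d332400141c330021cf31c00024c12000555118001798ba02957c0f400022c110021b02e40086b0b8000084040008674b20021952b80001f00f0021872a40001e00e0115061080085e4a30021732800085ac9c0021632640001a40c0005af14400854c9100214f23c00851c8c0021332240084a48500212520c0084747f0000550280084307900210a1e0000134090020f61bc0083b86b00036f1a0000114080020dc18c124d241c0020d11781044e8140020c115c0082e4530315d105c0a4d28160000330180004ec1a00002f0140082484000208a0f000820c3900207b0d80081dc340110200340081a02e00001b00c0081502500204c0880081101e0000130080080c81500202e04c00002c0100201a02c0080480700200a01001c00800))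
 (.leaf (nat_lit 0x801748002005d0000803730002009c6000801718001c01ab0007006a4001c059200070063c001c05870007025c8001c055600070352c001c0d48000701520001c0d430007034f8001c053d0007034f0001c01380007004dc001c05350007034c0001c092f0007044b4001c052a0007014a0001c0926000700498001c092500070447c001c051e000700478001c011b000702468001c0d18000701460001c091700070045c001c0516000703450001c0112000703440001c0510000700440001c050e000700434001c110a000704424001c0509000704420001c0908000701420001c0906000704414001c050400070440c001c0503000701408001c05010007043fc001c0cff0007013fc001c08fe0007003f8001c08fd0007023f0001c08fb0007013e8001c00fa0007043e4001c10f70007003d4001c10f40007023d0001c0cf30007043c8001c08f00007043bc001c10ec0007013ac001c00eb0007043a4001c00e5000702390001c10e3000700388001c04e1000700384001c04e0000700380001c08de000700378001c10dd000702374001c00db000703360001c10d7000701354001c00d5000704350001c10d300070134c001c0cd2000701348001804d1000603338001800cd00060432c00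180cca000601328001810c9000601324001804c800060431c00180cc7000604318001800c5000602310001810c300060330c00180cc200060030400180cc00006042fc00180cbf0006032f8001808be0006002f800180cbd0006012f4001810bc0006042ec001804bb0006032e8001810b70006022dc001804b60006002d8001810b50006032d4001810b40006022cc001804b30006032c8001800b20006032c4001808b10006012c4001810b00006032c0001800af0006022ac001804ab0006002ac001804a90006032a0001804a800060429c00180ca700060229c001800a6000604294001804a500060328c001804a2000604284001808a1000600284001810a00006012800018109f00060327c0018089f00060127c0018049e0006042740018089d00060427000180c9c0006012700018009c00060326c0018009a000601264001800990006032600018089700060225800180096000601250001804930006042440018049100060424000180c900006022400018009000060123c0018088e0006002340018108c00060323000180c8b00060222c0018008a00060321c00180087000600218001810850006022100018008400060420800180c82000604204001800810006032000018088000060120000180c7f00060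11fc0018107e0006031f80018107d0006031f40018007d0006041ec0018087a0006041e4001800790006041e000180c780006001e0001808770006011dc001808760006001d8001808750006021d000180c730006041c800180c720006021c8001800710006041c0001804700006001c00018106f0006031bc0018006f0006031b80018086e0006011b80018046d0006001b40018086c0006011b00018006c0006031ac0018046b0006041a800180c6a0006001a8001808690006001a40018106700060319c0018086700060019c00180c6600060219800180466000600198001810650006021900018006400060418c00180c6300060118c001810620006041840018046100060018400180c600006021800018006000060217c0018045f00060017c0018105e0006001780018105d0006031740018085d0006011740018105c0006021700018005c00060316c0018045b00060016c0018105a00060116800180c590006021640018105800060415c001804570006021580018045600060315400180455000600154001808540006011500018005400060414c00180053000603148001804510006031400018045000060413c00180c4f00060213c0018004f0006041380018084e0006011380018104d00060013400180c4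c0006021300018044c00060112c00181049000603124001808490006031200018044800060211c001804470005011180014004600050411400140445000500114001410440005021100014044400050210c001404420005021040014044100050410000140c40000501100001400400005030fc0014043f0005010f80014003e0005010f400140c3c0005010f00014103b0005020ec0014083a0005000e800140c390005010e4001400390005030e0001408380005010e0001400380005040dc001408370005010dc001400370005030d800140c350005020d4001404350005000d400140c340005010d0001400340005020c8001410310005030c4001408310005010c4001410300005030c0001408300005000c000140c2f0005020bc0014042f0005000bc0014102e0005040b40014042d0005040b000140c2c0005020b00014002c0005020ac0014042b0005000ac0014082a0005010a800140c290005020a4001404290005040a000140c280005020a000140c2700050209c0014042700050009c001410260005020980014042600050009800140c25000501094001410240005020900014082300050108c0014002300050408800140c220005010880014002200050408400140c21000502084001404210005040800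0140c200005020800014002000050307c0014041f00050007c0014101e0005030780014001e0005020740014041d0005030700014001c00050306c0014081b00050106c0014001b0005040680014041a00050406400140c190005020640014041900050406000140c180005020600014001800050305c0014041700050005c001404160005000580014101500050305400140415000500054001410140005030500010101300040304c0010041300040004c0010101200040304800100812000401048001010110004030440010081100040004400100c100004020400010100f00040303c0010080f0004040380010080e00040003800100c0d0004010340010000d0004040300010080c0004010300010000c00040402c00100c0b00040102c0010000b00040402800100c0a0004020280010040a0004030240010080900040102400100009000404020001008080004010200010000800040401c00100c0700040101c0010000700040401800100c0600040201800100006000302014000c0405000300014000c1004000301010000c000400030400c000c0c0300030200c000c0403000304008000c0c02000302008000c0002000203004000808010002010040008000100010400000000000))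
)) (.node (.node (.leaf (nat_lit 0x61ac1754186ae604de1ab5778966aa5e4061aa0784002a61ab000a8e6a4186a1da1000a7d63ff469e5cc259a707ec186991b0de1a606d3f6695db2fd1a4984fdc68fd49000ab48941868bdf4fb9a2b5fc00286938000a134dc186831a4de1a075c000295a1afa19f757e2867b5350619e27a00029be1d0009d149bde673587f719c44bfd666f15e0009ae4780026991b25999d783506665d406198f70bd26611d900097945c1865c97cf3996e50c00257512000a008412c654df50004ae4409053095d0004aa4340024597700080962e646245d6f0194d5380022e53b4c9712748001db9db0007a4654002a6a22000a2a8540027da0f00081b66418523de70008f97ac002aa224ec183c4080026c6070004843fb3c601922ea9850603a85e956ce999255c80011e8fa0006495200861d1a70004743d4002005a80004c667400257dfe00084f5c40014b9dc0007684f00020912d0007c94fc001174eb0008c741c001164e5e596923bc00aafe2700045338800aade2600044f3878c5938ec00044b380002a422100044737b885a65dae194425900010fcdb0009437bc00aa7a23a217ea6d40010dcd5000a3b85e6459d1650006235677850b947dd1598540001544e7000a7f87c0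01094cd0007f35d8001b5567da161b56264605581d895ac3435c5420e90008c9648ea57f1ac0005e0734001040c500096b7ff525bcd89000a44863505635f90004063040012f5b10008db4c74862756a00094865c0022419c0003f82f80026a206cf168b33f3a64e129000a5f86c00148142000921711b05bedcb00053c66c000fa19f0003e22dad45c8d2500052458c001be5e20007c165800270e090009cc828000f50b2c7180e7dc001c3d164c971f2e800aa1620c5176f4b0000f20af00066b52b0c5949340003c22ac001f1dc7c217a954f045fe5df0006bc2b00020b8b0002a76878000ed0a6be174779af24ebccb0009d382c00281a110008b553c0020e1830003a3284001cddd30007c37c40025191a0008674cc001f39402d97793f6e25d05bcb719063326a60bd6e00083a29c001f513e000818668000e249cb518727a8000e149a000898760000e04990007ae514001ffdf200087b48c000de49606137658ac45a7d570006d3726be4c6cea0009818040015c5c000046e774000c48905918352aab061798800030c236ac63e92800059c6baa85ce17e000610640000c088aa81627720000bf8870002fc21800a98a1ca61643554000bd88400073b2800019cce4000a1c850000bb881a2165e61400277e0c0007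22650000d50b96b94ce310001641af00070d6f400a916190005ea504000b607d02173d28a765bfdfd00063368c000b407900062f6e80022f1360002ca1e26a5e5d19002a2d85a645cd0a30002c21d8001ae4f60009a0814001ee47a9619407180021ada0002a0a848000ad0719399006a800240d040002ac1c000215db80007831d0000a986f8f180c6ee365ef96b06129f48400a7a20e00029a1b400a7820d0008ee794000a506c8a192970c0023c17b82190c7e00021753000028a1aa165a9c750002861a400a6d20800067b744000db55a00027e19e085f448000098780800a6360300027619800a5c2007f155f34c0009c0640005a03e1ec5574ee0003565300092bdfc79969d7280092adfa0002601840015a913061340428000968600024a37d8009275f300025417c0018b57a00025017800925df00024937b8009245ed00248d7b00022c1000024877a40009085c70966826c001ef49700023a16c0091ede30003674700016ad200004ed51800154ca46c183e5d4001825ad6b935a43018489cb80004ff160001a54e30002201540016c50f0006c76cc0008685400245e75c000858530004d73599657c08365159d3258a56c91d00084d73c0018ecdd6116ab5700008184f002450740009131ce00067754800153d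060001fc134001469155d153f370965624c20004b918c001e30fb00064b698001369860024387156461bc720024307040090a9bf0024286f80007884600069856d565774920001dc114001e29910006ae4e8009079b90024196dc00905db60005ce5500013a4f7000826274001590c700056847c000718400005f34501847008c4c98464e40006ec3e0023f36952c54c98d0023ed688001ff5600004b51952246b8520001ab0e8008f8d9e4595cf24c000688390023d76611060ccff0023cd64c0006683800063f0f4000cecbc00067d55800063c370023c36380020a9510023bf630008eed8a0001840d4fa543c420023ad6100005f0340007c55d0008ea5823a98802a4008e797d0023965e4008e51783894ca510008e297300016a0c0001ed56d0023825bc845b40d80001600bcd25e1c6b3415a3124008dd1690023725a0c85d589e0023195980005482c00230f5840021950300014c0ac8c45243b0611450b8ba4504362e11350ccb644c42a00063710c000d30b42c13283ccae57b0592a95c3254a855ac4700012209c008b954d0022e152c0013344100011a098000cdc91061137224285e648f2595003c4285d71090022c54f400041c232416a92148c5ddd0521179d4b80003fc2220135f2b8008ab5320a1710120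008a752b00229b4a8008a552700228f4900003b4200005c81300015d0d70000e507c0089dd180004b712c00037c1e0022694446e4cf90b0022634380003581c002255420085d78b30022474040003381b00223b3f00088d4f90004e71fc000cd43c00222b3d0008894f20022213c000886ced0003302dc0002e0180022113a0008834e60000b205c0087fcdf0000ae0580087d4da0021f33640016e0510000a60540087a4d40021e534800878cd10021dd338008754ca00009904c008744c80021cd31800871cc30021be3000086f0bf0021b82f40086d0bb000089044000c807c0021a32d400866cb10021912b40004581a0021852a00085fca5000075038285c043200217127c0001bc0d0021612602641a8280021592500001940c00214d23800850c8b00212f2200001740b00212320800846c7e0021111ec184148140021081dc008400730020f41b8000124090020e61a0000310570020d9188000104080020cf1740083245a0020bf1580000e4070020b31400082bc4e0020a71280000c40600209b1100082403f00002b0140840a010000057094000088040020700c40081982d00205e0a40081402400204a0840081081d00203a0640000440200202c0480080900f00201802800001c0100200800c01c00400))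
 (.leaf (nat_lit 0xfff000003ffc00000fff000003ffc00000fff000003ffc00000fff000003ffc00000fff000003ffc00000fff000003ffc00000fff000003ffc00000fff000003ffc00000fff000003ffc00000fff000003ffc00000fff000003ffc00000fff000003ffc00000fff000003ffc00000fff000003ffc00000fff000003ffc00000fff000003ffc00000fff000003ffc00000fff000003ffc00000fff000003ffc00000fff000003ffc00000fff000003ffc00000fff000003ffc00000fff000003ffc00000fff000003ffc00000fff000003ffc00000fff000003ffc00000fff000003ffc00000fff000003ffc00000fff000003ffc00000fff000003ffc00000fff000003ffc00000fff000003ffc00000fff000003ffc00000fff000003ffc00000fff000003ffc00000fff000003ffc00000fff000003ffc00000fff000003ffc00000fff000003ffc00000fff000003ffc00000fff000003ffc00000fff000003ffc00000fff000003ffc00000fff000003ffc00000fff000003ffc00000fff000003ffc00000fff000003ffc00000fff000003ffc00000fff000003ffc00000fff000003ffc00000fff000003ffc00000fff000003ffc00000fff000003ffc00000fff000003ffc00000fff00000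3ffc00000fff000003ffc00000fff000003ffc00000fff000003ffc00000fff000003ffc00000fff000003ffc00000fff000003ffc00000fff000003ffc00000fff000003ffc00000fff000003ffc00000fff000003ffc00000fff000003ffc00000fff000003ffc00000fff000003ffc00000fff000003ffc00000fff000003ffc00000fff000003ffc00000fff000003ffc00000fff000003ffc00000fff000003ffc00000fff000003ffc00000fff000003ffc00000fff000003ffc00000fff000003ffc00000fff000003ffc00000fff000003ffc00000fff000003ffc00000fff000003ffc00000fff000003ffc00000fff000003ffc00000fff000003ffc00000fff000003ffc00000fff000003ffc00000fff000003ffc00000fff000003ffc00000fff000003ffc00000fff000003ffc00000fff000003ffc00000fff000003ffc00000fff000003ffc00000fff000003ffc00000fff000003ffc00000fff000003ffc00000fff000003ffc00000fff000003ffc00000fff000003ffc00000fff000003ffc00000fff000003ffc00000fff000003ffc00000fff000003ffc00000fff000003ffc00000fff000003ffc00000fff000003ffc00000fff000003ffc00000fff000003ffc00000fff000003ffc00000ff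f000003ffc00000fff000003ffc00000fff000003ffc00000fff000003ffc00000fff000003ffc00000fff000003ffc00000fff000003ffc00000fff000003ffc00000fff000003ffc00000fff000003ffc00000fff000003ffc00000fff000003ffc00000fff000003ffc00000fff000003ffc00000fff000003ffc00000fff000003ffc00000fff000003ffc00000fff000003ffc00000fff000003ffc00000fff000003ffc00000fff000003ffc00000fff000003ffc00000fff000003ffc00000fff000003ffc00000fff000003ffc00000fff000003ffc00000fff000003ffc00000fff000003ffc00000fff000003ffc00000fff000003ffc00000fff000003ffc00000fff000003ffc00000fff000003ffc00000fff000003ffc00000fff000003ffc00000fff000003ffc00000fff000003ffc00000fff000003ffc00000fff000003ffc00000fff000003ffc00000fff000003ffc00000fff000003ffc00000fff000003ffc00000fff000003ffc00000fff000003ffc00000fff000003ffc00000fff000003ffc00000fff000003ffc00000fff000003ffc00000fff000003ffc00000fff000003ffc00000fff000003ffc00000fff000003ffc00000fff000003ffc00000fff000003ffc00000fff000003ffc0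0000fff000003ffc00000fff000003ffc00000fff000003ffc00000fff000003ffc00000fff000003ffc00000fff000003ffc00000fff000003ffc00000fff000003ffc00000fff000003ffc00000fff000003ffc00000fff000003ffc00000fff000003ffc00000fff000003ffc00000fff000003ffc00000fff000003ffc00000fff000003ffc00000fff000003ffc00000fff000003ffc00000fff000003ffc00000fff000003ffc00000fff000003ffc00000fff000003ffc00000fff000003ffc00000fff000003ffc00000fff000003ffc00000fff000003ffc00000fff000003ffc00000fff000003ffc00000fff000003ffc00000fff000003ffc00000fff000003ffc00000fff000003ffc00000fff000003ffc00000fff000003ffc00000fff000003ffc00000fff000003ffc00000fff000003ffc00000fff000003ffc00000fff000003ffc00000fff000003ffc00000fff000003ffc00000fff000003ffc00000fff000003ffc00000fff000003ffc00000fff000003ffc00000fff000003ffc00000fff000003ffc00000fff000003ffc00000fff000003ffc00000fff000003ffc00000fff000003ffc00000fff000003ffc00000fff000003ffc00000fff000003ffc00000fff000003ffc00000fff0000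03ffc00000fff000003ffc00000fff000003ffc00000fff000003ffc00000fff000003ffc00000fff000003ffc00000fff000003ffc00000fff000003ffc00000fff000003ffc00000fff000003ffc00000fff000003ffc00000fff000003ffc00000fff000003ffc00000fff000003ffc00000fff000003ffc00000fff000003ffc00000fff000003ffc00000fff000003ffc00000fff000003ffc00000fff000003ffc00000fff000003ffc00000fff000003ffc00000fff000003ffc00000fff000003ffc00000fff000003ffc00000fff000003ffc00000fff000003ffc00000fff000003ffc00000fff000003ffc00000fff000003ffc00000fff000003ffc00000fff000003ffc00000fff000003ffc00000fff000003ffc00000fff000003ffc00000fff000003ffc00000fff000003ffc00000fff000003ffc00000fff000003ffc00000fff000003ffc00000fff000003ffc00000fff000003ffc00000fff000003ffc00000fff000003ffc00000fff000003ffc00000fff000003ffc00000fff000003ffc00000fff000003ffc00000fff000003ffc00000fff000003ffc00000fff000003ffc00000fff000003ffc00000fff000003ffc00000fff000003ffc00000fff000003ffc00))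
) (.leaf (nat_lit 0xf61ac389fd86aee23000aae733e06a9616000abc899206a6e22481a9178fd86a2620481a80706fe69e21e101a7273c1469a156000a5a52c00294148051a4b7d40028f543000a354f8002a9a24000a244f120687553759a1684fd8683a00000a044c3e067f5a49499f3756fe67a9eff619e4837e06771320009d96afe06725949499c07e3d866d9937599af81d2066a520b419a34dc00265518bf999180ea66629c66d197e5b000283e12000967451206581ca0004b2440001e858000061a5b8001499da7d15bf54000270609f118a97d80022a9f7000a4c864002115a7e918d2748001895395318f664b3863c9f00009eb8389863d5ee3018d87b4002289085119577ac001228ffec985a6e0c462558aa998cd79fae5fb1e1eb187c7800022c97c000a92887a46341db0007ed7980021f5e50898c577fa060094d4994707740011a4f30008d178b9c5495fa00076c594001fd5705316c175c065b95d60009f483f98644d3d6e169674c00234df30006886e40023d127000a738740014d4ec0005cc3bc00aab625ba97e8414002585fe0006e059f8457251b00043d36000262e0289978f714001f757a0008c25fc005dc519000a8187c0010b4d20005925280017bdb1000427338001ad9b70009334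a4001084ca55168774400216de95216b56f0001560f600078e48c001050c77896c24e800243d243995ee6fb545c19b000040a30c001020c200060d398001008c0d299d882c000ff8bf0003fc2faea60298cd098447d0000fd8bdc296785540027fa10ce167068c0014a19d0003ec2e800214d0600057b67b3055e99f5e952768a2659c59c0003de2d652546d9a98190a49b2461b1980003d62c800239d040003d22c400272a0a0009b78200023ddf10003ca2c000185169c396e3519a65bb98ec296ba63400202da80003be2a0002259e81116bd598000ee0a794990861efe5408bb3317e35e6f6538cae0003ac28c00624ce5bb98623ed665e81fc3018c170c001cc168ba97fb5f48262c5e400039b27ee05f71c40007e4614001d00c9b81919332da63717600092f4a0000e349cac97f6511d654717200038726ed05fd1d8531878288065865fb00037f2600025fe01000746578002298fab29613642a65cbd7e6996df724001af989a9976b764000c58905c14db3580016991f71181e4bab25d94a00008ae404c45d156b000308230000c188ba994fb43c000c90b400030021dc458a5586e135955c0029a61c000679696805704e8000a1e850000bc882981704544001701f90002ea200001c5d16000803778000b907f0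02a5986e805645bf0002de1f800a93e1a0002da1f4001b918f9494d8514001fdd73002a3c862744da0b89c161d374000b307800072a37800a8d21700091475000a88e159817054ec001b0db30e16247c8000af0730009a4814000ae07295190425d204d5c889492b12580027760c00089c4a800a80e110002a81bc00207d610002a41ba3864c52c00084948482626d318c19326ee2e64b9758b18f374000242d990002921accc6439b289978d6d4000a306a8718484ac0026aa065515a55880023550900028219c00152c930005ca7200009f06600077270800a652048098ea3f0385c594e6393423d000a599ff7d15eb44c0009b0637a95f420c0092c5fd0004fc56de252fd0e7792613180009786075934842c000d38b95118d4479d46285ec2518e141dd06149a00007e972dcc63999600024c175c860ac776718ad57c001f888e0024897a9c46364fe00023e16c0023ad17000863605be62956a0005053800008d0596e14f03ddb4555db65116c03d4000d0d150024687700018e4e3000224155a854c4f06995cb734c45604686914f43b52054d1ce0006e91799c4c747b000214148001709540002101418e5831ad0008946080008284f3396383c9805a34e20007281d97e5410f95e96c537c445ca53f00061e504000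7e84c0005c62047e5668da5c14c43640090f1c70001f0124001371630001ec121666064d400152b1340090b1c00006162bca655684a5696b0254009099bd5516bf334002469770004e0158009081ba53173f5e14854e8c80024136d00009890d5116fd2a4000728400024096bc00901dae0001c40fc009005ac0023fd6a8008feda90023f56980006dc3c000503618008fada149934d428000da54248132114c000698390023dd66cf44c8d5a0001a00e0008f55970023d1654008f259143161534400139184421193224f44d94ac00018d0d8000628350006fe314008ef58b0023b7620000608343e14e2294f453cca40023ab60c0021e56f0001760c4001d996000239a5ece65d604400016e0c0008e31740023865c40005982f3116af264008df96d0009054d4000ac9330006b133cce54f46433154a4700005582c09133c244008c55643117521e8c05f85000007bb0ac008c1d5d0023055700004f4290001942b4000d61340022ff5640004b0282c93310ec0004a0270005f5444008bc5522995c536c008ba54f0022e3530008b75490022d951c0004602500031e3a8001d4c8f26110e1e4008b2d4000082c408945c9ce12496c41d400040c220022bb4e0008add362090fc0b80003e4210022a74bc008a8d2d1f992d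1b40003c420002291494008a2d220000e907c001608ee0022814740089ed1a0000e10780014f89400226b44870436c620000d80700089750c0000d406c005ba0eb00224b40c225be85c00223d3f4584ccc5a0022333e00003181900033907464537ccb0022233c40002f0180003222dc00884ce90000b605c00883ce70022093905854d84e00052c34c0087e4dc0000aa05400156cd00021ef35c0087acd50000a20500016502d00009e04c001d649e11109a10c4054dc42000095048008724c40021c3304385ec43e00008d0440086d8bc000332214000218100021a52d800867cb300008003c008630ab0021892a8008604a60a91390cc0001cc0d0021752840085b49d0021652680003f471091593118008554920897ba2340001840b00213c2280084ac860021272100001640a0021171f01a45002400004f024008408740020f81c00083c06c0020e81a40083806505133815c00835c610020d317c0000f4070020c51600082ec540020b51440000d4060020a912c0082844700209d1140082504100208c0f40082143a00207f0dc06408c0e0020720c8000074030020600a80081602600204e08c0000540200203c0680080d01600000e0040040300400201c0300080500800200d01401c00c00))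
))

noncomputable def co3_U_rules : LT :=
(.node (.node (.node (.node (.node (.node (.node (.node (.node (.leaf [nat_lit 26,nat_lit 13,nat_lit 1,nat_lit 3,nat_lit 2,nat_lit 4,nat_lit 0,nat_lit 2,nat_lit 0,nat_lit 2,nat_lit 0,nat_lit 2,nat_lit 1,nat_lit 2,nat_lit 1,nat_lit 1,nat_lit 2,nat_lit 1,nat_lit 2,nat_lit 0,nat_lit 2,nat_lit 3,nat_lit 2,nat_lit 3,nat_lit 1,nat_lit 2,nat_lit 0,nat_lit 4,nat_lit 2])
 (.leaf [nat_lit 38,nat_lit 19,nat_lit 0,nat_lit 0,nat_lit 2,nat_lit 3,nat_lit 4,nat_lit 1,nat_lit 3,nat_lit 0,nat_lit 3,nat_lit 1,nat_lit 3,nat_lit 0,nat_lit 2,nat_lit 0,nat_lit 0,nat_lit 2,nat_lit 0,nat_lit 2,nat_lit 0,nat_lit 0,nat_lit 2,nat_lit 1,nat_lit 1,nat_lit 2,nat_lit 0,nat_lit 2,nat_lit 4,nat_lit 2,nat_lit 4,nat_lit 2,nat_lit 3,nat_lit 4])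
) (.node (.leaf [nat_lit 44,nat_lit 26,nat_lit 1,nat_lit 0,nat_lit 1,nat_lit 2,nat_lit 4,nat_lit 1,nat_lit 1,nat_lit 1,nat_lit 2,nat_lit 0,nat_lit 2,nat_lit 1,nat_lit 2,nat_lit 1,nat_lit 1,nat_lit 2,nat_lit 0,nat_lit 2,nat_lit 0,nat_lit 2,nat_lit 1,nat_lit 3,nat_lit 0,nat_lit 2,nat_lit 3,nat_lit 0,nat_lit 3,nat_lit 2,nat_lit 0,nat_lit 4,nat_lit 2,nat_lit 0,nat_lit 0,nat_lit 4])
 (.leaf [nat_lit 38,nat_lit 16,nat_lit 0,nat_lit 2,nat_lit 3,nat_lit 4,nat_lit 1,nat_lit 2,nat_lit 3,nat_lit 4,nat_lit 1,nat_lit 3,nat_lit 0,nat_lit 3,nat_lit 1,nat_lit 3,nat_lit 0,nat_lit 2,nat_lit 0,nat_lit 0,nat_lit 2,nat_lit 0,nat_lit 2,nat_lit 0,nat_lit 0,nat_lit 2,nat_lit 1,nat_lit 1,nat_lit 2,nat_lit 0,nat_lit 2,nat_lit 4,nat_lit 2,nat_lit 4])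
)) (.node (.node (.leaf [nat_lit 21,nat_lit 12,nat_lit 0,nat_lit 1,nat_lit 2,nat_lit 1,nat_lit 3,nat_lit 1,nat_lit 1,nat_lit 2,nat_lit 0,nat_lit 0,nat_lit 2,nat_lit 1,nat_lit 3,nat_lit 1,nat_lit 2,nat_lit 0,nat_lit 0,nat_lit 2,nat_lit 1,nat_lit 2,nat_lit 1,nat_lit 2,nat_lit 1,nat_lit 2,nat_lit 1,nat_lit 3,nat_lit 0])
 (.leaf [nat_lit 13,nat_lit 14,nat_lit 0,nat_lit 3,nat_lit 1,nat_lit 3,nat_lit 1,nat_lit 2,nat_lit 0,nat_lit 0,nat_lit 2,nat_lit 1,nat_lit 1,nat_lit 2,nat_lit 0,nat_lit 2,nat_lit 3,nat_lit 0,nat_lit 3,nat_lit 0,nat_lit 2,nat_lit 1])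
) (.node (.leaf [nat_lit 44,nat_lit 16,nat_lit 1,nat_lit 3,nat_lit 0,nat_lit 3,nat_lit 2,nat_lit 0,nat_lit 4,nat_lit 2,nat_lit 0,nat_lit 0,nat_lit 4,nat_lit 1,nat_lit 1,nat_lit 2,nat_lit 4,nat_lit 1,nat_lit 1,nat_lit 1,nat_lit 2,nat_lit 0,nat_lit 2,nat_lit 1,nat_lit 2,nat_lit 1,nat_lit 1,nat_lit 2,nat_lit 0,nat_lit 2,nat_lit 0,nat_lit 2,nat_lit 1,nat_lit 3,nat_lit 0,nat_lit 2])
 (.leaf [nat_lit 24,nat_lit 4,nat_lit 1,nat_lit 4,nat_lit 1,nat_lit 4,nat_lit 2,nat_lit 4,nat_lit 0,nat_lit 4,nat_lit 0,nat_lit 2,nat_lit 0,nat_lit 2,nat_lit 0,nat_lit 0,nat_lit 0,nat_lit 2,nat_lit 1,nat_lit 1,nat_lit 1,nat_lit 2,nat_lit 1,nat_lit 2,nat_lit 1])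
))) (.node (.node (.node (.leaf [nat_lit 10,nat_lit 5,nat_lit 1,nat_lit 3,nat_lit 2,nat_lit 3,nat_lit 0,nat_lit 2,nat_lit 1,nat_lit 2,nat_lit 0,nat_lit 0,nat_lit 2,nat_lit 1,nat_lit 1,nat_lit 1,nat_lit 2,nat_lit 3,nat_lit 2,nat_lit 0,nat_lit 2])
 (.leaf [nat_lit 45,nat_lit 1,nat_lit 1,nat_lit 2,nat_lit 4,nat_lit 0,nat_lit 4,nat_lit 2,nat_lit 4,nat_lit 1,nat_lit 2,nat_lit 1,nat_lit 1,nat_lit 1,nat_lit 3,nat_lit 0,nat_lit 2,nat_lit 3,nat_lit 1,nat_lit 1,nat_lit 2,nat_lit 0,nat_lit 2,nat_lit 0,nat_lit 0,nat_lit 2,nat_lit 1,nat_lit 1,nat_lit 2,nat_lit 1,nat_lit 1,nat_lit 1,nat_lit 2,nat_lit 1,nat_lit 1,nat_lit 1,nat_lit 4])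
) (.node (.leaf [nat_lit 6,nat_lit 12,nat_lit 1,nat_lit 2,nat_lit 1,nat_lit 2,nat_lit 0,nat_lit 0,nat_lit 2,nat_lit 1,nat_lit 1,nat_lit 2,nat_lit 0,nat_lit 2,nat_lit 0,nat_lit 2,nat_lit 1,nat_lit 1,nat_lit 2,nat_lit 0,nat_lit 0,nat_lit 2,nat_lit 1])
 (.leaf [nat_lit 13,nat_lit 7,nat_lit 0,nat_lit 2,nat_lit 3,nat_lit 0,nat_lit 3,nat_lit 0,nat_lit 2,nat_lit 1,nat_lit 3,nat_lit 1,nat_lit 3,nat_lit 1,nat_lit 2,nat_lit 0,nat_lit 0,nat_lit 2,nat_lit 1,nat_lit 1,nat_lit 2,nat_lit 0])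
)) (.node (.node (.leaf [nat_lit 31,nat_lit 13,nat_lit 0,nat_lit 3,nat_lit 2,nat_lit 3,nat_lit 0,nat_lit 4,nat_lit 1,nat_lit 2,nat_lit 1,nat_lit 1,nat_lit 2,nat_lit 0,nat_lit 2,nat_lit 0,nat_lit 0,nat_lit 2,nat_lit 0,nat_lit 2,nat_lit 0,nat_lit 0,nat_lit 0,nat_lit 3,nat_lit 1,nat_lit 2,nat_lit 3,nat_lit 2,nat_lit 4,nat_lit 0,nat_lit 4,nat_lit 1,nat_lit 4])
 (.leaf [nat_lit 46,nat_lit 23,nat_lit 1,nat_lit 4,nat_lit 0,nat_lit 0,nat_lit 2,nat_lit 1,nat_lit 2,nat_lit 1,nat_lit 2,nat_lit 1,nat_lit 1,nat_lit 1,nat_lit 2,nat_lit 0,nat_lit 0,nat_lit 0,nat_lit 2,nat_lit 1,nat_lit 2,nat_lit 3,nat_lit 0,nat_lit 2,nat_lit 1,nat_lit 1,nat_lit 3,nat_lit 0,nat_lit 4,nat_lit 2,nat_lit 1,nat_lit 2,nat_lit 0,nat_lit 3,nat_lit 0,nat_lit 2,nat_lit 0])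
) (.node (.leaf [nat_lit 47,nat_lit 14,nat_lit 1,nat_lit 0,nat_lit 1,nat_lit 2,nat_lit 0,nat_lit 0,nat_lit 4,nat_lit 3,nat_lit 0,nat_lit 0,nat_lit 3,nat_lit 1,nat_lit 2,nat_lit 0,nat_lit 3,nat_lit 2,nat_lit 3,nat_lit 1,nat_lit 2,nat_lit 1,nat_lit 1,nat_lit 1,nat_lit 2,nat_lit 0,nat_lit 2,nat_lit 1,nat_lit 2,nat_lit 0,nat_lit 2,nat_lit 1,nat_lit 1,nat_lit 2,nat_lit 0,nat_lit 0,nat_lit 4,nat_lit 2])
 (.leaf [nat_lit 42,nat_lit 3,nat_lit 0,nat_lit 1,nat_lit 4,nat_lit 0,nat_lit 2,nat_lit 1,nat_lit 2,nat_lit 0,nat_lit 2,nat_lit 3,nat_lit 1,nat_lit 4,nat_lit 2,nat_lit 3,nat_lit 1,nat_lit 2,nat_lit 0,nat_lit 3,nat_lit 2,nat_lit 0,nat_lit 2,nat_lit 3,nat_lit 2,nat_lit 0,nat_lit 2,nat_lit 0,nat_lit 0,nat_lit 2,nat_lit 1,nat_lit 2,nat_lit 0,nat_lit 0,nat_lit 2])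
)))) (.node (.node (.node (.node (.leaf [nat_lit 38,nat_lit 8,nat_lit 1,nat_lit 4,nat_lit 3,nat_lit 2,nat_lit 0,nat_lit 4,nat_lit 3,nat_lit 2,nat_lit 4,nat_lit 2,nat_lit 4,nat_lit 2,nat_lit 1,nat_lit 2,nat_lit 0,nat_lit 0,nat_lit 2,nat_lit 1,nat_lit 1,nat_lit 2,nat_lit 1,nat_lit 2,nat_lit 1,nat_lit 1,nat_lit 2,nat_lit 1,nat_lit 3,nat_lit 0,nat_lit 3,nat_lit 1,nat_lit 3,nat_lit 0])
 (.leaf [nat_lit 40,nat_lit 13,nat_lit 1,nat_lit 4,nat_lit 3,nat_lit 1,nat_lit 1,nat_lit 1,nat_lit 4,nat_lit 0,nat_lit 0,nat_lit 0,nat_lit 3,nat_lit 4,nat_lit 2,nat_lit 0,nat_lit 0,nat_lit 2,nat_lit 1,nat_lit 1,nat_lit 1,nat_lit 2,nat_lit 1,nat_lit 2,nat_lit 0,nat_lit 0,nat_lit 2,nat_lit 3,nat_lit 2,nat_lit 1,nat_lit 1,nat_lit 3,nat_lit 1,nat_lit 2])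
) (.node (.leaf [nat_lit 28,nat_lit 12,nat_lit 1,nat_lit 3,nat_lit 1,nat_lit 4,nat_lit 3,nat_lit 4,nat_lit 3,nat_lit 4,nat_lit 1,nat_lit 3,nat_lit 1,nat_lit 3,nat_lit 1,nat_lit 3,nat_lit 1])
 (.leaf [nat_lit 44,nat_lit 8,nat_lit 0,nat_lit 0,nat_lit 1,nat_lit 2,nat_lit 4,nat_lit 1,nat_lit 2,nat_lit 3,nat_lit 1,nat_lit 3,nat_lit 2,nat_lit 1,nat_lit 3,nat_lit 0,nat_lit 2,nat_lit 1,nat_lit 2,nat_lit 1,nat_lit 2,nat_lit 0,nat_lit 0,nat_lit 2,nat_lit 0,nat_lit 2,nat_lit 1,nat_lit 2,nat_lit 0,nat_lit 0,nat_lit 0,nat_lit 4,nat_lit 2,nat_lit 0,nat_lit 0,nat_lit 4])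
)) (.node (.node (.leaf [nat_lit 13,nat_lit 16,nat_lit 1,nat_lit 2,nat_lit 1,nat_lit 1,nat_lit 2,nat_lit 0,nat_lit 3,nat_lit 0,nat_lit 3,nat_lit 0,nat_lit 2,nat_lit 1,nat_lit 3,nat_lit 1,nat_lit 3,nat_lit 2,nat_lit 1,nat_lit 2,nat_lit 0,nat_lit 0])
 (.leaf [nat_lit 43,nat_lit 23,nat_lit 1,nat_lit 1,nat_lit 0,nat_lit 2,nat_lit 1,nat_lit 1,nat_lit 2,nat_lit 1,nat_lit 2,nat_lit 1,nat_lit 1,nat_lit 2,nat_lit 0,nat_lit 2,nat_lit 3,nat_lit 0,nat_lit 2,nat_lit 0,nat_lit 2,nat_lit 1,nat_lit 1,nat_lit 3,nat_lit 1,nat_lit 4,nat_lit 1,nat_lit 3,nat_lit 2,nat_lit 1,nat_lit 1,nat_lit 2,nat_lit 0,nat_lit 4,nat_lit 0,nat_lit 2])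
) (.node (.leaf [nat_lit 33,nat_lit 20,nat_lit 0,nat_lit 2,nat_lit 4,nat_lit 1,nat_lit 2,nat_lit 1,nat_lit 1,nat_lit 2,nat_lit 0,nat_lit 0,nat_lit 0,nat_lit 2,nat_lit 0,nat_lit 2,nat_lit 1,nat_lit 1,nat_lit 3,nat_lit 1,nat_lit 1,nat_lit 4,nat_lit 0,nat_lit 2,nat_lit 0,nat_lit 0,nat_lit 0,nat_lit 2,nat_lit 3,nat_lit 4])
 (.leaf [nat_lit 18,nat_lit 23,nat_lit 0,nat_lit 3,nat_lit 2,nat_lit 0,nat_lit 0,nat_lit 0,nat_lit 2,nat_lit 1,nat_lit 1,nat_lit 2,nat_lit 0,nat_lit 2,nat_lit 1,nat_lit 1,nat_lit 3,nat_lit 0,nat_lit 3,nat_lit 2,nat_lit 3,nat_lit 1,nat_lit 3,nat_lit 0,nat_lit 2,nat_lit 1,nat_lit 3,nat_lit 2])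
))) (.node (.node (.node (.leaf [nat_lit 44,nat_lit 7,nat_lit 0,nat_lit 4,nat_lit 1,nat_lit 1,nat_lit 2,nat_lit 4,nat_lit 1,nat_lit 2,nat_lit 3,nat_lit 1,nat_lit 3,nat_lit 2,nat_lit 1,nat_lit 3,nat_lit 0,nat_lit 2,nat_lit 1,nat_lit 2,nat_lit 1,nat_lit 2,nat_lit 0,nat_lit 0,nat_lit 2,nat_lit 0,nat_lit 2,nat_lit 1,nat_lit 2,nat_lit 0,nat_lit 0,nat_lit 0,nat_lit 4,nat_lit 2,nat_lit 0,nat_lit 0])
 (.leaf [nat_lit 28,nat_lit 12,nat_lit 0,nat_lit 3,nat_lit 4,nat_lit 0,nat_lit 3,nat_lit 0,nat_lit 3,nat_lit 0,nat_lit 3,nat_lit 0,nat_lit 3,nat_lit 0,nat_lit 4,nat_lit 3,nat_lit 4])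
) (.node (.leaf [nat_lit 30,nat_lit 17,nat_lit 1,nat_lit 2,nat_lit 0,nat_lit 3,nat_lit 2,nat_lit 3,nat_lit 0,nat_lit 2,nat_lit 3,nat_lit 1,nat_lit 1,nat_lit 2,nat_lit 1,nat_lit 1,nat_lit 2,nat_lit 1,nat_lit 2,nat_lit 0,nat_lit 2,nat_lit 0,nat_lit 0,nat_lit 2,nat_lit 4,nat_lit 1,nat_lit 2,nat_lit 3,nat_lit 4,nat_lit 2,nat_lit 0,nat_lit 2,nat_lit 4])
 (.leaf [nat_lit 28,nat_lit 13,nat_lit 0,nat_lit 4,nat_lit 0,nat_lit 3,nat_lit 0,nat_lit 3,nat_lit 0,nat_lit 3,nat_lit 0,nat_lit 3,nat_lit 0,nat_lit 4,nat_lit 3,nat_lit 4,nat_lit 3])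
)) (.node (.node (.leaf [nat_lit 29,nat_lit 6,nat_lit 1,nat_lit 0,nat_lit 3,nat_lit 0,nat_lit 2,nat_lit 4,nat_lit 0,nat_lit 2,nat_lit 0,nat_lit 3,nat_lit 1,nat_lit 2,nat_lit 1,nat_lit 4,nat_lit 2,nat_lit 1,nat_lit 3,nat_lit 0,nat_lit 4])
 (.leaf [nat_lit 25,nat_lit 9,nat_lit 0,nat_lit 3,nat_lit 1,nat_lit 2,nat_lit 4,nat_lit 0,nat_lit 0,nat_lit 2,nat_lit 1,nat_lit 3,nat_lit 0,nat_lit 2,nat_lit 0,nat_lit 2,nat_lit 0,nat_lit 2,nat_lit 0,nat_lit 0,nat_lit 0,nat_lit 2,nat_lit 1,nat_lit 1,nat_lit 4,nat_lit 2,nat_lit 0])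
) (.node (.leaf [nat_lit 26,nat_lit 14,nat_lit 0,nat_lit 4,nat_lit 1,nat_lit 2,nat_lit 0,nat_lit 3,nat_lit 2,nat_lit 3,nat_lit 2,nat_lit 1,nat_lit 2,nat_lit 0,nat_lit 2,nat_lit 0,nat_lit 0,nat_lit 2,nat_lit 0,nat_lit 2,nat_lit 1,nat_lit 2,nat_lit 1,nat_lit 2,nat_lit 1,nat_lit 4,nat_lit 2,nat_lit 3,nat_lit 2])
 (.leaf [nat_lit 11,nat_lit 10,nat_lit 1,nat_lit 3,nat_lit 2,nat_lit 3,nat_lit 2,nat_lit 3,nat_lit 2,nat_lit 3,nat_lit 2,nat_lit 3,nat_lit 2,nat_lit 3,nat_lit 2])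
))))) (.node (.node (.node (.node (.node (.leaf [nat_lit 6,nat_lit 0,nat_lit 1,nat_lit 2,nat_lit 0,nat_lit 2,nat_lit 0,nat_lit 2,nat_lit 1,nat_lit 1,nat_lit 2,nat_lit 0,nat_lit 0,nat_lit 2,nat_lit 1,nat_lit 2,nat_lit 1,nat_lit 2,nat_lit 0,nat_lit 0,nat_lit 2,nat_lit 1,nat_lit 1])
 (.leaf [nat_lit 30,nat_lit 15,nat_lit 1,nat_lit 2,nat_lit 4,nat_lit 2,nat_lit 0,nat_lit 3,nat_lit 2,nat_lit 3,nat_lit 0,nat_lit 2,nat_lit 3,nat_lit 1,nat_lit 1,nat_lit 2,nat_lit 1,nat_lit 1,nat_lit 2,nat_lit 1,nat_lit 2,nat_lit 0,nat_lit 2,nat_lit 0,nat_lit 0,nat_lit 2,nat_lit 4,nat_lit 1,nat_lit 2,nat_lit 3,nat_lit 4,nat_lit 2,nat_lit 0])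
) (.node (.leaf [nat_lit 32,nat_lit 4,nat_lit 0,nat_lit 1,nat_lit 2,nat_lit 1,nat_lit 1,nat_lit 1,nat_lit 2,nat_lit 4,nat_lit 3,nat_lit 2,nat_lit 0,nat_lit 3,nat_lit 1,nat_lit 2,nat_lit 3,nat_lit 4,nat_lit 1,nat_lit 2,nat_lit 1,nat_lit 1,nat_lit 1,nat_lit 2,nat_lit 3,nat_lit 1,nat_lit 2,nat_lit 1,nat_lit 1,nat_lit 2,nat_lit 0,nat_lit 0,nat_lit 0,nat_lit 2])
 (.leaf [nat_lit 7,nat_lit 7,nat_lit 0,nat_lit 0,nat_lit 2,nat_lit 0,nat_lit 0,nat_lit 0,nat_lit 2,nat_lit 1,nat_lit 2,nat_lit 0,nat_lit 2,nat_lit 1,nat_lit 2,nat_lit 1,nat_lit 2,nat_lit 1,nat_lit 2,nat_lit 0,nat_lit 0,nat_lit 0,nat_lit 2,nat_lit 1,nat_lit 1,nat_lit 2])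
)) (.node (.node (.leaf [nat_lit 17,nat_lit 0,nat_lit 0,nat_lit 1,nat_lit 0,nat_lit 0,nat_lit 2,nat_lit 1,nat_lit 1,nat_lit 2,nat_lit 0,nat_lit 3,nat_lit 2,nat_lit 1,nat_lit 1,nat_lit 2,nat_lit 0,nat_lit 2,nat_lit 1,nat_lit 2,nat_lit 0,nat_lit 2,nat_lit 3,nat_lit 1,nat_lit 2,nat_lit 0,nat_lit 0,nat_lit 2])
 (.leaf [nat_lit 10,nat_lit 4,nat_lit 1,nat_lit 2,nat_lit 3,nat_lit 2,nat_lit 3,nat_lit 0,nat_lit 2,nat_lit 1,nat_lit 2,nat_lit 0,nat_lit 0,nat_lit 2,nat_lit 1,nat_lit 1,nat_lit 1,nat_lit 2,nat_lit 3,nat_lit 2,nat_lit 0])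
) (.node (.leaf [nat_lit 35,nat_lit 18,nat_lit 0,nat_lit 4,nat_lit 0,nat_lit 2,nat_lit 1,nat_lit 2,nat_lit 0,nat_lit 2,nat_lit 1,nat_lit 3,nat_lit 0,nat_lit 2,nat_lit 1,nat_lit 2,nat_lit 0,nat_lit 0,nat_lit 0,nat_lit 2,nat_lit 0,nat_lit 2,nat_lit 0,nat_lit 0,nat_lit 0,nat_lit 4,nat_lit 3,nat_lit 0,nat_lit 0,nat_lit 0,nat_lit 2,nat_lit 3,nat_lit 2,nat_lit 0])
 (.leaf [nat_lit 46,nat_lit 16,nat_lit 0,nat_lit 2,nat_lit 0,nat_lit 2,nat_lit 4,nat_lit 1,nat_lit 3,nat_lit 0,nat_lit 0,nat_lit 2,nat_lit 1,nat_lit 3,nat_lit 2,nat_lit 0,nat_lit 2,nat_lit 1,nat_lit 1,nat_lit 1,nat_lit 2,nat_lit 0,nat_lit 0,nat_lit 0,nat_lit 2,nat_lit 0,nat_lit 2,nat_lit 0,nat_lit 2,nat_lit 1,nat_lit 1,nat_lit 4,nat_lit 1,nat_lit 2,nat_lit 1,nat_lit 3,nat_lit 1])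
))) (.node (.node (.node (.leaf [nat_lit 10,nat_lit 11,nat_lit 0,nat_lit 2,nat_lit 3,nat_lit 2,nat_lit 1,nat_lit 2,nat_lit 3,nat_lit 2,nat_lit 0,nat_lit 0,nat_lit 0,nat_lit 2,nat_lit 1,nat_lit 1,nat_lit 2,nat_lit 0,nat_lit 2,nat_lit 1,nat_lit 3])
 (.leaf [nat_lit 38,nat_lit 20,nat_lit 0,nat_lit 2,nat_lit 3,nat_lit 4,nat_lit 1,nat_lit 3,nat_lit 0,nat_lit 3,nat_lit 1,nat_lit 3,nat_lit 0,nat_lit 2,nat_lit 0,nat_lit 0,nat_lit 2,nat_lit 0,nat_lit 2,nat_lit 0,nat_lit 0,nat_lit 2,nat_lit 1,nat_lit 1,nat_lit 2,nat_lit 0,nat_lit 2,nat_lit 4,nat_lit 2,nat_lit 4,nat_lit 2,nat_lit 3,nat_lit 4,nat_lit 1])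
) (.node (.leaf [nat_lit 45,nat_lit 32,nat_lit 0,nat_lit 2,nat_lit 4,nat_lit 0,nat_lit 0,nat_lit 0,nat_lit 2,nat_lit 0,nat_lit 0,nat_lit 0,nat_lit 2,nat_lit 0,nat_lit 0,nat_lit 2,nat_lit 1,nat_lit 1,nat_lit 2,nat_lit 1,nat_lit 2,nat_lit 0,nat_lit 0,nat_lit 3,nat_lit 2,nat_lit 1,nat_lit 3,nat_lit 0,nat_lit 0,nat_lit 0,nat_lit 2,nat_lit 0,nat_lit 4,nat_lit 2,nat_lit 4,nat_lit 1,nat_lit 4])
 (.leaf [nat_lit 12,nat_lit 1,nat_lit 0,nat_lit 1,nat_lit 3,nat_lit 0,nat_lit 2,nat_lit 0,nat_lit 2,nat_lit 0,nat_lit 2,nat_lit 0,nat_lit 0,nat_lit 3,nat_lit 0,nat_lit 2,nat_lit 0,nat_lit 2,nat_lit 0,nat_lit 2,nat_lit 0])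
)) (.node (.node (.leaf [nat_lit 34,nat_lit 22,nat_lit 1,nat_lit 1,nat_lit 4,nat_lit 1,nat_lit 2,nat_lit 1,nat_lit 2,nat_lit 1,nat_lit 1,nat_lit 1,nat_lit 2,nat_lit 4,nat_lit 1,nat_lit 1,nat_lit 1,nat_lit 2,nat_lit 1,nat_lit 2,nat_lit 0,nat_lit 0,nat_lit 2,nat_lit 1,nat_lit 1,nat_lit 1,nat_lit 2,nat_lit 1,nat_lit 3,nat_lit 2,nat_lit 0,nat_lit 0,nat_lit 0,nat_lit 2])
 (.leaf [nat_lit 38,nat_lit 13,nat_lit 1,nat_lit 3,nat_lit 2,nat_lit 4,nat_lit 2,nat_lit 4,nat_lit 2,nat_lit 1,nat_lit 2,nat_lit 0,nat_lit 0,nat_lit 2,nat_lit 1,nat_lit 1,nat_lit 2,nat_lit 1,nat_lit 2,nat_lit 1,nat_lit 1,nat_lit 2,nat_lit 1,nat_lit 3,nat_lit 0,nat_lit 3,nat_lit 1,nat_lit 3,nat_lit 0,nat_lit 4,nat_lit 3,nat_lit 2,nat_lit 0,nat_lit 4])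
) (.node (.leaf [nat_lit 27,nat_lit 20,nat_lit 1,nat_lit 3,nat_lit 1,nat_lit 4,nat_lit 1,nat_lit 1,nat_lit 1,nat_lit 2,nat_lit 1,nat_lit 3,nat_lit 1,nat_lit 3,nat_lit 0,nat_lit 3,nat_lit 0,nat_lit 2,nat_lit 0,nat_lit 0,nat_lit 0,nat_lit 4,nat_lit 0,nat_lit 3,nat_lit 1,nat_lit 1,nat_lit 3,nat_lit 0,nat_lit 0])
 (.leaf [nat_lit 33,nat_lit 24,nat_lit 1,nat_lit 0,nat_lit 1,nat_lit 1,nat_lit 2,nat_lit 0,nat_lit 0,nat_lit 2,nat_lit 0,nat_lit 4,nat_lit 2,nat_lit 4,nat_lit 3,nat_lit 2,nat_lit 1,nat_lit 1,nat_lit 1,nat_lit 2,nat_lit 1,nat_lit 4,nat_lit 0,nat_lit 0,nat_lit 3,nat_lit 0,nat_lit 0,nat_lit 2,nat_lit 1,nat_lit 2])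
)))) (.node (.node (.node (.node (.leaf [nat_lit 30,nat_lit 12,nat_lit 1,nat_lit 4,nat_lit 2,nat_lit 0,nat_lit 2,nat_lit 4,nat_lit 2,nat_lit 0,nat_lit 3,nat_lit 2,nat_lit 3,nat_lit 0,nat_lit 2,nat_lit 3,nat_lit 1,nat_lit 1,nat_lit 2,nat_lit 1,nat_lit 1,nat_lit 2,nat_lit 1,nat_lit 2,nat_lit 0,nat_lit 2,nat_lit 0,nat_lit 0,nat_lit 2,nat_lit 4,nat_lit 1,nat_lit 2,nat_lit 3])
 (.leaf [nat_lit 42,nat_lit 12,nat_lit 1,nat_lit 3,nat_lit 1,nat_lit 2,nat_lit 0,nat_lit 3,nat_lit 2,nat_lit 4,nat_lit 0,nat_lit 3,nat_lit 2,nat_lit 1,nat_lit 2,nat_lit 0,nat_lit 2,nat_lit 1,nat_lit 4,nat_lit 1,nat_lit 2,nat_lit 1,nat_lit 1,nat_lit 2,nat_lit 0,nat_lit 2,nat_lit 1,nat_lit 1,nat_lit 2,nat_lit 1,nat_lit 2,nat_lit 3,nat_lit 2,nat_lit 1,nat_lit 2])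
) (.node (.leaf [nat_lit 24,nat_lit 6,nat_lit 1,nat_lit 4,nat_lit 2,nat_lit 4,nat_lit 0,nat_lit 4,nat_lit 0,nat_lit 2,nat_lit 0,nat_lit 2,nat_lit 0,nat_lit 0,nat_lit 0,nat_lit 2,nat_lit 1,nat_lit 1,nat_lit 1,nat_lit 2,nat_lit 1,nat_lit 2,nat_lit 1,nat_lit 4,nat_lit 1])
 (.leaf [nat_lit 17,nat_lit 19,nat_lit 0,nat_lit 3,nat_lit 1,nat_lit 2,nat_lit 0,nat_lit 0,nat_lit 2,nat_lit 0,nat_lit 0,nat_lit 0,nat_lit 2,nat_lit 1,nat_lit 1,nat_lit 2,nat_lit 0,nat_lit 3,nat_lit 2,nat_lit 1,nat_lit 1,nat_lit 2,nat_lit 0,nat_lit 2,nat_lit 1,nat_lit 2,nat_lit 0,nat_lit 2])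
)) (.node (.node (.leaf [nat_lit 18,nat_lit 7,nat_lit 0,nat_lit 1,nat_lit 2,nat_lit 1,nat_lit 1,nat_lit 3,nat_lit 0,nat_lit 3,nat_lit 2,nat_lit 3,nat_lit 1,nat_lit 3,nat_lit 0,nat_lit 2,nat_lit 1,nat_lit 3,nat_lit 2,nat_lit 3,nat_lit 2,nat_lit 0,nat_lit 0,nat_lit 0,nat_lit 2,nat_lit 1,nat_lit 1,nat_lit 2])
 (.leaf [nat_lit 40,nat_lit 15,nat_lit 0,nat_lit 1,nat_lit 3,nat_lit 4,nat_lit 2,nat_lit 0,nat_lit 3,nat_lit 0,nat_lit 0,nat_lit 2,nat_lit 3,nat_lit 2,nat_lit 1,nat_lit 1,nat_lit 2,nat_lit 0,nat_lit 2,nat_lit 0,nat_lit 0,nat_lit 0,nat_lit 2,nat_lit 1,nat_lit 1,nat_lit 2,nat_lit 4,nat_lit 3,nat_lit 1,nat_lit 1,nat_lit 1,nat_lit 4,nat_lit 0,nat_lit 0])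
) (.node (.leaf [nat_lit 44,nat_lit 6,nat_lit 0,nat_lit 1,nat_lit 4,nat_lit 1,nat_lit 1,nat_lit 2,nat_lit 4,nat_lit 1,nat_lit 2,nat_lit 3,nat_lit 1,nat_lit 3,nat_lit 2,nat_lit 1,nat_lit 3,nat_lit 0,nat_lit 2,nat_lit 1,nat_lit 2,nat_lit 1,nat_lit 2,nat_lit 0,nat_lit 0,nat_lit 2,nat_lit 0,nat_lit 2,nat_lit 1,nat_lit 2,nat_lit 0,nat_lit 0,nat_lit 0,nat_lit 4,nat_lit 2,nat_lit 0])
 (.leaf [nat_lit 35,nat_lit 11,nat_lit 0,nat_lit 1,nat_lit 0,nat_lit 0,nat_lit 2,nat_lit 3,nat_lit 2,nat_lit 0,nat_lit 4,nat_lit 0,nat_lit 2,nat_lit 1,nat_lit 2,nat_lit 0,nat_lit 2,nat_lit 1,nat_lit 3,nat_lit 0,nat_lit 2,nat_lit 1,nat_lit 2,nat_lit 0,nat_lit 0,nat_lit 0,nat_lit 2,nat_lit 0,nat_lit 2,nat_lit 0,nat_lit 0,nat_lit 0,nat_lit 4,nat_lit 3])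
))) (.node (.node (.node (.leaf [nat_lit 27,nat_lit 17,nat_lit 1,nat_lit 3,nat_lit 0,nat_lit 0,nat_lit 3,nat_lit 1,nat_lit 4,nat_lit 1,nat_lit 1,nat_lit 1,nat_lit 2,nat_lit 1,nat_lit 3,nat_lit 1,nat_lit 3,nat_lit 0,nat_lit 3,nat_lit 0,nat_lit 2,nat_lit 0,nat_lit 0,nat_lit 0,nat_lit 4,nat_lit 0,nat_lit 3,nat_lit 1,nat_lit 1])
 (.leaf [nat_lit 33,nat_lit 18,nat_lit 0,nat_lit 3,nat_lit 4,nat_lit 2,nat_lit 4,nat_lit 1,nat_lit 2,nat_lit 1,nat_lit 1,nat_lit 2,nat_lit 0,nat_lit 0,nat_lit 0,nat_lit 2,nat_lit 0,nat_lit 2,nat_lit 1,nat_lit 1,nat_lit 3,nat_lit 1,nat_lit 1,nat_lit 4,nat_lit 0,nat_lit 2,nat_lit 0,nat_lit 0,nat_lit 0,nat_lit 2])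
) (.node (.leaf [nat_lit 21,nat_lit 23,nat_lit 0,nat_lit 3,nat_lit 1,nat_lit 2,nat_lit 0,nat_lit 0,nat_lit 2,nat_lit 1,nat_lit 2,nat_lit 1,nat_lit 2,nat_lit 1,nat_lit 2,nat_lit 1,nat_lit 3,nat_lit 0,nat_lit 0,nat_lit 2,nat_lit 1,nat_lit 3,nat_lit 1,nat_lit 1,nat_lit 2,nat_lit 0,nat_lit 0,nat_lit 2,nat_lit 1])
 (.leaf [nat_lit 36,nat_lit 21,nat_lit 1,nat_lit 0,nat_lit 2,nat_lit 3,nat_lit 1,nat_lit 4,nat_lit 1,nat_lit 2,nat_lit 1,nat_lit 1,nat_lit 1,nat_lit 3,nat_lit 2,nat_lit 0,nat_lit 4,nat_lit 2,nat_lit 1,nat_lit 2,nat_lit 0,nat_lit 2,nat_lit 1,nat_lit 1,nat_lit 1,nat_lit 2,nat_lit 0,nat_lit 0,nat_lit 0,nat_lit 2,nat_lit 3,nat_lit 0,nat_lit 2,nat_lit 3])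
)) (.node (.node (.leaf [nat_lit 47,nat_lit 23,nat_lit 0,nat_lit 0,nat_lit 1,nat_lit 2,nat_lit 0,nat_lit 0,nat_lit 2,nat_lit 1,nat_lit 2,nat_lit 0,nat_lit 2,nat_lit 1,nat_lit 2,nat_lit 0,nat_lit 0,nat_lit 0,nat_lit 2,nat_lit 0,nat_lit 3,nat_lit 2,nat_lit 3,nat_lit 1,nat_lit 2,nat_lit 0,nat_lit 3,nat_lit 1,nat_lit 1,nat_lit 3,nat_lit 4,nat_lit 1,nat_lit 1,nat_lit 2,nat_lit 0,nat_lit 0,nat_lit 2,nat_lit 4])
 (.leaf [nat_lit 31,nat_lit 12,nat_lit 0,nat_lit 4,nat_lit 3,nat_lit 2,nat_lit 3,nat_lit 0,nat_lit 4,nat_lit 1,nat_lit 2,nat_lit 1,nat_lit 1,nat_lit 2,nat_lit 0,nat_lit 2,nat_lit 0,nat_lit 0,nat_lit 2,nat_lit 0,nat_lit 2,nat_lit 0,nat_lit 0,nat_lit 0,nat_lit 3,nat_lit 1,nat_lit 2,nat_lit 3,nat_lit 2,nat_lit 4,nat_lit 0,nat_lit 4,nat_lit 1])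
) (.node (.leaf [nat_lit 36,nat_lit 23,nat_lit 0,nat_lit 0,nat_lit 2,nat_lit 0,nat_lit 2,nat_lit 4,nat_lit 1,nat_lit 2,nat_lit 3,nat_lit 0,nat_lit 0,nat_lit 0,nat_lit 2,nat_lit 0,nat_lit 4,nat_lit 0,nat_lit 3,nat_lit 2,nat_lit 0,nat_lit 3,nat_lit 2,nat_lit 1,nat_lit 3,nat_lit 2,nat_lit 1,nat_lit 1,nat_lit 1,nat_lit 2,nat_lit 0,nat_lit 0,nat_lit 0,nat_lit 2])
 (.leaf [nat_lit 4,nat_lit 13,nat_lit 0,nat_lit 2,nat_lit 0,nat_lit 2,nat_lit 0,nat_lit 2,nat_lit 0,nat_lit 2,nat_lit 0,nat_lit 2,nat_lit 0,nat_lit 2,nat_lit 0,nat_lit 2,nat_lit 0,nat_lit 2,nat_lit 0])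
)))))) (.node (.node (.node (.node (.node (.node (.leaf [nat_lit 45,nat_lit 3,nat_lit 1,nat_lit 1,nat_lit 4,nat_lit 2,nat_lit 4,nat_lit 1,nat_lit 2,nat_lit 1,nat_lit 1,nat_lit 1,nat_lit 3,nat_lit 0,nat_lit 2,nat_lit 3,nat_lit 1,nat_lit 1,nat_lit 2,nat_lit 0,nat_lit 2,nat_lit 0,nat_lit 0,nat_lit 2,nat_lit 1,nat_lit 1,nat_lit 2,nat_lit 1,nat_lit 1,nat_lit 1,nat_lit 2,nat_lit 1,nat_lit 1,nat_lit 1,nat_lit 4,nat_lit 2,nat_lit 4])
 (.leaf [nat_lit 38,nat_lit 11,nat_lit 1,nat_lit 1,nat_lit 4,nat_lit 3,nat_lit 2,nat_lit 4,nat_lit 2,nat_lit 4,nat_lit 2,nat_lit 1,nat_lit 2,nat_lit 0,nat_lit 0,nat_lit 2,nat_lit 1,nat_lit 1,nat_lit 2,nat_lit 1,nat_lit 2,nat_lit 1,nat_lit 1,nat_lit 2,nat_lit 1,nat_lit 3,nat_lit 0,nat_lit 3,nat_lit 1,nat_lit 3,nat_lit 0,nat_lit 4,nat_lit 3,nat_lit 2])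
) (.node (.leaf [nat_lit 28,nat_lit 5,nat_lit 0,nat_lit 3,nat_lit 0,nat_lit 3,nat_lit 0,nat_lit 4,nat_lit 3,nat_lit 4,nat_lit 3,nat_lit 4,nat_lit 0,nat_lit 3,nat_lit 0,nat_lit 3,nat_lit 0])
 (.leaf [nat_lit 42,nat_lit 5,nat_lit 0,nat_lit 1,nat_lit 2,nat_lit 1,nat_lit 2,nat_lit 0,nat_lit 2,nat_lit 3,nat_lit 1,nat_lit 4,nat_lit 2,nat_lit 3,nat_lit 1,nat_lit 2,nat_lit 0,nat_lit 3,nat_lit 2,nat_lit 0,nat_lit 2,nat_lit 3,nat_lit 2,nat_lit 0,nat_lit 2,nat_lit 0,nat_lit 0,nat_lit 2,nat_lit 1,nat_lit 2,nat_lit 0,nat_lit 0,nat_lit 2,nat_lit 0,nat_lit 4])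
)) (.node (.node (.leaf [nat_lit 33,nat_lit 5,nat_lit 1,nat_lit 4,nat_lit 2,nat_lit 4,nat_lit 3,nat_lit 2,nat_lit 1,nat_lit 1,nat_lit 1,nat_lit 2,nat_lit 1,nat_lit 4,nat_lit 0,nat_lit 0,nat_lit 3,nat_lit 0,nat_lit 0,nat_lit 2,nat_lit 1,nat_lit 2,nat_lit 1,nat_lit 1,nat_lit 1,nat_lit 2,nat_lit 0,nat_lit 0,nat_lit 2,nat_lit 0])
 (.leaf [nat_lit 31,nat_lit 18,nat_lit 1,nat_lit 1,nat_lit 4,nat_lit 1,nat_lit 4,nat_lit 2,nat_lit 3,nat_lit 2,nat_lit 0,nat_lit 3,nat_lit 1,nat_lit 1,nat_lit 1,nat_lit 2,nat_lit 1,nat_lit 2,nat_lit 1,nat_lit 1,nat_lit 2,nat_lit 1,nat_lit 2,nat_lit 0,nat_lit 0,nat_lit 2,nat_lit 0,nat_lit 4,nat_lit 1,nat_lit 3,nat_lit 2,nat_lit 3,nat_lit 4])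
) (.node (.leaf [nat_lit 39,nat_lit 17,nat_lit 0,nat_lit 4,nat_lit 1,nat_lit 1,nat_lit 1,nat_lit 2,nat_lit 3,nat_lit 2,nat_lit 0,nat_lit 0,nat_lit 0,nat_lit 4,nat_lit 1,nat_lit 1,nat_lit 2,nat_lit 0,nat_lit 0,nat_lit 0,nat_lit 2,nat_lit 1,nat_lit 2,nat_lit 0,nat_lit 0,nat_lit 0,nat_lit 2,nat_lit 3,nat_lit 1,nat_lit 3,nat_lit 2,nat_lit 1,nat_lit 3,nat_lit 2])
 (.leaf [nat_lit 37,nat_lit 13,nat_lit 0,nat_lit 1,nat_lit 4,nat_lit 1,nat_lit 2,nat_lit 3,nat_lit 0,nat_lit 3,nat_lit 2,nat_lit 3,nat_lit 1,nat_lit 2,nat_lit 0,nat_lit 2,nat_lit 0,nat_lit 2,nat_lit 0,nat_lit 2,nat_lit 0,nat_lit 0,nat_lit 2,nat_lit 0,nat_lit 4,nat_lit 2,nat_lit 0,nat_lit 2,nat_lit 0,nat_lit 2,nat_lit 0,nat_lit 0,nat_lit 3])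
))) (.node (.node (.node (.leaf [nat_lit 40,nat_lit 7,nat_lit 0,nat_lit 4,nat_lit 3,nat_lit 1,nat_lit 1,nat_lit 1,nat_lit 4,nat_lit 0,nat_lit 0,nat_lit 0,nat_lit 3,nat_lit 4,nat_lit 2,nat_lit 0,nat_lit 3,nat_lit 0,nat_lit 0,nat_lit 2,nat_lit 3,nat_lit 2,nat_lit 1,nat_lit 1,nat_lit 2,nat_lit 0,nat_lit 2,nat_lit 0,nat_lit 0,nat_lit 0,nat_lit 2,nat_lit 1,nat_lit 1,nat_lit 2])
 (.leaf [nat_lit 29,nat_lit 1,nat_lit 1,nat_lit 2,nat_lit 1,nat_lit 3,nat_lit 0,nat_lit 4,nat_lit 1,nat_lit 3,nat_lit 0,nat_lit 2,nat_lit 4,nat_lit 0,nat_lit 2,nat_lit 0,nat_lit 3,nat_lit 1,nat_lit 2,nat_lit 1,nat_lit 4])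
) (.node (.leaf [nat_lit 12,nat_lit 11,nat_lit 0,nat_lit 3,nat_lit 0,nat_lit 2,nat_lit 0,nat_lit 2,nat_lit 0,nat_lit 2,nat_lit 0,nat_lit 0,nat_lit 3,nat_lit 0,nat_lit 2,nat_lit 0,nat_lit 2,nat_lit 0,nat_lit 2,nat_lit 0,nat_lit 0])
 (.leaf [nat_lit 31,nat_lit 2,nat_lit 0,nat_lit 1,nat_lit 3,nat_lit 1,nat_lit 2,nat_lit 3,nat_lit 2,nat_lit 4,nat_lit 0,nat_lit 4,nat_lit 1,nat_lit 4,nat_lit 3,nat_lit 2,nat_lit 3,nat_lit 0,nat_lit 4,nat_lit 1,nat_lit 2,nat_lit 1,nat_lit 1,nat_lit 2,nat_lit 0,nat_lit 2,nat_lit 0,nat_lit 0,nat_lit 2,nat_lit 0,nat_lit 2,nat_lit 0,nat_lit 0])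
)) (.node (.node (.leaf [nat_lit 44,nat_lit 2,nat_lit 0,nat_lit 1,nat_lit 4,nat_lit 2,nat_lit 0,nat_lit 0,nat_lit 4,nat_lit 1,nat_lit 1,nat_lit 2,nat_lit 4,nat_lit 1,nat_lit 2,nat_lit 3,nat_lit 1,nat_lit 3,nat_lit 2,nat_lit 1,nat_lit 3,nat_lit 0,nat_lit 2,nat_lit 1,nat_lit 2,nat_lit 1,nat_lit 2,nat_lit 0,nat_lit 0,nat_lit 2,nat_lit 0,nat_lit 2,nat_lit 1,nat_lit 2,nat_lit 0,nat_lit 0])
 (.leaf [nat_lit 26,nat_lit 19,nat_lit 1,nat_lit 2,nat_lit 0,nat_lit 2,nat_lit 1,nat_lit 2,nat_lit 1,nat_lit 1,nat_lit 2,nat_lit 1,nat_lit 2,nat_lit 0,nat_lit 2,nat_lit 3,nat_lit 2,nat_lit 3,nat_lit 1,nat_lit 2,nat_lit 0,nat_lit 4,nat_lit 2,nat_lit 3,nat_lit 2,nat_lit 4,nat_lit 0,nat_lit 2,nat_lit 0])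
) (.node (.leaf [nat_lit 36,nat_lit 0,nat_lit 1,nat_lit 3,nat_lit 2,nat_lit 0,nat_lit 4,nat_lit 2,nat_lit 1,nat_lit 2,nat_lit 0,nat_lit 2,nat_lit 1,nat_lit 1,nat_lit 1,nat_lit 2,nat_lit 0,nat_lit 0,nat_lit 0,nat_lit 2,nat_lit 3,nat_lit 0,nat_lit 2,nat_lit 3,nat_lit 1,nat_lit 2,nat_lit 3,nat_lit 1,nat_lit 4,nat_lit 1,nat_lit 2,nat_lit 1,nat_lit 1,nat_lit 1])
 (.leaf [nat_lit 4,nat_lit 14,nat_lit 1,nat_lit 2,nat_lit 1,nat_lit 2,nat_lit 1,nat_lit 2,nat_lit 1,nat_lit 2,nat_lit 1,nat_lit 2,nat_lit 1,nat_lit 2,nat_lit 1,nat_lit 2,nat_lit 1,nat_lit 2,nat_lit 1])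
)))) (.node (.node (.node (.node (.leaf [nat_lit 30,nat_lit 14,nat_lit 1,nat_lit 1,nat_lit 2,nat_lit 4,nat_lit 2,nat_lit 0,nat_lit 3,nat_lit 2,nat_lit 3,nat_lit 0,nat_lit 2,nat_lit 3,nat_lit 1,nat_lit 1,nat_lit 2,nat_lit 1,nat_lit 1,nat_lit 2,nat_lit 1,nat_lit 2,nat_lit 0,nat_lit 2,nat_lit 0,nat_lit 0,nat_lit 2,nat_lit 4,nat_lit 1,nat_lit 2,nat_lit 3,nat_lit 4,nat_lit 2])
 (.leaf [nat_lit 10,nat_lit 0,nat_lit 0,nat_lit 1,nat_lit 0,nat_lit 0,nat_lit 2,nat_lit 1,nat_lit 1,nat_lit 2,nat_lit 0,nat_lit 2,nat_lit 1,nat_lit 3,nat_lit 2,nat_lit 3,nat_lit 2,nat_lit 1,nat_lit 2,nat_lit 3,nat_lit 2])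
) (.node (.leaf [nat_lit 21,nat_lit 12,nat_lit 1,nat_lit 2,nat_lit 1,nat_lit 1,nat_lit 3,nat_lit 0,nat_lit 2,nat_lit 0,nat_lit 2,nat_lit 0,nat_lit 2,nat_lit 0,nat_lit 2,nat_lit 1,nat_lit 1,nat_lit 2,nat_lit 0,nat_lit 3,nat_lit 0,nat_lit 2,nat_lit 1,nat_lit 1,nat_lit 2,nat_lit 0,nat_lit 0,nat_lit 3,nat_lit 0])
 (.leaf [nat_lit 7,nat_lit 20,nat_lit 1,nat_lit 0,nat_lit 1,nat_lit 1,nat_lit 2,nat_lit 0,nat_lit 2,nat_lit 0,nat_lit 2,nat_lit 0,nat_lit 2,nat_lit 1,nat_lit 2,nat_lit 0,nat_lit 2,nat_lit 1,nat_lit 1,nat_lit 1,nat_lit 2,nat_lit 0,nat_lit 2,nat_lit 0,nat_lit 0,nat_lit 2])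
)) (.node (.node (.leaf [nat_lit 38,nat_lit 1,nat_lit 0,nat_lit 1,nat_lit 2,nat_lit 0,nat_lit 2,nat_lit 0,nat_lit 0,nat_lit 2,nat_lit 1,nat_lit 1,nat_lit 2,nat_lit 0,nat_lit 2,nat_lit 4,nat_lit 2,nat_lit 4,nat_lit 2,nat_lit 3,nat_lit 4,nat_lit 1,nat_lit 2,nat_lit 3,nat_lit 4,nat_lit 1,nat_lit 3,nat_lit 0,nat_lit 3,nat_lit 1,nat_lit 3,nat_lit 0,nat_lit 2,nat_lit 0])
 (.leaf [nat_lit 33,nat_lit 19,nat_lit 1,nat_lit 1,nat_lit 0,nat_lit 2,nat_lit 1,nat_lit 2,nat_lit 1,nat_lit 1,nat_lit 1,nat_lit 2,nat_lit 0,nat_lit 0,nat_lit 2,nat_lit 0,nat_lit 4,nat_lit 2,nat_lit 4,nat_lit 3,nat_lit 2,nat_lit 1,nat_lit 1,nat_lit 1,nat_lit 2,nat_lit 1,nat_lit 4,nat_lit 0,nat_lit 0,nat_lit 3])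
) (.node (.leaf [nat_lit 18,nat_lit 21,nat_lit 0,nat_lit 3,nat_lit 2,nat_lit 3,nat_lit 2,nat_lit 0,nat_lit 0,nat_lit 0,nat_lit 2,nat_lit 1,nat_lit 1,nat_lit 2,nat_lit 0,nat_lit 2,nat_lit 1,nat_lit 1,nat_lit 3,nat_lit 0,nat_lit 3,nat_lit 2,nat_lit 3,nat_lit 1,nat_lit 3,nat_lit 0,nat_lit 2,nat_lit 1])
 (.leaf [nat_lit 34,nat_lit 4,nat_lit 0,nat_lit 1,nat_lit 2,nat_lit 0,nat_lit 4,nat_lit 1,nat_lit 2,nat_lit 1,nat_lit 1,nat_lit 1,nat_lit 2,nat_lit 3,nat_lit 0,nat_lit 2,nat_lit 0,nat_lit 0,nat_lit 0,nat_lit 2,nat_lit 1,nat_lit 1,nat_lit 2,nat_lit 0,nat_lit 2,nat_lit 0,nat_lit 0,nat_lit 0,nat_lit 4,nat_lit 2,nat_lit 0,nat_lit 0,nat_lit 0,nat_lit 2])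
))) (.node (.node (.node (.leaf [nat_lit 4,nat_lit 5,nat_lit 1,nat_lit 0,nat_lit 2,nat_lit 1,nat_lit 2,nat_lit 1,nat_lit 2,nat_lit 1,nat_lit 2,nat_lit 1,nat_lit 2,nat_lit 1,nat_lit 2,nat_lit 1,nat_lit 2,nat_lit 1,nat_lit 2])
 (.leaf [nat_lit 43,nat_lit 17,nat_lit 1,nat_lit 0,nat_lit 2,nat_lit 0,nat_lit 4,nat_lit 0,nat_lit 2,nat_lit 0,nat_lit 0,nat_lit 2,nat_lit 1,nat_lit 1,nat_lit 2,nat_lit 1,nat_lit 2,nat_lit 1,nat_lit 1,nat_lit 2,nat_lit 0,nat_lit 2,nat_lit 3,nat_lit 0,nat_lit 2,nat_lit 0,nat_lit 2,nat_lit 1,nat_lit 1,nat_lit 3,nat_lit 1,nat_lit 4,nat_lit 1,nat_lit 3,nat_lit 2,nat_lit 1])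
) (.node (.leaf [nat_lit 38,nat_lit 14,nat_lit 0,nat_lit 2,nat_lit 4,nat_lit 2,nat_lit 3,nat_lit 4,nat_lit 1,nat_lit 2,nat_lit 3,nat_lit 4,nat_lit 1,nat_lit 3,nat_lit 0,nat_lit 3,nat_lit 1,nat_lit 3,nat_lit 0,nat_lit 2,nat_lit 0,nat_lit 0,nat_lit 2,nat_lit 0,nat_lit 2,nat_lit 0,nat_lit 0,nat_lit 2,nat_lit 1,nat_lit 1,nat_lit 2,nat_lit 0,nat_lit 2,nat_lit 4])
 (.leaf [nat_lit 27,nat_lit 10,nat_lit 1,nat_lit 1,nat_lit 0,nat_lit 4,nat_lit 0,nat_lit 3,nat_lit 1,nat_lit 1,nat_lit 3,nat_lit 0,nat_lit 0,nat_lit 3,nat_lit 1,nat_lit 4,nat_lit 1,nat_lit 1,nat_lit 1,nat_lit 2,nat_lit 1,nat_lit 3,nat_lit 1,nat_lit 3,nat_lit 0,nat_lit 3,nat_lit 0,nat_lit 2,nat_lit 0])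
)) (.node (.node (.leaf [nat_lit 31,nat_lit 11,nat_lit 0,nat_lit 0,nat_lit 4,nat_lit 3,nat_lit 2,nat_lit 3,nat_lit 0,nat_lit 4,nat_lit 1,nat_lit 2,nat_lit 1,nat_lit 1,nat_lit 2,nat_lit 0,nat_lit 2,nat_lit 0,nat_lit 0,nat_lit 2,nat_lit 0,nat_lit 2,nat_lit 0,nat_lit 0,nat_lit 0,nat_lit 3,nat_lit 1,nat_lit 2,nat_lit 3,nat_lit 2,nat_lit 4,nat_lit 0,nat_lit 4])
 (.leaf [nat_lit 37,nat_lit 22,nat_lit 1,nat_lit 2,nat_lit 1,nat_lit 2,nat_lit 4,nat_lit 1,nat_lit 2,nat_lit 1,nat_lit 1,nat_lit 2,nat_lit 1,nat_lit 2,nat_lit 1,nat_lit 2,nat_lit 1,nat_lit 2,nat_lit 0,nat_lit 3,nat_lit 2,nat_lit 3,nat_lit 1,nat_lit 3,nat_lit 2,nat_lit 0,nat_lit 4,nat_lit 1,nat_lit 3,nat_lit 1,nat_lit 1,nat_lit 2,nat_lit 1])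
) (.node (.leaf [nat_lit 16,nat_lit 2,nat_lit 1,nat_lit 2,nat_lit 1,nat_lit 2,nat_lit 1,nat_lit 3,nat_lit 0,nat_lit 2,nat_lit 3,nat_lit 1,nat_lit 1,nat_lit 2,nat_lit 0,nat_lit 3,nat_lit 1,nat_lit 2,nat_lit 0,nat_lit 0,nat_lit 3,nat_lit 2,nat_lit 1,nat_lit 1,nat_lit 1,nat_lit 2,nat_lit 1])
 (.leaf [nat_lit 26,nat_lit 10,nat_lit 1,nat_lit 1,nat_lit 4,nat_lit 2,nat_lit 3,nat_lit 2,nat_lit 4,nat_lit 0,nat_lit 2,nat_lit 0,nat_lit 2,nat_lit 0,nat_lit 2,nat_lit 1,nat_lit 2,nat_lit 1,nat_lit 1,nat_lit 2,nat_lit 1,nat_lit 2,nat_lit 0,nat_lit 2,nat_lit 3,nat_lit 2,nat_lit 3,nat_lit 1,nat_lit 2])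
))))) (.node (.node (.node (.node (.node (.leaf [nat_lit 2,nat_lit 5,nat_lit 0,nat_lit 1,nat_lit 0,nat_lit 0,nat_lit 0,nat_lit 0,nat_lit 0,nat_lit 0])
 (.leaf [nat_lit 42,nat_lit 27,nat_lit 1,nat_lit 4,nat_lit 1,nat_lit 2,nat_lit 1,nat_lit 1,nat_lit 2,nat_lit 0,nat_lit 2,nat_lit 1,nat_lit 1,nat_lit 2,nat_lit 1,nat_lit 2,nat_lit 3,nat_lit 2,nat_lit 1,nat_lit 2,nat_lit 3,nat_lit 1,nat_lit 2,nat_lit 0,nat_lit 3,nat_lit 2,nat_lit 4,nat_lit 0,nat_lit 3,nat_lit 2,nat_lit 1,nat_lit 2,nat_lit 0,nat_lit 2,nat_lit 1])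
) (.node (.leaf [nat_lit 18,nat_lit 10,nat_lit 1,nat_lit 2,nat_lit 3,nat_lit 1,nat_lit 3,nat_lit 0,nat_lit 0,nat_lit 2,nat_lit 1,nat_lit 2,nat_lit 0,nat_lit 0,nat_lit 2,nat_lit 1,nat_lit 1,nat_lit 1,nat_lit 2,nat_lit 3,nat_lit 2,nat_lit 3,nat_lit 0,nat_lit 2,nat_lit 1,nat_lit 3,nat_lit 0,nat_lit 3])
 (.leaf [nat_lit 45,nat_lit 28,nat_lit 0,nat_lit 2,nat_lit 4,nat_lit 1,nat_lit 4,nat_lit 2,nat_lit 4,nat_lit 0,nat_lit 0,nat_lit 0,nat_lit 2,nat_lit 0,nat_lit 0,nat_lit 0,nat_lit 2,nat_lit 0,nat_lit 0,nat_lit 2,nat_lit 1,nat_lit 1,nat_lit 2,nat_lit 1,nat_lit 2,nat_lit 0,nat_lit 0,nat_lit 3,nat_lit 2,nat_lit 1,nat_lit 3,nat_lit 0,nat_lit 0,nat_lit 0,nat_lit 2,nat_lit 0,nat_lit 4])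
)) (.node (.node (.leaf [nat_lit 39,nat_lit 8,nat_lit 1,nat_lit 3,nat_lit 2,nat_lit 0,nat_lit 0,nat_lit 0,nat_lit 4,nat_lit 2,nat_lit 3,nat_lit 0,nat_lit 2,nat_lit 3,nat_lit 0,nat_lit 3,nat_lit 2,nat_lit 1,nat_lit 1,nat_lit 1,nat_lit 2,nat_lit 0,nat_lit 2,nat_lit 1,nat_lit 1,nat_lit 1,nat_lit 2,nat_lit 0,nat_lit 0,nat_lit 4,nat_lit 1,nat_lit 1,nat_lit 1,nat_lit 2])
 (.leaf [nat_lit 10,nat_lit 3,nat_lit 1,nat_lit 1,nat_lit 2,nat_lit 3,nat_lit 2,nat_lit 3,nat_lit 0,nat_lit 2,nat_lit 1,nat_lit 2,nat_lit 0,nat_lit 0,nat_lit 2,nat_lit 1,nat_lit 1,nat_lit 1,nat_lit 2,nat_lit 3,nat_lit 2])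
) (.node (.leaf [nat_lit 25,nat_lit 12,nat_lit 1,nat_lit 2,nat_lit 0,nat_lit 3,nat_lit 1,nat_lit 2,nat_lit 4,nat_lit 0,nat_lit 0,nat_lit 2,nat_lit 1,nat_lit 1,nat_lit 1,nat_lit 2,nat_lit 1,nat_lit 2,nat_lit 1,nat_lit 2,nat_lit 1,nat_lit 3,nat_lit 0,nat_lit 2,nat_lit 1,nat_lit 1,nat_lit 4])
 (.leaf [nat_lit 36,nat_lit 23,nat_lit 1,nat_lit 3,nat_lit 1,nat_lit 4,nat_lit 1,nat_lit 2,nat_lit 1,nat_lit 1,nat_lit 1,nat_lit 3,nat_lit 2,nat_lit 0,nat_lit 4,nat_lit 2,nat_lit 1,nat_lit 2,nat_lit 0,nat_lit 2,nat_lit 1,nat_lit 1,nat_lit 1,nat_lit 2,nat_lit 0,nat_lit 0,nat_lit 0,nat_lit 2,nat_lit 3,nat_lit 0,nat_lit 2,nat_lit 3,nat_lit 1,nat_lit 2])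
))) (.node (.node (.node (.leaf [nat_lit 13,nat_lit 2,nat_lit 1,nat_lit 3,nat_lit 0,nat_lit 3,nat_lit 0,nat_lit 2,nat_lit 1,nat_lit 3,nat_lit 1,nat_lit 3,nat_lit 2,nat_lit 1,nat_lit 2,nat_lit 0,nat_lit 0,nat_lit 2,nat_lit 1,nat_lit 1,nat_lit 2,nat_lit 0])
 (.leaf [nat_lit 31,nat_lit 9,nat_lit 0,nat_lit 1,nat_lit 4,nat_lit 1,nat_lit 4,nat_lit 3,nat_lit 2,nat_lit 3,nat_lit 0,nat_lit 4,nat_lit 1,nat_lit 2,nat_lit 1,nat_lit 1,nat_lit 2,nat_lit 0,nat_lit 2,nat_lit 0,nat_lit 0,nat_lit 2,nat_lit 0,nat_lit 2,nat_lit 0,nat_lit 0,nat_lit 0,nat_lit 3,nat_lit 1,nat_lit 2,nat_lit 3,nat_lit 2,nat_lit 4])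
) (.node (.leaf [nat_lit 40,nat_lit 12,nat_lit 0,nat_lit 4,nat_lit 0,nat_lit 0,nat_lit 0,nat_lit 3,nat_lit 4,nat_lit 2,nat_lit 0,nat_lit 3,nat_lit 0,nat_lit 0,nat_lit 2,nat_lit 3,nat_lit 2,nat_lit 1,nat_lit 1,nat_lit 2,nat_lit 0,nat_lit 2,nat_lit 0,nat_lit 0,nat_lit 0,nat_lit 2,nat_lit 1,nat_lit 1,nat_lit 2,nat_lit 4,nat_lit 3,nat_lit 1,nat_lit 1,nat_lit 1])
 (.leaf [nat_lit 45,nat_lit 29,nat_lit 0,nat_lit 4,nat_lit 1,nat_lit 4,nat_lit 2,nat_lit 4,nat_lit 0,nat_lit 0,nat_lit 0,nat_lit 2,nat_lit 0,nat_lit 0,nat_lit 0,nat_lit 2,nat_lit 0,nat_lit 0,nat_lit 2,nat_lit 1,nat_lit 1,nat_lit 2,nat_lit 1,nat_lit 2,nat_lit 0,nat_lit 0,nat_lit 3,nat_lit 2,nat_lit 1,nat_lit 3,nat_lit 0,nat_lit 0,nat_lit 0,nat_lit 2,nat_lit 0,nat_lit 4,nat_lit 2])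
)) (.node (.node (.leaf [nat_lit 31,nat_lit 10,nat_lit 0,nat_lit 4,nat_lit 1,nat_lit 4,nat_lit 3,nat_lit 2,nat_lit 3,nat_lit 0,nat_lit 4,nat_lit 1,nat_lit 2,nat_lit 1,nat_lit 1,nat_lit 2,nat_lit 0,nat_lit 2,nat_lit 0,nat_lit 0,nat_lit 2,nat_lit 0,nat_lit 2,nat_lit 0,nat_lit 0,nat_lit 0,nat_lit 3,nat_lit 1,nat_lit 2,nat_lit 3,nat_lit 2,nat_lit 4,nat_lit 0])
 (.leaf [nat_lit 37,nat_lit 21,nat_lit 1,nat_lit 0,nat_lit 2,nat_lit 1,nat_lit 2,nat_lit 4,nat_lit 1,nat_lit 2,nat_lit 1,nat_lit 1,nat_lit 2,nat_lit 1,nat_lit 2,nat_lit 1,nat_lit 2,nat_lit 1,nat_lit 2,nat_lit 0,nat_lit 3,nat_lit 2,nat_lit 3,nat_lit 1,nat_lit 3,nat_lit 2,nat_lit 0,nat_lit 4,nat_lit 1,nat_lit 3,nat_lit 1,nat_lit 1,nat_lit 2])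
) (.node (.leaf [nat_lit 32,nat_lit 12,nat_lit 1,nat_lit 4,nat_lit 3,nat_lit 2,nat_lit 0,nat_lit 3,nat_lit 1,nat_lit 2,nat_lit 3,nat_lit 4,nat_lit 2,nat_lit 0,nat_lit 0,nat_lit 0,nat_lit 2,nat_lit 1,nat_lit 2,nat_lit 1,nat_lit 1,nat_lit 1,nat_lit 2,nat_lit 0,nat_lit 0,nat_lit 2,nat_lit 0,nat_lit 3,nat_lit 2,nat_lit 0,nat_lit 0,nat_lit 0,nat_lit 2,nat_lit 0])
 (.leaf [nat_lit 28,nat_lit 7,nat_lit 0,nat_lit 3,nat_lit 0,nat_lit 4,nat_lit 3,nat_lit 4,nat_lit 3,nat_lit 4,nat_lit 0,nat_lit 3,nat_lit 0,nat_lit 3,nat_lit 0,nat_lit 3,nat_lit 0])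
)))) (.node (.node (.node (.node (.leaf [nat_lit 38,nat_lit 17,nat_lit 0,nat_lit 3,nat_lit 4,nat_lit 1,nat_lit 2,nat_lit 3,nat_lit 4,nat_lit 1,nat_lit 3,nat_lit 0,nat_lit 3,nat_lit 1,nat_lit 3,nat_lit 0,nat_lit 2,nat_lit 0,nat_lit 0,nat_lit 2,nat_lit 0,nat_lit 2,nat_lit 0,nat_lit 0,nat_lit 2,nat_lit 1,nat_lit 1,nat_lit 2,nat_lit 0,nat_lit 2,nat_lit 4,nat_lit 2,nat_lit 4,nat_lit 2])
 (.leaf [nat_lit 37,nat_lit 12,nat_lit 1,nat_lit 3,nat_lit 2,nat_lit 0,nat_lit 4,nat_lit 1,nat_lit 3,nat_lit 1,nat_lit 1,nat_lit 2,nat_lit 1,nat_lit 2,nat_lit 1,nat_lit 2,nat_lit 4,nat_lit 1,nat_lit 2,nat_lit 1,nat_lit 1,nat_lit 2,nat_lit 1,nat_lit 2,nat_lit 1,nat_lit 2,nat_lit 1,nat_lit 2,nat_lit 0,nat_lit 3,nat_lit 2,nat_lit 3,nat_lit 1])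
) (.node (.leaf [nat_lit 40,nat_lit 18,nat_lit 1,nat_lit 4,nat_lit 0,nat_lit 0,nat_lit 0,nat_lit 3,nat_lit 4,nat_lit 2,nat_lit 0,nat_lit 0,nat_lit 2,nat_lit 1,nat_lit 1,nat_lit 1,nat_lit 2,nat_lit 1,nat_lit 2,nat_lit 0,nat_lit 0,nat_lit 2,nat_lit 3,nat_lit 2,nat_lit 1,nat_lit 1,nat_lit 3,nat_lit 1,nat_lit 2,nat_lit 4,nat_lit 3,nat_lit 1,nat_lit 1,nat_lit 1])
 (.leaf [nat_lit 28,nat_lit 3,nat_lit 1,nat_lit 3,nat_lit 4,nat_lit 1,nat_lit 3,nat_lit 1,nat_lit 3,nat_lit 1,nat_lit 3,nat_lit 1,nat_lit 3,nat_lit 1,nat_lit 4,nat_lit 3,nat_lit 4])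
)) (.node (.node (.leaf [nat_lit 34,nat_lit 2,nat_lit 0,nat_lit 1,nat_lit 2,nat_lit 0,nat_lit 2,nat_lit 0,nat_lit 4,nat_lit 1,nat_lit 2,nat_lit 1,nat_lit 1,nat_lit 1,nat_lit 2,nat_lit 3,nat_lit 0,nat_lit 2,nat_lit 0,nat_lit 0,nat_lit 0,nat_lit 2,nat_lit 1,nat_lit 1,nat_lit 2,nat_lit 0,nat_lit 2,nat_lit 0,nat_lit 0,nat_lit 0,nat_lit 4,nat_lit 2,nat_lit 0,nat_lit 0])
 (.leaf [nat_lit 13,nat_lit 9,nat_lit 1,nat_lit 0,nat_lit 3,nat_lit 2,nat_lit 1,nat_lit 2,nat_lit 0,nat_lit 0,nat_lit 2,nat_lit 1,nat_lit 1,nat_lit 2,nat_lit 0,nat_lit 3,nat_lit 0,nat_lit 3,nat_lit 0,nat_lit 2,nat_lit 1,nat_lit 3])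
) (.node (.leaf [nat_lit 20,nat_lit 22,nat_lit 1,nat_lit 3,nat_lit 1,nat_lit 1,nat_lit 1,nat_lit 2,nat_lit 3,nat_lit 2,nat_lit 1,nat_lit 2,nat_lit 1,nat_lit 1,nat_lit 2,nat_lit 1,nat_lit 1,nat_lit 2,nat_lit 1,nat_lit 2,nat_lit 0,nat_lit 0,nat_lit 3,nat_lit 0,nat_lit 3,nat_lit 2,nat_lit 0,nat_lit 0,nat_lit 0])
 (.leaf [nat_lit 45,nat_lit 33,nat_lit 1,nat_lit 0,nat_lit 4,nat_lit 2,nat_lit 4,nat_lit 0,nat_lit 4,nat_lit 2,nat_lit 4,nat_lit 1,nat_lit 2,nat_lit 1,nat_lit 1,nat_lit 1,nat_lit 3,nat_lit 0,nat_lit 2,nat_lit 3,nat_lit 1,nat_lit 1,nat_lit 2,nat_lit 0,nat_lit 2,nat_lit 0,nat_lit 0,nat_lit 2,nat_lit 1,nat_lit 1,nat_lit 2,nat_lit 1,nat_lit 1,nat_lit 1,nat_lit 2,nat_lit 1,nat_lit 1])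
))) (.node (.node (.node (.leaf [nat_lit 39,nat_lit 21,nat_lit 0,nat_lit 2,nat_lit 3,nat_lit 2,nat_lit 0,nat_lit 0,nat_lit 0,nat_lit 4,nat_lit 1,nat_lit 1,nat_lit 2,nat_lit 0,nat_lit 0,nat_lit 0,nat_lit 2,nat_lit 1,nat_lit 2,nat_lit 0,nat_lit 0,nat_lit 0,nat_lit 2,nat_lit 3,nat_lit 1,nat_lit 3,nat_lit 2,nat_lit 1,nat_lit 3,nat_lit 2,nat_lit 4,nat_lit 1,nat_lit 1,nat_lit 1])
 (.leaf [nat_lit 25,nat_lit 15,nat_lit 1,nat_lit 0,nat_lit 2,nat_lit 4,nat_lit 0,nat_lit 0,nat_lit 2,nat_lit 1,nat_lit 1,nat_lit 1,nat_lit 2,nat_lit 1,nat_lit 2,nat_lit 1,nat_lit 2,nat_lit 1,nat_lit 3,nat_lit 0,nat_lit 2,nat_lit 1,nat_lit 1,nat_lit 4,nat_lit 2,nat_lit 0,nat_lit 3])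
) (.node (.leaf [nat_lit 14,nat_lit 16,nat_lit 0,nat_lit 2,nat_lit 0,nat_lit 0,nat_lit 3,nat_lit 1,nat_lit 2,nat_lit 3,nat_lit 0,nat_lit 0,nat_lit 0,nat_lit 2,nat_lit 0,nat_lit 0,nat_lit 0,nat_lit 2,nat_lit 1,nat_lit 3,nat_lit 0,nat_lit 3,nat_lit 2,nat_lit 3,nat_lit 1,nat_lit 1])
 (.leaf [nat_lit 28,nat_lit 6,nat_lit 0,nat_lit 1,nat_lit 3,nat_lit 0,nat_lit 4,nat_lit 3,nat_lit 4,nat_lit 3,nat_lit 4,nat_lit 0,nat_lit 3,nat_lit 0,nat_lit 3,nat_lit 0,nat_lit 3])
)) (.node (.node (.leaf [nat_lit 20,nat_lit 10,nat_lit 0,nat_lit 3,nat_lit 1,nat_lit 1,nat_lit 2,nat_lit 0,nat_lit 2,nat_lit 0,nat_lit 0,nat_lit 2,nat_lit 0,nat_lit 0,nat_lit 2,nat_lit 0,nat_lit 2,nat_lit 3,nat_lit 2,nat_lit 0,nat_lit 0,nat_lit 0,nat_lit 3,nat_lit 1,nat_lit 1,nat_lit 1,nat_lit 2,nat_lit 3,nat_lit 1])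
 (.leaf [nat_lit 30,nat_lit 20,nat_lit 0,nat_lit 1,nat_lit 4,nat_lit 2,nat_lit 1,nat_lit 1,nat_lit 2,nat_lit 1,nat_lit 2,nat_lit 0,nat_lit 2,nat_lit 0,nat_lit 0,nat_lit 2,nat_lit 0,nat_lit 0,nat_lit 3,nat_lit 2,nat_lit 1,nat_lit 3,nat_lit 2,nat_lit 3,nat_lit 1,nat_lit 2,nat_lit 4,nat_lit 2,nat_lit 1,nat_lit 2,nat_lit 4,nat_lit 3,nat_lit 2])
) (.node (.leaf [nat_lit 7,nat_lit 6,nat_lit 1,nat_lit 2,nat_lit 1,nat_lit 2,nat_lit 0,nat_lit 2,nat_lit 1,nat_lit 1,nat_lit 1,nat_lit 2,nat_lit 0,nat_lit 2,nat_lit 0,nat_lit 0,nat_lit 2,nat_lit 1,nat_lit 1,nat_lit 1,nat_lit 2,nat_lit 0,nat_lit 2,nat_lit 0,nat_lit 2,nat_lit 0])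
 (.leaf [nat_lit 24,nat_lit 10,nat_lit 1,nat_lit 4,nat_lit 0,nat_lit 2,nat_lit 0,nat_lit 2,nat_lit 0,nat_lit 0,nat_lit 0,nat_lit 2,nat_lit 1,nat_lit 1,nat_lit 1,nat_lit 2,nat_lit 1,nat_lit 2,nat_lit 1,nat_lit 4,nat_lit 1,nat_lit 4,nat_lit 2,nat_lit 4,nat_lit 0])
))))))) (.node (.node (.node (.node (.node (.node (.node (.leaf [nat_lit 24,nat_lit 7,nat_lit 1,nat_lit 2,nat_lit 4,nat_lit 0,nat_lit 4,nat_lit 0,nat_lit 2,nat_lit 0,nat_lit 2,nat_lit 0,nat_lit 0,nat_lit 0,nat_lit 2,nat_lit 1,nat_lit 1,nat_lit 1,nat_lit 2,nat_lit 1,nat_lit 2,nat_lit 1,nat_lit 4,nat_lit 1,nat_lit 4])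
 (.leaf [nat_lit 42,nat_lit 8,nat_lit 0,nat_lit 2,nat_lit 0,nat_lit 2,nat_lit 3,nat_lit 1,nat_lit 4,nat_lit 2,nat_lit 3,nat_lit 1,nat_lit 2,nat_lit 0,nat_lit 3,nat_lit 2,nat_lit 0,nat_lit 2,nat_lit 3,nat_lit 2,nat_lit 0,nat_lit 2,nat_lit 0,nat_lit 0,nat_lit 2,nat_lit 1,nat_lit 2,nat_lit 0,nat_lit 0,nat_lit 2,nat_lit 0,nat_lit 4,nat_lit 0,nat_lit 2,nat_lit 1])
) (.node (.leaf [nat_lit 45,nat_lit 4,nat_lit 1,nat_lit 4,nat_lit 2,nat_lit 4,nat_lit 1,nat_lit 2,nat_lit 1,nat_lit 1,nat_lit 1,nat_lit 3,nat_lit 0,nat_lit 2,nat_lit 3,nat_lit 1,nat_lit 1,nat_lit 2,nat_lit 0,nat_lit 2,nat_lit 0,nat_lit 0,nat_lit 2,nat_lit 1,nat_lit 1,nat_lit 2,nat_lit 1,nat_lit 1,nat_lit 1,nat_lit 2,nat_lit 1,nat_lit 1,nat_lit 1,nat_lit 4,nat_lit 2,nat_lit 4,nat_lit 0])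
 (.leaf [nat_lit 10,nat_lit 1,nat_lit 0,nat_lit 1,nat_lit 0,nat_lit 2,nat_lit 1,nat_lit 1,nat_lit 2,nat_lit 0,nat_lit 2,nat_lit 1,nat_lit 3,nat_lit 2,nat_lit 3,nat_lit 2,nat_lit 1,nat_lit 2,nat_lit 3,nat_lit 2,nat_lit 0])
)) (.node (.node (.leaf [nat_lit 44,nat_lit 23,nat_lit 1,nat_lit 1,nat_lit 0,nat_lit 4,nat_lit 1,nat_lit 1,nat_lit 2,nat_lit 4,nat_lit 1,nat_lit 1,nat_lit 1,nat_lit 2,nat_lit 0,nat_lit 2,nat_lit 1,nat_lit 2,nat_lit 1,nat_lit 1,nat_lit 2,nat_lit 0,nat_lit 2,nat_lit 0,nat_lit 2,nat_lit 1,nat_lit 3,nat_lit 0,nat_lit 2,nat_lit 3,nat_lit 0,nat_lit 3,nat_lit 2,nat_lit 0,nat_lit 4,nat_lit 2])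
 (.leaf [nat_lit 38,nat_lit 10,nat_lit 1,nat_lit 2,nat_lit 0,nat_lit 4,nat_lit 3,nat_lit 2,nat_lit 4,nat_lit 2,nat_lit 4,nat_lit 2,nat_lit 1,nat_lit 2,nat_lit 0,nat_lit 0,nat_lit 2,nat_lit 1,nat_lit 1,nat_lit 2,nat_lit 1,nat_lit 2,nat_lit 1,nat_lit 1,nat_lit 2,nat_lit 1,nat_lit 3,nat_lit 0,nat_lit 3,nat_lit 1,nat_lit 3,nat_lit 0,nat_lit 4,nat_lit 3])
) (.node (.leaf [nat_lit 18,nat_lit 4,nat_lit 1,nat_lit 1,nat_lit 2,nat_lit 1,nat_lit 3,nat_lit 0,nat_lit 3,nat_lit 2,nat_lit 3,nat_lit 1,nat_lit 3,nat_lit 0,nat_lit 0,nat_lit 2,nat_lit 1,nat_lit 2,nat_lit 0,nat_lit 0,nat_lit 2,nat_lit 1,nat_lit 1,nat_lit 1,nat_lit 2,nat_lit 3,nat_lit 2,nat_lit 3])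
 (.leaf [nat_lit 17,nat_lit 8,nat_lit 0,nat_lit 3,nat_lit 2,nat_lit 1,nat_lit 1,nat_lit 2,nat_lit 0,nat_lit 2,nat_lit 1,nat_lit 2,nat_lit 0,nat_lit 2,nat_lit 3,nat_lit 1,nat_lit 2,nat_lit 0,nat_lit 0,nat_lit 2,nat_lit 0,nat_lit 0,nat_lit 0,nat_lit 2,nat_lit 1,nat_lit 1,nat_lit 2,nat_lit 0])
))) (.node (.node (.node (.leaf [nat_lit 32,nat_lit 16,nat_lit 1,nat_lit 3,nat_lit 1,nat_lit 2,nat_lit 3,nat_lit 4,nat_lit 2,nat_lit 0,nat_lit 0,nat_lit 0,nat_lit 2,nat_lit 1,nat_lit 2,nat_lit 1,nat_lit 1,nat_lit 1,nat_lit 2,nat_lit 0,nat_lit 0,nat_lit 2,nat_lit 0,nat_lit 3,nat_lit 2,nat_lit 0,nat_lit 0,nat_lit 0,nat_lit 2,nat_lit 0,nat_lit 4,nat_lit 3,nat_lit 2,nat_lit 0])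
 (.leaf [nat_lit 40,nat_lit 10,nat_lit 0,nat_lit 0,nat_lit 1,nat_lit 4,nat_lit 0,nat_lit 0,nat_lit 0,nat_lit 3,nat_lit 4,nat_lit 2,nat_lit 0,nat_lit 3,nat_lit 0,nat_lit 0,nat_lit 2,nat_lit 3,nat_lit 2,nat_lit 1,nat_lit 1,nat_lit 2,nat_lit 0,nat_lit 2,nat_lit 0,nat_lit 0,nat_lit 0,nat_lit 2,nat_lit 1,nat_lit 1,nat_lit 2,nat_lit 4,nat_lit 3,nat_lit 1])
) (.node (.leaf [nat_lit 28,nat_lit 10,nat_lit 0,nat_lit 3,nat_lit 4,nat_lit 3,nat_lit 4,nat_lit 0,nat_lit 3,nat_lit 0,nat_lit 3,nat_lit 0,nat_lit 3,nat_lit 0,nat_lit 3,nat_lit 0,nat_lit 4])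
 (.leaf [nat_lit 25,nat_lit 1,nat_lit 1,nat_lit 0,nat_lit 2,nat_lit 1,nat_lit 2,nat_lit 1,nat_lit 3,nat_lit 0,nat_lit 2,nat_lit 1,nat_lit 1,nat_lit 4,nat_lit 2,nat_lit 0,nat_lit 3,nat_lit 1,nat_lit 2,nat_lit 4,nat_lit 0,nat_lit 0,nat_lit 2,nat_lit 1,nat_lit 1,nat_lit 1,nat_lit 2])
)) (.node (.node (.leaf [nat_lit 26,nat_lit 12,nat_lit 0,nat_lit 3,nat_lit 2,nat_lit 4,nat_lit 1,nat_lit 2,nat_lit 0,nat_lit 3,nat_lit 2,nat_lit 3,nat_lit 2,nat_lit 1,nat_lit 2,nat_lit 0,nat_lit 2,nat_lit 0,nat_lit 0,nat_lit 2,nat_lit 0,nat_lit 2,nat_lit 1,nat_lit 2,nat_lit 1,nat_lit 2,nat_lit 1,nat_lit 4,nat_lit 2])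
 (.leaf [nat_lit 41,nat_lit 23,nat_lit 1,nat_lit 1,nat_lit 0,nat_lit 2,nat_lit 0,nat_lit 2,nat_lit 1,nat_lit 1,nat_lit 1,nat_lit 2,nat_lit 1,nat_lit 2,nat_lit 0,nat_lit 4,nat_lit 1,nat_lit 1,nat_lit 2,nat_lit 1,nat_lit 2,nat_lit 3,nat_lit 0,nat_lit 2,nat_lit 1,nat_lit 4,nat_lit 1,nat_lit 1,nat_lit 3,nat_lit 0,nat_lit 2,nat_lit 3,nat_lit 0,nat_lit 2])
) (.node (.leaf [nat_lit 46,nat_lit 19,nat_lit 1,nat_lit 3,nat_lit 0,nat_lit 2,nat_lit 0,nat_lit 4,nat_lit 0,nat_lit 0,nat_lit 2,nat_lit 1,nat_lit 2,nat_lit 1,nat_lit 2,nat_lit 1,nat_lit 1,nat_lit 1,nat_lit 2,nat_lit 0,nat_lit 0,nat_lit 0,nat_lit 2,nat_lit 1,nat_lit 2,nat_lit 3,nat_lit 0,nat_lit 2,nat_lit 1,nat_lit 1,nat_lit 3,nat_lit 0,nat_lit 4,nat_lit 2,nat_lit 1,nat_lit 2,nat_lit 0])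
 (.leaf [nat_lit 38,nat_lit 4,nat_lit 1,nat_lit 3,nat_lit 1,nat_lit 3,nat_lit 0,nat_lit 4,nat_lit 3,nat_lit 2,nat_lit 0,nat_lit 4,nat_lit 3,nat_lit 2,nat_lit 4,nat_lit 2,nat_lit 4,nat_lit 2,nat_lit 1,nat_lit 2,nat_lit 0,nat_lit 0,nat_lit 2,nat_lit 1,nat_lit 1,nat_lit 2,nat_lit 1,nat_lit 2,nat_lit 1,nat_lit 1,nat_lit 2,nat_lit 1,nat_lit 3,nat_lit 0])
)))) (.node (.node (.node (.node (.leaf [nat_lit 13,nat_lit 8,nat_lit 0,nat_lit 3,nat_lit 0,nat_lit 3,nat_lit 0,nat_lit 2,nat_lit 1,nat_lit 3,nat_lit 1,nat_lit 3,nat_lit 1,nat_lit 2,nat_lit 0,nat_lit 0,nat_lit 2,nat_lit 1,nat_lit 1,nat_lit 2,nat_lit 0,nat_lit 2])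
 (.leaf [nat_lit 12,nat_lit 6,nat_lit 0,nat_lit 2,nat_lit 0,nat_lit 2,nat_lit 0,nat_lit 0,nat_lit 3,nat_lit 0,nat_lit 2,nat_lit 0,nat_lit 2,nat_lit 0,nat_lit 2,nat_lit 0,nat_lit 0,nat_lit 3,nat_lit 0,nat_lit 2,nat_lit 0])
) (.node (.leaf [nat_lit 18,nat_lit 16,nat_lit 0,nat_lit 0,nat_lit 3,nat_lit 0,nat_lit 2,nat_lit 1,nat_lit 3,nat_lit 2,nat_lit 3,nat_lit 2,nat_lit 0,nat_lit 0,nat_lit 0,nat_lit 2,nat_lit 1,nat_lit 1,nat_lit 2,nat_lit 0,nat_lit 2,nat_lit 1,nat_lit 1,nat_lit 3,nat_lit 0,nat_lit 3,nat_lit 2,nat_lit 3])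
 (.leaf [nat_lit 35,nat_lit 20,nat_lit 1,nat_lit 3,nat_lit 4,nat_lit 1,nat_lit 1,nat_lit 1,nat_lit 2,nat_lit 1,nat_lit 2,nat_lit 1,nat_lit 1,nat_lit 1,nat_lit 2,nat_lit 0,nat_lit 2,nat_lit 1,nat_lit 3,nat_lit 0,nat_lit 2,nat_lit 1,nat_lit 2,nat_lit 0,nat_lit 2,nat_lit 1,nat_lit 4,nat_lit 1,nat_lit 2,nat_lit 3,nat_lit 2,nat_lit 1,nat_lit 1,nat_lit 1])
)) (.node (.node (.leaf [nat_lit 5,nat_lit 9,nat_lit 1,nat_lit 2,nat_lit 1,nat_lit 1,nat_lit 2,nat_lit 0,nat_lit 0,nat_lit 2,nat_lit 1,nat_lit 1,nat_lit 2,nat_lit 0,nat_lit 0,nat_lit 2,nat_lit 1,nat_lit 1,nat_lit 2,nat_lit 0,nat_lit 0])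
 (.leaf [nat_lit 30,nat_lit 7,nat_lit 0,nat_lit 0,nat_lit 3,nat_lit 2,nat_lit 3,nat_lit 1,nat_lit 2,nat_lit 4,nat_lit 2,nat_lit 1,nat_lit 2,nat_lit 4,nat_lit 3,nat_lit 2,nat_lit 0,nat_lit 4,nat_lit 2,nat_lit 1,nat_lit 1,nat_lit 2,nat_lit 1,nat_lit 2,nat_lit 0,nat_lit 2,nat_lit 0,nat_lit 0,nat_lit 2,nat_lit 0,nat_lit 0,nat_lit 3,nat_lit 2])
) (.node (.leaf [nat_lit 27,nat_lit 4,nat_lit 1,nat_lit 3,nat_lit 0,nat_lit 3,nat_lit 0,nat_lit 2,nat_lit 0,nat_lit 0,nat_lit 0,nat_lit 4,nat_lit 0,nat_lit 3,nat_lit 1,nat_lit 1,nat_lit 3,nat_lit 0,nat_lit 0,nat_lit 3,nat_lit 1,nat_lit 4,nat_lit 1,nat_lit 1,nat_lit 1,nat_lit 2,nat_lit 1,nat_lit 3,nat_lit 1])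
 (.leaf [nat_lit 46,nat_lit 14,nat_lit 0,nat_lit 3,nat_lit 1,nat_lit 2,nat_lit 0,nat_lit 2,nat_lit 4,nat_lit 1,nat_lit 3,nat_lit 0,nat_lit 0,nat_lit 2,nat_lit 1,nat_lit 3,nat_lit 2,nat_lit 0,nat_lit 2,nat_lit 1,nat_lit 1,nat_lit 1,nat_lit 2,nat_lit 0,nat_lit 0,nat_lit 0,nat_lit 2,nat_lit 0,nat_lit 2,nat_lit 0,nat_lit 2,nat_lit 1,nat_lit 1,nat_lit 4,nat_lit 1,nat_lit 2,nat_lit 1])
))) (.node (.node (.node (.leaf [nat_lit 15,nat_lit 0,nat_lit 1,nat_lit 3,nat_lit 0,nat_lit 2,nat_lit 3,nat_lit 2,nat_lit 3,nat_lit 2,nat_lit 1,nat_lit 3,nat_lit 2,nat_lit 3,nat_lit 2,nat_lit 0,nat_lit 2,nat_lit 0,nat_lit 2,nat_lit 1,nat_lit 2,nat_lit 0,nat_lit 0,nat_lit 2,nat_lit 1,nat_lit 1,nat_lit 1])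
 (.leaf [nat_lit 24,nat_lit 9,nat_lit 1,nat_lit 1,nat_lit 4,nat_lit 0,nat_lit 2,nat_lit 0,nat_lit 2,nat_lit 0,nat_lit 0,nat_lit 0,nat_lit 2,nat_lit 1,nat_lit 1,nat_lit 1,nat_lit 2,nat_lit 1,nat_lit 2,nat_lit 1,nat_lit 4,nat_lit 1,nat_lit 4,nat_lit 2,nat_lit 4])
) (.node (.leaf [nat_lit 40,nat_lit 20,nat_lit 1,nat_lit 1,nat_lit 0,nat_lit 3,nat_lit 4,nat_lit 2,nat_lit 0,nat_lit 0,nat_lit 2,nat_lit 1,nat_lit 1,nat_lit 1,nat_lit 2,nat_lit 1,nat_lit 2,nat_lit 0,nat_lit 0,nat_lit 2,nat_lit 3,nat_lit 2,nat_lit 1,nat_lit 1,nat_lit 3,nat_lit 1,nat_lit 2,nat_lit 4,nat_lit 3,nat_lit 1,nat_lit 1,nat_lit 1,nat_lit 4,nat_lit 0])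
 (.leaf [nat_lit 17,nat_lit 8,nat_lit 1,nat_lit 2,nat_lit 0,nat_lit 2,nat_lit 1,nat_lit 2,nat_lit 0,nat_lit 0,nat_lit 2,nat_lit 3,nat_lit 1,nat_lit 2,nat_lit 0,nat_lit 0,nat_lit 2,nat_lit 1,nat_lit 1,nat_lit 1,nat_lit 2,nat_lit 1,nat_lit 1,nat_lit 2,nat_lit 0,nat_lit 3,nat_lit 2,nat_lit 1])
)) (.node (.node (.leaf [nat_lit 46,nat_lit 26,nat_lit 1,nat_lit 2,nat_lit 1,nat_lit 2,nat_lit 1,nat_lit 2,nat_lit 1,nat_lit 1,nat_lit 1,nat_lit 2,nat_lit 0,nat_lit 0,nat_lit 0,nat_lit 2,nat_lit 1,nat_lit 2,nat_lit 3,nat_lit 0,nat_lit 2,nat_lit 1,nat_lit 1,nat_lit 3,nat_lit 0,nat_lit 4,nat_lit 2,nat_lit 1,nat_lit 2,nat_lit 0,nat_lit 3,nat_lit 0,nat_lit 2,nat_lit 0,nat_lit 4,nat_lit 0,nat_lit 0])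
 (.leaf [nat_lit 41,nat_lit 11,nat_lit 0,nat_lit 2,nat_lit 1,nat_lit 3,nat_lit 0,nat_lit 0,nat_lit 4,nat_lit 0,nat_lit 2,nat_lit 1,nat_lit 3,nat_lit 2,nat_lit 0,nat_lit 2,nat_lit 0,nat_lit 0,nat_lit 4,nat_lit 1,nat_lit 2,nat_lit 0,nat_lit 2,nat_lit 0,nat_lit 0,nat_lit 0,nat_lit 2,nat_lit 1,nat_lit 2,nat_lit 1,nat_lit 1,nat_lit 2,nat_lit 1,nat_lit 3])
) (.node (.leaf [nat_lit 10,nat_lit 14,nat_lit 0,nat_lit 0,nat_lit 2,nat_lit 3,nat_lit 2,nat_lit 0,nat_lit 0,nat_lit 0,nat_lit 2,nat_lit 1,nat_lit 1,nat_lit 2,nat_lit 0,nat_lit 2,nat_lit 1,nat_lit 3,nat_lit 2,nat_lit 3,nat_lit 2])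
 (.leaf [nat_lit 5,nat_lit 11,nat_lit 1,nat_lit 0,nat_lit 2,nat_lit 0,nat_lit 0,nat_lit 2,nat_lit 1,nat_lit 1,nat_lit 2,nat_lit 0,nat_lit 0,nat_lit 2,nat_lit 1,nat_lit 1,nat_lit 2,nat_lit 0,nat_lit 0,nat_lit 2,nat_lit 1])
))))) (.node (.node (.node (.node (.node (.leaf [nat_lit 10,nat_lit 7,nat_lit 1,nat_lit 3,nat_lit 0,nat_lit 2,nat_lit 1,nat_lit 2,nat_lit 0,nat_lit 0,nat_lit 2,nat_lit 1,nat_lit 1,nat_lit 1,nat_lit 2,nat_lit 3,nat_lit 2,nat_lit 0,nat_lit 2,nat_lit 3,nat_lit 2])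
 (.leaf [nat_lit 43,nat_lit 13,nat_lit 0,nat_lit 0,nat_lit 2,nat_lit 0,nat_lit 0,nat_lit 2,nat_lit 3,nat_lit 0,nat_lit 4,nat_lit 0,nat_lit 3,nat_lit 0,nat_lit 0,nat_lit 2,nat_lit 1,nat_lit 2,nat_lit 1,nat_lit 3,nat_lit 2,nat_lit 1,nat_lit 2,nat_lit 0,nat_lit 0,nat_lit 2,nat_lit 0,nat_lit 2,nat_lit 0,nat_lit 0,nat_lit 2,nat_lit 1,nat_lit 1,nat_lit 2,nat_lit 1,nat_lit 4])
) (.node (.leaf [nat_lit 31,nat_lit 4,nat_lit 0,nat_lit 0,nat_lit 2,nat_lit 3,nat_lit 2,nat_lit 4,nat_lit 0,nat_lit 4,nat_lit 1,nat_lit 4,nat_lit 3,nat_lit 2,nat_lit 3,nat_lit 0,nat_lit 4,nat_lit 1,nat_lit 2,nat_lit 1,nat_lit 1,nat_lit 2,nat_lit 0,nat_lit 2,nat_lit 0,nat_lit 0,nat_lit 2,nat_lit 0,nat_lit 2,nat_lit 0,nat_lit 0,nat_lit 0,nat_lit 3])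
 (.leaf [nat_lit 25,nat_lit 8,nat_lit 0,nat_lit 1,nat_lit 3,nat_lit 1,nat_lit 2,nat_lit 4,nat_lit 0,nat_lit 0,nat_lit 2,nat_lit 1,nat_lit 3,nat_lit 0,nat_lit 2,nat_lit 0,nat_lit 2,nat_lit 0,nat_lit 2,nat_lit 0,nat_lit 0,nat_lit 0,nat_lit 2,nat_lit 1,nat_lit 1,nat_lit 4,nat_lit 2])
)) (.node (.node (.leaf [nat_lit 31,nat_lit 15,nat_lit 0,nat_lit 3,nat_lit 0,nat_lit 4,nat_lit 1,nat_lit 2,nat_lit 1,nat_lit 1,nat_lit 2,nat_lit 0,nat_lit 2,nat_lit 0,nat_lit 0,nat_lit 2,nat_lit 0,nat_lit 2,nat_lit 0,nat_lit 0,nat_lit 0,nat_lit 3,nat_lit 1,nat_lit 2,nat_lit 3,nat_lit 2,nat_lit 4,nat_lit 0,nat_lit 4,nat_lit 1,nat_lit 4,nat_lit 3,nat_lit 2])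
 (.leaf [nat_lit 14,nat_lit 7,nat_lit 0,nat_lit 2,nat_lit 1,nat_lit 3,nat_lit 0,nat_lit 3,nat_lit 2,nat_lit 3,nat_lit 1,nat_lit 1,nat_lit 2,nat_lit 0,nat_lit 0,nat_lit 3,nat_lit 1,nat_lit 2,nat_lit 3,nat_lit 0,nat_lit 0,nat_lit 0,nat_lit 2,nat_lit 0,nat_lit 0,nat_lit 0])
) (.node (.leaf [nat_lit 19,nat_lit 4,nat_lit 1,nat_lit 1,nat_lit 2,nat_lit 1,nat_lit 2,nat_lit 3,nat_lit 0,nat_lit 2,nat_lit 1,nat_lit 1,nat_lit 3,nat_lit 0,nat_lit 2,nat_lit 0,nat_lit 2,nat_lit 1,nat_lit 2,nat_lit 0,nat_lit 3,nat_lit 1,nat_lit 1,nat_lit 1,nat_lit 2,nat_lit 0,nat_lit 0,nat_lit 2])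
 (.leaf [nat_lit 20,nat_lit 23,nat_lit 1,nat_lit 0,nat_lit 1,nat_lit 1,nat_lit 2,nat_lit 3,nat_lit 2,nat_lit 1,nat_lit 2,nat_lit 1,nat_lit 1,nat_lit 2,nat_lit 1,nat_lit 1,nat_lit 2,nat_lit 1,nat_lit 2,nat_lit 0,nat_lit 0,nat_lit 3,nat_lit 0,nat_lit 3,nat_lit 2,nat_lit 0,nat_lit 0,nat_lit 0,nat_lit 3])
))) (.node (.node (.node (.leaf [nat_lit 25,nat_lit 5,nat_lit 0,nat_lit 0,nat_lit 4,nat_lit 2,nat_lit 0,nat_lit 3,nat_lit 1,nat_lit 2,nat_lit 4,nat_lit 0,nat_lit 0,nat_lit 2,nat_lit 1,nat_lit 3,nat_lit 0,nat_lit 2,nat_lit 0,nat_lit 2,nat_lit 0,nat_lit 2,nat_lit 0,nat_lit 0,nat_lit 0,nat_lit 2,nat_lit 1])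
 (.leaf [nat_lit 42,nat_lit 19,nat_lit 0,nat_lit 3,nat_lit 2,nat_lit 0,nat_lit 2,nat_lit 3,nat_lit 2,nat_lit 0,nat_lit 2,nat_lit 0,nat_lit 0,nat_lit 2,nat_lit 1,nat_lit 2,nat_lit 0,nat_lit 0,nat_lit 2,nat_lit 0,nat_lit 4,nat_lit 0,nat_lit 2,nat_lit 1,nat_lit 2,nat_lit 0,nat_lit 2,nat_lit 3,nat_lit 1,nat_lit 4,nat_lit 2,nat_lit 3,nat_lit 1,nat_lit 2,nat_lit 0])
) (.node (.leaf [nat_lit 36,nat_lit 10,nat_lit 0,nat_lit 3,nat_lit 2,nat_lit 1,nat_lit 3,nat_lit 2,nat_lit 1,nat_lit 1,nat_lit 1,nat_lit 2,nat_lit 0,nat_lit 0,nat_lit 0,nat_lit 2,nat_lit 1,nat_lit 2,nat_lit 0,nat_lit 2,nat_lit 4,nat_lit 1,nat_lit 2,nat_lit 3,nat_lit 0,nat_lit 0,nat_lit 0,nat_lit 2,nat_lit 0,nat_lit 4,nat_lit 0,nat_lit 3,nat_lit 2,nat_lit 0])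
 (.leaf [nat_lit 20,nat_lit 3,nat_lit 0,nat_lit 3,nat_lit 1,nat_lit 1,nat_lit 1,nat_lit 2,nat_lit 3,nat_lit 1,nat_lit 3,nat_lit 1,nat_lit 1,nat_lit 2,nat_lit 0,nat_lit 2,nat_lit 0,nat_lit 0,nat_lit 2,nat_lit 0,nat_lit 0,nat_lit 2,nat_lit 0,nat_lit 2,nat_lit 3,nat_lit 2,nat_lit 0,nat_lit 0,nat_lit 0])
)) (.node (.node (.leaf [nat_lit 36,nat_lit 29,nat_lit 1,nat_lit 0,nat_lit 1,nat_lit 3,nat_lit 2,nat_lit 0,nat_lit 4,nat_lit 2,nat_lit 1,nat_lit 2,nat_lit 0,nat_lit 2,nat_lit 1,nat_lit 1,nat_lit 1,nat_lit 2,nat_lit 0,nat_lit 0,nat_lit 0,nat_lit 2,nat_lit 3,nat_lit 0,nat_lit 2,nat_lit 3,nat_lit 1,nat_lit 2,nat_lit 3,nat_lit 1,nat_lit 4,nat_lit 1,nat_lit 2,nat_lit 1])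
 (.leaf [nat_lit 43,nat_lit 19,nat_lit 0,nat_lit 1,nat_lit 4,nat_lit 0,nat_lit 3,nat_lit 0,nat_lit 0,nat_lit 2,nat_lit 1,nat_lit 2,nat_lit 1,nat_lit 3,nat_lit 2,nat_lit 1,nat_lit 2,nat_lit 0,nat_lit 0,nat_lit 2,nat_lit 0,nat_lit 2,nat_lit 0,nat_lit 0,nat_lit 2,nat_lit 1,nat_lit 1,nat_lit 2,nat_lit 1,nat_lit 4,nat_lit 1,nat_lit 2,nat_lit 0,nat_lit 0,nat_lit 2,nat_lit 3])
) (.node (.leaf [nat_lit 41,nat_lit 10,nat_lit 1,nat_lit 3,nat_lit 0,nat_lit 2,nat_lit 1,nat_lit 4,nat_lit 1,nat_lit 1,nat_lit 3,nat_lit 0,nat_lit 2,nat_lit 3,nat_lit 0,nat_lit 2,nat_lit 0,nat_lit 0,nat_lit 2,nat_lit 0,nat_lit 2,nat_lit 1,nat_lit 1,nat_lit 1,nat_lit 2,nat_lit 1,nat_lit 2,nat_lit 0,nat_lit 4,nat_lit 1,nat_lit 1,nat_lit 2,nat_lit 1,nat_lit 2])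
 (.leaf [nat_lit 37,nat_lit 4,nat_lit 0,nat_lit 4,nat_lit 2,nat_lit 0,nat_lit 2,nat_lit 0,nat_lit 2,nat_lit 0,nat_lit 0,nat_lit 3,nat_lit 0,nat_lit 4,nat_lit 1,nat_lit 2,nat_lit 3,nat_lit 0,nat_lit 3,nat_lit 2,nat_lit 3,nat_lit 1,nat_lit 2,nat_lit 0,nat_lit 2,nat_lit 0,nat_lit 2,nat_lit 0,nat_lit 2,nat_lit 0,nat_lit 0,nat_lit 2,nat_lit 0])
)))) (.node (.node (.node (.node (.leaf [nat_lit 35,nat_lit 13,nat_lit 1,nat_lit 0,nat_lit 2,nat_lit 3,nat_lit 2,nat_lit 1,nat_lit 1,nat_lit 1,nat_lit 3,nat_lit 4,nat_lit 1,nat_lit 1,nat_lit 1,nat_lit 2,nat_lit 1,nat_lit 2,nat_lit 1,nat_lit 1,nat_lit 1,nat_lit 2,nat_lit 0,nat_lit 2,nat_lit 1,nat_lit 3,nat_lit 0,nat_lit 2,nat_lit 1,nat_lit 2,nat_lit 0,nat_lit 2,nat_lit 1,nat_lit 4])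
 (.leaf [nat_lit 35,nat_lit 16,nat_lit 0,nat_lit 2,nat_lit 0,nat_lit 4,nat_lit 0,nat_lit 2,nat_lit 1,nat_lit 2,nat_lit 0,nat_lit 2,nat_lit 1,nat_lit 3,nat_lit 0,nat_lit 2,nat_lit 1,nat_lit 2,nat_lit 0,nat_lit 0,nat_lit 0,nat_lit 2,nat_lit 0,nat_lit 2,nat_lit 0,nat_lit 0,nat_lit 0,nat_lit 4,nat_lit 3,nat_lit 0,nat_lit 0,nat_lit 0,nat_lit 2,nat_lit 3])
) (.node (.leaf [nat_lit 43,nat_lit 18,nat_lit 1,nat_lit 2,nat_lit 0,nat_lit 4,nat_lit 0,nat_lit 2,nat_lit 0,nat_lit 0,nat_lit 2,nat_lit 1,nat_lit 1,nat_lit 2,nat_lit 1,nat_lit 2,nat_lit 1,nat_lit 1,nat_lit 2,nat_lit 0,nat_lit 2,nat_lit 3,nat_lit 0,nat_lit 2,nat_lit 0,nat_lit 2,nat_lit 1,nat_lit 1,nat_lit 3,nat_lit 1,nat_lit 4,nat_lit 1,nat_lit 3,nat_lit 2,nat_lit 1,nat_lit 1])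
 (.leaf [nat_lit 14,nat_lit 15,nat_lit 0,nat_lit 0,nat_lit 2,nat_lit 0,nat_lit 0,nat_lit 3,nat_lit 1,nat_lit 2,nat_lit 3,nat_lit 0,nat_lit 0,nat_lit 0,nat_lit 2,nat_lit 0,nat_lit 0,nat_lit 0,nat_lit 2,nat_lit 1,nat_lit 3,nat_lit 0,nat_lit 3,nat_lit 2,nat_lit 3,nat_lit 1])
)) (.node (.node (.leaf [nat_lit 36,nat_lit 11,nat_lit 0,nat_lit 2,nat_lit 1,nat_lit 3,nat_lit 2,nat_lit 1,nat_lit 1,nat_lit 1,nat_lit 2,nat_lit 0,nat_lit 0,nat_lit 0,nat_lit 2,nat_lit 1,nat_lit 2,nat_lit 0,nat_lit 2,nat_lit 4,nat_lit 1,nat_lit 2,nat_lit 3,nat_lit 0,nat_lit 0,nat_lit 0,nat_lit 2,nat_lit 0,nat_lit 4,nat_lit 0,nat_lit 3,nat_lit 2,nat_lit 0,nat_lit 3])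
 (.leaf [nat_lit 29,nat_lit 10,nat_lit 1,nat_lit 4,nat_lit 0,nat_lit 2,nat_lit 0,nat_lit 3,nat_lit 1,nat_lit 2,nat_lit 1,nat_lit 4,nat_lit 2,nat_lit 1,nat_lit 3,nat_lit 0,nat_lit 4,nat_lit 1,nat_lit 3,nat_lit 0,nat_lit 2])
) (.node (.leaf [nat_lit 14,nat_lit 3,nat_lit 1,nat_lit 3,nat_lit 1,nat_lit 1,nat_lit 2,nat_lit 0,nat_lit 0,nat_lit 3,nat_lit 2,nat_lit 3,nat_lit 1,nat_lit 3,nat_lit 0,nat_lit 2,nat_lit 1,nat_lit 1,nat_lit 1,nat_lit 2,nat_lit 1,nat_lit 1,nat_lit 1,nat_lit 3,nat_lit 2,nat_lit 0])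
 (.leaf [nat_lit 37,nat_lit 23,nat_lit 0,nat_lit 2,nat_lit 0,nat_lit 2,nat_lit 0,nat_lit 2,nat_lit 0,nat_lit 2,nat_lit 0,nat_lit 0,nat_lit 2,nat_lit 0,nat_lit 4,nat_lit 2,nat_lit 0,nat_lit 2,nat_lit 0,nat_lit 2,nat_lit 0,nat_lit 0,nat_lit 3,nat_lit 0,nat_lit 4,nat_lit 1,nat_lit 2,nat_lit 3,nat_lit 0,nat_lit 3,nat_lit 2,nat_lit 3,nat_lit 1])
))) (.node (.node (.node (.leaf [nat_lit 28,nat_lit 9,nat_lit 1,nat_lit 0,nat_lit 3,nat_lit 1,nat_lit 3,nat_lit 1,nat_lit 4,nat_lit 3,nat_lit 4,nat_lit 3,nat_lit 4,nat_lit 1,nat_lit 3,nat_lit 1,nat_lit 3])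
 (.leaf [nat_lit 19,nat_lit 3,nat_lit 0,nat_lit 3,nat_lit 1,nat_lit 2,nat_lit 0,nat_lit 2,nat_lit 1,nat_lit 2,nat_lit 1,nat_lit 3,nat_lit 0,nat_lit 0,nat_lit 2,nat_lit 1,nat_lit 3,nat_lit 2,nat_lit 0,nat_lit 2,nat_lit 1,nat_lit 2,nat_lit 1,nat_lit 1,nat_lit 2,nat_lit 0,nat_lit 0,nat_lit 0])
) (.node (.leaf [nat_lit 20,nat_lit 22,nat_lit 0,nat_lit 1,nat_lit 2,nat_lit 3,nat_lit 2,nat_lit 0,nat_lit 0,nat_lit 0,nat_lit 3,nat_lit 1,nat_lit 1,nat_lit 1,nat_lit 2,nat_lit 3,nat_lit 1,nat_lit 3,nat_lit 1,nat_lit 1,nat_lit 2,nat_lit 0,nat_lit 2,nat_lit 0,nat_lit 0,nat_lit 2,nat_lit 0,nat_lit 0,nat_lit 2])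
 (.leaf [nat_lit 7,nat_lit 15,nat_lit 0,nat_lit 1,nat_lit 2,nat_lit 1,nat_lit 2,nat_lit 1,nat_lit 2,nat_lit 1,nat_lit 2,nat_lit 0,nat_lit 0,nat_lit 0,nat_lit 2,nat_lit 1,nat_lit 1,nat_lit 2,nat_lit 1,nat_lit 2,nat_lit 0,nat_lit 0,nat_lit 0,nat_lit 2,nat_lit 1,nat_lit 2])
)) (.node (.node (.leaf [nat_lit 16,nat_lit 14,nat_lit 1,nat_lit 3,nat_lit 1,nat_lit 2,nat_lit 0,nat_lit 0,nat_lit 3,nat_lit 2,nat_lit 1,nat_lit 1,nat_lit 1,nat_lit 2,nat_lit 1,nat_lit 2,nat_lit 1,nat_lit 2,nat_lit 1,nat_lit 3,nat_lit 0,nat_lit 2,nat_lit 3,nat_lit 1,nat_lit 1,nat_lit 2,nat_lit 0])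
 (.leaf [nat_lit 46,nat_lit 17,nat_lit 1,nat_lit 2,nat_lit 0,nat_lit 3,nat_lit 0,nat_lit 2,nat_lit 0,nat_lit 4,nat_lit 0,nat_lit 0,nat_lit 2,nat_lit 1,nat_lit 2,nat_lit 1,nat_lit 2,nat_lit 1,nat_lit 1,nat_lit 1,nat_lit 2,nat_lit 0,nat_lit 0,nat_lit 0,nat_lit 2,nat_lit 1,nat_lit 2,nat_lit 3,nat_lit 0,nat_lit 2,nat_lit 1,nat_lit 1,nat_lit 3,nat_lit 0,nat_lit 4,nat_lit 2,nat_lit 1])
) (.node (.leaf [nat_lit 10,nat_lit 16,nat_lit 0,nat_lit 3,nat_lit 2,nat_lit 0,nat_lit 0,nat_lit 0,nat_lit 2,nat_lit 1,nat_lit 1,nat_lit 2,nat_lit 0,nat_lit 2,nat_lit 1,nat_lit 3,nat_lit 2,nat_lit 3,nat_lit 2,nat_lit 1,nat_lit 2])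
 (.leaf [nat_lit 5,nat_lit 13,nat_lit 1,nat_lit 1,nat_lit 0,nat_lit 2,nat_lit 1,nat_lit 1,nat_lit 2,nat_lit 0,nat_lit 0,nat_lit 2,nat_lit 1,nat_lit 1,nat_lit 2,nat_lit 0,nat_lit 0,nat_lit 2,nat_lit 1,nat_lit 1,nat_lit 2])
)))))) (.node (.node (.node (.node (.node (.node (.leaf [nat_lit 26,nat_lit 12,nat_lit 1,nat_lit 2,nat_lit 3,nat_lit 2,nat_lit 4,nat_lit 0,nat_lit 2,nat_lit 0,nat_lit 2,nat_lit 0,nat_lit 2,nat_lit 1,nat_lit 2,nat_lit 1,nat_lit 1,nat_lit 2,nat_lit 1,nat_lit 2,nat_lit 0,nat_lit 2,nat_lit 3,nat_lit 2,nat_lit 3,nat_lit 1,nat_lit 2,nat_lit 0,nat_lit 4])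
 (.leaf [nat_lit 33,nat_lit 12,nat_lit 1,nat_lit 0,nat_lit 2,nat_lit 1,nat_lit 4,nat_lit 0,nat_lit 0,nat_lit 3,nat_lit 0,nat_lit 0,nat_lit 2,nat_lit 1,nat_lit 2,nat_lit 1,nat_lit 1,nat_lit 1,nat_lit 2,nat_lit 0,nat_lit 0,nat_lit 2,nat_lit 0,nat_lit 4,nat_lit 2,nat_lit 4,nat_lit 3,nat_lit 2,nat_lit 1,nat_lit 1])
) (.node (.leaf [nat_lit 16,nat_lit 17,nat_lit 0,nat_lit 3,nat_lit 0,nat_lit 2,nat_lit 0,nat_lit 2,nat_lit 0,nat_lit 2,nat_lit 0,nat_lit 0,nat_lit 0,nat_lit 2,nat_lit 3,nat_lit 1,nat_lit 1,nat_lit 2,nat_lit 0,nat_lit 3,nat_lit 1,nat_lit 2,nat_lit 0,nat_lit 0,nat_lit 3,nat_lit 2,nat_lit 1])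
 (.leaf [nat_lit 27,nat_lit 9,nat_lit 1,nat_lit 1,nat_lit 0,nat_lit 0,nat_lit 4,nat_lit 0,nat_lit 3,nat_lit 1,nat_lit 1,nat_lit 3,nat_lit 0,nat_lit 0,nat_lit 3,nat_lit 1,nat_lit 4,nat_lit 1,nat_lit 1,nat_lit 1,nat_lit 2,nat_lit 1,nat_lit 3,nat_lit 1,nat_lit 3,nat_lit 0,nat_lit 3,nat_lit 0,nat_lit 2])
)) (.node (.node (.leaf [nat_lit 35,nat_lit 13,nat_lit 0,nat_lit 1,nat_lit 2,nat_lit 3,nat_lit 2,nat_lit 0,nat_lit 4,nat_lit 0,nat_lit 2,nat_lit 1,nat_lit 2,nat_lit 0,nat_lit 2,nat_lit 1,nat_lit 3,nat_lit 0,nat_lit 2,nat_lit 1,nat_lit 2,nat_lit 0,nat_lit 0,nat_lit 0,nat_lit 2,nat_lit 0,nat_lit 2,nat_lit 0,nat_lit 0,nat_lit 0,nat_lit 4,nat_lit 3,nat_lit 0,nat_lit 0])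
 (.leaf [nat_lit 30,nat_lit 15,nat_lit 0,nat_lit 0,nat_lit 2,nat_lit 4,nat_lit 3,nat_lit 2,nat_lit 0,nat_lit 4,nat_lit 2,nat_lit 1,nat_lit 1,nat_lit 2,nat_lit 1,nat_lit 2,nat_lit 0,nat_lit 2,nat_lit 0,nat_lit 0,nat_lit 2,nat_lit 0,nat_lit 0,nat_lit 3,nat_lit 2,nat_lit 1,nat_lit 3,nat_lit 2,nat_lit 3,nat_lit 1,nat_lit 2,nat_lit 4,nat_lit 2])
) (.node (.leaf [nat_lit 17,nat_lit 10,nat_lit 1,nat_lit 2,nat_lit 1,nat_lit 2,nat_lit 0,nat_lit 0,nat_lit 2,nat_lit 3,nat_lit 1,nat_lit 2,nat_lit 0,nat_lit 0,nat_lit 2,nat_lit 1,nat_lit 1,nat_lit 1,nat_lit 2,nat_lit 1,nat_lit 1,nat_lit 2,nat_lit 0,nat_lit 3,nat_lit 2,nat_lit 1,nat_lit 2,nat_lit 0])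
 (.leaf [nat_lit 20,nat_lit 20,nat_lit 1,nat_lit 1,nat_lit 0,nat_lit 3,nat_lit 1,nat_lit 1,nat_lit 1,nat_lit 2,nat_lit 3,nat_lit 2,nat_lit 1,nat_lit 2,nat_lit 1,nat_lit 1,nat_lit 2,nat_lit 1,nat_lit 1,nat_lit 2,nat_lit 1,nat_lit 2,nat_lit 0,nat_lit 0,nat_lit 3,nat_lit 0,nat_lit 3,nat_lit 2,nat_lit 0])
))) (.node (.node (.node (.leaf [nat_lit 10,nat_lit 6,nat_lit 0,nat_lit 2,nat_lit 0,nat_lit 2,nat_lit 1,nat_lit 3,nat_lit 2,nat_lit 3,nat_lit 2,nat_lit 1,nat_lit 2,nat_lit 3,nat_lit 2,nat_lit 0,nat_lit 0,nat_lit 0,nat_lit 2,nat_lit 1,nat_lit 1])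
 (.leaf [nat_lit 46,nat_lit 15,nat_lit 0,nat_lit 0,nat_lit 2,nat_lit 0,nat_lit 2,nat_lit 4,nat_lit 1,nat_lit 3,nat_lit 0,nat_lit 0,nat_lit 2,nat_lit 1,nat_lit 3,nat_lit 2,nat_lit 0,nat_lit 2,nat_lit 1,nat_lit 1,nat_lit 1,nat_lit 2,nat_lit 0,nat_lit 0,nat_lit 0,nat_lit 2,nat_lit 0,nat_lit 2,nat_lit 0,nat_lit 2,nat_lit 1,nat_lit 1,nat_lit 4,nat_lit 1,nat_lit 2,nat_lit 1,nat_lit 3])
) (.node (.leaf [nat_lit 29,nat_lit 7,nat_lit 1,nat_lit 3,nat_lit 0,nat_lit 2,nat_lit 4,nat_lit 0,nat_lit 2,nat_lit 0,nat_lit 3,nat_lit 1,nat_lit 2,nat_lit 1,nat_lit 4,nat_lit 2,nat_lit 1,nat_lit 3,nat_lit 0,nat_lit 4,nat_lit 1])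
 (.leaf [nat_lit 37,nat_lit 20,nat_lit 0,nat_lit 2,nat_lit 3,nat_lit 1,nat_lit 2,nat_lit 0,nat_lit 2,nat_lit 0,nat_lit 2,nat_lit 0,nat_lit 2,nat_lit 0,nat_lit 0,nat_lit 2,nat_lit 0,nat_lit 4,nat_lit 2,nat_lit 0,nat_lit 2,nat_lit 0,nat_lit 2,nat_lit 0,nat_lit 0,nat_lit 3,nat_lit 0,nat_lit 4,nat_lit 1,nat_lit 2,nat_lit 3,nat_lit 0,nat_lit 3])
)) (.node (.node (.leaf [nat_lit 40,nat_lit 22,nat_lit 1,nat_lit 3,nat_lit 4,nat_lit 2,nat_lit 0,nat_lit 0,nat_lit 2,nat_lit 1,nat_lit 1,nat_lit 1,nat_lit 2,nat_lit 1,nat_lit 2,nat_lit 0,nat_lit 0,nat_lit 2,nat_lit 3,nat_lit 2,nat_lit 1,nat_lit 1,nat_lit 3,nat_lit 1,nat_lit 2,nat_lit 4,nat_lit 3,nat_lit 1,nat_lit 1,nat_lit 1,nat_lit 4,nat_lit 0,nat_lit 0,nat_lit 0])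
 (.leaf [nat_lit 41,nat_lit 12,nat_lit 1,nat_lit 2,nat_lit 1,nat_lit 4,nat_lit 1,nat_lit 1,nat_lit 3,nat_lit 0,nat_lit 2,nat_lit 3,nat_lit 0,nat_lit 2,nat_lit 0,nat_lit 0,nat_lit 2,nat_lit 0,nat_lit 2,nat_lit 1,nat_lit 1,nat_lit 1,nat_lit 2,nat_lit 1,nat_lit 2,nat_lit 0,nat_lit 4,nat_lit 1,nat_lit 1,nat_lit 2,nat_lit 1,nat_lit 2,nat_lit 3,nat_lit 0])
) (.node (.leaf [nat_lit 42,nat_lit 11,nat_lit 0,nat_lit 3,nat_lit 1,nat_lit 4,nat_lit 2,nat_lit 3,nat_lit 1,nat_lit 2,nat_lit 0,nat_lit 3,nat_lit 2,nat_lit 0,nat_lit 2,nat_lit 3,nat_lit 2,nat_lit 0,nat_lit 2,nat_lit 0,nat_lit 0,nat_lit 2,nat_lit 1,nat_lit 2,nat_lit 0,nat_lit 0,nat_lit 2,nat_lit 0,nat_lit 4,nat_lit 0,nat_lit 2,nat_lit 1,nat_lit 2,nat_lit 0,nat_lit 2])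
 (.leaf [nat_lit 28,nat_lit 11,nat_lit 1,nat_lit 0,nat_lit 3,nat_lit 1,nat_lit 4,nat_lit 3,nat_lit 4,nat_lit 3,nat_lit 4,nat_lit 1,nat_lit 3,nat_lit 1,nat_lit 3,nat_lit 1,nat_lit 3])
)))) (.node (.node (.node (.node (.leaf [nat_lit 44,nat_lit 25,nat_lit 1,nat_lit 4,nat_lit 1,nat_lit 1,nat_lit 2,nat_lit 4,nat_lit 1,nat_lit 1,nat_lit 1,nat_lit 2,nat_lit 0,nat_lit 2,nat_lit 1,nat_lit 2,nat_lit 1,nat_lit 1,nat_lit 2,nat_lit 0,nat_lit 2,nat_lit 0,nat_lit 2,nat_lit 1,nat_lit 3,nat_lit 0,nat_lit 2,nat_lit 3,nat_lit 0,nat_lit 3,nat_lit 2,nat_lit 0,nat_lit 4,nat_lit 2,nat_lit 0,nat_lit 0])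
 (.leaf [nat_lit 28,nat_lit 8,nat_lit 1,nat_lit 3,nat_lit 1,nat_lit 3,nat_lit 1,nat_lit 3,nat_lit 1,nat_lit 4,nat_lit 3,nat_lit 4,nat_lit 3,nat_lit 4,nat_lit 1,nat_lit 3,nat_lit 1])
) (.node (.leaf [nat_lit 35,nat_lit 12,nat_lit 0,nat_lit 1,nat_lit 0,nat_lit 2,nat_lit 3,nat_lit 2,nat_lit 0,nat_lit 4,nat_lit 0,nat_lit 2,nat_lit 1,nat_lit 2,nat_lit 0,nat_lit 2,nat_lit 1,nat_lit 3,nat_lit 0,nat_lit 2,nat_lit 1,nat_lit 2,nat_lit 0,nat_lit 0,nat_lit 0,nat_lit 2,nat_lit 0,nat_lit 2,nat_lit 0,nat_lit 0,nat_lit 0,nat_lit 4,nat_lit 3,nat_lit 0])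
 (.leaf [nat_lit 42,nat_lit 12,nat_lit 0,nat_lit 0,nat_lit 4,nat_lit 2,nat_lit 3,nat_lit 1,nat_lit 2,nat_lit 0,nat_lit 3,nat_lit 2,nat_lit 0,nat_lit 2,nat_lit 3,nat_lit 2,nat_lit 0,nat_lit 2,nat_lit 0,nat_lit 0,nat_lit 2,nat_lit 1,nat_lit 2,nat_lit 0,nat_lit 0,nat_lit 2,nat_lit 0,nat_lit 4,nat_lit 0,nat_lit 2,nat_lit 1,nat_lit 2,nat_lit 0,nat_lit 2,nat_lit 3])
)) (.node (.node (.leaf [nat_lit 47,nat_lit 19,nat_lit 1,nat_lit 4,nat_lit 3,nat_lit 0,nat_lit 0,nat_lit 3,nat_lit 1,nat_lit 2,nat_lit 0,nat_lit 3,nat_lit 2,nat_lit 3,nat_lit 1,nat_lit 2,nat_lit 1,nat_lit 1,nat_lit 1,nat_lit 2,nat_lit 0,nat_lit 2,nat_lit 1,nat_lit 2,nat_lit 0,nat_lit 2,nat_lit 1,nat_lit 1,nat_lit 2,nat_lit 0,nat_lit 0,nat_lit 4,nat_lit 2,nat_lit 1,nat_lit 1,nat_lit 2,nat_lit 0,nat_lit 0])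
 (.leaf [nat_lit 37,nat_lit 8,nat_lit 0,nat_lit 1,nat_lit 2,nat_lit 0,nat_lit 0,nat_lit 3,nat_lit 0,nat_lit 4,nat_lit 1,nat_lit 2,nat_lit 3,nat_lit 0,nat_lit 3,nat_lit 2,nat_lit 3,nat_lit 1,nat_lit 2,nat_lit 0,nat_lit 2,nat_lit 0,nat_lit 2,nat_lit 0,nat_lit 2,nat_lit 0,nat_lit 0,nat_lit 2,nat_lit 0,nat_lit 4,nat_lit 2,nat_lit 0,nat_lit 2])
) (.node (.leaf [nat_lit 32,nat_lit 9,nat_lit 0,nat_lit 2,nat_lit 4,nat_lit 3,nat_lit 2,nat_lit 0,nat_lit 3,nat_lit 1,nat_lit 2,nat_lit 3,nat_lit 4,nat_lit 1,nat_lit 2,nat_lit 1,nat_lit 1,nat_lit 1,nat_lit 2,nat_lit 3,nat_lit 1,nat_lit 2,nat_lit 1,nat_lit 1,nat_lit 2,nat_lit 0,nat_lit 0,nat_lit 0,nat_lit 2,nat_lit 0,nat_lit 2,nat_lit 1,nat_lit 1,nat_lit 1])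
 (.leaf [nat_lit 33,nat_lit 8,nat_lit 1,nat_lit 3,nat_lit 2,nat_lit 1,nat_lit 1,nat_lit 1,nat_lit 2,nat_lit 1,nat_lit 4,nat_lit 0,nat_lit 0,nat_lit 3,nat_lit 0,nat_lit 0,nat_lit 2,nat_lit 1,nat_lit 2,nat_lit 1,nat_lit 1,nat_lit 1,nat_lit 2,nat_lit 0,nat_lit 0,nat_lit 2,nat_lit 0,nat_lit 4,nat_lit 2,nat_lit 4])
))) (.node (.node (.node (.leaf [nat_lit 30,nat_lit 16,nat_lit 0,nat_lit 2,nat_lit 4,nat_lit 3,nat_lit 2,nat_lit 0,nat_lit 4,nat_lit 2,nat_lit 1,nat_lit 1,nat_lit 2,nat_lit 1,nat_lit 2,nat_lit 0,nat_lit 2,nat_lit 0,nat_lit 0,nat_lit 2,nat_lit 0,nat_lit 0,nat_lit 3,nat_lit 2,nat_lit 1,nat_lit 3,nat_lit 2,nat_lit 3,nat_lit 1,nat_lit 2,nat_lit 4,nat_lit 2,nat_lit 1])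
 (.leaf [nat_lit 37,nat_lit 23,nat_lit 1,nat_lit 0,nat_lit 2,nat_lit 4,nat_lit 1,nat_lit 2,nat_lit 1,nat_lit 1,nat_lit 2,nat_lit 1,nat_lit 2,nat_lit 1,nat_lit 2,nat_lit 1,nat_lit 2,nat_lit 0,nat_lit 3,nat_lit 2,nat_lit 3,nat_lit 1,nat_lit 3,nat_lit 2,nat_lit 0,nat_lit 4,nat_lit 1,nat_lit 3,nat_lit 1,nat_lit 1,nat_lit 2,nat_lit 1,nat_lit 2])
) (.node (.leaf [nat_lit 45,nat_lit 5,nat_lit 1,nat_lit 2,nat_lit 4,nat_lit 1,nat_lit 2,nat_lit 1,nat_lit 1,nat_lit 1,nat_lit 3,nat_lit 0,nat_lit 2,nat_lit 3,nat_lit 1,nat_lit 1,nat_lit 2,nat_lit 0,nat_lit 2,nat_lit 0,nat_lit 0,nat_lit 2,nat_lit 1,nat_lit 1,nat_lit 2,nat_lit 1,nat_lit 1,nat_lit 1,nat_lit 2,nat_lit 1,nat_lit 1,nat_lit 1,nat_lit 4,nat_lit 2,nat_lit 4,nat_lit 0,nat_lit 4])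
 (.leaf [nat_lit 7,nat_lit 19,nat_lit 1,nat_lit 2,nat_lit 1,nat_lit 1,nat_lit 1,nat_lit 2,nat_lit 0,nat_lit 2,nat_lit 0,nat_lit 2,nat_lit 0,nat_lit 2,nat_lit 1,nat_lit 2,nat_lit 0,nat_lit 2,nat_lit 1,nat_lit 1,nat_lit 1,nat_lit 2,nat_lit 0,nat_lit 2,nat_lit 0,nat_lit 0])
)) (.node (.node (.leaf [nat_lit 37,nat_lit 9,nat_lit 0,nat_lit 2,nat_lit 0,nat_lit 0,nat_lit 3,nat_lit 0,nat_lit 4,nat_lit 1,nat_lit 2,nat_lit 3,nat_lit 0,nat_lit 3,nat_lit 2,nat_lit 3,nat_lit 1,nat_lit 2,nat_lit 0,nat_lit 2,nat_lit 0,nat_lit 2,nat_lit 0,nat_lit 2,nat_lit 0,nat_lit 0,nat_lit 2,nat_lit 0,nat_lit 4,nat_lit 2,nat_lit 0,nat_lit 2,nat_lit 0])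
 (.leaf [nat_lit 33,nat_lit 9,nat_lit 1,nat_lit 2,nat_lit 1,nat_lit 1,nat_lit 1,nat_lit 2,nat_lit 1,nat_lit 4,nat_lit 0,nat_lit 0,nat_lit 3,nat_lit 0,nat_lit 0,nat_lit 2,nat_lit 1,nat_lit 2,nat_lit 1,nat_lit 1,nat_lit 1,nat_lit 2,nat_lit 0,nat_lit 0,nat_lit 2,nat_lit 0,nat_lit 4,nat_lit 2,nat_lit 4,nat_lit 3])
) (.node (.leaf [nat_lit 19,nat_lit 16,nat_lit 1,nat_lit 1,nat_lit 2,nat_lit 1,nat_lit 2,nat_lit 0,nat_lit 3,nat_lit 1,nat_lit 1,nat_lit 1,nat_lit 2,nat_lit 0,nat_lit 0,nat_lit 2,nat_lit 0,nat_lit 2,nat_lit 1,nat_lit 2,nat_lit 3,nat_lit 0,nat_lit 2,nat_lit 1,nat_lit 1,nat_lit 3,nat_lit 0,nat_lit 2])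
 (.leaf [nat_lit 29,nat_lit 0,nat_lit 1,nat_lit 4,nat_lit 2,nat_lit 1,nat_lit 3,nat_lit 0,nat_lit 4,nat_lit 1,nat_lit 3,nat_lit 0,nat_lit 2,nat_lit 4,nat_lit 0,nat_lit 2,nat_lit 0,nat_lit 3,nat_lit 1,nat_lit 2,nat_lit 1])
))))) (.node (.node (.node (.node (.node (.leaf [nat_lit 47,nat_lit 15,nat_lit 1,nat_lit 0,nat_lit 2,nat_lit 0,nat_lit 0,nat_lit 4,nat_lit 3,nat_lit 0,nat_lit 0,nat_lit 3,nat_lit 1,nat_lit 2,nat_lit 0,nat_lit 3,nat_lit 2,nat_lit 3,nat_lit 1,nat_lit 2,nat_lit 1,nat_lit 1,nat_lit 1,nat_lit 2,nat_lit 0,nat_lit 2,nat_lit 1,nat_lit 2,nat_lit 0,nat_lit 2,nat_lit 1,nat_lit 1,nat_lit 2,nat_lit 0,nat_lit 0,nat_lit 4,nat_lit 2,nat_lit 1])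
 (.leaf [nat_lit 41,nat_lit 17,nat_lit 1,nat_lit 3,nat_lit 0,nat_lit 2,nat_lit 3,nat_lit 0,nat_lit 2,nat_lit 0,nat_lit 0,nat_lit 2,nat_lit 0,nat_lit 2,nat_lit 1,nat_lit 1,nat_lit 1,nat_lit 2,nat_lit 1,nat_lit 2,nat_lit 0,nat_lit 4,nat_lit 1,nat_lit 1,nat_lit 2,nat_lit 1,nat_lit 2,nat_lit 3,nat_lit 0,nat_lit 2,nat_lit 1,nat_lit 4,nat_lit 1,nat_lit 1])
) (.node (.leaf [nat_lit 38,nat_lit 12,nat_lit 1,nat_lit 4,nat_lit 3,nat_lit 2,nat_lit 4,nat_lit 2,nat_lit 4,nat_lit 2,nat_lit 1,nat_lit 2,nat_lit 0,nat_lit 0,nat_lit 2,nat_lit 1,nat_lit 1,nat_lit 2,nat_lit 1,nat_lit 2,nat_lit 1,nat_lit 1,nat_lit 2,nat_lit 1,nat_lit 3,nat_lit 0,nat_lit 3,nat_lit 1,nat_lit 3,nat_lit 0,nat_lit 4,nat_lit 3,nat_lit 2,nat_lit 0])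
 (.leaf [nat_lit 34,nat_lit 0,nat_lit 0,nat_lit 1,nat_lit 0,nat_lit 0,nat_lit 2,nat_lit 0,nat_lit 2,nat_lit 0,nat_lit 4,nat_lit 1,nat_lit 2,nat_lit 1,nat_lit 1,nat_lit 1,nat_lit 2,nat_lit 3,nat_lit 0,nat_lit 2,nat_lit 0,nat_lit 0,nat_lit 0,nat_lit 2,nat_lit 1,nat_lit 1,nat_lit 2,nat_lit 0,nat_lit 2,nat_lit 0,nat_lit 0,nat_lit 0,nat_lit 4,nat_lit 2])
)) (.node (.node (.leaf [nat_lit 41,nat_lit 21,nat_lit 0,nat_lit 2,nat_lit 0,nat_lit 2,nat_lit 0,nat_lit 0,nat_lit 4,nat_lit 1,nat_lit 2,nat_lit 0,nat_lit 2,nat_lit 0,nat_lit 0,nat_lit 0,nat_lit 2,nat_lit 1,nat_lit 2,nat_lit 1,nat_lit 1,nat_lit 2,nat_lit 1,nat_lit 3,nat_lit 2,nat_lit 1,nat_lit 3,nat_lit 0,nat_lit 0,nat_lit 4,nat_lit 0,nat_lit 2,nat_lit 1,nat_lit 3])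
 (.leaf [nat_lit 34,nat_lit 23,nat_lit 1,nat_lit 4,nat_lit 1,nat_lit 2,nat_lit 1,nat_lit 2,nat_lit 1,nat_lit 1,nat_lit 1,nat_lit 2,nat_lit 4,nat_lit 1,nat_lit 1,nat_lit 1,nat_lit 2,nat_lit 1,nat_lit 2,nat_lit 0,nat_lit 0,nat_lit 2,nat_lit 1,nat_lit 1,nat_lit 1,nat_lit 2,nat_lit 1,nat_lit 3,nat_lit 2,nat_lit 0,nat_lit 0,nat_lit 0,nat_lit 2,nat_lit 0])
) (.node (.leaf [nat_lit 33,nat_lit 18,nat_lit 1,nat_lit 3,nat_lit 0,nat_lit 0,nat_lit 2,nat_lit 1,nat_lit 2,nat_lit 1,nat_lit 1,nat_lit 1,nat_lit 2,nat_lit 0,nat_lit 0,nat_lit 2,nat_lit 0,nat_lit 4,nat_lit 2,nat_lit 4,nat_lit 3,nat_lit 2,nat_lit 1,nat_lit 1,nat_lit 1,nat_lit 2,nat_lit 1,nat_lit 4,nat_lit 0,nat_lit 0])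
 (.leaf [nat_lit 14,nat_lit 0,nat_lit 1,nat_lit 3,nat_lit 2,nat_lit 0,nat_lit 3,nat_lit 1,nat_lit 1,nat_lit 2,nat_lit 0,nat_lit 0,nat_lit 3,nat_lit 2,nat_lit 3,nat_lit 1,nat_lit 3,nat_lit 0,nat_lit 2,nat_lit 1,nat_lit 1,nat_lit 1,nat_lit 2,nat_lit 1,nat_lit 1,nat_lit 1])
))) (.node (.node (.node (.leaf [nat_lit 32,nat_lit 30,nat_lit 1,nat_lit 0,nat_lit 2,nat_lit 0,nat_lit 0,nat_lit 2,nat_lit 0,nat_lit 3,nat_lit 2,nat_lit 0,nat_lit 0,nat_lit 0,nat_lit 2,nat_lit 0,nat_lit 4,nat_lit 3,nat_lit 2,nat_lit 0,nat_lit 3,nat_lit 1,nat_lit 2,nat_lit 3,nat_lit 4,nat_lit 2,nat_lit 0,nat_lit 0,nat_lit 0,nat_lit 2,nat_lit 1,nat_lit 2,nat_lit 1,nat_lit 1])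
 (.leaf [nat_lit 19,nat_lit 4,nat_lit 0,nat_lit 0,nat_lit 2,nat_lit 0,nat_lit 2,nat_lit 1,nat_lit 2,nat_lit 1,nat_lit 3,nat_lit 0,nat_lit 0,nat_lit 2,nat_lit 1,nat_lit 3,nat_lit 2,nat_lit 0,nat_lit 2,nat_lit 1,nat_lit 2,nat_lit 1,nat_lit 1,nat_lit 2,nat_lit 0,nat_lit 0,nat_lit 0,nat_lit 3])
) (.node (.leaf [nat_lit 39,nat_lit 17,nat_lit 1,nat_lit 2,nat_lit 3,nat_lit 0,nat_lit 3,nat_lit 2,nat_lit 1,nat_lit 1,nat_lit 1,nat_lit 2,nat_lit 0,nat_lit 2,nat_lit 1,nat_lit 1,nat_lit 1,nat_lit 2,nat_lit 0,nat_lit 0,nat_lit 4,nat_lit 1,nat_lit 1,nat_lit 1,nat_lit 2,nat_lit 3,nat_lit 2,nat_lit 0,nat_lit 0,nat_lit 0,nat_lit 4,nat_lit 2,nat_lit 3,nat_lit 0])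
 (.leaf [nat_lit 14,nat_lit 0,nat_lit 0,nat_lit 1,nat_lit 0,nat_lit 0,nat_lit 2,nat_lit 0,nat_lit 0,nat_lit 0,nat_lit 2,nat_lit 1,nat_lit 3,nat_lit 0,nat_lit 3,nat_lit 2,nat_lit 3,nat_lit 1,nat_lit 1,nat_lit 2,nat_lit 0,nat_lit 0,nat_lit 3,nat_lit 1,nat_lit 2,nat_lit 3])
)) (.node (.node (.leaf [nat_lit 30,nat_lit 19,nat_lit 0,nat_lit 2,nat_lit 0,nat_lit 4,nat_lit 2,nat_lit 1,nat_lit 1,nat_lit 2,nat_lit 1,nat_lit 2,nat_lit 0,nat_lit 2,nat_lit 0,nat_lit 0,nat_lit 2,nat_lit 0,nat_lit 0,nat_lit 3,nat_lit 2,nat_lit 1,nat_lit 3,nat_lit 2,nat_lit 3,nat_lit 1,nat_lit 2,nat_lit 4,nat_lit 2,nat_lit 1,nat_lit 2,nat_lit 4,nat_lit 3])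
 (.leaf [nat_lit 44,nat_lit 24,nat_lit 1,nat_lit 1,nat_lit 4,nat_lit 1,nat_lit 1,nat_lit 2,nat_lit 4,nat_lit 1,nat_lit 1,nat_lit 1,nat_lit 2,nat_lit 0,nat_lit 2,nat_lit 1,nat_lit 2,nat_lit 1,nat_lit 1,nat_lit 2,nat_lit 0,nat_lit 2,nat_lit 0,nat_lit 2,nat_lit 1,nat_lit 3,nat_lit 0,nat_lit 2,nat_lit 3,nat_lit 0,nat_lit 3,nat_lit 2,nat_lit 0,nat_lit 4,nat_lit 2,nat_lit 0])
) (.node (.leaf [nat_lit 10,nat_lit 13,nat_lit 0,nat_lit 2,nat_lit 1,nat_lit 2,nat_lit 3,nat_lit 2,nat_lit 0,nat_lit 0,nat_lit 0,nat_lit 2,nat_lit 1,nat_lit 1,nat_lit 2,nat_lit 0,nat_lit 2,nat_lit 1,nat_lit 3,nat_lit 2,nat_lit 3])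
 (.leaf [nat_lit 28,nat_lit 8,nat_lit 0,nat_lit 1,nat_lit 4,nat_lit 3,nat_lit 4,nat_lit 3,nat_lit 4,nat_lit 0,nat_lit 3,nat_lit 0,nat_lit 3,nat_lit 0,nat_lit 3,nat_lit 0,nat_lit 3])
)))) (.node (.node (.node (.node (.leaf [nat_lit 20,nat_lit 5,nat_lit 0,nat_lit 0,nat_lit 1,nat_lit 2,nat_lit 3,nat_lit 1,nat_lit 3,nat_lit 1,nat_lit 1,nat_lit 2,nat_lit 0,nat_lit 2,nat_lit 0,nat_lit 0,nat_lit 2,nat_lit 0,nat_lit 0,nat_lit 2,nat_lit 0,nat_lit 2,nat_lit 3,nat_lit 2,nat_lit 0,nat_lit 0,nat_lit 0,nat_lit 3,nat_lit 1])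
 (.leaf [nat_lit 37,nat_lit 11,nat_lit 0,nat_lit 1,nat_lit 3,nat_lit 0,nat_lit 4,nat_lit 1,nat_lit 2,nat_lit 3,nat_lit 0,nat_lit 3,nat_lit 2,nat_lit 3,nat_lit 1,nat_lit 2,nat_lit 0,nat_lit 2,nat_lit 0,nat_lit 2,nat_lit 0,nat_lit 2,nat_lit 0,nat_lit 0,nat_lit 2,nat_lit 0,nat_lit 4,nat_lit 2,nat_lit 0,nat_lit 2,nat_lit 0,nat_lit 2,nat_lit 0])
) (.node (.leaf [nat_lit 7,nat_lit 16,nat_lit 0,nat_lit 2,nat_lit 1,nat_lit 2,nat_lit 1,nat_lit 2,nat_lit 1,nat_lit 2,nat_lit 0,nat_lit 0,nat_lit 0,nat_lit 2,nat_lit 1,nat_lit 1,nat_lit 2,nat_lit 1,nat_lit 2,nat_lit 0,nat_lit 0,nat_lit 0,nat_lit 2,nat_lit 1,nat_lit 2,nat_lit 0])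
 (.leaf [nat_lit 42,nat_lit 19,nat_lit 1,nat_lit 1,nat_lit 3,nat_lit 2,nat_lit 1,nat_lit 2,nat_lit 0,nat_lit 2,nat_lit 1,nat_lit 4,nat_lit 1,nat_lit 2,nat_lit 1,nat_lit 1,nat_lit 2,nat_lit 0,nat_lit 2,nat_lit 1,nat_lit 1,nat_lit 2,nat_lit 1,nat_lit 2,nat_lit 3,nat_lit 2,nat_lit 1,nat_lit 2,nat_lit 3,nat_lit 1,nat_lit 2,nat_lit 0,nat_lit 3,nat_lit 2,nat_lit 4])
)) (.node (.node (.leaf [nat_lit 10,nat_lit 6,nat_lit 1,nat_lit 2,nat_lit 3,nat_lit 0,nat_lit 2,nat_lit 1,nat_lit 2,nat_lit 0,nat_lit 0,nat_lit 2,nat_lit 1,nat_lit 1,nat_lit 1,nat_lit 2,nat_lit 3,nat_lit 2,nat_lit 0,nat_lit 2,nat_lit 3])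
 (.leaf [nat_lit 25,nat_lit 16,nat_lit 1,nat_lit 2,nat_lit 4,nat_lit 0,nat_lit 0,nat_lit 2,nat_lit 1,nat_lit 1,nat_lit 1,nat_lit 2,nat_lit 1,nat_lit 2,nat_lit 1,nat_lit 2,nat_lit 1,nat_lit 3,nat_lit 0,nat_lit 2,nat_lit 1,nat_lit 1,nat_lit 4,nat_lit 2,nat_lit 0,nat_lit 3,nat_lit 1])
) (.node (.leaf [nat_lit 42,nat_lit 17,nat_lit 0,nat_lit 2,nat_lit 0,nat_lit 3,nat_lit 2,nat_lit 0,nat_lit 2,nat_lit 3,nat_lit 2,nat_lit 0,nat_lit 2,nat_lit 0,nat_lit 0,nat_lit 2,nat_lit 1,nat_lit 2,nat_lit 0,nat_lit 0,nat_lit 2,nat_lit 0,nat_lit 4,nat_lit 0,nat_lit 2,nat_lit 1,nat_lit 2,nat_lit 0,nat_lit 2,nat_lit 3,nat_lit 1,nat_lit 4,nat_lit 2,nat_lit 3,nat_lit 1])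
 (.leaf [nat_lit 7,nat_lit 5,nat_lit 0,nat_lit 0,nat_lit 2,nat_lit 1,nat_lit 2,nat_lit 0,nat_lit 0,nat_lit 0,nat_lit 2,nat_lit 1,nat_lit 2,nat_lit 0,nat_lit 2,nat_lit 1,nat_lit 2,nat_lit 1,nat_lit 2,nat_lit 1,nat_lit 2,nat_lit 0,nat_lit 0,nat_lit 0,nat_lit 2,nat_lit 1])
))) (.node (.node (.node (.leaf [nat_lit 31,nat_lit 17,nat_lit 1,nat_lit 4,nat_lit 0,nat_lit 4,nat_lit 1,nat_lit 4,nat_lit 2,nat_lit 3,nat_lit 2,nat_lit 0,nat_lit 3,nat_lit 1,nat_lit 1,nat_lit 1,nat_lit 2,nat_lit 1,nat_lit 2,nat_lit 1,nat_lit 1,nat_lit 2,nat_lit 1,nat_lit 2,nat_lit 0,nat_lit 0,nat_lit 2,nat_lit 0,nat_lit 4,nat_lit 1,nat_lit 3,nat_lit 2,nat_lit 3])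
 (.leaf [nat_lit 14,nat_lit 10,nat_lit 1,nat_lit 2,nat_lit 3,nat_lit 1,nat_lit 3,nat_lit 0,nat_lit 2,nat_lit 1,nat_lit 1,nat_lit 1,nat_lit 2,nat_lit 1,nat_lit 1,nat_lit 1,nat_lit 3,nat_lit 2,nat_lit 0,nat_lit 3,nat_lit 1,nat_lit 1,nat_lit 2,nat_lit 0,nat_lit 0,nat_lit 3])
) (.node (.leaf [nat_lit 40,nat_lit 23,nat_lit 1,nat_lit 4,nat_lit 2,nat_lit 0,nat_lit 0,nat_lit 2,nat_lit 1,nat_lit 1,nat_lit 1,nat_lit 2,nat_lit 1,nat_lit 2,nat_lit 0,nat_lit 0,nat_lit 2,nat_lit 3,nat_lit 2,nat_lit 1,nat_lit 1,nat_lit 3,nat_lit 1,nat_lit 2,nat_lit 4,nat_lit 3,nat_lit 1,nat_lit 1,nat_lit 1,nat_lit 4,nat_lit 0,nat_lit 0,nat_lit 0,nat_lit 3])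
 (.leaf [nat_lit 44,nat_lit 9,nat_lit 0,nat_lit 0,nat_lit 2,nat_lit 4,nat_lit 1,nat_lit 2,nat_lit 3,nat_lit 1,nat_lit 3,nat_lit 2,nat_lit 1,nat_lit 3,nat_lit 0,nat_lit 2,nat_lit 1,nat_lit 2,nat_lit 1,nat_lit 2,nat_lit 0,nat_lit 0,nat_lit 2,nat_lit 0,nat_lit 2,nat_lit 1,nat_lit 2,nat_lit 0,nat_lit 0,nat_lit 0,nat_lit 4,nat_lit 2,nat_lit 0,nat_lit 0,nat_lit 4,nat_lit 1])
)) (.node (.node (.leaf [nat_lit 20,nat_lit 0,nat_lit 1,nat_lit 2,nat_lit 3,nat_lit 2,nat_lit 1,nat_lit 2,nat_lit 1,nat_lit 1,nat_lit 2,nat_lit 1,nat_lit 1,nat_lit 2,nat_lit 1,nat_lit 2,nat_lit 0,nat_lit 0,nat_lit 3,nat_lit 0,nat_lit 3,nat_lit 2,nat_lit 0,nat_lit 0,nat_lit 0,nat_lit 3,nat_lit 1,nat_lit 1,nat_lit 1])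
 (.leaf [nat_lit 45,nat_lit 8,nat_lit 1,nat_lit 2,nat_lit 1,nat_lit 1,nat_lit 1,nat_lit 3,nat_lit 0,nat_lit 2,nat_lit 3,nat_lit 1,nat_lit 1,nat_lit 2,nat_lit 0,nat_lit 2,nat_lit 0,nat_lit 0,nat_lit 2,nat_lit 1,nat_lit 1,nat_lit 2,nat_lit 1,nat_lit 1,nat_lit 1,nat_lit 2,nat_lit 1,nat_lit 1,nat_lit 1,nat_lit 4,nat_lit 2,nat_lit 4,nat_lit 0,nat_lit 4,nat_lit 2,nat_lit 4,nat_lit 1])
) (.leaf [nat_lit 19,nat_lit 18,nat_lit 0,nat_lit 1,nat_lit 2,nat_lit 1,nat_lit 2,nat_lit 1,nat_lit 1,nat_lit 2,nat_lit 0,nat_lit 0,nat_lit 0,nat_lit 3,nat_lit 1,nat_lit 2,nat_lit 0,nat_lit 2,nat_lit 1,nat_lit 2,nat_lit 1,nat_lit 3,nat_lit 0,nat_lit 0,nat_lit 2,nat_lit 1,nat_lit 3,nat_lit 2])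
))))))) (.node (.node (.node (.node (.node (.node (.node (.node (.leaf [nat_lit 23,nat_lit 4,nat_lit 1,nat_lit 4,nat_lit 3,nat_lit 4,nat_lit 3,nat_lit 4,nat_lit 3])
 (.leaf [nat_lit 37,nat_lit 17,nat_lit 1,nat_lit 3,nat_lit 1,nat_lit 1,nat_lit 2,nat_lit 1,nat_lit 2,nat_lit 1,nat_lit 2,nat_lit 4,nat_lit 1,nat_lit 2,nat_lit 1,nat_lit 1,nat_lit 2,nat_lit 1,nat_lit 2,nat_lit 1,nat_lit 2,nat_lit 1,nat_lit 2,nat_lit 0,nat_lit 3,nat_lit 2,nat_lit 3,nat_lit 1,nat_lit 3,nat_lit 2,nat_lit 0,nat_lit 4,nat_lit 1])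
) (.node (.leaf [nat_lit 45,nat_lit 31,nat_lit 0,nat_lit 4,nat_lit 2,nat_lit 4,nat_lit 0,nat_lit 0,nat_lit 0,nat_lit 2,nat_lit 0,nat_lit 0,nat_lit 0,nat_lit 2,nat_lit 0,nat_lit 0,nat_lit 2,nat_lit 1,nat_lit 1,nat_lit 2,nat_lit 1,nat_lit 2,nat_lit 0,nat_lit 0,nat_lit 3,nat_lit 2,nat_lit 1,nat_lit 3,nat_lit 0,nat_lit 0,nat_lit 0,nat_lit 2,nat_lit 0,nat_lit 4,nat_lit 2,nat_lit 4,nat_lit 1])
 (.leaf [nat_lit 6,nat_lit 10,nat_lit 1,nat_lit 2,nat_lit 1,nat_lit 2,nat_lit 1,nat_lit 2,nat_lit 0,nat_lit 0,nat_lit 2,nat_lit 1,nat_lit 1,nat_lit 2,nat_lit 0,nat_lit 2,nat_lit 0,nat_lit 2,nat_lit 1,nat_lit 1,nat_lit 2,nat_lit 0,nat_lit 0])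
)) (.node (.node (.leaf [nat_lit 31,nat_lit 16,nat_lit 1,nat_lit 3,nat_lit 4,nat_lit 0,nat_lit 4,nat_lit 1,nat_lit 4,nat_lit 2,nat_lit 3,nat_lit 2,nat_lit 0,nat_lit 3,nat_lit 1,nat_lit 1,nat_lit 1,nat_lit 2,nat_lit 1,nat_lit 2,nat_lit 1,nat_lit 1,nat_lit 2,nat_lit 1,nat_lit 2,nat_lit 0,nat_lit 0,nat_lit 2,nat_lit 0,nat_lit 4,nat_lit 1,nat_lit 3,nat_lit 2])
 (.leaf [nat_lit 7,nat_lit 21,nat_lit 1,nat_lit 0,nat_lit 1,nat_lit 2,nat_lit 0,nat_lit 2,nat_lit 0,nat_lit 2,nat_lit 0,nat_lit 2,nat_lit 1,nat_lit 2,nat_lit 0,nat_lit 2,nat_lit 1,nat_lit 1,nat_lit 1,nat_lit 2,nat_lit 0,nat_lit 2,nat_lit 0,nat_lit 0,nat_lit 2,nat_lit 1])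
) (.node (.leaf [nat_lit 16,nat_lit 16,nat_lit 0,nat_lit 0,nat_lit 3,nat_lit 0,nat_lit 2,nat_lit 0,nat_lit 2,nat_lit 0,nat_lit 2,nat_lit 0,nat_lit 0,nat_lit 0,nat_lit 2,nat_lit 3,nat_lit 1,nat_lit 1,nat_lit 2,nat_lit 0,nat_lit 3,nat_lit 1,nat_lit 2,nat_lit 0,nat_lit 0,nat_lit 3,nat_lit 2])
 (.leaf [nat_lit 15,nat_lit 3,nat_lit 0,nat_lit 2,nat_lit 1,nat_lit 1,nat_lit 2,nat_lit 0,nat_lit 2,nat_lit 1,nat_lit 2,nat_lit 1,nat_lit 2,nat_lit 3,nat_lit 2,nat_lit 3,nat_lit 0,nat_lit 2,nat_lit 3,nat_lit 2,nat_lit 3,nat_lit 2,nat_lit 1,nat_lit 3,nat_lit 0,nat_lit 0,nat_lit 0])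
))) (.node (.node (.node (.leaf [nat_lit 12,nat_lit 8,nat_lit 1,nat_lit 0,nat_lit 2,nat_lit 1,nat_lit 2,nat_lit 1,nat_lit 2,nat_lit 1,nat_lit 3,nat_lit 1,nat_lit 1,nat_lit 2,nat_lit 1,nat_lit 2,nat_lit 1,nat_lit 2,nat_lit 1,nat_lit 3,nat_lit 1])
 (.leaf [nat_lit 30,nat_lit 17,nat_lit 0,nat_lit 4,nat_lit 3,nat_lit 2,nat_lit 0,nat_lit 4,nat_lit 2,nat_lit 1,nat_lit 1,nat_lit 2,nat_lit 1,nat_lit 2,nat_lit 0,nat_lit 2,nat_lit 0,nat_lit 0,nat_lit 2,nat_lit 0,nat_lit 0,nat_lit 3,nat_lit 2,nat_lit 1,nat_lit 3,nat_lit 2,nat_lit 3,nat_lit 1,nat_lit 2,nat_lit 4,nat_lit 2,nat_lit 1,nat_lit 2])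
) (.node (.leaf [nat_lit 38,nat_lit 14,nat_lit 1,nat_lit 2,nat_lit 4,nat_lit 2,nat_lit 4,nat_lit 2,nat_lit 1,nat_lit 2,nat_lit 0,nat_lit 0,nat_lit 2,nat_lit 1,nat_lit 1,nat_lit 2,nat_lit 1,nat_lit 2,nat_lit 1,nat_lit 1,nat_lit 2,nat_lit 1,nat_lit 3,nat_lit 0,nat_lit 3,nat_lit 1,nat_lit 3,nat_lit 0,nat_lit 4,nat_lit 3,nat_lit 2,nat_lit 0,nat_lit 4,nat_lit 3])
 (.leaf [nat_lit 32,nat_lit 17,nat_lit 0,nat_lit 3,nat_lit 4,nat_lit 1,nat_lit 2,nat_lit 1,nat_lit 1,nat_lit 1,nat_lit 2,nat_lit 3,nat_lit 1,nat_lit 2,nat_lit 1,nat_lit 1,nat_lit 2,nat_lit 0,nat_lit 0,nat_lit 0,nat_lit 2,nat_lit 0,nat_lit 2,nat_lit 1,nat_lit 1,nat_lit 1,nat_lit 2,nat_lit 4,nat_lit 3,nat_lit 2,nat_lit 0,nat_lit 3,nat_lit 1,nat_lit 2])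
)) (.node (.node (.leaf [nat_lit 46,nat_lit 14,nat_lit 1,nat_lit 4,nat_lit 2,nat_lit 1,nat_lit 2,nat_lit 0,nat_lit 3,nat_lit 0,nat_lit 2,nat_lit 0,nat_lit 4,nat_lit 0,nat_lit 0,nat_lit 2,nat_lit 1,nat_lit 2,nat_lit 1,nat_lit 2,nat_lit 1,nat_lit 1,nat_lit 1,nat_lit 2,nat_lit 0,nat_lit 0,nat_lit 0,nat_lit 2,nat_lit 1,nat_lit 2,nat_lit 3,nat_lit 0,nat_lit 2,nat_lit 1,nat_lit 1,nat_lit 3,nat_lit 0])
 (.leaf [nat_lit 12,nat_lit 16,nat_lit 1,nat_lit 0,nat_lit 1,nat_lit 2,nat_lit 1,nat_lit 2,nat_lit 1,nat_lit 2,nat_lit 1,nat_lit 3,nat_lit 1,nat_lit 1,nat_lit 2,nat_lit 1,nat_lit 2,nat_lit 1,nat_lit 2,nat_lit 1,nat_lit 3])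
) (.node (.leaf [nat_lit 40,nat_lit 21,nat_lit 1,nat_lit 1,nat_lit 3,nat_lit 4,nat_lit 2,nat_lit 0,nat_lit 0,nat_lit 2,nat_lit 1,nat_lit 1,nat_lit 1,nat_lit 2,nat_lit 1,nat_lit 2,nat_lit 0,nat_lit 0,nat_lit 2,nat_lit 3,nat_lit 2,nat_lit 1,nat_lit 1,nat_lit 3,nat_lit 1,nat_lit 2,nat_lit 4,nat_lit 3,nat_lit 1,nat_lit 1,nat_lit 1,nat_lit 4,nat_lit 0,nat_lit 0])
 (.leaf [nat_lit 15,nat_lit 6,nat_lit 1,nat_lit 2,nat_lit 1,nat_lit 3,nat_lit 2,nat_lit 3,nat_lit 2,nat_lit 0,nat_lit 2,nat_lit 0,nat_lit 2,nat_lit 1,nat_lit 2,nat_lit 0,nat_lit 0,nat_lit 2,nat_lit 1,nat_lit 1,nat_lit 1,nat_lit 3,nat_lit 0,nat_lit 2,nat_lit 3,nat_lit 2,nat_lit 3])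
)))) (.node (.node (.node (.node (.leaf [nat_lit 32,nat_lit 14,nat_lit 0,nat_lit 3,nat_lit 1,nat_lit 2,nat_lit 3,nat_lit 4,nat_lit 1,nat_lit 2,nat_lit 1,nat_lit 1,nat_lit 1,nat_lit 2,nat_lit 3,nat_lit 1,nat_lit 2,nat_lit 1,nat_lit 1,nat_lit 2,nat_lit 0,nat_lit 0,nat_lit 0,nat_lit 2,nat_lit 0,nat_lit 2,nat_lit 1,nat_lit 1,nat_lit 1,nat_lit 2,nat_lit 4,nat_lit 3,nat_lit 2,nat_lit 0])
 (.leaf [nat_lit 29,nat_lit 2,nat_lit 1,nat_lit 0,nat_lit 3,nat_lit 0,nat_lit 4,nat_lit 1,nat_lit 3,nat_lit 0,nat_lit 2,nat_lit 4,nat_lit 0,nat_lit 2,nat_lit 0,nat_lit 3,nat_lit 1,nat_lit 2,nat_lit 1,nat_lit 4,nat_lit 2])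
) (.node (.leaf [nat_lit 33,nat_lit 16,nat_lit 0,nat_lit 1,nat_lit 2,nat_lit 3,nat_lit 4,nat_lit 2,nat_lit 4,nat_lit 1,nat_lit 2,nat_lit 1,nat_lit 1,nat_lit 2,nat_lit 0,nat_lit 0,nat_lit 0,nat_lit 2,nat_lit 0,nat_lit 2,nat_lit 1,nat_lit 1,nat_lit 3,nat_lit 1,nat_lit 1,nat_lit 4,nat_lit 0,nat_lit 2,nat_lit 0,nat_lit 0])
 (.leaf [nat_lit 34,nat_lit 25,nat_lit 1,nat_lit 2,nat_lit 1,nat_lit 2,nat_lit 1,nat_lit 1,nat_lit 1,nat_lit 2,nat_lit 4,nat_lit 1,nat_lit 1,nat_lit 1,nat_lit 2,nat_lit 1,nat_lit 2,nat_lit 0,nat_lit 0,nat_lit 2,nat_lit 1,nat_lit 1,nat_lit 1,nat_lit 2,nat_lit 1,nat_lit 3,nat_lit 2,nat_lit 0,nat_lit 0,nat_lit 0,nat_lit 2,nat_lit 0,nat_lit 4,nat_lit 1])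
)) (.node (.node (.leaf [nat_lit 36,nat_lit 5,nat_lit 0,nat_lit 4,nat_lit 0,nat_lit 3,nat_lit 2,nat_lit 0,nat_lit 3,nat_lit 2,nat_lit 1,nat_lit 3,nat_lit 2,nat_lit 1,nat_lit 1,nat_lit 1,nat_lit 2,nat_lit 0,nat_lit 0,nat_lit 0,nat_lit 2,nat_lit 1,nat_lit 2,nat_lit 0,nat_lit 2,nat_lit 4,nat_lit 1,nat_lit 2,nat_lit 3,nat_lit 0,nat_lit 0,nat_lit 0,nat_lit 2,nat_lit 0])
 (.leaf [nat_lit 37,nat_lit 14,nat_lit 0,nat_lit 4,nat_lit 1,nat_lit 2,nat_lit 3,nat_lit 0,nat_lit 3,nat_lit 2,nat_lit 3,nat_lit 1,nat_lit 2,nat_lit 0,nat_lit 2,nat_lit 0,nat_lit 2,nat_lit 0,nat_lit 2,nat_lit 0,nat_lit 0,nat_lit 2,nat_lit 0,nat_lit 4,nat_lit 2,nat_lit 0,nat_lit 2,nat_lit 0,nat_lit 2,nat_lit 0,nat_lit 0,nat_lit 3,nat_lit 0])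
) (.node (.leaf [nat_lit 18,nat_lit 19,nat_lit 0,nat_lit 2,nat_lit 1,nat_lit 3,nat_lit 2,nat_lit 3,nat_lit 2,nat_lit 0,nat_lit 0,nat_lit 0,nat_lit 2,nat_lit 1,nat_lit 1,nat_lit 2,nat_lit 0,nat_lit 2,nat_lit 1,nat_lit 1,nat_lit 3,nat_lit 0,nat_lit 3,nat_lit 2,nat_lit 3,nat_lit 1,nat_lit 3,nat_lit 0])
 (.leaf [nat_lit 41,nat_lit 18,nat_lit 0,nat_lit 2,nat_lit 1,nat_lit 3,nat_lit 2,nat_lit 0,nat_lit 2,nat_lit 0,nat_lit 0,nat_lit 4,nat_lit 1,nat_lit 2,nat_lit 0,nat_lit 2,nat_lit 0,nat_lit 0,nat_lit 0,nat_lit 2,nat_lit 1,nat_lit 2,nat_lit 1,nat_lit 1,nat_lit 2,nat_lit 1,nat_lit 3,nat_lit 2,nat_lit 1,nat_lit 3,nat_lit 0,nat_lit 0,nat_lit 4,nat_lit 0])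
))) (.node (.node (.node (.leaf [nat_lit 19,nat_lit 3,nat_lit 1,nat_lit 2,nat_lit 0,nat_lit 2,nat_lit 1,nat_lit 2,nat_lit 3,nat_lit 0,nat_lit 2,nat_lit 1,nat_lit 1,nat_lit 3,nat_lit 0,nat_lit 2,nat_lit 0,nat_lit 2,nat_lit 1,nat_lit 2,nat_lit 0,nat_lit 3,nat_lit 1,nat_lit 1,nat_lit 1,nat_lit 2,nat_lit 0,nat_lit 0])
 (.leaf [nat_lit 24,nat_lit 5,nat_lit 1,nat_lit 0,nat_lit 4,nat_lit 2,nat_lit 4,nat_lit 0,nat_lit 4,nat_lit 0,nat_lit 2,nat_lit 0,nat_lit 2,nat_lit 0,nat_lit 0,nat_lit 0,nat_lit 2,nat_lit 1,nat_lit 1,nat_lit 1,nat_lit 2,nat_lit 1,nat_lit 2,nat_lit 1,nat_lit 4])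
) (.node (.leaf [nat_lit 42,nat_lit 13,nat_lit 0,nat_lit 4,nat_lit 2,nat_lit 3,nat_lit 1,nat_lit 2,nat_lit 0,nat_lit 3,nat_lit 2,nat_lit 0,nat_lit 2,nat_lit 3,nat_lit 2,nat_lit 0,nat_lit 2,nat_lit 0,nat_lit 0,nat_lit 2,nat_lit 1,nat_lit 2,nat_lit 0,nat_lit 0,nat_lit 2,nat_lit 0,nat_lit 4,nat_lit 0,nat_lit 2,nat_lit 1,nat_lit 2,nat_lit 0,nat_lit 2,nat_lit 3,nat_lit 1])
 (.leaf [nat_lit 47,nat_lit 19,nat_lit 0,nat_lit 1,nat_lit 0,nat_lit 2,nat_lit 4,nat_lit 1,nat_lit 1,nat_lit 2,nat_lit 0,nat_lit 0,nat_lit 2,nat_lit 1,nat_lit 2,nat_lit 0,nat_lit 2,nat_lit 1,nat_lit 2,nat_lit 0,nat_lit 0,nat_lit 0,nat_lit 2,nat_lit 0,nat_lit 3,nat_lit 2,nat_lit 3,nat_lit 1,nat_lit 2,nat_lit 0,nat_lit 3,nat_lit 1,nat_lit 1,nat_lit 3,nat_lit 4,nat_lit 1,nat_lit 1,nat_lit 2])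
)) (.node (.node (.leaf [nat_lit 25,nat_lit 13,nat_lit 1,nat_lit 1,nat_lit 3,nat_lit 1,nat_lit 2,nat_lit 4,nat_lit 0,nat_lit 0,nat_lit 2,nat_lit 1,nat_lit 1,nat_lit 1,nat_lit 2,nat_lit 1,nat_lit 2,nat_lit 1,nat_lit 2,nat_lit 1,nat_lit 3,nat_lit 0,nat_lit 2,nat_lit 1,nat_lit 1,nat_lit 4,nat_lit 2])
 (.leaf [nat_lit 20,nat_lit 16,nat_lit 1,nat_lit 1,nat_lit 3,nat_lit 2,nat_lit 0,nat_lit 0,nat_lit 0,nat_lit 3,nat_lit 1,nat_lit 1,nat_lit 1,nat_lit 2,nat_lit 3,nat_lit 2,nat_lit 1,nat_lit 2,nat_lit 1,nat_lit 1,nat_lit 2,nat_lit 1,nat_lit 1,nat_lit 2,nat_lit 1,nat_lit 2,nat_lit 0,nat_lit 0,nat_lit 3])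
) (.node (.leaf [nat_lit 13,nat_lit 16,nat_lit 0,nat_lit 3,nat_lit 1,nat_lit 2,nat_lit 0,nat_lit 0,nat_lit 2,nat_lit 1,nat_lit 1,nat_lit 2,nat_lit 0,nat_lit 2,nat_lit 3,nat_lit 0,nat_lit 3,nat_lit 0,nat_lit 2,nat_lit 1,nat_lit 3,nat_lit 1])
 (.leaf [nat_lit 9,nat_lit 14,nat_lit 1,nat_lit 2,nat_lit 1,nat_lit 3,nat_lit 0,nat_lit 2,nat_lit 1,nat_lit 3,nat_lit 0,nat_lit 2,nat_lit 1,nat_lit 3,nat_lit 0,nat_lit 2,nat_lit 1,nat_lit 3,nat_lit 0])
))))) (.node (.node (.node (.node (.node (.leaf [nat_lit 7,nat_lit 18,nat_lit 0,nat_lit 2,nat_lit 1,nat_lit 2,nat_lit 1,nat_lit 2,nat_lit 0,nat_lit 0,nat_lit 0,nat_lit 2,nat_lit 1,nat_lit 1,nat_lit 2,nat_lit 1,nat_lit 2,nat_lit 0,nat_lit 0,nat_lit 0,nat_lit 2,nat_lit 1,nat_lit 2,nat_lit 0,nat_lit 2,nat_lit 1])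
 (.leaf [nat_lit 35,nat_lit 18,nat_lit 1,nat_lit 0,nat_lit 1,nat_lit 3,nat_lit 4,nat_lit 1,nat_lit 1,nat_lit 1,nat_lit 2,nat_lit 1,nat_lit 2,nat_lit 1,nat_lit 1,nat_lit 1,nat_lit 2,nat_lit 0,nat_lit 2,nat_lit 1,nat_lit 3,nat_lit 0,nat_lit 2,nat_lit 1,nat_lit 2,nat_lit 0,nat_lit 2,nat_lit 1,nat_lit 4,nat_lit 1,nat_lit 2,nat_lit 3,nat_lit 2,nat_lit 1])
) (.node (.leaf [nat_lit 30,nat_lit 13,nat_lit 0,nat_lit 4,nat_lit 2,nat_lit 1,nat_lit 2,nat_lit 4,nat_lit 3,nat_lit 2,nat_lit 0,nat_lit 4,nat_lit 2,nat_lit 1,nat_lit 1,nat_lit 2,nat_lit 1,nat_lit 2,nat_lit 0,nat_lit 2,nat_lit 0,nat_lit 0,nat_lit 2,nat_lit 0,nat_lit 0,nat_lit 3,nat_lit 2,nat_lit 1,nat_lit 3,nat_lit 2,nat_lit 3,nat_lit 1,nat_lit 2])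
 (.leaf [nat_lit 12,nat_lit 0,nat_lit 1,nat_lit 2,nat_lit 1,nat_lit 2,nat_lit 1,nat_lit 2,nat_lit 1,nat_lit 3,nat_lit 1,nat_lit 1,nat_lit 2,nat_lit 1,nat_lit 2,nat_lit 1,nat_lit 2,nat_lit 1,nat_lit 3,nat_lit 1,nat_lit 1])
)) (.node (.node (.leaf [nat_lit 14,nat_lit 11,nat_lit 0,nat_lit 3,nat_lit 2,nat_lit 3,nat_lit 1,nat_lit 1,nat_lit 2,nat_lit 0,nat_lit 0,nat_lit 3,nat_lit 1,nat_lit 2,nat_lit 3,nat_lit 0,nat_lit 0,nat_lit 0,nat_lit 2,nat_lit 0,nat_lit 0,nat_lit 0,nat_lit 2,nat_lit 1,nat_lit 3,nat_lit 0])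
 (.leaf [nat_lit 19,nat_lit 11,nat_lit 1,nat_lit 0,nat_lit 1,nat_lit 3,nat_lit 0,nat_lit 2,nat_lit 0,nat_lit 2,nat_lit 1,nat_lit 2,nat_lit 0,nat_lit 3,nat_lit 1,nat_lit 1,nat_lit 1,nat_lit 2,nat_lit 0,nat_lit 0,nat_lit 2,nat_lit 0,nat_lit 2,nat_lit 1,nat_lit 2,nat_lit 3,nat_lit 0,nat_lit 2])
) (.node (.leaf [nat_lit 46,nat_lit 11,nat_lit 1,nat_lit 0,nat_lit 3,nat_lit 0,nat_lit 4,nat_lit 2,nat_lit 1,nat_lit 2,nat_lit 0,nat_lit 3,nat_lit 0,nat_lit 2,nat_lit 0,nat_lit 4,nat_lit 0,nat_lit 0,nat_lit 2,nat_lit 1,nat_lit 2,nat_lit 1,nat_lit 2,nat_lit 1,nat_lit 1,nat_lit 1,nat_lit 2,nat_lit 0,nat_lit 0,nat_lit 0,nat_lit 2,nat_lit 1,nat_lit 2,nat_lit 3,nat_lit 0,nat_lit 2,nat_lit 1])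
 (.leaf [nat_lit 20,nat_lit 8,nat_lit 1,nat_lit 0,nat_lit 1,nat_lit 2,nat_lit 1,nat_lit 2,nat_lit 0,nat_lit 0,nat_lit 3,nat_lit 0,nat_lit 3,nat_lit 2,nat_lit 0,nat_lit 0,nat_lit 0,nat_lit 3,nat_lit 1,nat_lit 1,nat_lit 1,nat_lit 2,nat_lit 3,nat_lit 2,nat_lit 1,nat_lit 2,nat_lit 1,nat_lit 1,nat_lit 2])
))) (.node (.node (.node (.leaf [nat_lit 25,nat_lit 11,nat_lit 1,nat_lit 4,nat_lit 2,nat_lit 0,nat_lit 3,nat_lit 1,nat_lit 2,nat_lit 4,nat_lit 0,nat_lit 0,nat_lit 2,nat_lit 1,nat_lit 1,nat_lit 1,nat_lit 2,nat_lit 1,nat_lit 2,nat_lit 1,nat_lit 2,nat_lit 1,nat_lit 3,nat_lit 0,nat_lit 2,nat_lit 1,nat_lit 1])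
 (.leaf [nat_lit 23,nat_lit 3,nat_lit 1,nat_lit 3,nat_lit 4,nat_lit 3,nat_lit 4,nat_lit 3,nat_lit 4])
) (.node (.leaf [nat_lit 36,nat_lit 27,nat_lit 1,nat_lit 2,nat_lit 1,nat_lit 1,nat_lit 1,nat_lit 3,nat_lit 2,nat_lit 0,nat_lit 4,nat_lit 2,nat_lit 1,nat_lit 2,nat_lit 0,nat_lit 2,nat_lit 1,nat_lit 1,nat_lit 1,nat_lit 2,nat_lit 0,nat_lit 0,nat_lit 0,nat_lit 2,nat_lit 3,nat_lit 0,nat_lit 2,nat_lit 3,nat_lit 1,nat_lit 2,nat_lit 3,nat_lit 1,nat_lit 4,nat_lit 1])
 (.leaf [nat_lit 27,nat_lit 11,nat_lit 1,nat_lit 1,nat_lit 4,nat_lit 0,nat_lit 3,nat_lit 1,nat_lit 1,nat_lit 3,nat_lit 0,nat_lit 0,nat_lit 3,nat_lit 1,nat_lit 4,nat_lit 1,nat_lit 1,nat_lit 1,nat_lit 2,nat_lit 1,nat_lit 3,nat_lit 1,nat_lit 3,nat_lit 0,nat_lit 3,nat_lit 0,nat_lit 2,nat_lit 0,nat_lit 0])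
)) (.node (.node (.leaf [nat_lit 43,nat_lit 19,nat_lit 1,nat_lit 1,nat_lit 4,nat_lit 0,nat_lit 2,nat_lit 0,nat_lit 0,nat_lit 2,nat_lit 1,nat_lit 1,nat_lit 2,nat_lit 1,nat_lit 2,nat_lit 1,nat_lit 1,nat_lit 2,nat_lit 0,nat_lit 2,nat_lit 3,nat_lit 0,nat_lit 2,nat_lit 0,nat_lit 2,nat_lit 1,nat_lit 1,nat_lit 3,nat_lit 1,nat_lit 4,nat_lit 1,nat_lit 3,nat_lit 2,nat_lit 1,nat_lit 1,nat_lit 2])
 (.leaf [nat_lit 46,nat_lit 11,nat_lit 0,nat_lit 0,nat_lit 2,nat_lit 1,nat_lit 3,nat_lit 1,nat_lit 2,nat_lit 0,nat_lit 2,nat_lit 4,nat_lit 1,nat_lit 3,nat_lit 0,nat_lit 0,nat_lit 2,nat_lit 1,nat_lit 3,nat_lit 2,nat_lit 0,nat_lit 2,nat_lit 1,nat_lit 1,nat_lit 1,nat_lit 2,nat_lit 0,nat_lit 0,nat_lit 0,nat_lit 2,nat_lit 0,nat_lit 2,nat_lit 0,nat_lit 2,nat_lit 1,nat_lit 1,nat_lit 4])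
) (.node (.leaf [nat_lit 34,nat_lit 24,nat_lit 1,nat_lit 0,nat_lit 2,nat_lit 1,nat_lit 2,nat_lit 1,nat_lit 1,nat_lit 1,nat_lit 2,nat_lit 4,nat_lit 1,nat_lit 1,nat_lit 1,nat_lit 2,nat_lit 1,nat_lit 2,nat_lit 0,nat_lit 0,nat_lit 2,nat_lit 1,nat_lit 1,nat_lit 1,nat_lit 2,nat_lit 1,nat_lit 3,nat_lit 2,nat_lit 0,nat_lit 0,nat_lit 0,nat_lit 2,nat_lit 0,nat_lit 4])
 (.leaf [nat_lit 5,nat_lit 14,nat_lit 1,nat_lit 1,nat_lit 2,nat_lit 1,nat_lit 1,nat_lit 2,nat_lit 0,nat_lit 0,nat_lit 2,nat_lit 1,nat_lit 1,nat_lit 2,nat_lit 0,nat_lit 0,nat_lit 2,nat_lit 1,nat_lit 1,nat_lit 2,nat_lit 0])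
)))) (.node (.node (.node (.node (.leaf [nat_lit 16,nat_lit 3,nat_lit 1,nat_lit 0,nat_lit 2,nat_lit 1,nat_lit 3,nat_lit 0,nat_lit 2,nat_lit 3,nat_lit 1,nat_lit 1,nat_lit 2,nat_lit 0,nat_lit 3,nat_lit 1,nat_lit 2,nat_lit 0,nat_lit 0,nat_lit 3,nat_lit 2,nat_lit 1,nat_lit 1,nat_lit 1,nat_lit 2,nat_lit 1,nat_lit 2])
 (.leaf [nat_lit 37,nat_lit 9,nat_lit 1,nat_lit 2,nat_lit 3,nat_lit 1,nat_lit 3,nat_lit 2,nat_lit 0,nat_lit 4,nat_lit 1,nat_lit 3,nat_lit 1,nat_lit 1,nat_lit 2,nat_lit 1,nat_lit 2,nat_lit 1,nat_lit 2,nat_lit 4,nat_lit 1,nat_lit 2,nat_lit 1,nat_lit 1,nat_lit 2,nat_lit 1,nat_lit 2,nat_lit 1,nat_lit 2,nat_lit 1,nat_lit 2,nat_lit 0,nat_lit 3])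
) (.node (.leaf [nat_lit 40,nat_lit 19,nat_lit 1,nat_lit 1,nat_lit 0,nat_lit 0,nat_lit 3,nat_lit 4,nat_lit 2,nat_lit 0,nat_lit 0,nat_lit 2,nat_lit 1,nat_lit 1,nat_lit 1,nat_lit 2,nat_lit 1,nat_lit 2,nat_lit 0,nat_lit 0,nat_lit 2,nat_lit 3,nat_lit 2,nat_lit 1,nat_lit 1,nat_lit 3,nat_lit 1,nat_lit 2,nat_lit 4,nat_lit 3,nat_lit 1,nat_lit 1,nat_lit 1,nat_lit 4])
 (.leaf [nat_lit 44,nat_lit 29,nat_lit 1,nat_lit 4,nat_lit 1,nat_lit 1,nat_lit 1,nat_lit 2,nat_lit 0,nat_lit 2,nat_lit 1,nat_lit 2,nat_lit 1,nat_lit 1,nat_lit 2,nat_lit 0,nat_lit 2,nat_lit 0,nat_lit 2,nat_lit 1,nat_lit 3,nat_lit 0,nat_lit 2,nat_lit 3,nat_lit 0,nat_lit 3,nat_lit 2,nat_lit 0,nat_lit 4,nat_lit 2,nat_lit 0,nat_lit 0,nat_lit 4,nat_lit 1,nat_lit 1,nat_lit 2])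
)) (.node (.node (.leaf [nat_lit 47,nat_lit 23,nat_lit 1,nat_lit 3,nat_lit 1,nat_lit 2,nat_lit 0,nat_lit 3,nat_lit 2,nat_lit 3,nat_lit 1,nat_lit 2,nat_lit 1,nat_lit 1,nat_lit 1,nat_lit 2,nat_lit 0,nat_lit 2,nat_lit 1,nat_lit 2,nat_lit 0,nat_lit 2,nat_lit 1,nat_lit 1,nat_lit 2,nat_lit 0,nat_lit 0,nat_lit 4,nat_lit 2,nat_lit 1,nat_lit 1,nat_lit 2,nat_lit 0,nat_lit 0,nat_lit 4,nat_lit 3,nat_lit 0,nat_lit 0])
 (.leaf [nat_lit 38,nat_lit 9,nat_lit 1,nat_lit 3,nat_lit 2,nat_lit 0,nat_lit 4,nat_lit 3,nat_lit 2,nat_lit 4,nat_lit 2,nat_lit 4,nat_lit 2,nat_lit 1,nat_lit 2,nat_lit 0,nat_lit 0,nat_lit 2,nat_lit 1,nat_lit 1,nat_lit 2,nat_lit 1,nat_lit 2,nat_lit 1,nat_lit 1,nat_lit 2,nat_lit 1,nat_lit 3,nat_lit 0,nat_lit 3,nat_lit 1,nat_lit 3,nat_lit 0,nat_lit 4])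
) (.node (.leaf [nat_lit 19,nat_lit 24,nat_lit 1,nat_lit 0,nat_lit 2,nat_lit 0,nat_lit 0,nat_lit 2,nat_lit 0,nat_lit 2,nat_lit 1,nat_lit 2,nat_lit 3,nat_lit 0,nat_lit 2,nat_lit 1,nat_lit 1,nat_lit 3,nat_lit 0,nat_lit 2,nat_lit 0,nat_lit 2,nat_lit 1,nat_lit 2,nat_lit 0,nat_lit 3,nat_lit 1,nat_lit 1])
 (.leaf [nat_lit 35,nat_lit 10,nat_lit 0,nat_lit 3,nat_lit 0,nat_lit 0,nat_lit 0,nat_lit 2,nat_lit 3,nat_lit 2,nat_lit 0,nat_lit 4,nat_lit 0,nat_lit 2,nat_lit 1,nat_lit 2,nat_lit 0,nat_lit 2,nat_lit 1,nat_lit 3,nat_lit 0,nat_lit 2,nat_lit 1,nat_lit 2,nat_lit 0,nat_lit 0,nat_lit 0,nat_lit 2,nat_lit 0,nat_lit 2,nat_lit 0,nat_lit 0,nat_lit 0,nat_lit 4])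
))) (.node (.node (.node (.leaf [nat_lit 2,nat_lit 2,nat_lit 1,nat_lit 0,nat_lit 1,nat_lit 1,nat_lit 1,nat_lit 1,nat_lit 1,nat_lit 1])
 (.leaf [nat_lit 47,nat_lit 9,nat_lit 0,nat_lit 2,nat_lit 0,nat_lit 3,nat_lit 1,nat_lit 1,nat_lit 3,nat_lit 4,nat_lit 1,nat_lit 1,nat_lit 2,nat_lit 0,nat_lit 0,nat_lit 2,nat_lit 4,nat_lit 1,nat_lit 1,nat_lit 2,nat_lit 0,nat_lit 0,nat_lit 2,nat_lit 1,nat_lit 2,nat_lit 0,nat_lit 2,nat_lit 1,nat_lit 2,nat_lit 0,nat_lit 0,nat_lit 0,nat_lit 2,nat_lit 0,nat_lit 3,nat_lit 2,nat_lit 3,nat_lit 1])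
) (.node (.leaf [nat_lit 19,nat_lit 5,nat_lit 0,nat_lit 2,nat_lit 0,nat_lit 2,nat_lit 1,nat_lit 2,nat_lit 1,nat_lit 3,nat_lit 0,nat_lit 0,nat_lit 2,nat_lit 1,nat_lit 3,nat_lit 2,nat_lit 0,nat_lit 2,nat_lit 1,nat_lit 2,nat_lit 1,nat_lit 1,nat_lit 2,nat_lit 0,nat_lit 0,nat_lit 0,nat_lit 3,nat_lit 1])
 (.leaf [nat_lit 15,nat_lit 9,nat_lit 1,nat_lit 2,nat_lit 3,nat_lit 2,nat_lit 0,nat_lit 2,nat_lit 0,nat_lit 2,nat_lit 1,nat_lit 2,nat_lit 0,nat_lit 0,nat_lit 2,nat_lit 1,nat_lit 1,nat_lit 1,nat_lit 3,nat_lit 0,nat_lit 2,nat_lit 3,nat_lit 2,nat_lit 3,nat_lit 2,nat_lit 1,nat_lit 3])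
)) (.node (.node (.leaf [nat_lit 37,nat_lit 20,nat_lit 1,nat_lit 2,nat_lit 1,nat_lit 2,nat_lit 1,nat_lit 2,nat_lit 4,nat_lit 1,nat_lit 2,nat_lit 1,nat_lit 1,nat_lit 2,nat_lit 1,nat_lit 2,nat_lit 1,nat_lit 2,nat_lit 1,nat_lit 2,nat_lit 0,nat_lit 3,nat_lit 2,nat_lit 3,nat_lit 1,nat_lit 3,nat_lit 2,nat_lit 0,nat_lit 4,nat_lit 1,nat_lit 3,nat_lit 1,nat_lit 1])
 (.leaf [nat_lit 7,nat_lit 0,nat_lit 0,nat_lit 1,nat_lit 0,nat_lit 0,nat_lit 2,nat_lit 1,nat_lit 1,nat_lit 2,nat_lit 1,nat_lit 2,nat_lit 0,nat_lit 0,nat_lit 0,nat_lit 2,nat_lit 1,nat_lit 2,nat_lit 0,nat_lit 2,nat_lit 1,nat_lit 2,nat_lit 1,nat_lit 2,nat_lit 1,nat_lit 2])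
) (.node (.leaf [nat_lit 34,nat_lit 0,nat_lit 1,nat_lit 2,nat_lit 4,nat_lit 1,nat_lit 1,nat_lit 1,nat_lit 2,nat_lit 1,nat_lit 2,nat_lit 0,nat_lit 0,nat_lit 2,nat_lit 1,nat_lit 1,nat_lit 1,nat_lit 2,nat_lit 1,nat_lit 3,nat_lit 2,nat_lit 0,nat_lit 0,nat_lit 0,nat_lit 2,nat_lit 0,nat_lit 4,nat_lit 1,nat_lit 2,nat_lit 1,nat_lit 2,nat_lit 1,nat_lit 1,nat_lit 1])
 (.leaf [nat_lit 13,nat_lit 12,nat_lit 1,nat_lit 0,nat_lit 2,nat_lit 0,nat_lit 0,nat_lit 2,nat_lit 1,nat_lit 1,nat_lit 2,nat_lit 0,nat_lit 3,nat_lit 0,nat_lit 3,nat_lit 0,nat_lit 2,nat_lit 1,nat_lit 3,nat_lit 1,nat_lit 3,nat_lit 2])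
)))))) (.node (.node (.node (.node (.node (.node (.leaf [nat_lit 18,nat_lit 14,nat_lit 0,nat_lit 2,nat_lit 3,nat_lit 1,nat_lit 3,nat_lit 0,nat_lit 2,nat_lit 1,nat_lit 3,nat_lit 2,nat_lit 3,nat_lit 2,nat_lit 0,nat_lit 0,nat_lit 0,nat_lit 2,nat_lit 1,nat_lit 1,nat_lit 2,nat_lit 0,nat_lit 2,nat_lit 1,nat_lit 1,nat_lit 3,nat_lit 0,nat_lit 3])
 (.leaf [nat_lit 41,nat_lit 4,nat_lit 1,nat_lit 4,nat_lit 1,nat_lit 1,nat_lit 2,nat_lit 1,nat_lit 2,nat_lit 3,nat_lit 0,nat_lit 2,nat_lit 1,nat_lit 4,nat_lit 1,nat_lit 1,nat_lit 3,nat_lit 0,nat_lit 2,nat_lit 3,nat_lit 0,nat_lit 2,nat_lit 0,nat_lit 0,nat_lit 2,nat_lit 0,nat_lit 2,nat_lit 1,nat_lit 1,nat_lit 1,nat_lit 2,nat_lit 1,nat_lit 2,nat_lit 0])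
) (.node (.leaf [nat_lit 33,nat_lit 15,nat_lit 1,nat_lit 4,nat_lit 0,nat_lit 0,nat_lit 3,nat_lit 0,nat_lit 0,nat_lit 2,nat_lit 1,nat_lit 2,nat_lit 1,nat_lit 1,nat_lit 1,nat_lit 2,nat_lit 0,nat_lit 0,nat_lit 2,nat_lit 0,nat_lit 4,nat_lit 2,nat_lit 4,nat_lit 3,nat_lit 2,nat_lit 1,nat_lit 1,nat_lit 1,nat_lit 2,nat_lit 1])
 (.leaf [nat_lit 19,nat_lit 11,nat_lit 0,nat_lit 3,nat_lit 0,nat_lit 0,nat_lit 2,nat_lit 1,nat_lit 3,nat_lit 2,nat_lit 0,nat_lit 2,nat_lit 1,nat_lit 2,nat_lit 1,nat_lit 1,nat_lit 2,nat_lit 0,nat_lit 0,nat_lit 0,nat_lit 3,nat_lit 1,nat_lit 2,nat_lit 0,nat_lit 2,nat_lit 1,nat_lit 2,nat_lit 1])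
)) (.node (.node (.leaf [nat_lit 32,nat_lit 17,nat_lit 1,nat_lit 0,nat_lit 2,nat_lit 3,nat_lit 4,nat_lit 2,nat_lit 0,nat_lit 0,nat_lit 0,nat_lit 2,nat_lit 1,nat_lit 2,nat_lit 1,nat_lit 1,nat_lit 1,nat_lit 2,nat_lit 0,nat_lit 0,nat_lit 2,nat_lit 0,nat_lit 3,nat_lit 2,nat_lit 0,nat_lit 0,nat_lit 0,nat_lit 2,nat_lit 0,nat_lit 4,nat_lit 3,nat_lit 2,nat_lit 0,nat_lit 3])
 (.leaf [nat_lit 7,nat_lit 10,nat_lit 1,nat_lit 2,nat_lit 1,nat_lit 1,nat_lit 1,nat_lit 2,nat_lit 0,nat_lit 2,nat_lit 0,nat_lit 0,nat_lit 2,nat_lit 1,nat_lit 1,nat_lit 1,nat_lit 2,nat_lit 0,nat_lit 2,nat_lit 0,nat_lit 2,nat_lit 0,nat_lit 2,nat_lit 1,nat_lit 2,nat_lit 0])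
) (.node (.leaf [nat_lit 13,nat_lit 14,nat_lit 1,nat_lit 1,nat_lit 0,nat_lit 2,nat_lit 1,nat_lit 1,nat_lit 2,nat_lit 0,nat_lit 3,nat_lit 0,nat_lit 3,nat_lit 0,nat_lit 2,nat_lit 1,nat_lit 3,nat_lit 1,nat_lit 3,nat_lit 2,nat_lit 1,nat_lit 2])
 (.leaf [nat_lit 32,nat_lit 10,nat_lit 1,nat_lit 2,nat_lit 0,nat_lit 4,nat_lit 3,nat_lit 2,nat_lit 0,nat_lit 3,nat_lit 1,nat_lit 2,nat_lit 3,nat_lit 4,nat_lit 2,nat_lit 0,nat_lit 0,nat_lit 0,nat_lit 2,nat_lit 1,nat_lit 2,nat_lit 1,nat_lit 1,nat_lit 1,nat_lit 2,nat_lit 0,nat_lit 0,nat_lit 2,nat_lit 0,nat_lit 3,nat_lit 2,nat_lit 0,nat_lit 0,nat_lit 0])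
))) (.node (.node (.node (.leaf [nat_lit 33,nat_lit 6,nat_lit 1,nat_lit 2,nat_lit 4,nat_lit 3,nat_lit 2,nat_lit 1,nat_lit 1,nat_lit 1,nat_lit 2,nat_lit 1,nat_lit 4,nat_lit 0,nat_lit 0,nat_lit 3,nat_lit 0,nat_lit 0,nat_lit 2,nat_lit 1,nat_lit 2,nat_lit 1,nat_lit 1,nat_lit 1,nat_lit 2,nat_lit 0,nat_lit 0,nat_lit 2,nat_lit 0,nat_lit 4])
 (.leaf [nat_lit 42,nat_lit 4,nat_lit 0,nat_lit 4,nat_lit 0,nat_lit 2,nat_lit 1,nat_lit 2,nat_lit 0,nat_lit 2,nat_lit 3,nat_lit 1,nat_lit 4,nat_lit 2,nat_lit 3,nat_lit 1,nat_lit 2,nat_lit 0,nat_lit 3,nat_lit 2,nat_lit 0,nat_lit 2,nat_lit 3,nat_lit 2,nat_lit 0,nat_lit 2,nat_lit 0,nat_lit 0,nat_lit 2,nat_lit 1,nat_lit 2,nat_lit 0,nat_lit 0,nat_lit 2,nat_lit 0])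
) (.node (.leaf [nat_lit 30,nat_lit 16,nat_lit 1,nat_lit 4,nat_lit 2,nat_lit 0,nat_lit 3,nat_lit 2,nat_lit 3,nat_lit 0,nat_lit 2,nat_lit 3,nat_lit 1,nat_lit 1,nat_lit 2,nat_lit 1,nat_lit 1,nat_lit 2,nat_lit 1,nat_lit 2,nat_lit 0,nat_lit 2,nat_lit 0,nat_lit 0,nat_lit 2,nat_lit 4,nat_lit 1,nat_lit 2,nat_lit 3,nat_lit 4,nat_lit 2,nat_lit 0,nat_lit 2])
 (.leaf [nat_lit 14,nat_lit 9,nat_lit 1,nat_lit 3,nat_lit 2,nat_lit 3,nat_lit 1,nat_lit 3,nat_lit 0,nat_lit 2,nat_lit 1,nat_lit 1,nat_lit 1,nat_lit 2,nat_lit 1,nat_lit 1,nat_lit 1,nat_lit 3,nat_lit 2,nat_lit 0,nat_lit 3,nat_lit 1,nat_lit 1,nat_lit 2,nat_lit 0,nat_lit 0])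
)) (.node (.node (.leaf [nat_lit 39,nat_lit 13,nat_lit 1,nat_lit 4,nat_lit 2,nat_lit 3,nat_lit 0,nat_lit 2,nat_lit 3,nat_lit 0,nat_lit 3,nat_lit 2,nat_lit 1,nat_lit 1,nat_lit 1,nat_lit 2,nat_lit 0,nat_lit 2,nat_lit 1,nat_lit 1,nat_lit 1,nat_lit 2,nat_lit 0,nat_lit 0,nat_lit 4,nat_lit 1,nat_lit 1,nat_lit 1,nat_lit 2,nat_lit 3,nat_lit 2,nat_lit 0,nat_lit 0,nat_lit 0])
 (.leaf [nat_lit 16,nat_lit 6,nat_lit 1,nat_lit 3,nat_lit 0,nat_lit 2,nat_lit 3,nat_lit 1,nat_lit 1,nat_lit 2,nat_lit 0,nat_lit 3,nat_lit 1,nat_lit 2,nat_lit 0,nat_lit 0,nat_lit 3,nat_lit 2,nat_lit 1,nat_lit 1,nat_lit 1,nat_lit 2,nat_lit 1,nat_lit 2,nat_lit 1,nat_lit 2,nat_lit 1])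
) (.node (.leaf [nat_lit 40,nat_lit 17,nat_lit 1,nat_lit 0,nat_lit 4,nat_lit 0,nat_lit 0,nat_lit 0,nat_lit 3,nat_lit 4,nat_lit 2,nat_lit 0,nat_lit 0,nat_lit 2,nat_lit 1,nat_lit 1,nat_lit 1,nat_lit 2,nat_lit 1,nat_lit 2,nat_lit 0,nat_lit 0,nat_lit 2,nat_lit 3,nat_lit 2,nat_lit 1,nat_lit 1,nat_lit 3,nat_lit 1,nat_lit 2,nat_lit 4,nat_lit 3,nat_lit 1,nat_lit 1])
 (.leaf [nat_lit 28,nat_lit 4,nat_lit 1,nat_lit 4,nat_lit 1,nat_lit 3,nat_lit 1,nat_lit 3,nat_lit 1,nat_lit 3,nat_lit 1,nat_lit 3,nat_lit 1,nat_lit 4,nat_lit 3,nat_lit 4,nat_lit 3])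
)))) (.node (.node (.node (.node (.leaf [nat_lit 25,nat_lit 6,nat_lit 1,nat_lit 3,nat_lit 0,nat_lit 2,nat_lit 1,nat_lit 1,nat_lit 4,nat_lit 2,nat_lit 0,nat_lit 3,nat_lit 1,nat_lit 2,nat_lit 4,nat_lit 0,nat_lit 0,nat_lit 2,nat_lit 1,nat_lit 1,nat_lit 1,nat_lit 2,nat_lit 1,nat_lit 2,nat_lit 1,nat_lit 2,nat_lit 1])
 (.leaf [nat_lit 37,nat_lit 15,nat_lit 1,nat_lit 4,nat_lit 1,nat_lit 3,nat_lit 1,nat_lit 1,nat_lit 2,nat_lit 1,nat_lit 2,nat_lit 1,nat_lit 2,nat_lit 4,nat_lit 1,nat_lit 2,nat_lit 1,nat_lit 1,nat_lit 2,nat_lit 1,nat_lit 2,nat_lit 1,nat_lit 2,nat_lit 1,nat_lit 2,nat_lit 0,nat_lit 3,nat_lit 2,nat_lit 3,nat_lit 1,nat_lit 3,nat_lit 2,nat_lit 0])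
) (.node (.leaf [nat_lit 18,nat_lit 6,nat_lit 1,nat_lit 0,nat_lit 3,nat_lit 0,nat_lit 3,nat_lit 2,nat_lit 3,nat_lit 1,nat_lit 3,nat_lit 0,nat_lit 0,nat_lit 2,nat_lit 1,nat_lit 2,nat_lit 0,nat_lit 0,nat_lit 2,nat_lit 1,nat_lit 1,nat_lit 1,nat_lit 2,nat_lit 3,nat_lit 2,nat_lit 3,nat_lit 0,nat_lit 2])
 (.leaf [nat_lit 12,nat_lit 4,nat_lit 1,nat_lit 2,nat_lit 1,nat_lit 3,nat_lit 1,nat_lit 1,nat_lit 2,nat_lit 1,nat_lit 2,nat_lit 1,nat_lit 2,nat_lit 1,nat_lit 3,nat_lit 1,nat_lit 1,nat_lit 2,nat_lit 1,nat_lit 2,nat_lit 1])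
)) (.node (.node (.leaf [nat_lit 6,nat_lit 9,nat_lit 1,nat_lit 1,nat_lit 2,nat_lit 1,nat_lit 2,nat_lit 1,nat_lit 2,nat_lit 0,nat_lit 0,nat_lit 2,nat_lit 1,nat_lit 1,nat_lit 2,nat_lit 0,nat_lit 2,nat_lit 0,nat_lit 2,nat_lit 1,nat_lit 1,nat_lit 2,nat_lit 0])
 (.leaf [nat_lit 16,nat_lit 11,nat_lit 0,nat_lit 2,nat_lit 0,nat_lit 0,nat_lit 3,nat_lit 2,nat_lit 1,nat_lit 3,nat_lit 0,nat_lit 2,nat_lit 0,nat_lit 2,nat_lit 0,nat_lit 2,nat_lit 0,nat_lit 0,nat_lit 0,nat_lit 2,nat_lit 3,nat_lit 1,nat_lit 1,nat_lit 2,nat_lit 0,nat_lit 3,nat_lit 1])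
) (.node (.leaf [nat_lit 42,nat_lit 18,nat_lit 1,nat_lit 4,nat_lit 0,nat_lit 3,nat_lit 2,nat_lit 1,nat_lit 2,nat_lit 0,nat_lit 2,nat_lit 1,nat_lit 4,nat_lit 1,nat_lit 2,nat_lit 1,nat_lit 1,nat_lit 2,nat_lit 0,nat_lit 2,nat_lit 1,nat_lit 1,nat_lit 2,nat_lit 1,nat_lit 2,nat_lit 3,nat_lit 2,nat_lit 1,nat_lit 2,nat_lit 3,nat_lit 1,nat_lit 2,nat_lit 0,nat_lit 3,nat_lit 2])
 (.leaf [nat_lit 29,nat_lit 11,nat_lit 1,nat_lit 1,nat_lit 2,nat_lit 0,nat_lit 3,nat_lit 1,nat_lit 2,nat_lit 1,nat_lit 4,nat_lit 2,nat_lit 1,nat_lit 3,nat_lit 0,nat_lit 4,nat_lit 1,nat_lit 3,nat_lit 0,nat_lit 2,nat_lit 4])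
))) (.node (.node (.node (.leaf [nat_lit 36,nat_lit 29,nat_lit 0,nat_lit 2,nat_lit 3,nat_lit 0,nat_lit 0,nat_lit 0,nat_lit 2,nat_lit 0,nat_lit 4,nat_lit 0,nat_lit 3,nat_lit 2,nat_lit 0,nat_lit 3,nat_lit 2,nat_lit 1,nat_lit 3,nat_lit 2,nat_lit 1,nat_lit 1,nat_lit 1,nat_lit 2,nat_lit 0,nat_lit 0,nat_lit 0,nat_lit 2,nat_lit 1,nat_lit 2,nat_lit 0,nat_lit 2,nat_lit 4,nat_lit 1])
 (.leaf [nat_lit 46,nat_lit 20,nat_lit 1,nat_lit 1,nat_lit 2,nat_lit 0,nat_lit 4,nat_lit 0,nat_lit 0,nat_lit 2,nat_lit 1,nat_lit 2,nat_lit 1,nat_lit 2,nat_lit 1,nat_lit 1,nat_lit 1,nat_lit 2,nat_lit 0,nat_lit 0,nat_lit 0,nat_lit 2,nat_lit 1,nat_lit 2,nat_lit 3,nat_lit 0,nat_lit 2,nat_lit 1,nat_lit 1,nat_lit 3,nat_lit 0,nat_lit 4,nat_lit 2,nat_lit 1,nat_lit 2,nat_lit 0,nat_lit 3])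
) (.node (.leaf [nat_lit 10,nat_lit 17,nat_lit 1,nat_lit 0,nat_lit 2,nat_lit 3,nat_lit 2,nat_lit 0,nat_lit 2,nat_lit 3,nat_lit 2,nat_lit 3,nat_lit 0,nat_lit 2,nat_lit 1,nat_lit 2,nat_lit 0,nat_lit 0,nat_lit 2,nat_lit 1,nat_lit 1])
 (.leaf [nat_lit 17,nat_lit 15,nat_lit 0,nat_lit 0,nat_lit 2,nat_lit 0,nat_lit 2,nat_lit 3,nat_lit 1,nat_lit 2,nat_lit 0,nat_lit 0,nat_lit 2,nat_lit 0,nat_lit 0,nat_lit 0,nat_lit 2,nat_lit 1,nat_lit 1,nat_lit 2,nat_lit 0,nat_lit 3,nat_lit 2,nat_lit 1,nat_lit 1,nat_lit 2,nat_lit 0,nat_lit 2])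
)) (.node (.node (.leaf [nat_lit 36,nat_lit 9,nat_lit 0,nat_lit 1,nat_lit 3,nat_lit 2,nat_lit 1,nat_lit 3,nat_lit 2,nat_lit 1,nat_lit 1,nat_lit 1,nat_lit 2,nat_lit 0,nat_lit 0,nat_lit 0,nat_lit 2,nat_lit 1,nat_lit 2,nat_lit 0,nat_lit 2,nat_lit 4,nat_lit 1,nat_lit 2,nat_lit 3,nat_lit 0,nat_lit 0,nat_lit 0,nat_lit 2,nat_lit 0,nat_lit 4,nat_lit 0,nat_lit 3,nat_lit 2])
 (.leaf [nat_lit 29,nat_lit 3,nat_lit 1,nat_lit 3,nat_lit 0,nat_lit 4,nat_lit 1,nat_lit 3,nat_lit 0,nat_lit 2,nat_lit 4,nat_lit 0,nat_lit 2,nat_lit 0,nat_lit 3,nat_lit 1,nat_lit 2,nat_lit 1,nat_lit 4,nat_lit 2,nat_lit 1])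
) (.node (.leaf [nat_lit 21,nat_lit 15,nat_lit 1,nat_lit 3,nat_lit 0,nat_lit 2,nat_lit 0,nat_lit 2,nat_lit 0,nat_lit 2,nat_lit 0,nat_lit 2,nat_lit 1,nat_lit 1,nat_lit 2,nat_lit 0,nat_lit 3,nat_lit 0,nat_lit 2,nat_lit 1,nat_lit 1,nat_lit 2,nat_lit 0,nat_lit 0,nat_lit 3,nat_lit 0,nat_lit 2,nat_lit 1,nat_lit 1])
 (.leaf [nat_lit 30,nat_lit 12,nat_lit 0,nat_lit 2,nat_lit 4,nat_lit 2,nat_lit 1,nat_lit 2,nat_lit 4,nat_lit 3,nat_lit 2,nat_lit 0,nat_lit 4,nat_lit 2,nat_lit 1,nat_lit 1,nat_lit 2,nat_lit 1,nat_lit 2,nat_lit 0,nat_lit 2,nat_lit 0,nat_lit 0,nat_lit 2,nat_lit 0,nat_lit 0,nat_lit 3,nat_lit 2,nat_lit 1,nat_lit 3,nat_lit 2,nat_lit 3,nat_lit 1])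
))))) (.node (.node (.node (.node (.node (.leaf [nat_lit 15,nat_lit 15,nat_lit 0,nat_lit 3,nat_lit 0,nat_lit 2,nat_lit 3,nat_lit 2,nat_lit 3,nat_lit 2,nat_lit 1,nat_lit 3,nat_lit 0,nat_lit 0,nat_lit 0,nat_lit 2,nat_lit 1,nat_lit 1,nat_lit 2,nat_lit 0,nat_lit 2,nat_lit 1,nat_lit 2,nat_lit 1,nat_lit 2,nat_lit 3,nat_lit 2])
 (.leaf [nat_lit 35,nat_lit 16,nat_lit 1,nat_lit 2,nat_lit 1,nat_lit 1,nat_lit 1,nat_lit 3,nat_lit 4,nat_lit 1,nat_lit 1,nat_lit 1,nat_lit 2,nat_lit 1,nat_lit 2,nat_lit 1,nat_lit 1,nat_lit 1,nat_lit 2,nat_lit 0,nat_lit 2,nat_lit 1,nat_lit 3,nat_lit 0,nat_lit 2,nat_lit 1,nat_lit 2,nat_lit 0,nat_lit 2,nat_lit 1,nat_lit 4,nat_lit 1,nat_lit 2,nat_lit 3])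
) (.node (.leaf [nat_lit 32,nat_lit 21,nat_lit 1,nat_lit 2,nat_lit 0,nat_lit 0,nat_lit 0,nat_lit 2,nat_lit 1,nat_lit 2,nat_lit 1,nat_lit 1,nat_lit 1,nat_lit 2,nat_lit 0,nat_lit 0,nat_lit 2,nat_lit 0,nat_lit 3,nat_lit 2,nat_lit 0,nat_lit 0,nat_lit 0,nat_lit 2,nat_lit 0,nat_lit 4,nat_lit 3,nat_lit 2,nat_lit 0,nat_lit 3,nat_lit 1,nat_lit 2,nat_lit 3,nat_lit 4])
 (.leaf [nat_lit 44,nat_lit 22,nat_lit 1,nat_lit 2,nat_lit 0,nat_lit 0,nat_lit 4,nat_lit 1,nat_lit 1,nat_lit 2,nat_lit 4,nat_lit 1,nat_lit 1,nat_lit 1,nat_lit 2,nat_lit 0,nat_lit 2,nat_lit 1,nat_lit 2,nat_lit 1,nat_lit 1,nat_lit 2,nat_lit 0,nat_lit 2,nat_lit 0,nat_lit 2,nat_lit 1,nat_lit 3,nat_lit 0,nat_lit 2,nat_lit 3,nat_lit 0,nat_lit 3,nat_lit 2,nat_lit 0,nat_lit 4])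
)) (.node (.node (.leaf [nat_lit 25,nat_lit 10,nat_lit 0,nat_lit 0,nat_lit 2,nat_lit 4,nat_lit 0,nat_lit 0,nat_lit 2,nat_lit 1,nat_lit 3,nat_lit 0,nat_lit 2,nat_lit 0,nat_lit 2,nat_lit 0,nat_lit 2,nat_lit 0,nat_lit 0,nat_lit 0,nat_lit 2,nat_lit 1,nat_lit 1,nat_lit 4,nat_lit 2,nat_lit 0,nat_lit 3])
 (.leaf [nat_lit 35,nat_lit 6,nat_lit 1,nat_lit 2,nat_lit 1,nat_lit 2,nat_lit 0,nat_lit 2,nat_lit 1,nat_lit 4,nat_lit 1,nat_lit 2,nat_lit 3,nat_lit 2,nat_lit 1,nat_lit 1,nat_lit 1,nat_lit 3,nat_lit 4,nat_lit 1,nat_lit 1,nat_lit 1,nat_lit 2,nat_lit 1,nat_lit 2,nat_lit 1,nat_lit 1,nat_lit 1,nat_lit 2,nat_lit 0,nat_lit 2,nat_lit 1,nat_lit 3,nat_lit 0])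
) (.node (.leaf [nat_lit 10,nat_lit 0,nat_lit 1,nat_lit 2,nat_lit 3,nat_lit 2,nat_lit 0,nat_lit 2,nat_lit 3,nat_lit 2,nat_lit 3,nat_lit 0,nat_lit 2,nat_lit 1,nat_lit 2,nat_lit 0,nat_lit 0,nat_lit 2,nat_lit 1,nat_lit 1,nat_lit 1])
 (.leaf [nat_lit 33,nat_lit 10,nat_lit 0,nat_lit 0,nat_lit 4,nat_lit 0,nat_lit 2,nat_lit 0,nat_lit 0,nat_lit 0,nat_lit 2,nat_lit 3,nat_lit 4,nat_lit 2,nat_lit 4,nat_lit 1,nat_lit 2,nat_lit 1,nat_lit 1,nat_lit 2,nat_lit 0,nat_lit 0,nat_lit 0,nat_lit 2,nat_lit 0,nat_lit 2,nat_lit 1,nat_lit 1,nat_lit 3,nat_lit 1])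
))) (.node (.node (.node (.leaf [nat_lit 41,nat_lit 14,nat_lit 1,nat_lit 4,nat_lit 1,nat_lit 1,nat_lit 3,nat_lit 0,nat_lit 2,nat_lit 3,nat_lit 0,nat_lit 2,nat_lit 0,nat_lit 0,nat_lit 2,nat_lit 0,nat_lit 2,nat_lit 1,nat_lit 1,nat_lit 1,nat_lit 2,nat_lit 1,nat_lit 2,nat_lit 0,nat_lit 4,nat_lit 1,nat_lit 1,nat_lit 2,nat_lit 1,nat_lit 2,nat_lit 3,nat_lit 0,nat_lit 2,nat_lit 1])
 (.leaf [nat_lit 29,nat_lit 9,nat_lit 1,nat_lit 2,nat_lit 4,nat_lit 0,nat_lit 2,nat_lit 0,nat_lit 3,nat_lit 1,nat_lit 2,nat_lit 1,nat_lit 4,nat_lit 2,nat_lit 1,nat_lit 3,nat_lit 0,nat_lit 4,nat_lit 1,nat_lit 3,nat_lit 0])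
) (.node (.leaf [nat_lit 32,nat_lit 13,nat_lit 1,nat_lit 3,nat_lit 2,nat_lit 0,nat_lit 3,nat_lit 1,nat_lit 2,nat_lit 3,nat_lit 4,nat_lit 2,nat_lit 0,nat_lit 0,nat_lit 0,nat_lit 2,nat_lit 1,nat_lit 2,nat_lit 1,nat_lit 1,nat_lit 1,nat_lit 2,nat_lit 0,nat_lit 0,nat_lit 2,nat_lit 0,nat_lit 3,nat_lit 2,nat_lit 0,nat_lit 0,nat_lit 0,nat_lit 2,nat_lit 0,nat_lit 4])
 (.leaf [nat_lit 27,nat_lit 1,nat_lit 1,nat_lit 0,nat_lit 3,nat_lit 1,nat_lit 3,nat_lit 0,nat_lit 3,nat_lit 0,nat_lit 2,nat_lit 0,nat_lit 0,nat_lit 0,nat_lit 4,nat_lit 0,nat_lit 3,nat_lit 1,nat_lit 1,nat_lit 3,nat_lit 0,nat_lit 0,nat_lit 3,nat_lit 1,nat_lit 4,nat_lit 1,nat_lit 1,nat_lit 1,nat_lit 2])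
)) (.node (.node (.leaf [nat_lit 29,nat_lit 5,nat_lit 1,nat_lit 4,nat_lit 1,nat_lit 3,nat_lit 0,nat_lit 2,nat_lit 4,nat_lit 0,nat_lit 2,nat_lit 0,nat_lit 3,nat_lit 1,nat_lit 2,nat_lit 1,nat_lit 4,nat_lit 2,nat_lit 1,nat_lit 3,nat_lit 0])
 (.leaf [nat_lit 30,nat_lit 11,nat_lit 1,nat_lit 3,nat_lit 4,nat_lit 2,nat_lit 0,nat_lit 2,nat_lit 4,nat_lit 2,nat_lit 0,nat_lit 3,nat_lit 2,nat_lit 3,nat_lit 0,nat_lit 2,nat_lit 3,nat_lit 1,nat_lit 1,nat_lit 2,nat_lit 1,nat_lit 1,nat_lit 2,nat_lit 1,nat_lit 2,nat_lit 0,nat_lit 2,nat_lit 0,nat_lit 0,nat_lit 2,nat_lit 4,nat_lit 1,nat_lit 2])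
) (.node (.leaf [nat_lit 15,nat_lit 2,nat_lit 1,nat_lit 2,nat_lit 3,nat_lit 2,nat_lit 3,nat_lit 2,nat_lit 1,nat_lit 3,nat_lit 2,nat_lit 3,nat_lit 2,nat_lit 0,nat_lit 2,nat_lit 0,nat_lit 2,nat_lit 1,nat_lit 2,nat_lit 0,nat_lit 0,nat_lit 2,nat_lit 1,nat_lit 1,nat_lit 1,nat_lit 3,nat_lit 0])
 (.leaf [nat_lit 28,nat_lit 13,nat_lit 1,nat_lit 0,nat_lit 4,nat_lit 3,nat_lit 4,nat_lit 3,nat_lit 4,nat_lit 1,nat_lit 3,nat_lit 1,nat_lit 3,nat_lit 1,nat_lit 3,nat_lit 1,nat_lit 3])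
)))) (.node (.node (.node (.node (.leaf [nat_lit 39,nat_lit 27,nat_lit 0,nat_lit 4,nat_lit 1,nat_lit 1,nat_lit 2,nat_lit 0,nat_lit 0,nat_lit 0,nat_lit 2,nat_lit 1,nat_lit 2,nat_lit 0,nat_lit 0,nat_lit 0,nat_lit 2,nat_lit 3,nat_lit 1,nat_lit 3,nat_lit 2,nat_lit 1,nat_lit 3,nat_lit 2,nat_lit 4,nat_lit 1,nat_lit 1,nat_lit 1,nat_lit 2,nat_lit 3,nat_lit 2,nat_lit 0,nat_lit 0,nat_lit 0])
 (.leaf [nat_lit 47,nat_lit 16,nat_lit 0,nat_lit 0,nat_lit 1,nat_lit 2,nat_lit 0,nat_lit 0,nat_lit 2,nat_lit 4,nat_lit 1,nat_lit 1,nat_lit 2,nat_lit 0,nat_lit 0,nat_lit 2,nat_lit 1,nat_lit 2,nat_lit 0,nat_lit 2,nat_lit 1,nat_lit 2,nat_lit 0,nat_lit 0,nat_lit 0,nat_lit 2,nat_lit 0,nat_lit 3,nat_lit 2,nat_lit 3,nat_lit 1,nat_lit 2,nat_lit 0,nat_lit 3,nat_lit 1,nat_lit 1,nat_lit 3,nat_lit 4])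
) (.node (.leaf [nat_lit 30,nat_lit 8,nat_lit 1,nat_lit 4,nat_lit 1,nat_lit 2,nat_lit 3,nat_lit 4,nat_lit 2,nat_lit 0,nat_lit 2,nat_lit 4,nat_lit 2,nat_lit 0,nat_lit 3,nat_lit 2,nat_lit 3,nat_lit 0,nat_lit 2,nat_lit 3,nat_lit 1,nat_lit 1,nat_lit 2,nat_lit 1,nat_lit 1,nat_lit 2,nat_lit 1,nat_lit 2,nat_lit 0,nat_lit 2,nat_lit 0,nat_lit 0,nat_lit 2])
 (.leaf [nat_lit 42,nat_lit 1,nat_lit 0,nat_lit 1,nat_lit 2,nat_lit 0,nat_lit 4,nat_lit 0,nat_lit 2,nat_lit 1,nat_lit 2,nat_lit 0,nat_lit 2,nat_lit 3,nat_lit 1,nat_lit 4,nat_lit 2,nat_lit 3,nat_lit 1,nat_lit 2,nat_lit 0,nat_lit 3,nat_lit 2,nat_lit 0,nat_lit 2,nat_lit 3,nat_lit 2,nat_lit 0,nat_lit 2,nat_lit 0,nat_lit 0,nat_lit 2,nat_lit 1,nat_lit 2,nat_lit 0])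
)) (.node (.node (.leaf [nat_lit 46,nat_lit 18,nat_lit 1,nat_lit 1,nat_lit 3,nat_lit 0,nat_lit 2,nat_lit 0,nat_lit 4,nat_lit 0,nat_lit 0,nat_lit 2,nat_lit 1,nat_lit 2,nat_lit 1,nat_lit 2,nat_lit 1,nat_lit 1,nat_lit 1,nat_lit 2,nat_lit 0,nat_lit 0,nat_lit 0,nat_lit 2,nat_lit 1,nat_lit 2,nat_lit 3,nat_lit 0,nat_lit 2,nat_lit 1,nat_lit 1,nat_lit 3,nat_lit 0,nat_lit 4,nat_lit 2,nat_lit 1,nat_lit 2])
 (.leaf [nat_lit 11,nat_lit 5,nat_lit 1,nat_lit 2,nat_lit 3,nat_lit 2,nat_lit 3,nat_lit 2,nat_lit 3,nat_lit 2,nat_lit 3,nat_lit 2,nat_lit 3,nat_lit 2,nat_lit 3])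
) (.node (.leaf [nat_lit 33,nat_lit 14,nat_lit 1,nat_lit 0,nat_lit 4,nat_lit 0,nat_lit 0,nat_lit 3,nat_lit 0,nat_lit 0,nat_lit 2,nat_lit 1,nat_lit 2,nat_lit 1,nat_lit 1,nat_lit 1,nat_lit 2,nat_lit 0,nat_lit 0,nat_lit 2,nat_lit 0,nat_lit 4,nat_lit 2,nat_lit 4,nat_lit 3,nat_lit 2,nat_lit 1,nat_lit 1,nat_lit 1,nat_lit 2])
 (.leaf [nat_lit 7,nat_lit 8,nat_lit 0,nat_lit 2,nat_lit 0,nat_lit 0,nat_lit 0,nat_lit 2,nat_lit 1,nat_lit 2,nat_lit 0,nat_lit 2,nat_lit 1,nat_lit 2,nat_lit 1,nat_lit 2,nat_lit 1,nat_lit 2,nat_lit 0,nat_lit 0,nat_lit 0,nat_lit 2,nat_lit 1,nat_lit 1,nat_lit 2,nat_lit 1])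
))) (.node (.node (.node (.leaf [nat_lit 31,nat_lit 19,nat_lit 1,nat_lit 4,nat_lit 1,nat_lit 4,nat_lit 2,nat_lit 3,nat_lit 2,nat_lit 0,nat_lit 3,nat_lit 1,nat_lit 1,nat_lit 1,nat_lit 2,nat_lit 1,nat_lit 2,nat_lit 1,nat_lit 1,nat_lit 2,nat_lit 1,nat_lit 2,nat_lit 0,nat_lit 0,nat_lit 2,nat_lit 0,nat_lit 4,nat_lit 1,nat_lit 3,nat_lit 2,nat_lit 3,nat_lit 4,nat_lit 0])
 (.leaf [nat_lit 41,nat_lit 16,nat_lit 0,nat_lit 4,nat_lit 0,nat_lit 2,nat_lit 1,nat_lit 3,nat_lit 2,nat_lit 0,nat_lit 2,nat_lit 0,nat_lit 0,nat_lit 4,nat_lit 1,nat_lit 2,nat_lit 0,nat_lit 2,nat_lit 0,nat_lit 0,nat_lit 0,nat_lit 2,nat_lit 1,nat_lit 2,nat_lit 1,nat_lit 1,nat_lit 2,nat_lit 1,nat_lit 3,nat_lit 2,nat_lit 1,nat_lit 3,nat_lit 0,nat_lit 0])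
) (.node (.leaf [nat_lit 20,nat_lit 17,nat_lit 1,nat_lit 3,nat_lit 2,nat_lit 0,nat_lit 0,nat_lit 0,nat_lit 3,nat_lit 1,nat_lit 1,nat_lit 1,nat_lit 2,nat_lit 3,nat_lit 2,nat_lit 1,nat_lit 2,nat_lit 1,nat_lit 1,nat_lit 2,nat_lit 1,nat_lit 1,nat_lit 2,nat_lit 1,nat_lit 2,nat_lit 0,nat_lit 0,nat_lit 3,nat_lit 0])
 (.leaf [nat_lit 40,nat_lit 26,nat_lit 0,nat_lit 0,nat_lit 1,nat_lit 2,nat_lit 0,nat_lit 2,nat_lit 0,nat_lit 0,nat_lit 0,nat_lit 2,nat_lit 1,nat_lit 1,nat_lit 2,nat_lit 4,nat_lit 3,nat_lit 1,nat_lit 1,nat_lit 1,nat_lit 4,nat_lit 0,nat_lit 0,nat_lit 0,nat_lit 3,nat_lit 4,nat_lit 2,nat_lit 0,nat_lit 3,nat_lit 0,nat_lit 0,nat_lit 2,nat_lit 3,nat_lit 2])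
)) (.node (.node (.leaf [nat_lit 19,nat_lit 0,nat_lit 0,nat_lit 1,nat_lit 0,nat_lit 0,nat_lit 3,nat_lit 1,nat_lit 2,nat_lit 0,nat_lit 2,nat_lit 1,nat_lit 2,nat_lit 1,nat_lit 3,nat_lit 0,nat_lit 0,nat_lit 2,nat_lit 1,nat_lit 3,nat_lit 2,nat_lit 0,nat_lit 2,nat_lit 1,nat_lit 2,nat_lit 1,nat_lit 1,nat_lit 2])
 (.leaf [nat_lit 14,nat_lit 21,nat_lit 1,nat_lit 0,nat_lit 1,nat_lit 3,nat_lit 2,nat_lit 0,nat_lit 3,nat_lit 1,nat_lit 1,nat_lit 2,nat_lit 0,nat_lit 0,nat_lit 3,nat_lit 2,nat_lit 3,nat_lit 1,nat_lit 3,nat_lit 0,nat_lit 2,nat_lit 1,nat_lit 1,nat_lit 1,nat_lit 2,nat_lit 1])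
) (.node (.leaf [nat_lit 32,nat_lit 19,nat_lit 0,nat_lit 0,nat_lit 2,nat_lit 1,nat_lit 1,nat_lit 1,nat_lit 2,nat_lit 3,nat_lit 1,nat_lit 2,nat_lit 1,nat_lit 1,nat_lit 2,nat_lit 0,nat_lit 0,nat_lit 0,nat_lit 2,nat_lit 0,nat_lit 2,nat_lit 1,nat_lit 1,nat_lit 1,nat_lit 2,nat_lit 4,nat_lit 3,nat_lit 2,nat_lit 0,nat_lit 3,nat_lit 1,nat_lit 2,nat_lit 3,nat_lit 4])
 (.leaf [nat_lit 12,nat_lit 8,nat_lit 0,nat_lit 2,nat_lit 0,nat_lit 0,nat_lit 3,nat_lit 0,nat_lit 2,nat_lit 0,nat_lit 2,nat_lit 0,nat_lit 2,nat_lit 0,nat_lit 0,nat_lit 3,nat_lit 0,nat_lit 2,nat_lit 0,nat_lit 2,nat_lit 0])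
))))))) (.node (.node (.node (.node (.node (.node (.node (.leaf [nat_lit 25,nat_lit 14,nat_lit 1,nat_lit 3,nat_lit 1,nat_lit 2,nat_lit 4,nat_lit 0,nat_lit 0,nat_lit 2,nat_lit 1,nat_lit 1,nat_lit 1,nat_lit 2,nat_lit 1,nat_lit 2,nat_lit 1,nat_lit 2,nat_lit 1,nat_lit 3,nat_lit 0,nat_lit 2,nat_lit 1,nat_lit 1,nat_lit 4,nat_lit 2,nat_lit 0])
 (.leaf [nat_lit 35,nat_lit 17,nat_lit 1,nat_lit 0,nat_lit 1,nat_lit 1,nat_lit 3,nat_lit 4,nat_lit 1,nat_lit 1,nat_lit 1,nat_lit 2,nat_lit 1,nat_lit 2,nat_lit 1,nat_lit 1,nat_lit 1,nat_lit 2,nat_lit 0,nat_lit 2,nat_lit 1,nat_lit 3,nat_lit 0,nat_lit 2,nat_lit 1,nat_lit 2,nat_lit 0,nat_lit 2,nat_lit 1,nat_lit 4,nat_lit 1,nat_lit 2,nat_lit 3,nat_lit 2])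
) (.node (.leaf [nat_lit 31,nat_lit 20,nat_lit 1,nat_lit 0,nat_lit 4,nat_lit 2,nat_lit 3,nat_lit 2,nat_lit 0,nat_lit 3,nat_lit 1,nat_lit 1,nat_lit 1,nat_lit 2,nat_lit 1,nat_lit 2,nat_lit 1,nat_lit 1,nat_lit 2,nat_lit 1,nat_lit 2,nat_lit 0,nat_lit 0,nat_lit 2,nat_lit 0,nat_lit 4,nat_lit 1,nat_lit 3,nat_lit 2,nat_lit 3,nat_lit 4,nat_lit 0,nat_lit 4])
 (.leaf [nat_lit 44,nat_lit 10,nat_lit 0,nat_lit 2,nat_lit 4,nat_lit 1,nat_lit 2,nat_lit 3,nat_lit 1,nat_lit 3,nat_lit 2,nat_lit 1,nat_lit 3,nat_lit 0,nat_lit 2,nat_lit 1,nat_lit 2,nat_lit 1,nat_lit 2,nat_lit 0,nat_lit 0,nat_lit 2,nat_lit 0,nat_lit 2,nat_lit 1,nat_lit 2,nat_lit 0,nat_lit 0,nat_lit 0,nat_lit 4,nat_lit 2,nat_lit 0,nat_lit 0,nat_lit 4,nat_lit 1,nat_lit 1])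
)) (.node (.node (.leaf [nat_lit 43,nat_lit 15,nat_lit 1,nat_lit 2,nat_lit 1,nat_lit 1,nat_lit 2,nat_lit 0,nat_lit 4,nat_lit 0,nat_lit 2,nat_lit 0,nat_lit 0,nat_lit 2,nat_lit 1,nat_lit 1,nat_lit 2,nat_lit 1,nat_lit 2,nat_lit 1,nat_lit 1,nat_lit 2,nat_lit 0,nat_lit 2,nat_lit 3,nat_lit 0,nat_lit 2,nat_lit 0,nat_lit 2,nat_lit 1,nat_lit 1,nat_lit 3,nat_lit 1,nat_lit 4,nat_lit 1,nat_lit 3])
 (.leaf [nat_lit 28,nat_lit 2,nat_lit 1,nat_lit 4,nat_lit 3,nat_lit 4,nat_lit 1,nat_lit 3,nat_lit 1,nat_lit 3,nat_lit 1,nat_lit 3,nat_lit 1,nat_lit 3,nat_lit 1,nat_lit 4,nat_lit 3])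
) (.node (.leaf [nat_lit 13,nat_lit 13,nat_lit 0,nat_lit 0,nat_lit 3,nat_lit 1,nat_lit 3,nat_lit 1,nat_lit 2,nat_lit 0,nat_lit 0,nat_lit 2,nat_lit 1,nat_lit 1,nat_lit 2,nat_lit 0,nat_lit 2,nat_lit 3,nat_lit 0,nat_lit 3,nat_lit 0,nat_lit 2])
 (.leaf [nat_lit 21,nat_lit 11,nat_lit 1,nat_lit 1,nat_lit 2,nat_lit 1,nat_lit 1,nat_lit 3,nat_lit 0,nat_lit 2,nat_lit 0,nat_lit 2,nat_lit 0,nat_lit 2,nat_lit 0,nat_lit 2,nat_lit 1,nat_lit 1,nat_lit 2,nat_lit 0,nat_lit 3,nat_lit 0,nat_lit 2,nat_lit 1,nat_lit 1,nat_lit 2,nat_lit 0,nat_lit 0,nat_lit 3])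
))) (.node (.node (.node (.leaf [nat_lit 7,nat_lit 6,nat_lit 0,nat_lit 2,nat_lit 1,nat_lit 2,nat_lit 0,nat_lit 0,nat_lit 0,nat_lit 2,nat_lit 1,nat_lit 2,nat_lit 0,nat_lit 2,nat_lit 1,nat_lit 2,nat_lit 1,nat_lit 2,nat_lit 1,nat_lit 2,nat_lit 0,nat_lit 0,nat_lit 0,nat_lit 2,nat_lit 1,nat_lit 1])
 (.leaf [nat_lit 42,nat_lit 30,nat_lit 1,nat_lit 0,nat_lit 1,nat_lit 2,nat_lit 0,nat_lit 2,nat_lit 1,nat_lit 1,nat_lit 2,nat_lit 1,nat_lit 2,nat_lit 3,nat_lit 2,nat_lit 1,nat_lit 2,nat_lit 3,nat_lit 1,nat_lit 2,nat_lit 0,nat_lit 3,nat_lit 2,nat_lit 4,nat_lit 0,nat_lit 3,nat_lit 2,nat_lit 1,nat_lit 2,nat_lit 0,nat_lit 2,nat_lit 1,nat_lit 4,nat_lit 1,nat_lit 2])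
) (.node (.leaf [nat_lit 30,nat_lit 9,nat_lit 1,nat_lit 0,nat_lit 2,nat_lit 3,nat_lit 4,nat_lit 2,nat_lit 0,nat_lit 2,nat_lit 4,nat_lit 2,nat_lit 0,nat_lit 3,nat_lit 2,nat_lit 3,nat_lit 0,nat_lit 2,nat_lit 3,nat_lit 1,nat_lit 1,nat_lit 2,nat_lit 1,nat_lit 1,nat_lit 2,nat_lit 1,nat_lit 2,nat_lit 0,nat_lit 2,nat_lit 0,nat_lit 0,nat_lit 2,nat_lit 4])
 (.leaf [nat_lit 31,nat_lit 14,nat_lit 0,nat_lit 2,nat_lit 3,nat_lit 0,nat_lit 4,nat_lit 1,nat_lit 2,nat_lit 1,nat_lit 1,nat_lit 2,nat_lit 0,nat_lit 2,nat_lit 0,nat_lit 0,nat_lit 2,nat_lit 0,nat_lit 2,nat_lit 0,nat_lit 0,nat_lit 0,nat_lit 3,nat_lit 1,nat_lit 2,nat_lit 3,nat_lit 2,nat_lit 4,nat_lit 0,nat_lit 4,nat_lit 1,nat_lit 4,nat_lit 3])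
)) (.node (.node (.leaf [nat_lit 24,nat_lit 8,nat_lit 1,nat_lit 4,nat_lit 0,nat_lit 4,nat_lit 0,nat_lit 2,nat_lit 0,nat_lit 2,nat_lit 0,nat_lit 0,nat_lit 0,nat_lit 2,nat_lit 1,nat_lit 1,nat_lit 1,nat_lit 2,nat_lit 1,nat_lit 2,nat_lit 1,nat_lit 4,nat_lit 1,nat_lit 4,nat_lit 2])
 (.leaf [nat_lit 26,nat_lit 15,nat_lit 1,nat_lit 4,nat_lit 0,nat_lit 2,nat_lit 0,nat_lit 2,nat_lit 0,nat_lit 2,nat_lit 1,nat_lit 2,nat_lit 1,nat_lit 1,nat_lit 2,nat_lit 1,nat_lit 2,nat_lit 0,nat_lit 2,nat_lit 3,nat_lit 2,nat_lit 3,nat_lit 1,nat_lit 2,nat_lit 0,nat_lit 4,nat_lit 2,nat_lit 3,nat_lit 2])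
) (.node (.leaf [nat_lit 46,nat_lit 13,nat_lit 0,nat_lit 0,nat_lit 3,nat_lit 1,nat_lit 2,nat_lit 0,nat_lit 2,nat_lit 4,nat_lit 1,nat_lit 3,nat_lit 0,nat_lit 0,nat_lit 2,nat_lit 1,nat_lit 3,nat_lit 2,nat_lit 0,nat_lit 2,nat_lit 1,nat_lit 1,nat_lit 1,nat_lit 2,nat_lit 0,nat_lit 0,nat_lit 0,nat_lit 2,nat_lit 0,nat_lit 2,nat_lit 0,nat_lit 2,nat_lit 1,nat_lit 1,nat_lit 4,nat_lit 1,nat_lit 2])
 (.leaf [nat_lit 20,nat_lit 4,nat_lit 1,nat_lit 2,nat_lit 1,nat_lit 1,nat_lit 2,nat_lit 1,nat_lit 1,nat_lit 2,nat_lit 1,nat_lit 2,nat_lit 0,nat_lit 0,nat_lit 3,nat_lit 0,nat_lit 3,nat_lit 2,nat_lit 0,nat_lit 0,nat_lit 0,nat_lit 3,nat_lit 1,nat_lit 1,nat_lit 1,nat_lit 2,nat_lit 3,nat_lit 2,nat_lit 1])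
)))) (.node (.node (.node (.node (.leaf [nat_lit 43,nat_lit 16,nat_lit 0,nat_lit 1,nat_lit 2,nat_lit 3,nat_lit 0,nat_lit 4,nat_lit 0,nat_lit 3,nat_lit 0,nat_lit 0,nat_lit 2,nat_lit 1,nat_lit 2,nat_lit 1,nat_lit 3,nat_lit 2,nat_lit 1,nat_lit 2,nat_lit 0,nat_lit 0,nat_lit 2,nat_lit 0,nat_lit 2,nat_lit 0,nat_lit 0,nat_lit 2,nat_lit 1,nat_lit 1,nat_lit 2,nat_lit 1,nat_lit 4,nat_lit 1,nat_lit 2,nat_lit 0])
 (.leaf [nat_lit 28,nat_lit 1,nat_lit 1,nat_lit 3,nat_lit 4,nat_lit 3,nat_lit 4,nat_lit 1,nat_lit 3,nat_lit 1,nat_lit 3,nat_lit 1,nat_lit 3,nat_lit 1,nat_lit 3,nat_lit 1,nat_lit 4])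
) (.node (.leaf [nat_lit 10,nat_lit 10,nat_lit 0,nat_lit 3,nat_lit 2,nat_lit 3,nat_lit 2,nat_lit 1,nat_lit 2,nat_lit 3,nat_lit 2,nat_lit 0,nat_lit 0,nat_lit 0,nat_lit 2,nat_lit 1,nat_lit 1,nat_lit 2,nat_lit 0,nat_lit 2,nat_lit 1])
 (.leaf [nat_lit 43,nat_lit 16,nat_lit 1,nat_lit 0,nat_lit 1,nat_lit 2,nat_lit 0,nat_lit 4,nat_lit 0,nat_lit 2,nat_lit 0,nat_lit 0,nat_lit 2,nat_lit 1,nat_lit 1,nat_lit 2,nat_lit 1,nat_lit 2,nat_lit 1,nat_lit 1,nat_lit 2,nat_lit 0,nat_lit 2,nat_lit 3,nat_lit 0,nat_lit 2,nat_lit 0,nat_lit 2,nat_lit 1,nat_lit 1,nat_lit 3,nat_lit 1,nat_lit 4,nat_lit 1,nat_lit 3,nat_lit 2])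
)) (.node (.node (.leaf [nat_lit 16,nat_lit 4,nat_lit 0,nat_lit 3,nat_lit 1,nat_lit 1,nat_lit 2,nat_lit 0,nat_lit 3,nat_lit 1,nat_lit 2,nat_lit 0,nat_lit 0,nat_lit 3,nat_lit 2,nat_lit 1,nat_lit 3,nat_lit 0,nat_lit 2,nat_lit 0,nat_lit 2,nat_lit 0,nat_lit 2,nat_lit 0,nat_lit 0,nat_lit 0,nat_lit 2])
 (.leaf [nat_lit 30,nat_lit 18,nat_lit 0,nat_lit 3,nat_lit 2,nat_lit 0,nat_lit 4,nat_lit 2,nat_lit 1,nat_lit 1,nat_lit 2,nat_lit 1,nat_lit 2,nat_lit 0,nat_lit 2,nat_lit 0,nat_lit 0,nat_lit 2,nat_lit 0,nat_lit 0,nat_lit 3,nat_lit 2,nat_lit 1,nat_lit 3,nat_lit 2,nat_lit 3,nat_lit 1,nat_lit 2,nat_lit 4,nat_lit 2,nat_lit 1,nat_lit 2,nat_lit 4])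
) (.node (.leaf [nat_lit 18,nat_lit 9,nat_lit 1,nat_lit 3,nat_lit 2,nat_lit 3,nat_lit 1,nat_lit 3,nat_lit 0,nat_lit 0,nat_lit 2,nat_lit 1,nat_lit 2,nat_lit 0,nat_lit 0,nat_lit 2,nat_lit 1,nat_lit 1,nat_lit 1,nat_lit 2,nat_lit 3,nat_lit 2,nat_lit 3,nat_lit 0,nat_lit 2,nat_lit 1,nat_lit 3,nat_lit 0])
 (.leaf [nat_lit 39,nat_lit 11,nat_lit 1,nat_lit 1,nat_lit 0,nat_lit 4,nat_lit 2,nat_lit 3,nat_lit 0,nat_lit 2,nat_lit 3,nat_lit 0,nat_lit 3,nat_lit 2,nat_lit 1,nat_lit 1,nat_lit 1,nat_lit 2,nat_lit 0,nat_lit 2,nat_lit 1,nat_lit 1,nat_lit 1,nat_lit 2,nat_lit 0,nat_lit 0,nat_lit 4,nat_lit 1,nat_lit 1,nat_lit 1,nat_lit 2,nat_lit 3,nat_lit 2,nat_lit 0])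
))) (.node (.node (.node (.leaf [nat_lit 42,nat_lit 22,nat_lit 1,nat_lit 0,nat_lit 2,nat_lit 0,nat_lit 2,nat_lit 1,nat_lit 4,nat_lit 1,nat_lit 2,nat_lit 1,nat_lit 1,nat_lit 2,nat_lit 0,nat_lit 2,nat_lit 1,nat_lit 1,nat_lit 2,nat_lit 1,nat_lit 2,nat_lit 3,nat_lit 2,nat_lit 1,nat_lit 2,nat_lit 3,nat_lit 1,nat_lit 2,nat_lit 0,nat_lit 3,nat_lit 2,nat_lit 4,nat_lit 0,nat_lit 3,nat_lit 2])
 (.leaf [nat_lit 47,nat_lit 16,nat_lit 1,nat_lit 2,nat_lit 0,nat_lit 0,nat_lit 4,nat_lit 3,nat_lit 0,nat_lit 0,nat_lit 3,nat_lit 1,nat_lit 2,nat_lit 0,nat_lit 3,nat_lit 2,nat_lit 3,nat_lit 1,nat_lit 2,nat_lit 1,nat_lit 1,nat_lit 1,nat_lit 2,nat_lit 0,nat_lit 2,nat_lit 1,nat_lit 2,nat_lit 0,nat_lit 2,nat_lit 1,nat_lit 1,nat_lit 2,nat_lit 0,nat_lit 0,nat_lit 4,nat_lit 2,nat_lit 1,nat_lit 1])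
) (.node (.leaf [nat_lit 31,nat_lit 14,nat_lit 1,nat_lit 3,nat_lit 2,nat_lit 3,nat_lit 4,nat_lit 0,nat_lit 4,nat_lit 1,nat_lit 4,nat_lit 2,nat_lit 3,nat_lit 2,nat_lit 0,nat_lit 3,nat_lit 1,nat_lit 1,nat_lit 1,nat_lit 2,nat_lit 1,nat_lit 2,nat_lit 1,nat_lit 1,nat_lit 2,nat_lit 1,nat_lit 2,nat_lit 0,nat_lit 0,nat_lit 2,nat_lit 0,nat_lit 4,nat_lit 1])
 (.leaf [nat_lit 26,nat_lit 14,nat_lit 1,nat_lit 2,nat_lit 4,nat_lit 0,nat_lit 2,nat_lit 0,nat_lit 2,nat_lit 0,nat_lit 2,nat_lit 1,nat_lit 2,nat_lit 1,nat_lit 1,nat_lit 2,nat_lit 1,nat_lit 2,nat_lit 0,nat_lit 2,nat_lit 3,nat_lit 2,nat_lit 3,nat_lit 1,nat_lit 2,nat_lit 0,nat_lit 4,nat_lit 2,nat_lit 3])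
)) (.node (.node (.leaf [nat_lit 19,nat_lit 8,nat_lit 1,nat_lit 3,nat_lit 0,nat_lit 2,nat_lit 1,nat_lit 1,nat_lit 3,nat_lit 0,nat_lit 2,nat_lit 0,nat_lit 2,nat_lit 1,nat_lit 2,nat_lit 0,nat_lit 3,nat_lit 1,nat_lit 1,nat_lit 1,nat_lit 2,nat_lit 0,nat_lit 0,nat_lit 2,nat_lit 0,nat_lit 2,nat_lit 1,nat_lit 2])
 (.leaf [nat_lit 47,nat_lit 17,nat_lit 0,nat_lit 0,nat_lit 2,nat_lit 0,nat_lit 0,nat_lit 2,nat_lit 4,nat_lit 1,nat_lit 1,nat_lit 2,nat_lit 0,nat_lit 0,nat_lit 2,nat_lit 1,nat_lit 2,nat_lit 0,nat_lit 2,nat_lit 1,nat_lit 2,nat_lit 0,nat_lit 0,nat_lit 0,nat_lit 2,nat_lit 0,nat_lit 3,nat_lit 2,nat_lit 3,nat_lit 1,nat_lit 2,nat_lit 0,nat_lit 3,nat_lit 1,nat_lit 1,nat_lit 3,nat_lit 4,nat_lit 1])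
) (.node (.leaf [nat_lit 40,nat_lit 22,nat_lit 0,nat_lit 1,nat_lit 2,nat_lit 3,nat_lit 2,nat_lit 1,nat_lit 1,nat_lit 2,nat_lit 0,nat_lit 2,nat_lit 0,nat_lit 0,nat_lit 0,nat_lit 2,nat_lit 1,nat_lit 1,nat_lit 2,nat_lit 4,nat_lit 3,nat_lit 1,nat_lit 1,nat_lit 1,nat_lit 4,nat_lit 0,nat_lit 0,nat_lit 0,nat_lit 3,nat_lit 4,nat_lit 2,nat_lit 0,nat_lit 3,nat_lit 0])
 (.leaf [nat_lit 25,nat_lit 17,nat_lit 1,nat_lit 4,nat_lit 0,nat_lit 0,nat_lit 2,nat_lit 1,nat_lit 1,nat_lit 1,nat_lit 2,nat_lit 1,nat_lit 2,nat_lit 1,nat_lit 2,nat_lit 1,nat_lit 3,nat_lit 0,nat_lit 2,nat_lit 1,nat_lit 1,nat_lit 4,nat_lit 2,nat_lit 0,nat_lit 3,nat_lit 1,nat_lit 2])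
))))) (.node (.node (.node (.node (.node (.leaf [nat_lit 46,nat_lit 10,nat_lit 0,nat_lit 4,nat_lit 1,nat_lit 2,nat_lit 1,nat_lit 3,nat_lit 1,nat_lit 2,nat_lit 0,nat_lit 2,nat_lit 4,nat_lit 1,nat_lit 3,nat_lit 0,nat_lit 0,nat_lit 2,nat_lit 1,nat_lit 3,nat_lit 2,nat_lit 0,nat_lit 2,nat_lit 1,nat_lit 1,nat_lit 1,nat_lit 2,nat_lit 0,nat_lit 0,nat_lit 0,nat_lit 2,nat_lit 0,nat_lit 2,nat_lit 0,nat_lit 2,nat_lit 1,nat_lit 1])
 (.leaf [nat_lit 45,nat_lit 0,nat_lit 0,nat_lit 1,nat_lit 0,nat_lit 0,nat_lit 2,nat_lit 0,nat_lit 0,nat_lit 0,nat_lit 2,nat_lit 0,nat_lit 0,nat_lit 2,nat_lit 1,nat_lit 1,nat_lit 2,nat_lit 1,nat_lit 2,nat_lit 0,nat_lit 0,nat_lit 3,nat_lit 2,nat_lit 1,nat_lit 3,nat_lit 0,nat_lit 0,nat_lit 0,nat_lit 2,nat_lit 0,nat_lit 4,nat_lit 2,nat_lit 4,nat_lit 1,nat_lit 4,nat_lit 2,nat_lit 4])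
) (.node (.leaf [nat_lit 19,nat_lit 14,nat_lit 1,nat_lit 1,nat_lit 2,nat_lit 0,nat_lit 2,nat_lit 1,nat_lit 2,nat_lit 0,nat_lit 3,nat_lit 1,nat_lit 1,nat_lit 1,nat_lit 2,nat_lit 0,nat_lit 0,nat_lit 2,nat_lit 0,nat_lit 2,nat_lit 1,nat_lit 2,nat_lit 3,nat_lit 0,nat_lit 2,nat_lit 1,nat_lit 1,nat_lit 3])
 (.leaf [nat_lit 34,nat_lit 30,nat_lit 1,nat_lit 0,nat_lit 2,nat_lit 4,nat_lit 1,nat_lit 1,nat_lit 1,nat_lit 2,nat_lit 1,nat_lit 2,nat_lit 0,nat_lit 0,nat_lit 2,nat_lit 1,nat_lit 1,nat_lit 1,nat_lit 2,nat_lit 1,nat_lit 3,nat_lit 2,nat_lit 0,nat_lit 0,nat_lit 0,nat_lit 2,nat_lit 0,nat_lit 4,nat_lit 1,nat_lit 2,nat_lit 1,nat_lit 2,nat_lit 1,nat_lit 1])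
)) (.node (.node (.leaf [nat_lit 4,nat_lit 0,nat_lit 0,nat_lit 1,nat_lit 2,nat_lit 0,nat_lit 2,nat_lit 0,nat_lit 2,nat_lit 0,nat_lit 2,nat_lit 0,nat_lit 2,nat_lit 0,nat_lit 2,nat_lit 0,nat_lit 2,nat_lit 0,nat_lit 2])
 (.leaf [nat_lit 31,nat_lit 21,nat_lit 1,nat_lit 4,nat_lit 2,nat_lit 3,nat_lit 2,nat_lit 0,nat_lit 3,nat_lit 1,nat_lit 1,nat_lit 1,nat_lit 2,nat_lit 1,nat_lit 2,nat_lit 1,nat_lit 1,nat_lit 2,nat_lit 1,nat_lit 2,nat_lit 0,nat_lit 0,nat_lit 2,nat_lit 0,nat_lit 4,nat_lit 1,nat_lit 3,nat_lit 2,nat_lit 3,nat_lit 4,nat_lit 0,nat_lit 4,nat_lit 1])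
) (.node (.leaf [nat_lit 20,nat_lit 21,nat_lit 1,nat_lit 1,nat_lit 3,nat_lit 1,nat_lit 1,nat_lit 1,nat_lit 2,nat_lit 3,nat_lit 2,nat_lit 1,nat_lit 2,nat_lit 1,nat_lit 1,nat_lit 2,nat_lit 1,nat_lit 1,nat_lit 2,nat_lit 1,nat_lit 2,nat_lit 0,nat_lit 0,nat_lit 3,nat_lit 0,nat_lit 3,nat_lit 2,nat_lit 0,nat_lit 0])
 (.leaf [nat_lit 10,nat_lit 2,nat_lit 0,nat_lit 1,nat_lit 2,nat_lit 1,nat_lit 1,nat_lit 2,nat_lit 0,nat_lit 2,nat_lit 1,nat_lit 3,nat_lit 2,nat_lit 3,nat_lit 2,nat_lit 1,nat_lit 2,nat_lit 3,nat_lit 2,nat_lit 0,nat_lit 0])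
))) (.node (.node (.node (.leaf [nat_lit 15,nat_lit 21,nat_lit 0,nat_lit 2,nat_lit 1,nat_lit 3,nat_lit 0,nat_lit 0,nat_lit 0,nat_lit 2,nat_lit 1,nat_lit 1,nat_lit 2,nat_lit 0,nat_lit 2,nat_lit 1,nat_lit 2,nat_lit 1,nat_lit 2,nat_lit 3,nat_lit 2,nat_lit 3,nat_lit 0,nat_lit 2,nat_lit 3,nat_lit 2,nat_lit 3])
 (.leaf [nat_lit 42,nat_lit 29,nat_lit 1,nat_lit 2,nat_lit 1,nat_lit 1,nat_lit 2,nat_lit 0,nat_lit 2,nat_lit 1,nat_lit 1,nat_lit 2,nat_lit 1,nat_lit 2,nat_lit 3,nat_lit 2,nat_lit 1,nat_lit 2,nat_lit 3,nat_lit 1,nat_lit 2,nat_lit 0,nat_lit 3,nat_lit 2,nat_lit 4,nat_lit 0,nat_lit 3,nat_lit 2,nat_lit 1,nat_lit 2,nat_lit 0,nat_lit 2,nat_lit 1,nat_lit 4,nat_lit 1])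
) (.node (.leaf [nat_lit 46,nat_lit 8,nat_lit 1,nat_lit 1,nat_lit 2,nat_lit 1,nat_lit 1,nat_lit 3,nat_lit 0,nat_lit 4,nat_lit 2,nat_lit 1,nat_lit 2,nat_lit 0,nat_lit 3,nat_lit 0,nat_lit 2,nat_lit 0,nat_lit 4,nat_lit 0,nat_lit 0,nat_lit 2,nat_lit 1,nat_lit 2,nat_lit 1,nat_lit 2,nat_lit 1,nat_lit 1,nat_lit 1,nat_lit 2,nat_lit 0,nat_lit 0,nat_lit 0,nat_lit 2,nat_lit 1,nat_lit 2,nat_lit 3])
 (.leaf [nat_lit 45,nat_lit 0,nat_lit 1,nat_lit 4,nat_lit 2,nat_lit 4,nat_lit 0,nat_lit 4,nat_lit 2,nat_lit 4,nat_lit 1,nat_lit 2,nat_lit 1,nat_lit 1,nat_lit 1,nat_lit 3,nat_lit 0,nat_lit 2,nat_lit 3,nat_lit 1,nat_lit 1,nat_lit 2,nat_lit 0,nat_lit 2,nat_lit 0,nat_lit 0,nat_lit 2,nat_lit 1,nat_lit 1,nat_lit 2,nat_lit 1,nat_lit 1,nat_lit 1,nat_lit 2,nat_lit 1,nat_lit 1,nat_lit 1])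
)) (.node (.node (.leaf [nat_lit 34,nat_lit 5,nat_lit 0,nat_lit 2,nat_lit 0,nat_lit 4,nat_lit 1,nat_lit 2,nat_lit 1,nat_lit 1,nat_lit 1,nat_lit 2,nat_lit 3,nat_lit 0,nat_lit 2,nat_lit 0,nat_lit 0,nat_lit 0,nat_lit 2,nat_lit 1,nat_lit 1,nat_lit 2,nat_lit 0,nat_lit 2,nat_lit 0,nat_lit 0,nat_lit 0,nat_lit 4,nat_lit 2,nat_lit 0,nat_lit 0,nat_lit 0,nat_lit 2,nat_lit 0])
 (.leaf [nat_lit 43,nat_lit 13,nat_lit 1,nat_lit 0,nat_lit 3,nat_lit 2,nat_lit 1,nat_lit 1,nat_lit 2,nat_lit 0,nat_lit 4,nat_lit 0,nat_lit 2,nat_lit 0,nat_lit 0,nat_lit 2,nat_lit 1,nat_lit 1,nat_lit 2,nat_lit 1,nat_lit 2,nat_lit 1,nat_lit 1,nat_lit 2,nat_lit 0,nat_lit 2,nat_lit 3,nat_lit 0,nat_lit 2,nat_lit 0,nat_lit 2,nat_lit 1,nat_lit 1,nat_lit 3,nat_lit 1,nat_lit 4])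
) (.node (.leaf [nat_lit 29,nat_lit 14,nat_lit 1,nat_lit 3,nat_lit 1,nat_lit 2,nat_lit 1,nat_lit 4,nat_lit 2,nat_lit 1,nat_lit 3,nat_lit 0,nat_lit 4,nat_lit 1,nat_lit 3,nat_lit 0,nat_lit 2,nat_lit 4,nat_lit 0,nat_lit 2,nat_lit 0])
 (.leaf [nat_lit 14,nat_lit 7,nat_lit 1,nat_lit 1,nat_lit 0,nat_lit 3,nat_lit 2,nat_lit 3,nat_lit 1,nat_lit 3,nat_lit 0,nat_lit 2,nat_lit 1,nat_lit 1,nat_lit 1,nat_lit 2,nat_lit 1,nat_lit 1,nat_lit 1,nat_lit 3,nat_lit 2,nat_lit 0,nat_lit 3,nat_lit 1,nat_lit 1,nat_lit 2])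
)))) (.node (.node (.node (.node (.leaf [nat_lit 35,nat_lit 12,nat_lit 1,nat_lit 4,nat_lit 1,nat_lit 2,nat_lit 3,nat_lit 2,nat_lit 1,nat_lit 1,nat_lit 1,nat_lit 3,nat_lit 4,nat_lit 1,nat_lit 1,nat_lit 1,nat_lit 2,nat_lit 1,nat_lit 2,nat_lit 1,nat_lit 1,nat_lit 1,nat_lit 2,nat_lit 0,nat_lit 2,nat_lit 1,nat_lit 3,nat_lit 0,nat_lit 2,nat_lit 1,nat_lit 2,nat_lit 0,nat_lit 2,nat_lit 1])
 (.leaf [nat_lit 39,nat_lit 24,nat_lit 0,nat_lit 1,nat_lit 0,nat_lit 0,nat_lit 4,nat_lit 1,nat_lit 1,nat_lit 2,nat_lit 0,nat_lit 0,nat_lit 0,nat_lit 2,nat_lit 1,nat_lit 2,nat_lit 0,nat_lit 0,nat_lit 0,nat_lit 2,nat_lit 3,nat_lit 1,nat_lit 3,nat_lit 2,nat_lit 1,nat_lit 3,nat_lit 2,nat_lit 4,nat_lit 1,nat_lit 1,nat_lit 1,nat_lit 2,nat_lit 3,nat_lit 2])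
) (.node (.leaf [nat_lit 5,nat_lit 6,nat_lit 1,nat_lit 2,nat_lit 0,nat_lit 0,nat_lit 2,nat_lit 1,nat_lit 1,nat_lit 2,nat_lit 0,nat_lit 0,nat_lit 2,nat_lit 1,nat_lit 1,nat_lit 2,nat_lit 0,nat_lit 0,nat_lit 2,nat_lit 1,nat_lit 1])
 (.leaf [nat_lit 32,nat_lit 15,nat_lit 0,nat_lit 0,nat_lit 2,nat_lit 3,nat_lit 4,nat_lit 1,nat_lit 2,nat_lit 1,nat_lit 1,nat_lit 1,nat_lit 2,nat_lit 3,nat_lit 1,nat_lit 2,nat_lit 1,nat_lit 1,nat_lit 2,nat_lit 0,nat_lit 0,nat_lit 0,nat_lit 2,nat_lit 0,nat_lit 2,nat_lit 1,nat_lit 1,nat_lit 1,nat_lit 2,nat_lit 4,nat_lit 3,nat_lit 2,nat_lit 0,nat_lit 3])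
)) (.node (.node (.leaf [nat_lit 36,nat_lit 0,nat_lit 0,nat_lit 1,nat_lit 0,nat_lit 0,nat_lit 2,nat_lit 0,nat_lit 4,nat_lit 0,nat_lit 3,nat_lit 2,nat_lit 0,nat_lit 3,nat_lit 2,nat_lit 1,nat_lit 3,nat_lit 2,nat_lit 1,nat_lit 1,nat_lit 1,nat_lit 2,nat_lit 0,nat_lit 0,nat_lit 0,nat_lit 2,nat_lit 1,nat_lit 2,nat_lit 0,nat_lit 2,nat_lit 4,nat_lit 1,nat_lit 2,nat_lit 3])
 (.leaf [nat_lit 30,nat_lit 13,nat_lit 1,nat_lit 2,nat_lit 0,nat_lit 2,nat_lit 4,nat_lit 2,nat_lit 0,nat_lit 3,nat_lit 2,nat_lit 3,nat_lit 0,nat_lit 2,nat_lit 3,nat_lit 1,nat_lit 1,nat_lit 2,nat_lit 1,nat_lit 1,nat_lit 2,nat_lit 1,nat_lit 2,nat_lit 0,nat_lit 2,nat_lit 0,nat_lit 0,nat_lit 2,nat_lit 4,nat_lit 1,nat_lit 2,nat_lit 3,nat_lit 4])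
) (.node (.leaf [nat_lit 14,nat_lit 18,nat_lit 1,nat_lit 0,nat_lit 2,nat_lit 1,nat_lit 1,nat_lit 1,nat_lit 3,nat_lit 2,nat_lit 0,nat_lit 3,nat_lit 1,nat_lit 1,nat_lit 2,nat_lit 0,nat_lit 0,nat_lit 3,nat_lit 2,nat_lit 3,nat_lit 1,nat_lit 3,nat_lit 0,nat_lit 2,nat_lit 1,nat_lit 1])
 (.leaf [nat_lit 39,nat_lit 23,nat_lit 0,nat_lit 2,nat_lit 0,nat_lit 0,nat_lit 0,nat_lit 4,nat_lit 1,nat_lit 1,nat_lit 2,nat_lit 0,nat_lit 0,nat_lit 0,nat_lit 2,nat_lit 1,nat_lit 2,nat_lit 0,nat_lit 0,nat_lit 0,nat_lit 2,nat_lit 3,nat_lit 1,nat_lit 3,nat_lit 2,nat_lit 1,nat_lit 3,nat_lit 2,nat_lit 4,nat_lit 1,nat_lit 1,nat_lit 1,nat_lit 2,nat_lit 3])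
))) (.node (.node (.node (.leaf [nat_lit 10,nat_lit 11,nat_lit 1,nat_lit 2,nat_lit 0,nat_lit 0,nat_lit 2,nat_lit 1,nat_lit 1,nat_lit 1,nat_lit 2,nat_lit 3,nat_lit 2,nat_lit 0,nat_lit 2,nat_lit 3,nat_lit 2,nat_lit 3,nat_lit 0,nat_lit 2,nat_lit 1])
 (.leaf [nat_lit 29,nat_lit 4,nat_lit 1,nat_lit 1,nat_lit 4,nat_lit 1,nat_lit 3,nat_lit 0,nat_lit 2,nat_lit 4,nat_lit 0,nat_lit 2,nat_lit 0,nat_lit 3,nat_lit 1,nat_lit 2,nat_lit 1,nat_lit 4,nat_lit 2,nat_lit 1,nat_lit 3])
) (.node (.leaf [nat_lit 33,nat_lit 21,nat_lit 0,nat_lit 4,nat_lit 1,nat_lit 2,nat_lit 1,nat_lit 1,nat_lit 2,nat_lit 0,nat_lit 0,nat_lit 0,nat_lit 2,nat_lit 0,nat_lit 2,nat_lit 1,nat_lit 1,nat_lit 3,nat_lit 1,nat_lit 1,nat_lit 4,nat_lit 0,nat_lit 2,nat_lit 0,nat_lit 0,nat_lit 0,nat_lit 2,nat_lit 3,nat_lit 4,nat_lit 2])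
 (.leaf [nat_lit 10,nat_lit 16,nat_lit 1,nat_lit 0,nat_lit 1,nat_lit 2,nat_lit 3,nat_lit 2,nat_lit 0,nat_lit 2,nat_lit 3,nat_lit 2,nat_lit 3,nat_lit 0,nat_lit 2,nat_lit 1,nat_lit 2,nat_lit 0,nat_lit 0,nat_lit 2,nat_lit 1])
)) (.node (.node (.leaf [nat_lit 41,nat_lit 26,nat_lit 0,nat_lit 4,nat_lit 1,nat_lit 2,nat_lit 0,nat_lit 2,nat_lit 0,nat_lit 0,nat_lit 0,nat_lit 2,nat_lit 1,nat_lit 2,nat_lit 1,nat_lit 1,nat_lit 2,nat_lit 1,nat_lit 3,nat_lit 2,nat_lit 1,nat_lit 3,nat_lit 0,nat_lit 0,nat_lit 4,nat_lit 0,nat_lit 2,nat_lit 1,nat_lit 3,nat_lit 2,nat_lit 0,nat_lit 2,nat_lit 0,nat_lit 0])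
 (.leaf [nat_lit 13,nat_lit 8,nat_lit 1,nat_lit 3,nat_lit 1,nat_lit 3,nat_lit 2,nat_lit 1,nat_lit 2,nat_lit 0,nat_lit 0,nat_lit 2,nat_lit 1,nat_lit 1,nat_lit 2,nat_lit 0,nat_lit 3,nat_lit 0,nat_lit 3,nat_lit 0,nat_lit 2,nat_lit 1])
) (.node (.leaf [nat_lit 20,nat_lit 11,nat_lit 0,nat_lit 0,nat_lit 1,nat_lit 2,nat_lit 0,nat_lit 2,nat_lit 0,nat_lit 0,nat_lit 2,nat_lit 0,nat_lit 0,nat_lit 2,nat_lit 0,nat_lit 2,nat_lit 3,nat_lit 2,nat_lit 0,nat_lit 0,nat_lit 0,nat_lit 3,nat_lit 1,nat_lit 1,nat_lit 1,nat_lit 2,nat_lit 3,nat_lit 1,nat_lit 3])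
 (.leaf [nat_lit 28,nat_lit 4,nat_lit 0,nat_lit 1,nat_lit 3,nat_lit 0,nat_lit 3,nat_lit 0,nat_lit 4,nat_lit 3,nat_lit 4,nat_lit 3,nat_lit 4,nat_lit 0,nat_lit 3,nat_lit 0,nat_lit 3])
)))))) (.node (.node (.node (.node (.node (.node (.leaf [nat_lit 10,nat_lit 9,nat_lit 0,nat_lit 0,nat_lit 3,nat_lit 2,nat_lit 3,nat_lit 2,nat_lit 1,nat_lit 2,nat_lit 3,nat_lit 2,nat_lit 0,nat_lit 0,nat_lit 0,nat_lit 2,nat_lit 1,nat_lit 1,nat_lit 2,nat_lit 0,nat_lit 2])
 (.leaf [nat_lit 26,nat_lit 6,nat_lit 1,nat_lit 2,nat_lit 3,nat_lit 1,nat_lit 2,nat_lit 0,nat_lit 4,nat_lit 2,nat_lit 3,nat_lit 2,nat_lit 4,nat_lit 0,nat_lit 2,nat_lit 0,nat_lit 2,nat_lit 0,nat_lit 2,nat_lit 1,nat_lit 2,nat_lit 1,nat_lit 1,nat_lit 2,nat_lit 1,nat_lit 2,nat_lit 0,nat_lit 2,nat_lit 3])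
) (.node (.leaf [nat_lit 43,nat_lit 17,nat_lit 0,nat_lit 2,nat_lit 3,nat_lit 0,nat_lit 4,nat_lit 0,nat_lit 3,nat_lit 0,nat_lit 0,nat_lit 2,nat_lit 1,nat_lit 2,nat_lit 1,nat_lit 3,nat_lit 2,nat_lit 1,nat_lit 2,nat_lit 0,nat_lit 0,nat_lit 2,nat_lit 0,nat_lit 2,nat_lit 0,nat_lit 0,nat_lit 2,nat_lit 1,nat_lit 1,nat_lit 2,nat_lit 1,nat_lit 4,nat_lit 1,nat_lit 2,nat_lit 0,nat_lit 0])
 (.leaf [nat_lit 37,nat_lit 8,nat_lit 1,nat_lit 3,nat_lit 2,nat_lit 3,nat_lit 1,nat_lit 3,nat_lit 2,nat_lit 0,nat_lit 4,nat_lit 1,nat_lit 3,nat_lit 1,nat_lit 1,nat_lit 2,nat_lit 1,nat_lit 2,nat_lit 1,nat_lit 2,nat_lit 4,nat_lit 1,nat_lit 2,nat_lit 1,nat_lit 1,nat_lit 2,nat_lit 1,nat_lit 2,nat_lit 1,nat_lit 2,nat_lit 1,nat_lit 2,nat_lit 0])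
)) (.node (.node (.leaf [nat_lit 38,nat_lit 15,nat_lit 0,nat_lit 4,nat_lit 2,nat_lit 3,nat_lit 4,nat_lit 1,nat_lit 2,nat_lit 3,nat_lit 4,nat_lit 1,nat_lit 3,nat_lit 0,nat_lit 3,nat_lit 1,nat_lit 3,nat_lit 0,nat_lit 2,nat_lit 0,nat_lit 0,nat_lit 2,nat_lit 0,nat_lit 2,nat_lit 0,nat_lit 0,nat_lit 2,nat_lit 1,nat_lit 1,nat_lit 2,nat_lit 0,nat_lit 2,nat_lit 4,nat_lit 2])
 (.leaf [nat_lit 14,nat_lit 20,nat_lit 1,nat_lit 0,nat_lit 1,nat_lit 1,nat_lit 3,nat_lit 2,nat_lit 0,nat_lit 3,nat_lit 1,nat_lit 1,nat_lit 2,nat_lit 0,nat_lit 0,nat_lit 3,nat_lit 2,nat_lit 3,nat_lit 1,nat_lit 3,nat_lit 0,nat_lit 2,nat_lit 1,nat_lit 1,nat_lit 1,nat_lit 2])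
) (.node (.leaf [nat_lit 13,nat_lit 10,nat_lit 1,nat_lit 3,nat_lit 2,nat_lit 1,nat_lit 2,nat_lit 0,nat_lit 0,nat_lit 2,nat_lit 1,nat_lit 1,nat_lit 2,nat_lit 0,nat_lit 3,nat_lit 0,nat_lit 3,nat_lit 0,nat_lit 2,nat_lit 1,nat_lit 3,nat_lit 1])
 (.leaf [nat_lit 43,nat_lit 2,nat_lit 0,nat_lit 2,nat_lit 0,nat_lit 2,nat_lit 0,nat_lit 0,nat_lit 2,nat_lit 1,nat_lit 1,nat_lit 2,nat_lit 1,nat_lit 4,nat_lit 1,nat_lit 2,nat_lit 0,nat_lit 0,nat_lit 2,nat_lit 3,nat_lit 0,nat_lit 4,nat_lit 0,nat_lit 3,nat_lit 0,nat_lit 0,nat_lit 2,nat_lit 1,nat_lit 2,nat_lit 1,nat_lit 3,nat_lit 2,nat_lit 1,nat_lit 2,nat_lit 0,nat_lit 0])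
))) (.node (.node (.node (.leaf [nat_lit 17,nat_lit 11,nat_lit 0,nat_lit 0,nat_lit 2,nat_lit 0,nat_lit 2,nat_lit 1,nat_lit 2,nat_lit 0,nat_lit 2,nat_lit 3,nat_lit 1,nat_lit 2,nat_lit 0,nat_lit 0,nat_lit 2,nat_lit 0,nat_lit 0,nat_lit 0,nat_lit 2,nat_lit 1,nat_lit 1,nat_lit 2,nat_lit 0,nat_lit 3,nat_lit 2,nat_lit 1])
 (.leaf [nat_lit 36,nat_lit 2,nat_lit 0,nat_lit 1,nat_lit 2,nat_lit 0,nat_lit 4,nat_lit 0,nat_lit 3,nat_lit 2,nat_lit 0,nat_lit 3,nat_lit 2,nat_lit 1,nat_lit 3,nat_lit 2,nat_lit 1,nat_lit 1,nat_lit 1,nat_lit 2,nat_lit 0,nat_lit 0,nat_lit 0,nat_lit 2,nat_lit 1,nat_lit 2,nat_lit 0,nat_lit 2,nat_lit 4,nat_lit 1,nat_lit 2,nat_lit 3,nat_lit 0,nat_lit 0])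
) (.node (.leaf [nat_lit 43,nat_lit 0,nat_lit 1,nat_lit 2,nat_lit 0,nat_lit 2,nat_lit 3,nat_lit 0,nat_lit 2,nat_lit 0,nat_lit 2,nat_lit 1,nat_lit 1,nat_lit 3,nat_lit 1,nat_lit 4,nat_lit 1,nat_lit 3,nat_lit 2,nat_lit 1,nat_lit 1,nat_lit 2,nat_lit 0,nat_lit 4,nat_lit 0,nat_lit 2,nat_lit 0,nat_lit 0,nat_lit 2,nat_lit 1,nat_lit 1,nat_lit 2,nat_lit 1,nat_lit 2,nat_lit 1,nat_lit 1])
 (.leaf [nat_lit 25,nat_lit 16,nat_lit 0,nat_lit 0,nat_lit 3,nat_lit 0,nat_lit 2,nat_lit 0,nat_lit 2,nat_lit 0,nat_lit 2,nat_lit 0,nat_lit 0,nat_lit 0,nat_lit 2,nat_lit 1,nat_lit 1,nat_lit 4,nat_lit 2,nat_lit 0,nat_lit 3,nat_lit 1,nat_lit 2,nat_lit 4,nat_lit 0,nat_lit 0,nat_lit 2])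
)) (.node (.node (.leaf [nat_lit 15,nat_lit 5,nat_lit 1,nat_lit 3,nat_lit 2,nat_lit 1,nat_lit 3,nat_lit 2,nat_lit 3,nat_lit 2,nat_lit 0,nat_lit 2,nat_lit 0,nat_lit 2,nat_lit 1,nat_lit 2,nat_lit 0,nat_lit 0,nat_lit 2,nat_lit 1,nat_lit 1,nat_lit 1,nat_lit 3,nat_lit 0,nat_lit 2,nat_lit 3,nat_lit 2])
 (.leaf [nat_lit 31,nat_lit 12,nat_lit 1,nat_lit 4,nat_lit 1,nat_lit 3,nat_lit 2,nat_lit 3,nat_lit 4,nat_lit 0,nat_lit 4,nat_lit 1,nat_lit 4,nat_lit 2,nat_lit 3,nat_lit 2,nat_lit 0,nat_lit 3,nat_lit 1,nat_lit 1,nat_lit 1,nat_lit 2,nat_lit 1,nat_lit 2,nat_lit 1,nat_lit 1,nat_lit 2,nat_lit 1,nat_lit 2,nat_lit 0,nat_lit 0,nat_lit 2,nat_lit 0])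
) (.node (.leaf [nat_lit 45,nat_lit 30,nat_lit 0,nat_lit 0,nat_lit 4,nat_lit 2,nat_lit 4,nat_lit 0,nat_lit 0,nat_lit 0,nat_lit 2,nat_lit 0,nat_lit 0,nat_lit 0,nat_lit 2,nat_lit 0,nat_lit 0,nat_lit 2,nat_lit 1,nat_lit 1,nat_lit 2,nat_lit 1,nat_lit 2,nat_lit 0,nat_lit 0,nat_lit 3,nat_lit 2,nat_lit 1,nat_lit 3,nat_lit 0,nat_lit 0,nat_lit 0,nat_lit 2,nat_lit 0,nat_lit 4,nat_lit 2,nat_lit 4])
 (.leaf [nat_lit 16,nat_lit 13,nat_lit 1,nat_lit 1,nat_lit 3,nat_lit 1,nat_lit 2,nat_lit 0,nat_lit 0,nat_lit 3,nat_lit 2,nat_lit 1,nat_lit 1,nat_lit 1,nat_lit 2,nat_lit 1,nat_lit 2,nat_lit 1,nat_lit 2,nat_lit 1,nat_lit 3,nat_lit 0,nat_lit 2,nat_lit 3,nat_lit 1,nat_lit 1,nat_lit 2])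
)))) (.node (.node (.node (.node (.leaf [nat_lit 43,nat_lit 20,nat_lit 1,nat_lit 4,nat_lit 0,nat_lit 2,nat_lit 0,nat_lit 0,nat_lit 2,nat_lit 1,nat_lit 1,nat_lit 2,nat_lit 1,nat_lit 2,nat_lit 1,nat_lit 1,nat_lit 2,nat_lit 0,nat_lit 2,nat_lit 3,nat_lit 0,nat_lit 2,nat_lit 0,nat_lit 2,nat_lit 1,nat_lit 1,nat_lit 3,nat_lit 1,nat_lit 4,nat_lit 1,nat_lit 3,nat_lit 2,nat_lit 1,nat_lit 1,nat_lit 2,nat_lit 0])
 (.leaf [nat_lit 18,nat_lit 13,nat_lit 0,nat_lit 3,nat_lit 2,nat_lit 3,nat_lit 1,nat_lit 3,nat_lit 0,nat_lit 2,nat_lit 1,nat_lit 3,nat_lit 2,nat_lit 3,nat_lit 2,nat_lit 0,nat_lit 0,nat_lit 0,nat_lit 2,nat_lit 1,nat_lit 1,nat_lit 2,nat_lit 0,nat_lit 2,nat_lit 1,nat_lit 1,nat_lit 3,nat_lit 0])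
) (.node (.leaf [nat_lit 14,nat_lit 21,nat_lit 0,nat_lit 2,nat_lit 3,nat_lit 0,nat_lit 0,nat_lit 0,nat_lit 2,nat_lit 0,nat_lit 0,nat_lit 0,nat_lit 2,nat_lit 1,nat_lit 3,nat_lit 0,nat_lit 3,nat_lit 2,nat_lit 3,nat_lit 1,nat_lit 1,nat_lit 2,nat_lit 0,nat_lit 0,nat_lit 3,nat_lit 1])
 (.leaf [nat_lit 21,nat_lit 5,nat_lit 0,nat_lit 0,nat_lit 2,nat_lit 1,nat_lit 2,nat_lit 1,nat_lit 3,nat_lit 0,nat_lit 0,nat_lit 2,nat_lit 1,nat_lit 3,nat_lit 1,nat_lit 1,nat_lit 2,nat_lit 0,nat_lit 0,nat_lit 2,nat_lit 1,nat_lit 3,nat_lit 1,nat_lit 2,nat_lit 0,nat_lit 0,nat_lit 2,nat_lit 1,nat_lit 2])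
)) (.node (.node (.leaf [nat_lit 16,nat_lit 18,nat_lit 1,nat_lit 1,nat_lit 3,nat_lit 2,nat_lit 1,nat_lit 1,nat_lit 1,nat_lit 2,nat_lit 1,nat_lit 2,nat_lit 1,nat_lit 2,nat_lit 1,nat_lit 3,nat_lit 0,nat_lit 2,nat_lit 3,nat_lit 1,nat_lit 1,nat_lit 2,nat_lit 0,nat_lit 3,nat_lit 1,nat_lit 2,nat_lit 0])
 (.leaf [nat_lit 40,nat_lit 27,nat_lit 1,nat_lit 2,nat_lit 1,nat_lit 1,nat_lit 1,nat_lit 2,nat_lit 1,nat_lit 2,nat_lit 0,nat_lit 0,nat_lit 2,nat_lit 3,nat_lit 2,nat_lit 1,nat_lit 1,nat_lit 3,nat_lit 1,nat_lit 2,nat_lit 4,nat_lit 3,nat_lit 1,nat_lit 1,nat_lit 1,nat_lit 4,nat_lit 0,nat_lit 0,nat_lit 0,nat_lit 3,nat_lit 4,nat_lit 2,nat_lit 0,nat_lit 0])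
) (.node (.leaf [nat_lit 10,nat_lit 12,nat_lit 1,nat_lit 1,nat_lit 0,nat_lit 2,nat_lit 1,nat_lit 1,nat_lit 1,nat_lit 2,nat_lit 3,nat_lit 2,nat_lit 0,nat_lit 2,nat_lit 3,nat_lit 2,nat_lit 3,nat_lit 0,nat_lit 2,nat_lit 1,nat_lit 2])
 (.leaf [nat_lit 32,nat_lit 11,nat_lit 0,nat_lit 3,nat_lit 2,nat_lit 0,nat_lit 3,nat_lit 1,nat_lit 2,nat_lit 3,nat_lit 4,nat_lit 1,nat_lit 2,nat_lit 1,nat_lit 1,nat_lit 1,nat_lit 2,nat_lit 3,nat_lit 1,nat_lit 2,nat_lit 1,nat_lit 1,nat_lit 2,nat_lit 0,nat_lit 0,nat_lit 0,nat_lit 2,nat_lit 0,nat_lit 2,nat_lit 1,nat_lit 1,nat_lit 1,nat_lit 2,nat_lit 4])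
))) (.node (.node (.node (.leaf [nat_lit 14,nat_lit 4,nat_lit 0,nat_lit 1,nat_lit 0,nat_lit 0,nat_lit 2,nat_lit 1,nat_lit 3,nat_lit 0,nat_lit 3,nat_lit 2,nat_lit 3,nat_lit 1,nat_lit 1,nat_lit 2,nat_lit 0,nat_lit 0,nat_lit 3,nat_lit 1,nat_lit 2,nat_lit 3,nat_lit 0,nat_lit 0,nat_lit 0,nat_lit 2])
 (.leaf [nat_lit 10,nat_lit 10,nat_lit 1,nat_lit 0,nat_lit 2,nat_lit 0,nat_lit 0,nat_lit 2,nat_lit 1,nat_lit 1,nat_lit 1,nat_lit 2,nat_lit 3,nat_lit 2,nat_lit 0,nat_lit 2,nat_lit 3,nat_lit 2,nat_lit 3,nat_lit 0,nat_lit 2])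
) (.node (.leaf [nat_lit 7,nat_lit 12,nat_lit 0,nat_lit 2,nat_lit 1,nat_lit 2,nat_lit 0,nat_lit 2,nat_lit 1,nat_lit 2,nat_lit 1,nat_lit 2,nat_lit 1,nat_lit 2,nat_lit 0,nat_lit 0,nat_lit 0,nat_lit 2,nat_lit 1,nat_lit 1,nat_lit 2,nat_lit 1,nat_lit 2,nat_lit 0,nat_lit 0,nat_lit 0])
 (.leaf [nat_lit 39,nat_lit 3,nat_lit 1,nat_lit 4,nat_lit 1,nat_lit 1,nat_lit 1,nat_lit 2,nat_lit 3,nat_lit 2,nat_lit 0,nat_lit 0,nat_lit 0,nat_lit 4,nat_lit 2,nat_lit 3,nat_lit 0,nat_lit 2,nat_lit 3,nat_lit 0,nat_lit 3,nat_lit 2,nat_lit 1,nat_lit 1,nat_lit 1,nat_lit 2,nat_lit 0,nat_lit 2,nat_lit 1,nat_lit 1,nat_lit 1,nat_lit 2,nat_lit 0,nat_lit 0])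
)) (.node (.node (.leaf [nat_lit 26,nat_lit 10,nat_lit 0,nat_lit 4,nat_lit 2,nat_lit 3,nat_lit 2,nat_lit 4,nat_lit 1,nat_lit 2,nat_lit 0,nat_lit 3,nat_lit 2,nat_lit 3,nat_lit 2,nat_lit 1,nat_lit 2,nat_lit 0,nat_lit 2,nat_lit 0,nat_lit 0,nat_lit 2,nat_lit 0,nat_lit 2,nat_lit 1,nat_lit 2,nat_lit 1,nat_lit 2,nat_lit 1])
 (.leaf [nat_lit 43,nat_lit 18,nat_lit 0,nat_lit 3,nat_lit 0,nat_lit 4,nat_lit 0,nat_lit 3,nat_lit 0,nat_lit 0,nat_lit 2,nat_lit 1,nat_lit 2,nat_lit 1,nat_lit 3,nat_lit 2,nat_lit 1,nat_lit 2,nat_lit 0,nat_lit 0,nat_lit 2,nat_lit 0,nat_lit 2,nat_lit 0,nat_lit 0,nat_lit 2,nat_lit 1,nat_lit 1,nat_lit 2,nat_lit 1,nat_lit 4,nat_lit 1,nat_lit 2,nat_lit 0,nat_lit 0,nat_lit 2])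
) (.node (.leaf [nat_lit 40,nat_lit 17,nat_lit 0,nat_lit 4,nat_lit 2,nat_lit 0,nat_lit 3,nat_lit 0,nat_lit 0,nat_lit 2,nat_lit 3,nat_lit 2,nat_lit 1,nat_lit 1,nat_lit 2,nat_lit 0,nat_lit 2,nat_lit 0,nat_lit 0,nat_lit 0,nat_lit 2,nat_lit 1,nat_lit 1,nat_lit 2,nat_lit 4,nat_lit 3,nat_lit 1,nat_lit 1,nat_lit 1,nat_lit 4,nat_lit 0,nat_lit 0,nat_lit 0,nat_lit 3])
 (.leaf [nat_lit 29,nat_lit 13,nat_lit 1,nat_lit 1,nat_lit 3,nat_lit 1,nat_lit 2,nat_lit 1,nat_lit 4,nat_lit 2,nat_lit 1,nat_lit 3,nat_lit 0,nat_lit 4,nat_lit 1,nat_lit 3,nat_lit 0,nat_lit 2,nat_lit 4,nat_lit 0,nat_lit 2])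
))))) (.node (.node (.node (.node (.node (.leaf [nat_lit 35,nat_lit 21,nat_lit 1,nat_lit 4,nat_lit 1,nat_lit 1,nat_lit 1,nat_lit 2,nat_lit 1,nat_lit 2,nat_lit 1,nat_lit 1,nat_lit 1,nat_lit 2,nat_lit 0,nat_lit 2,nat_lit 1,nat_lit 3,nat_lit 0,nat_lit 2,nat_lit 1,nat_lit 2,nat_lit 0,nat_lit 2,nat_lit 1,nat_lit 4,nat_lit 1,nat_lit 2,nat_lit 3,nat_lit 2,nat_lit 1,nat_lit 1,nat_lit 1,nat_lit 3])
 (.leaf [nat_lit 36,nat_lit 25,nat_lit 1,nat_lit 4,nat_lit 1,nat_lit 2,nat_lit 1,nat_lit 1,nat_lit 1,nat_lit 3,nat_lit 2,nat_lit 0,nat_lit 4,nat_lit 2,nat_lit 1,nat_lit 2,nat_lit 0,nat_lit 2,nat_lit 1,nat_lit 1,nat_lit 1,nat_lit 2,nat_lit 0,nat_lit 0,nat_lit 0,nat_lit 2,nat_lit 3,nat_lit 0,nat_lit 2,nat_lit 3,nat_lit 1,nat_lit 2,nat_lit 3,nat_lit 1])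
) (.node (.leaf [nat_lit 19,nat_lit 23,nat_lit 1,nat_lit 0,nat_lit 1,nat_lit 2,nat_lit 0,nat_lit 0,nat_lit 2,nat_lit 0,nat_lit 2,nat_lit 1,nat_lit 2,nat_lit 3,nat_lit 0,nat_lit 2,nat_lit 1,nat_lit 1,nat_lit 3,nat_lit 0,nat_lit 2,nat_lit 0,nat_lit 2,nat_lit 1,nat_lit 2,nat_lit 0,nat_lit 3,nat_lit 1])
 (.leaf [nat_lit 33,nat_lit 19,nat_lit 0,nat_lit 4,nat_lit 2,nat_lit 4,nat_lit 1,nat_lit 2,nat_lit 1,nat_lit 1,nat_lit 2,nat_lit 0,nat_lit 0,nat_lit 0,nat_lit 2,nat_lit 0,nat_lit 2,nat_lit 1,nat_lit 1,nat_lit 3,nat_lit 1,nat_lit 1,nat_lit 4,nat_lit 0,nat_lit 2,nat_lit 0,nat_lit 0,nat_lit 0,nat_lit 2,nat_lit 3])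
)) (.node (.node (.leaf [nat_lit 21,nat_lit 3,nat_lit 0,nat_lit 0,nat_lit 2,nat_lit 1,nat_lit 2,nat_lit 1,nat_lit 2,nat_lit 1,nat_lit 3,nat_lit 0,nat_lit 0,nat_lit 2,nat_lit 1,nat_lit 3,nat_lit 1,nat_lit 1,nat_lit 2,nat_lit 0,nat_lit 0,nat_lit 2,nat_lit 1,nat_lit 3,nat_lit 1,nat_lit 2,nat_lit 0,nat_lit 0,nat_lit 2])
 (.leaf [nat_lit 36,nat_lit 30,nat_lit 1,nat_lit 0,nat_lit 3,nat_lit 2,nat_lit 0,nat_lit 4,nat_lit 2,nat_lit 1,nat_lit 2,nat_lit 0,nat_lit 2,nat_lit 1,nat_lit 1,nat_lit 1,nat_lit 2,nat_lit 0,nat_lit 0,nat_lit 0,nat_lit 2,nat_lit 3,nat_lit 0,nat_lit 2,nat_lit 3,nat_lit 1,nat_lit 2,nat_lit 3,nat_lit 1,nat_lit 4,nat_lit 1,nat_lit 2,nat_lit 1,nat_lit 1])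
) (.node (.leaf [nat_lit 35,nat_lit 9,nat_lit 0,nat_lit 4,nat_lit 3,nat_lit 0,nat_lit 0,nat_lit 0,nat_lit 2,nat_lit 3,nat_lit 2,nat_lit 0,nat_lit 4,nat_lit 0,nat_lit 2,nat_lit 1,nat_lit 2,nat_lit 0,nat_lit 2,nat_lit 1,nat_lit 3,nat_lit 0,nat_lit 2,nat_lit 1,nat_lit 2,nat_lit 0,nat_lit 0,nat_lit 0,nat_lit 2,nat_lit 0,nat_lit 2,nat_lit 0,nat_lit 0,nat_lit 0])
 (.leaf [nat_lit 29,nat_lit 17,nat_lit 1,nat_lit 0,nat_lit 4,nat_lit 2,nat_lit 1,nat_lit 3,nat_lit 0,nat_lit 4,nat_lit 1,nat_lit 3,nat_lit 0,nat_lit 2,nat_lit 4,nat_lit 0,nat_lit 2,nat_lit 0,nat_lit 3,nat_lit 1,nat_lit 2])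
))) (.node (.node (.node (.leaf [nat_lit 47,nat_lit 6,nat_lit 0,nat_lit 2,nat_lit 3,nat_lit 1,nat_lit 2,nat_lit 0,nat_lit 3,nat_lit 1,nat_lit 1,nat_lit 3,nat_lit 4,nat_lit 1,nat_lit 1,nat_lit 2,nat_lit 0,nat_lit 0,nat_lit 2,nat_lit 4,nat_lit 1,nat_lit 1,nat_lit 2,nat_lit 0,nat_lit 0,nat_lit 2,nat_lit 1,nat_lit 2,nat_lit 0,nat_lit 2,nat_lit 1,nat_lit 2,nat_lit 0,nat_lit 0,nat_lit 0,nat_lit 2,nat_lit 0,nat_lit 3])
 (.leaf [nat_lit 30,nat_lit 10,nat_lit 1,nat_lit 2,nat_lit 3,nat_lit 4,nat_lit 2,nat_lit 0,nat_lit 2,nat_lit 4,nat_lit 2,nat_lit 0,nat_lit 3,nat_lit 2,nat_lit 3,nat_lit 0,nat_lit 2,nat_lit 3,nat_lit 1,nat_lit 1,nat_lit 2,nat_lit 1,nat_lit 1,nat_lit 2,nat_lit 1,nat_lit 2,nat_lit 0,nat_lit 2,nat_lit 0,nat_lit 0,nat_lit 2,nat_lit 4,nat_lit 1])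
) (.node (.leaf [nat_lit 45,nat_lit 2,nat_lit 1,nat_lit 4,nat_lit 0,nat_lit 4,nat_lit 2,nat_lit 4,nat_lit 1,nat_lit 2,nat_lit 1,nat_lit 1,nat_lit 1,nat_lit 3,nat_lit 0,nat_lit 2,nat_lit 3,nat_lit 1,nat_lit 1,nat_lit 2,nat_lit 0,nat_lit 2,nat_lit 0,nat_lit 0,nat_lit 2,nat_lit 1,nat_lit 1,nat_lit 2,nat_lit 1,nat_lit 1,nat_lit 1,nat_lit 2,nat_lit 1,nat_lit 1,nat_lit 1,nat_lit 4,nat_lit 2])
 (.leaf [nat_lit 19,nat_lit 0,nat_lit 1,nat_lit 2,nat_lit 0,nat_lit 0,nat_lit 2,nat_lit 0,nat_lit 2,nat_lit 1,nat_lit 2,nat_lit 3,nat_lit 0,nat_lit 2,nat_lit 1,nat_lit 1,nat_lit 3,nat_lit 0,nat_lit 2,nat_lit 0,nat_lit 2,nat_lit 1,nat_lit 2,nat_lit 0,nat_lit 3,nat_lit 1,nat_lit 1,nat_lit 1])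
)) (.node (.node (.leaf [nat_lit 34,nat_lit 27,nat_lit 1,nat_lit 2,nat_lit 1,nat_lit 1,nat_lit 1,nat_lit 2,nat_lit 4,nat_lit 1,nat_lit 1,nat_lit 1,nat_lit 2,nat_lit 1,nat_lit 2,nat_lit 0,nat_lit 0,nat_lit 2,nat_lit 1,nat_lit 1,nat_lit 1,nat_lit 2,nat_lit 1,nat_lit 3,nat_lit 2,nat_lit 0,nat_lit 0,nat_lit 0,nat_lit 2,nat_lit 0,nat_lit 4,nat_lit 1,nat_lit 2,nat_lit 1])
 (.leaf [nat_lit 47,nat_lit 6,nat_lit 1,nat_lit 2,nat_lit 1,nat_lit 1,nat_lit 2,nat_lit 0,nat_lit 0,nat_lit 4,nat_lit 2,nat_lit 1,nat_lit 1,nat_lit 2,nat_lit 0,nat_lit 0,nat_lit 4,nat_lit 3,nat_lit 0,nat_lit 0,nat_lit 3,nat_lit 1,nat_lit 2,nat_lit 0,nat_lit 3,nat_lit 2,nat_lit 3,nat_lit 1,nat_lit 2,nat_lit 1,nat_lit 1,nat_lit 1,nat_lit 2,nat_lit 0,nat_lit 2,nat_lit 1,nat_lit 2,nat_lit 0])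
) (.node (.leaf [nat_lit 28,nat_lit 10,nat_lit 1,nat_lit 3,nat_lit 1,nat_lit 3,nat_lit 1,nat_lit 4,nat_lit 3,nat_lit 4,nat_lit 3,nat_lit 4,nat_lit 1,nat_lit 3,nat_lit 1,nat_lit 3,nat_lit 1])
 (.leaf [nat_lit 24,nat_lit 13,nat_lit 1,nat_lit 1,nat_lit 2,nat_lit 0,nat_lit 0,nat_lit 0,nat_lit 2,nat_lit 1,nat_lit 1,nat_lit 1,nat_lit 2,nat_lit 1,nat_lit 2,nat_lit 1,nat_lit 4,nat_lit 1,nat_lit 4,nat_lit 2,nat_lit 4,nat_lit 0,nat_lit 4,nat_lit 0,nat_lit 2])
)))) (.node (.node (.node (.node (.leaf [nat_lit 28,nat_lit 11,nat_lit 0,nat_lit 4,nat_lit 3,nat_lit 4,nat_lit 0,nat_lit 3,nat_lit 0,nat_lit 3,nat_lit 0,nat_lit 3,nat_lit 0,nat_lit 3,nat_lit 0,nat_lit 4,nat_lit 3])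
 (.leaf [nat_lit 42,nat_lit 25,nat_lit 1,nat_lit 2,nat_lit 1,nat_lit 4,nat_lit 1,nat_lit 2,nat_lit 1,nat_lit 1,nat_lit 2,nat_lit 0,nat_lit 2,nat_lit 1,nat_lit 1,nat_lit 2,nat_lit 1,nat_lit 2,nat_lit 3,nat_lit 2,nat_lit 1,nat_lit 2,nat_lit 3,nat_lit 1,nat_lit 2,nat_lit 0,nat_lit 3,nat_lit 2,nat_lit 4,nat_lit 0,nat_lit 3,nat_lit 2,nat_lit 1,nat_lit 2,nat_lit 0])
) (.node (.leaf [nat_lit 26,nat_lit 11,nat_lit 1,nat_lit 4,nat_lit 2,nat_lit 3,nat_lit 2,nat_lit 4,nat_lit 0,nat_lit 2,nat_lit 0,nat_lit 2,nat_lit 0,nat_lit 2,nat_lit 1,nat_lit 2,nat_lit 1,nat_lit 1,nat_lit 2,nat_lit 1,nat_lit 2,nat_lit 0,nat_lit 2,nat_lit 3,nat_lit 2,nat_lit 3,nat_lit 1,nat_lit 2,nat_lit 0])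
 (.leaf [nat_lit 14,nat_lit 20,nat_lit 0,nat_lit 0,nat_lit 2,nat_lit 3,nat_lit 0,nat_lit 0,nat_lit 0,nat_lit 2,nat_lit 0,nat_lit 0,nat_lit 0,nat_lit 2,nat_lit 1,nat_lit 3,nat_lit 0,nat_lit 3,nat_lit 2,nat_lit 3,nat_lit 1,nat_lit 1,nat_lit 2,nat_lit 0,nat_lit 0,nat_lit 3])
)) (.node (.node (.leaf [nat_lit 38,nat_lit 18,nat_lit 0,nat_lit 4,nat_lit 1,nat_lit 2,nat_lit 3,nat_lit 4,nat_lit 1,nat_lit 3,nat_lit 0,nat_lit 3,nat_lit 1,nat_lit 3,nat_lit 0,nat_lit 2,nat_lit 0,nat_lit 0,nat_lit 2,nat_lit 0,nat_lit 2,nat_lit 0,nat_lit 0,nat_lit 2,nat_lit 1,nat_lit 1,nat_lit 2,nat_lit 0,nat_lit 2,nat_lit 4,nat_lit 2,nat_lit 4,nat_lit 2,nat_lit 3])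
 (.leaf [nat_lit 24,nat_lit 16,nat_lit 1,nat_lit 1,nat_lit 0,nat_lit 2,nat_lit 1,nat_lit 1,nat_lit 1,nat_lit 2,nat_lit 1,nat_lit 2,nat_lit 1,nat_lit 4,nat_lit 1,nat_lit 4,nat_lit 2,nat_lit 4,nat_lit 0,nat_lit 4,nat_lit 0,nat_lit 2,nat_lit 0,nat_lit 2,nat_lit 0])
) (.node (.leaf [nat_lit 42,nat_lit 20,nat_lit 1,nat_lit 3,nat_lit 2,nat_lit 1,nat_lit 2,nat_lit 0,nat_lit 2,nat_lit 1,nat_lit 4,nat_lit 1,nat_lit 2,nat_lit 1,nat_lit 1,nat_lit 2,nat_lit 0,nat_lit 2,nat_lit 1,nat_lit 1,nat_lit 2,nat_lit 1,nat_lit 2,nat_lit 3,nat_lit 2,nat_lit 1,nat_lit 2,nat_lit 3,nat_lit 1,nat_lit 2,nat_lit 0,nat_lit 3,nat_lit 2,nat_lit 4,nat_lit 0])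
 (.leaf [nat_lit 28,nat_lit 9,nat_lit 0,nat_lit 4,nat_lit 3,nat_lit 4,nat_lit 3,nat_lit 4,nat_lit 0,nat_lit 3,nat_lit 0,nat_lit 3,nat_lit 0,nat_lit 3,nat_lit 0,nat_lit 3,nat_lit 0])
))) (.node (.node (.node (.leaf [nat_lit 15,nat_lit 10,nat_lit 1,nat_lit 3,nat_lit 2,nat_lit 0,nat_lit 2,nat_lit 0,nat_lit 2,nat_lit 1,nat_lit 2,nat_lit 0,nat_lit 0,nat_lit 2,nat_lit 1,nat_lit 1,nat_lit 1,nat_lit 3,nat_lit 0,nat_lit 2,nat_lit 3,nat_lit 2,nat_lit 3,nat_lit 2,nat_lit 1,nat_lit 3,nat_lit 2])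
 (.leaf [nat_lit 42,nat_lit 10,nat_lit 1,nat_lit 0,nat_lit 2,nat_lit 3,nat_lit 1,nat_lit 2,nat_lit 0,nat_lit 3,nat_lit 2,nat_lit 4,nat_lit 0,nat_lit 3,nat_lit 2,nat_lit 1,nat_lit 2,nat_lit 0,nat_lit 2,nat_lit 1,nat_lit 4,nat_lit 1,nat_lit 2,nat_lit 1,nat_lit 1,nat_lit 2,nat_lit 0,nat_lit 2,nat_lit 1,nat_lit 1,nat_lit 2,nat_lit 1,nat_lit 2,nat_lit 3,nat_lit 2])
) (.node (.leaf [nat_lit 10,nat_lit 1,nat_lit 1,nat_lit 3,nat_lit 2,nat_lit 0,nat_lit 2,nat_lit 3,nat_lit 2,nat_lit 3,nat_lit 0,nat_lit 2,nat_lit 1,nat_lit 2,nat_lit 0,nat_lit 0,nat_lit 2,nat_lit 1,nat_lit 1,nat_lit 1,nat_lit 2])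
 (.leaf [nat_lit 26,nat_lit 11,nat_lit 0,nat_lit 2,nat_lit 3,nat_lit 2,nat_lit 4,nat_lit 1,nat_lit 2,nat_lit 0,nat_lit 3,nat_lit 2,nat_lit 3,nat_lit 2,nat_lit 1,nat_lit 2,nat_lit 0,nat_lit 2,nat_lit 0,nat_lit 0,nat_lit 2,nat_lit 0,nat_lit 2,nat_lit 1,nat_lit 2,nat_lit 1,nat_lit 2,nat_lit 1,nat_lit 4])
)) (.node (.node (.leaf [nat_lit 34,nat_lit 1,nat_lit 1,nat_lit 4,nat_lit 1,nat_lit 1,nat_lit 1,nat_lit 2,nat_lit 1,nat_lit 2,nat_lit 0,nat_lit 0,nat_lit 2,nat_lit 1,nat_lit 1,nat_lit 1,nat_lit 2,nat_lit 1,nat_lit 3,nat_lit 2,nat_lit 0,nat_lit 0,nat_lit 0,nat_lit 2,nat_lit 0,nat_lit 4,nat_lit 1,nat_lit 2,nat_lit 1,nat_lit 2,nat_lit 1,nat_lit 1,nat_lit 1,nat_lit 2])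
 (.leaf [nat_lit 9,nat_lit 8,nat_lit 1,nat_lit 3,nat_lit 0,nat_lit 2,nat_lit 1,nat_lit 3,nat_lit 0,nat_lit 2,nat_lit 1,nat_lit 3,nat_lit 0,nat_lit 2,nat_lit 1,nat_lit 3,nat_lit 0,nat_lit 2,nat_lit 1])
) (.leaf [nat_lit 36,nat_lit 3,nat_lit 1,nat_lit 4,nat_lit 2,nat_lit 1,nat_lit 2,nat_lit 0,nat_lit 2,nat_lit 1,nat_lit 1,nat_lit 1,nat_lit 2,nat_lit 0,nat_lit 0,nat_lit 0,nat_lit 2,nat_lit 3,nat_lit 0,nat_lit 2,nat_lit 3,nat_lit 1,nat_lit 2,nat_lit 3,nat_lit 1,nat_lit 4,nat_lit 1,nat_lit 2,nat_lit 1,nat_lit 1,nat_lit 1,nat_lit 3,nat_lit 2,nat_lit 0])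
))))))))

noncomputable def co3_U_subs : LT :=
(.leaf [nat_lit 0,nat_lit 0,nat_lit 0,nat_lit 5])


noncomputable def co3_U : TC :=
  ⟨fun x c => Nat.shiftRight (BT.get co3_U_t x) (Nat.mul (nat_lit 34) c),
  (nat_lit 10), (nat_lit 1023), (nat_lit 0x3fffff), (nat_lit 22), (nat_lit 4095), (nat_lit 0x3ffc00), (nat_lit 552), (nat_lit 552), (nat_lit 5), (nat_lit 4), (nat_lit 5), (nat_lit 6), co3_inv, co3_U_rules, co3_U_subs⟩

noncomputable def co3_A4 : LA :=
  ⟨(nat_lit 4), (nat_lit 0xffe7ff3ff9ffcffe7ff3ff9ffcffe7ff3ff9ffcffe7ff3ff9ffcffe7ff3ff9ffcffe7ff3ff9ffcffe7ff), (nat_lit 2047), (nat_lit 41), (nat_lit 0), BT.get (.node (.node (.node (.leaf (nat_lit 0))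
 (.leaf (nat_lit 0x2000))
) (.leaf (nat_lit 0))
) (.node (.leaf (nat_lit 0))
 (.leaf (nat_lit 0))
)), BT.get (.leaf (nat_lit 0)), BT.get (.leaf (nat_lit 0)),
(.node (.node (.node (.node (.node (.leaf [nat_lit 65538])
 (.leaf [nat_lit 65537,nat_lit 196610,nat_lit 196613,nat_lit 65542,nat_lit 196615,nat_lit 196618,nat_lit 131083,nat_lit 65548,nat_lit 196621,nat_lit 196623,nat_lit 65553,nat_lit 196629,nat_lit 65558,nat_lit 65563,nat_lit 65564,nat_lit 65566,nat_lit 65567,nat_lit 196640,nat_lit 196641,nat_lit 196645])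
) (.node (.leaf [nat_lit 196609,nat_lit 196611,nat_lit 196613,nat_lit 131079,nat_lit 131083,nat_lit 65548,nat_lit 65550,nat_lit 131087,nat_lit 196625,nat_lit 196626,nat_lit 65556,nat_lit 196630,nat_lit 196632,nat_lit 196633,nat_lit 196634,nat_lit 65563,nat_lit 131100,nat_lit 131102,nat_lit 196639,nat_lit 131104,nat_lit 65569,nat_lit 131106,nat_lit 131109,nat_lit 65574])
 (.leaf [nat_lit 131073,nat_lit 131077,nat_lit 131082,nat_lit 131084,nat_lit 65549,nat_lit 65551,nat_lit 131089,nat_lit 65554,nat_lit 196628,nat_lit 196629,nat_lit 65560,nat_lit 65561,nat_lit 65563,nat_lit 65564,nat_lit 131101,nat_lit 196638])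
)) (.node (.node (.leaf [nat_lit 196614,nat_lit 196615,nat_lit 196618,nat_lit 131083,nat_lit 131084,nat_lit 65550,nat_lit 65554,nat_lit 131092,nat_lit 131093,nat_lit 131094,nat_lit 196632,nat_lit 131097,nat_lit 196635,nat_lit 131100,nat_lit 131103,nat_lit 65568,nat_lit 131106])
 (.leaf [nat_lit 131073,nat_lit 131077,nat_lit 131078,nat_lit 131079,nat_lit 65546,nat_lit 131084,nat_lit 196621,nat_lit 196623,nat_lit 65553,nat_lit 131092,nat_lit 65557,nat_lit 131094,nat_lit 131097,nat_lit 65563,nat_lit 196636,nat_lit 131101,nat_lit 65566,nat_lit 131103,nat_lit 65568])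
) (.leaf [nat_lit 65542,nat_lit 196615,nat_lit 131083,nat_lit 65549])
)) (.node (.node (.node (.leaf [nat_lit 131073,nat_lit 131074,nat_lit 65539,nat_lit 196613,nat_lit 65542,nat_lit 196615,nat_lit 131082,nat_lit 131083,nat_lit 196620,nat_lit 65549,nat_lit 65550,nat_lit 196623,nat_lit 65553,nat_lit 196626,nat_lit 196629,nat_lit 131094,nat_lit 196632,nat_lit 131099,nat_lit 65566,nat_lit 196639,nat_lit 131104,nat_lit 196642])
 (.leaf [nat_lit 131073,nat_lit 196610,nat_lit 131075,nat_lit 131083,nat_lit 131084,nat_lit 65553,nat_lit 196629,nat_lit 65558,nat_lit 65560,nat_lit 65562,nat_lit 131100,nat_lit 131103,nat_lit 131109,nat_lit 196647])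
) (.leaf [nat_lit 131074,nat_lit 131075,nat_lit 196618,nat_lit 196620,nat_lit 65549,nat_lit 65550,nat_lit 65551,nat_lit 65554,nat_lit 65562,nat_lit 65563,nat_lit 65564,nat_lit 131101,nat_lit 196638,nat_lit 131106])
) (.node (.node (.leaf [nat_lit 196609])
 (.leaf [nat_lit 196614,nat_lit 65543,nat_lit 131082,nat_lit 65547,nat_lit 196620,nat_lit 131085,nat_lit 131087,nat_lit 65553,nat_lit 196626,nat_lit 196629,nat_lit 65558,nat_lit 131099,nat_lit 65564,nat_lit 131102,nat_lit 131104])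
) (.leaf [nat_lit 131073,nat_lit 65538,nat_lit 65539,nat_lit 65542,nat_lit 65543,nat_lit 131082,nat_lit 131083,nat_lit 196620,nat_lit 65550,nat_lit 65551,nat_lit 196626,nat_lit 131092,nat_lit 131093,nat_lit 196630,nat_lit 131096,nat_lit 131097,nat_lit 65564,nat_lit 131101,nat_lit 196638,nat_lit 131104])
))) (.node (.node (.node (.node (.leaf [])
 (.leaf [nat_lit 65538,nat_lit 131078,nat_lit 131079,nat_lit 131082,nat_lit 131085,nat_lit 131087,nat_lit 196625,nat_lit 65554,nat_lit 65557,nat_lit 196630,nat_lit 131099,nat_lit 196636,nat_lit 131102,nat_lit 131104])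
) (.node (.leaf [nat_lit 131074,nat_lit 131075,nat_lit 131078,nat_lit 131079,nat_lit 196618,nat_lit 196619,nat_lit 196620,nat_lit 65549,nat_lit 196622,nat_lit 131087,nat_lit 196626,nat_lit 131092,nat_lit 131093,nat_lit 196632,nat_lit 131097,nat_lit 131098,nat_lit 196635,nat_lit 131100,nat_lit 65565,nat_lit 131102,nat_lit 65568,nat_lit 131105,nat_lit 65570,nat_lit 131110,nat_lit 65576])
 (.leaf [nat_lit 65542,nat_lit 196615,nat_lit 131083,nat_lit 131084,nat_lit 131089,nat_lit 131090,nat_lit 131093,nat_lit 131094,nat_lit 131100])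
)) (.node (.node (.leaf [nat_lit 196610,nat_lit 65539,nat_lit 131077,nat_lit 196614,nat_lit 196615,nat_lit 131083,nat_lit 65549,nat_lit 196623,nat_lit 65554,nat_lit 65556,nat_lit 196629,nat_lit 196630,nat_lit 65560,nat_lit 196633,nat_lit 65563,nat_lit 65566,nat_lit 65569,nat_lit 131106])
 (.leaf [nat_lit 131074,nat_lit 196611,nat_lit 131077,nat_lit 65546,nat_lit 65548,nat_lit 131085,nat_lit 196622,nat_lit 65551,nat_lit 131089,nat_lit 65554,nat_lit 131092,nat_lit 131094,nat_lit 65560,nat_lit 131097,nat_lit 65563,nat_lit 65564,nat_lit 131101,nat_lit 196638])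
) (.leaf [nat_lit 65538,nat_lit 196611,nat_lit 131077,nat_lit 196618,nat_lit 131084,nat_lit 131085,nat_lit 131086,nat_lit 196625,nat_lit 196626,nat_lit 65556,nat_lit 131096,nat_lit 196633,nat_lit 131099,nat_lit 65564,nat_lit 131103,nat_lit 196640,nat_lit 131106])
)) (.node (.node (.node (.leaf [nat_lit 196614,nat_lit 65543,nat_lit 196618,nat_lit 131083,nat_lit 196620,nat_lit 196621,nat_lit 196622,nat_lit 131087,nat_lit 196625,nat_lit 131092,nat_lit 196629,nat_lit 65558,nat_lit 65560,nat_lit 131097,nat_lit 196635,nat_lit 65564,nat_lit 131102,nat_lit 131103,nat_lit 65568,nat_lit 131106])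
 (.leaf [nat_lit 65538,nat_lit 131078,nat_lit 131079,nat_lit 65546,nat_lit 131085,nat_lit 131087,nat_lit 131090,nat_lit 131094,nat_lit 196635,nat_lit 131102,nat_lit 131104])
) (.leaf [nat_lit 196610,nat_lit 131075,nat_lit 65541,nat_lit 131078,nat_lit 65546,nat_lit 65547,nat_lit 131084,nat_lit 196621,nat_lit 196622,nat_lit 65551,nat_lit 196626,nat_lit 196628,nat_lit 65557,nat_lit 196630,nat_lit 65560,nat_lit 65561,nat_lit 131099,nat_lit 65564,nat_lit 196638,nat_lit 65568,nat_lit 196642])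
) (.node (.node (.leaf [nat_lit 65538,nat_lit 65542,nat_lit 196615,nat_lit 131083,nat_lit 196620,nat_lit 65549,nat_lit 131086,nat_lit 196623,nat_lit 196625,nat_lit 65556,nat_lit 131094,nat_lit 131096,nat_lit 196633,nat_lit 65563,nat_lit 65565,nat_lit 65566,nat_lit 65567,nat_lit 131104])
 (.leaf [nat_lit 131074,nat_lit 65541])
) (.leaf [nat_lit 65538,nat_lit 196618,nat_lit 131084,nat_lit 65549,nat_lit 196622,nat_lit 196625,nat_lit 65554,nat_lit 65556,nat_lit 131094,nat_lit 196632,nat_lit 196633,nat_lit 131099,nat_lit 131101,nat_lit 131103,nat_lit 131104,nat_lit 65570])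
)))),
(.leaf [])⟩

noncomputable def co3_A5 : LA :=
  ⟨(nat_lit 5), (nat_lit 0x7fe3ff1ff8ffc7fe3ff1ff8ffc7fe3ff1ff8ffc7fe3ff1ff8ffc7fe3ff1ff8ffc7fe3ff1ff8ffc7fe3ff), (nat_lit 1023), (nat_lit 41), (nat_lit 0), BT.get (.node (.node (.node (.leaf (nat_lit 0))
 (.leaf (nat_lit 0x2))
) (.leaf (nat_lit 0))
) (.node (.leaf (nat_lit 0))
 (.leaf (nat_lit 0))
)), BT.get (.leaf (nat_lit 0)), BT.get (.leaf (nat_lit 0)),
(.node (.node (.node (.node (.node (.leaf [])
 (.leaf [nat_lit 131073,nat_lit 65538,nat_lit 196611,nat_lit 65540,nat_lit 65541,nat_lit 196614,nat_lit 262151,nat_lit 65546,nat_lit 65547,nat_lit 65553,nat_lit 131090,nat_lit 262163,nat_lit 65556,nat_lit 196630,nat_lit 196632,nat_lit 131107])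
) (.node (.leaf [nat_lit 65536,nat_lit 131074,nat_lit 196611,nat_lit 131076,nat_lit 196613,nat_lit 196614,nat_lit 131079,nat_lit 262152,nat_lit 262153,nat_lit 131083,nat_lit 131086,nat_lit 262161,nat_lit 262162,nat_lit 65555,nat_lit 262164,nat_lit 131094,nat_lit 131096,nat_lit 262179,nat_lit 65574])
 (.leaf [nat_lit 131073,nat_lit 65538,nat_lit 131075,nat_lit 131076,nat_lit 262149,nat_lit 196614,nat_lit 65543,nat_lit 196618,nat_lit 65547,nat_lit 196622,nat_lit 65553,nat_lit 65554,nat_lit 262163])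
)) (.node (.node (.leaf [nat_lit 196608])
 (.leaf [nat_lit 65536,nat_lit 65538,nat_lit 65539,nat_lit 65540,nat_lit 262149,nat_lit 65542,nat_lit 131079,nat_lit 131082,nat_lit 131083,nat_lit 262158,nat_lit 262161,nat_lit 196626,nat_lit 65555,nat_lit 131092,nat_lit 131094])
) (.leaf [nat_lit 196608,nat_lit 262146,nat_lit 196612,nat_lit 196615,nat_lit 196619])
)) (.node (.node (.node (.leaf [nat_lit 196611])
 (.leaf [nat_lit 196624])
) (.leaf [nat_lit 196616])
) (.node (.node (.leaf [nat_lit 262145,nat_lit 196610])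
 (.leaf [nat_lit 196615])
) (.leaf [nat_lit 131072,nat_lit 131075,nat_lit 196613,nat_lit 65542,nat_lit 262154,nat_lit 196622,nat_lit 131089,nat_lit 196626,nat_lit 131091,nat_lit 262165,nat_lit 65558,nat_lit 262168])
))) (.node (.node (.node (.node (.leaf [nat_lit 196610])
 (.leaf [nat_lit 196618])
) (.node (.leaf [nat_lit 131072,nat_lit 196609,nat_lit 131075,nat_lit 131076,nat_lit 196613,nat_lit 65542,nat_lit 131079,nat_lit 196618,nat_lit 131083,nat_lit 262158,nat_lit 131087,nat_lit 196625,nat_lit 262162,nat_lit 196627,nat_lit 65556,nat_lit 131093,nat_lit 65558,nat_lit 65560,nat_lit 196644])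
 (.leaf [nat_lit 131078])
)) (.node (.node (.leaf [nat_lit 196617])
 (.leaf [nat_lit 131072,nat_lit 196610,nat_lit 262148,nat_lit 196614,nat_lit 65543,nat_lit 65547,nat_lit 196625,nat_lit 196626,nat_lit 196628,nat_lit 65557])
) (.leaf [nat_lit 196608,nat_lit 196609,nat_lit 262146,nat_lit 65539,nat_lit 65540,nat_lit 196613,nat_lit 262151,nat_lit 262154,nat_lit 262155,nat_lit 262158,nat_lit 131089,nat_lit 131090,nat_lit 262163,nat_lit 65557,nat_lit 262166,nat_lit 65560])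
)) (.node (.node (.node (.leaf [nat_lit 196612])
 (.leaf [nat_lit 196608,nat_lit 131074,nat_lit 131075,nat_lit 196612,nat_lit 196613,nat_lit 65542,nat_lit 262151,nat_lit 262154,nat_lit 262155,nat_lit 196622,nat_lit 196625,nat_lit 65554,nat_lit 262164,nat_lit 131094])
) (.leaf [nat_lit 262145,nat_lit 262147,nat_lit 196612,nat_lit 196614,nat_lit 65546,nat_lit 196619,nat_lit 196622,nat_lit 65553,nat_lit 196626,nat_lit 196627,nat_lit 65556,nat_lit 131093])
) (.node (.node (.leaf [nat_lit 196623])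
 (.leaf [nat_lit 131077])
) (.leaf [nat_lit 196622])
)))),
(.leaf [])⟩

noncomputable def c3a_rels : LT :=
(.node (.node (.node (.node (.leaf [])
 (.leaf [nat_lit 0,nat_lit 3,nat_lit 1,nat_lit 3])
) (.leaf [nat_lit 0,nat_lit 0,nat_lit 2,nat_lit 1,nat_lit 1,nat_lit 2,nat_lit 0,nat_lit 2,nat_lit 1,nat_lit 1,nat_lit 2,nat_lit 1,nat_lit 2,nat_lit 0,nat_lit 2,nat_lit 1,nat_lit 2])
) (.node (.leaf [nat_lit 0,nat_lit 0,nat_lit 0,nat_lit 0,nat_lit 0,nat_lit 0,nat_lit 0,nat_lit 0,nat_lit 0,nat_lit 0,nat_lit 0])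
 (.leaf [nat_lit 0,nat_lit 0,nat_lit 0,nat_lit 2,nat_lit 0,nat_lit 2,nat_lit 1,nat_lit 1,nat_lit 2,nat_lit 0,nat_lit 0,nat_lit 0,nat_lit 2,nat_lit 1,nat_lit 2,nat_lit 0,nat_lit 2,nat_lit 1,nat_lit 1,nat_lit 1,nat_lit 2])
)) (.node (.node (.node (.leaf [nat_lit 0,nat_lit 1])
 (.leaf [nat_lit 2,nat_lit 3,nat_lit 2,nat_lit 3])
) (.leaf [nat_lit 0,nat_lit 0,nat_lit 2,nat_lit 0,nat_lit 0,nat_lit 2,nat_lit 0,nat_lit 0,nat_lit 2,nat_lit 0,nat_lit 0,nat_lit 2,nat_lit 0,nat_lit 0,nat_lit 2,nat_lit 0,nat_lit 0,nat_lit 2])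
) (.node (.leaf [nat_lit 2,nat_lit 2])
 (.leaf [nat_lit 3,nat_lit 3])
)))
noncomputable def c3a_inv : ℕ → ℕ := getP (nat_lit 8) (nat_lit 255) (nat_lit 0x3020001)
noncomputable def c3a_pi : ℕ → ℕ := getP (nat_lit 16) (nat_lit 65535) (nat_lit 0x7000300010001)

noncomputable def c3a_L_t : BT :=
(.node (.node (.node (.leaf (nat_lit 0x408002a000000007fc))
 (.leaf (nat_lit 0x81800000000000))
) (.leaf (nat_lit 0x800001903200000003804))
) (.node (.leaf (nat_lit 0x2001102200000003800))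
 (.leaf (nat_lit 0x8001800000001009))
))

noncomputable def c3a_L_rules : LT :=
(.node (.leaf [nat_lit 0x2002,nat_lit 8,nat_lit 1,nat_lit 1,nat_lit 1,nat_lit 3,nat_lit 1,nat_lit 3])
 (.leaf [nat_lit 0x800002,nat_lit 9,nat_lit 1,nat_lit 1,nat_lit 2,nat_lit 3,nat_lit 2,nat_lit 3])
)

noncomputable def c3a_L_R : LT :=
(.node (.leaf [nat_lit 2,nat_lit 1,nat_lit 0x807])
 (.leaf [nat_lit 3,nat_lit 1,nat_lit 0x700002])
)

noncomputable def c3a_C : LC :=
  ⟨⟨fun x c => Nat.shiftRight (BT.get c3a_L_t x) (Nat.mul (nat_lit 45) c),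
  (nat_lit 2), (nat_lit 3), (nat_lit 2047), (nat_lit 11), (nat_lit 15), (nat_lit 2044), (nat_lit 0), (nat_lit 2), (nat_lit 4), (nat_lit 3), (nat_lit 0), (nat_lit 4), c3a_inv, c3a_L_rules, .leaf []⟩,
  (nat_lit 15), (nat_lit 0xf03c0f), (nat_lit 0x3f0fc3f), (nat_lit 10), (nat_lit 3), (nat_lit 9), (nat_lit 7), (nat_lit 15), (nat_lit 63), (nat_lit 21), c3a_pi, c3a_rels, c3a_L_R⟩

noncomputable def c3a_U_t : BT :=
(.node (.node (.node (.leaf (nat_lit 0xcb800))
 (.leaf (nat_lit 0x3fe07fc))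
) (.leaf (nat_lit 0x240eb808))
) (.node (.node (.leaf (nat_lit 0x40ab804))
 (.leaf (nat_lit 0x2060000))
) (.leaf (nat_lit 0x8100d))
))

noncomputable def c3a_U_rules : LT :=
(.node (.leaf [nat_lit 8,nat_lit 1,nat_lit 1,nat_lit 1,nat_lit 3,nat_lit 1,nat_lit 3])
 (.leaf [nat_lit 9,nat_lit 1,nat_lit 1,nat_lit 2,nat_lit 3,nat_lit 2,nat_lit 3])
)

noncomputable def c3a_U_subs : LT :=
(.leaf [nat_lit 0,nat_lit 0,nat_lit 0,nat_lit 4])


noncomputable def c3a_U : TC :=
  ⟨fun x c => Nat.shiftRight (BT.get c3a_U_t x) (Nat.mul (nat_lit 15) c),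
  (nat_lit 2), (nat_lit 3), (nat_lit 2047), (nat_lit 11), (nat_lit 15), (nat_lit 2044), (nat_lit 2), (nat_lit 2), (nat_lit 4), (nat_lit 3), (nat_lit 4), (nat_lit 5), c3a_inv, c3a_U_rules, c3a_U_subs⟩

noncomputable def c3a_A9 : LA :=
  ⟨(nat_lit 9), (nat_lit 0x3f0fc3f), (nat_lit 63), (nat_lit 2), (nat_lit 0), BT.get (.node (.node (.leaf (nat_lit 0))
 (.leaf (nat_lit 0))
) (.node (.leaf (nat_lit 0))
 (.leaf (nat_lit 0x4))
)), BT.get (.leaf (nat_lit 0)), BT.get (.leaf (nat_lit 0)),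
(.node (.node (.leaf [])
 (.leaf [nat_lit 327681])
) (.leaf [nat_lit 262144])
),
(.leaf [])⟩

noncomputable def c3b_rels : LT :=
(.node (.node (.node (.node (.node (.leaf [])
 (.leaf [nat_lit 0,nat_lit 0,nat_lit 2,nat_lit 4,nat_lit 2,nat_lit 1,nat_lit 1,nat_lit 2,nat_lit 1,nat_lit 4,nat_lit 0,nat_lit 2,nat_lit 5])
) (.leaf [nat_lit 0,nat_lit 3,nat_lit 1,nat_lit 3])
) (.node (.leaf [nat_lit 0,nat_lit 0,nat_lit 2,nat_lit 1,nat_lit 1,nat_lit 2,nat_lit 0,nat_lit 2,nat_lit 1,nat_lit 1,nat_lit 2,nat_lit 1,nat_lit 2,nat_lit 0,nat_lit 2,nat_lit 1,nat_lit 2])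
 (.leaf [nat_lit 3,nat_lit 4,nat_lit 3,nat_lit 4])
)) (.node (.node (.leaf [nat_lit 0,nat_lit 0,nat_lit 0,nat_lit 0,nat_lit 0,nat_lit 0,nat_lit 0,nat_lit 0,nat_lit 0,nat_lit 0,nat_lit 0])
 (.leaf [nat_lit 4,nat_lit 5])
) (.node (.leaf [nat_lit 0,nat_lit 0,nat_lit 0,nat_lit 2,nat_lit 0,nat_lit 2,nat_lit 1,nat_lit 1,nat_lit 2,nat_lit 0,nat_lit 0,nat_lit 0,nat_lit 2,nat_lit 1,nat_lit 2,nat_lit 0,nat_lit 2,nat_lit 1,nat_lit 1,nat_lit 1,nat_lit 2])
 (.leaf [nat_lit 0,nat_lit 0,nat_lit 0,nat_lit 2,nat_lit 4,nat_lit 2,nat_lit 4,nat_lit 1,nat_lit 1,nat_lit 1,nat_lit 4])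
))) (.node (.node (.node (.leaf [nat_lit 0,nat_lit 1])
 (.leaf [nat_lit 2,nat_lit 3,nat_lit 2,nat_lit 3])
) (.node (.leaf [nat_lit 0,nat_lit 0,nat_lit 2,nat_lit 0,nat_lit 0,nat_lit 2,nat_lit 0,nat_lit 0,nat_lit 2,nat_lit 0,nat_lit 0,nat_lit 2,nat_lit 0,nat_lit 0,nat_lit 2,nat_lit 0,nat_lit 0,nat_lit 2])
 (.leaf [nat_lit 0,nat_lit 4,nat_lit 1,nat_lit 2,nat_lit 0,nat_lit 5,nat_lit 1,nat_lit 2])
)) (.node (.node (.leaf [nat_lit 2,nat_lit 2])
 (.leaf [nat_lit 4,nat_lit 4,nat_lit 4])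
) (.node (.leaf [nat_lit 3,nat_lit 3])
 (.leaf [nat_lit 0,nat_lit 0,nat_lit 2,nat_lit 5,nat_lit 1,nat_lit 5,nat_lit 0,nat_lit 2,nat_lit 4,nat_lit 1,nat_lit 1,nat_lit 4])
))))
noncomputable def c3b_inv : ℕ → ℕ := getP (nat_lit 8) (nat_lit 255) (nat_lit 0x40503020001)
noncomputable def c3b_pi : ℕ → ℕ := getP (nat_lit 16) (nat_lit 65535) (nat_lit 0xa000a0007000300010001)

noncomputable def c3b_L_t : BT :=
(.node (.node (.node (.leaf (nat_lit 0x7ff00000000000000000000001ffc00000000000000000000007ff00010010100000100800b0220610000000000000000000007ff00028080060000400800cf222dc0000000000000000000007ff00038010000000100001102181d0000000000000000000007ff00008000000000000000e001f2700000000000000000000005538000000000000000000001ffc00040000400000402003bc8898c010010100000100800a0021980100000000000000000b884d54000000000000000000001ffc00000000000000000000007ff00000000000000000000001ffc000000000000000000000003c200280000400004000008c220d300000000000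0000000001070900000000000000000000041a2200000000000000000000105e800000000200000000010920b4f0000000000000000000007ff00000000000000000000000098500a0000100001000002000882c000000000000000000004141b00000000000000000000104f68000000000000000000001ffc00000000080000c000011884358000000000000000000001ffc0000000000000000000000016080000000000000000000040a500000000000000000000007ff00000000000000000000000038100000000000000000000101b24000000000000000000004048600000000000000000000100b0c00000000000000000000e0000))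
 (.leaf (nat_lit 0x7ff000000000000000000010001dd70000000000000000000007ff00000000000000000000001ffc00000000000000000000007ff00000000000000000000001ffc000000000000000000040006344000000000000000000001ffc000c00400000004000000007e9c000000000000000000001ffc000200000000010020008006584000000000000000000001ffc00000000000000000000007ff00000000000000000000001ffc000000000000000000040004c28000000000000000000001ffc00000000000000000000007ff000000000000000000010001008000000000000000000001073940000000000000000010000e4700000000000000000040003518000000000000000000001ffc001000000000002000002885874000000000000000000001ffc00000000000000000000007ff00000000000000000000001ffc00000000000000000000007ff0000000000000000000100008430000000000000002000800233000000000000000000000412580000000000000000000007ff00000000000000000000001ffc00000000000000000000007ff000000000000000000000040c520000000000000000000010273c000000000000000000004090d00000000000000000000101f2c00000000000000000100001c0000000000000000200080009080000000000000000000040101))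
) (.node (.leaf (nat_lit 0x7a74000000000000000000001ffc00000000000000000000007ff00000000000000000000001ffc000000000000000000000006d48000000000000000000001ffc00000000000000000000007ff00000000000000000000001ffc000000000000000000000005b40000000000000000000001ffc00000000000000000000010799c00000000000000000000014cc0000000000000000000007ff00000000000000000000001ffc00000000000000000000007ff00000000000000000000001ffc0000000000000000000000048240000000e00001800000d211560000000000000000000007ff00000000000000000000001ffc00000000000000000000007ff000000000000000000000041b2300000000000000000000002f18000000000000000000004169f0000000380000600000208463c000000000000000000001ffc00000000000000000000007ff00000000000000000000004149c0000000000000000000007ff0000000000000000000000007830000000000000000000010475c00000000000000000000006420000000000000000000007ff000000000000000000000040b910000000000000000000000110400000000020000000022203c400000000000000000000101d2800000000000000000000406080000000000000000000010101400000000000000000000e0080))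
 (.leaf (nat_lit 0x50274000000000000000000001415700000000000000000000040454000000000000000000001001300000000000000000000040248000000000000000000001001200000000000000000000040544000000000000000000001001100000000000000000000040240000000000000000000001014e00000000000000000000040138000000000000000000001008c00000000000000000000040030000000000000000000001000b00000000000000000000040528000000000000000000001010a00000000000000000000040224000000000000000000000c14800000000000000000000030120000000000000000000000c14700000000000000000000030518000000000000000000000c10600000000000000000000030218000000000000000000000c00600000000000000000000030414000000000000000000000c04500000000000000000000030410000000000000000000000c1430000000000000000000003040c000000000000000000000c0830000000000000000000003000c0000000000000000000008082000000000000000000000201080000000000000000000008002000000000000000000000202040000000000000000000008041000000000000000000000200040000000000000000000004140000000000000000000000104000000000000000000000000000))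
)) (.node (.node (.leaf (nat_lit 0x1000000000000000014887b780000800000000000005121e250000000000000000000007ff000000000000000000000001c5300e0000080000e004010008a6c0000000000000000000001a5200e0200080000e00402000829000000000000000000000017d10000000000000000000007ff00000000000000000000001ffc00040200000000e000008006180000000000000000000001ffc000000000000000000000005130000000000000000000001ffc00000000000000000000007ff00038080020000380100872215a0000000000000000000007ff00000000100000180000e00110900200000000000000040004e64000000000000000000001ffc000800003800002000028008450000000000000000000001ffc00000000000000000000007ff000000000000000000000000a860000000000000000000007ff00000000000000000000004151d0000000000000000000007ff00000000000000000000001ffc000800003800002000029c88734000000000000000000001ffc000000000000000000000001c0c0000000000000000000040ed50000000000000000000007ff0000000000000000000000004c200000000000000000000102538000000000000000000001ffc000000000000000000000000c04000000000000000000004054700000000000000000000100d1000000000000000000000e0040))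
 (.leaf (nat_lit 0x60200000000e000044c87d7c000000000000000000001ffc000000000000000000040007454000000000000000000001ffc00000000000000000000007ff00000000000000000000001ffc001000000000002004038486474000000000000000000001ffc00000000000000000000007ff00000000000000000000001ffc00000000000000000000007ff00000000000000000000001ffc00000000000000000000007ff00000000000000000000001ffc00000000000000000000007ff00000000000000000001000128a00000000000000000000107698000000000000000000001ffc00000000000000000000007ff00000000000000000000001ffc00000000000000000000007ff000000000000000000010000c8600000000000000000000106284000000000000000000001ffc000000000000000000040002814000000000000000000004165e0000000000000000000007ff00000000000000000100e12088b0000000000000000000007ff0000000000000000000000412d90000000000000000000007ff000000000000000000000040fd6000000000000000000001038500000000000000000000040d130000000000000000000007ff00000000000000000000001ffc000000000000000000000102030000000000000000100e120201000000000000000000400005000000000000000000000040182))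
) (.leaf (nat_lit 0x10004000000000000000080980080800000000000000321fe700000000000000000002c87578000000000000100000e321c9a00000000000000000001486e700000000000000000000321a9b00000000000004000038086660000000000000000000001ffc000000000000002000041485c5c000000000000000000001ffc0002000000000100000010856640000000000000000000001be300000000000000000000006b88000000000000000000001ffc00100000000000200000000577400000000000038000040019e100000000000010000008005d7c000000000000100000e02104f00000000000002000041083d38000000000000100000e020e8d0000000000000400003808362c0000000000000000000b20ccc000000000000020000414830280000000000000800010320ac90000000000000e0000100042580000000000004000002000f950000000000000000000007ff00000000000000000000001ffc00000000000000e00001000374c000000000000000000001ffc000000000000010000008002c4000000000000008000105206850000000000000200004108171000000000000008000103205030000000000000000000007ff00000000000000000000001ffc00000000000000000000007ff0000000000000008000100202810000000000000000000007ff0000000000000000000000e00c0))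
))

noncomputable def c3b_L_rules : LT :=
(.node (.node (.node (.node (.node (.leaf [nat_lit 0x400000,nat_lit 12,nat_lit 2,nat_lit 0,nat_lit 3,nat_lit 4,nat_lit 3,nat_lit 4])
 (.leaf [nat_lit 0x80000000000000,nat_lit 15,nat_lit 9,nat_lit 0,nat_lit 0,nat_lit 1,nat_lit 4,nat_lit 0,nat_lit 0,nat_lit 2,nat_lit 5,nat_lit 1,nat_lit 5,nat_lit 0,nat_lit 2,nat_lit 4])
) (.leaf [nat_lit 0,nat_lit 9,nat_lit 1,nat_lit 1,nat_lit 2,nat_lit 3,nat_lit 2,nat_lit 3])
) (.node (.leaf [nat_lit 0,nat_lit 8,nat_lit 0,nat_lit 1,nat_lit 3,nat_lit 0,nat_lit 3,nat_lit 1])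
 (.leaf [nat_lit 0x100000000000,nat_lit 14,nat_lit 9,nat_lit 0,nat_lit 0,nat_lit 4,nat_lit 0,nat_lit 0,nat_lit 0,nat_lit 2,nat_lit 4,nat_lit 2,nat_lit 4,nat_lit 1,nat_lit 1])
)) (.node (.node (.node (.leaf [nat_lit 0x1000000002,nat_lit 13,nat_lit 4,nat_lit 1,nat_lit 2,nat_lit 0,nat_lit 5,nat_lit 1,nat_lit 2,nat_lit 0,nat_lit 4,nat_lit 1])
 (.leaf [nat_lit 0x200000000000000003,nat_lit 16,nat_lit 4,nat_lit 1,nat_lit 1,nat_lit 2,nat_lit 0,nat_lit 0,nat_lit 2,nat_lit 5,nat_lit 2,nat_lit 1,nat_lit 1,nat_lit 4,nat_lit 2,nat_lit 1,nat_lit 5])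
) (.leaf [nat_lit 0x2000001,nat_lit 12,nat_lit 0,nat_lit 1,nat_lit 4,nat_lit 3,nat_lit 5,nat_lit 3])
) (.node (.leaf [nat_lit 0,nat_lit 8,nat_lit 3,nat_lit 1,nat_lit 0,nat_lit 3,nat_lit 0,nat_lit 3])
 (.leaf [nat_lit 0x200000000000000003,nat_lit 16,nat_lit 12,nat_lit 1,nat_lit 0,nat_lit 4,nat_lit 2,nat_lit 1,nat_lit 5,nat_lit 0,nat_lit 2,nat_lit 0,nat_lit 0,nat_lit 2,nat_lit 5,nat_lit 2,nat_lit 1])
))) (.node (.node (.node (.node (.leaf [nat_lit 0x808,nat_lit 11,nat_lit 1,nat_lit 0,nat_lit 5,nat_lit 4,nat_lit 4])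
 (.leaf [nat_lit 0x400000000000004,nat_lit 15,nat_lit 7,nat_lit 1,nat_lit 1,nat_lit 4,nat_lit 2,nat_lit 1,nat_lit 1,nat_lit 5,nat_lit 0,nat_lit 0,nat_lit 5,nat_lit 2,nat_lit 1,nat_lit 4])
) (.leaf [nat_lit 0x100000000000,nat_lit 14,nat_lit 7,nat_lit 0,nat_lit 0,nat_lit 1,nat_lit 1,nat_lit 4,nat_lit 0,nat_lit 0,nat_lit 0,nat_lit 2,nat_lit 4,nat_lit 2,nat_lit 4])
) (.node (.leaf [nat_lit 0,nat_lit 9,nat_lit 2,nat_lit 1,nat_lit 3,nat_lit 2,nat_lit 3,nat_lit 2])
 (.leaf [nat_lit 0x800000000003,nat_lit 14,nat_lit 7,nat_lit 1,nat_lit 2,nat_lit 1,nat_lit 1,nat_lit 1,nat_lit 5,nat_lit 0,nat_lit 0,nat_lit 0,nat_lit 5,nat_lit 2,nat_lit 5])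
)) (.node (.node (.node (.leaf [nat_lit 0,nat_lit 8,nat_lit 2,nat_lit 1,nat_lit 3,nat_lit 1,nat_lit 3,nat_lit 0])
 (.leaf [nat_lit 0x40000000000000008,nat_lit 16,nat_lit 3,nat_lit 0,nat_lit 5,nat_lit 2,nat_lit 1,nat_lit 1,nat_lit 2,nat_lit 1,nat_lit 4,nat_lit 0,nat_lit 2,nat_lit 5,nat_lit 0,nat_lit 0,nat_lit 2])
) (.leaf [nat_lit 0x2000002,nat_lit 12,nat_lit 1,nat_lit 1,nat_lit 3,nat_lit 5,nat_lit 3,nat_lit 5])
) (.node (.leaf [nat_lit 0,nat_lit 8,nat_lit 1,nat_lit 1,nat_lit 1,nat_lit 3,nat_lit 1,nat_lit 3])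
 (.leaf [nat_lit 0x400000000000004,nat_lit 15,nat_lit 10,nat_lit 1,nat_lit 0,nat_lit 1,nat_lit 5,nat_lit 0,nat_lit 0,nat_lit 5,nat_lit 2,nat_lit 1,nat_lit 4,nat_lit 0,nat_lit 4,nat_lit 2])
))))

noncomputable def c3b_L_R : LT :=
(.node (.node (.node (.leaf [nat_lit 12,nat_lit 2,nat_lit 0xc03800])
 (.leaf [nat_lit 5,nat_lit 12,nat_lit 0xc0300600000c01803])
) (.leaf [nat_lit 3,nat_lit 22,nat_lit 0x500001800000])
) (.node (.node (.leaf [nat_lit 3,nat_lit 4,nat_lit 0xe00000002])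
 (.leaf [nat_lit 8,nat_lit 34,nat_lit 0xc0400400001800008])
) (.leaf [nat_lit 12,nat_lit 39,nat_lit 0x140100000000800000])
))

noncomputable def c3b_C : LC :=
  ⟨⟨fun x c => Nat.shiftRight (BT.get c3b_L_t x) (Nat.mul (nat_lit 102) c),
  (nat_lit 6), (nat_lit 63), (nat_lit 131071), (nat_lit 17), (nat_lit 255), (nat_lit 131008), (nat_lit 0), (nat_lit 40), (nat_lit 6), (nat_lit 4), (nat_lit 0), (nat_lit 6), c3b_inv, c3b_L_rules, .leaf []⟩,
  (nat_lit 25), (nat_lit 0x3c0780f01e03c0780f), (nat_lit 0x1fc3f87f0fe1fc3f87f), (nat_lit 11), (nat_lit 7), (nat_lit 9), (nat_lit 10), (nat_lit 15), (nat_lit 127), (nat_lit 21), c3b_pi, c3b_rels, c3b_L_R⟩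

noncomputable def c3b_U_t : BT :=
(.node (.node (.node (.leaf (nat_lit 0xf36bb9cc9b3db800591ac002c3550015f290c9ae73e0056496002ac488016b7c800b4be2f8d43a00029c460014b22841a534a005157f9068967883422d0009eef2004ef78326753e801381d0799b36e20cd1b300276ef8013c7824196f42004a67090651d48012634e399239a48c857a3263ed34431ddcc009f7c200582ee3c6305380114d9c00a35c864c4a6c0021eb21930e26c0089b9800597f0002bd7699304a680081316f4becbe001fcb5000fded400ad1d800511e332610b1800f356281790d20055eeb002ab75000f87080075aaae4ba9a8001f2cacf2e661c00a65cc0038853001bf290f2dee8c00b17de84b6998885a33b001523a00078b78003a8b800194a60013336c006429644b1c938e60547800c2d28008f5a4002ff490017ba28f2bc984005d08e18b71b10020ce300149b9509504ee48a546d002106380091d200047e80003b1b90021de54828a8f23980d8a002213b0c567a8882d51fa217c57400345af00aa4f480137b74006f5640020d3800282f1000824dc00572dc00490d50c5a45580115738009c7bc002ca60725481f000bc689f154464f4a6c6800206dd862c797c0033a60004b6d9105492700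12835c003265ee4b5a92165574700062cb800959b000496d6000c2968052ef68003e67a0046ad000214640005e4a4028ffa800443cb001fee18051af44794d45820a6899001acc2862cdab4004cb3c3c9f02b00a14e4b22af224002b2460022394625541b004fa3100029e42013d8c1000a590004f4b000279d7e001411f009e35e800b31880026e3a01395b60012ece80052569494f50201363b00099cd7062a3918004eb04001cb50000858d000784d0002063298a9a83000efae80080dc8001de30849c04100142ba922760a0024a138000d915424691a8008de5c003fabc002b17c0005f8980485a400241d1a001bb883c4e8331c2a91ec0015a22011b486008d842000a24a80234900189ec4f0004f87992758cc001361c01180712e4f32d8045f1bc001221a011706b244ea2180071c908911038011626500040850623509402298b8001cf590089f2b8044e95802264a8000630800889268f27085c413b81800051070087522004389080219c7e2c840120085e1d0042e8e40006a0a010a231104f10b0007242c00056080108c2700845130041f888310e03c0105e1b0000c010040f05002064200000f01008100480404c1802018060380000))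
 (.leaf (nat_lit 0x169f4eb1b41d254d98ee2a6c65f15360edab1aeb5454d69de2a6aff38016a7c951a9bbe00578ed2a69ed49534ce90d1a43660051ea000285bd1a340b04a99f9c054cf290002d1f8b8339328009ace6004d8dd0026339001311f400960e2004b2d90024d378012735cd191768a8c87b0002aa750013236c00a39c80046467002336800116dd00089eca00457ceb0623570015b3b15185b3200424623460e5cd63052dcd1800cc00536e6001f3ae800f6d70617e4f34cbd4a3002c7f7b830cafc007eb86003bf56001e0de000ed554a9764c2003a254001d04300166fc1d17235e54b8b6e505c0c2000dd144006ed64003868c185a855aa2cf644006629800333ad185c9da80151ba000ac5d6003174a0018cd400109b20008a39a54beec47057e45000bad10005db4400472d10016d21800b727c007bb840050de300125a00009366c004bf28002393f001189e00089cec004532c30c30c90010e9d00087e4c0088b96004ffe1001099c8008563c00981b400484d4345a73b1a2f5b00006af0a0023397001a6c580105f18006a66c0151fe5000d6990006be0c6159a92002774e000d09800068dfc616211a001992f000cdbe3a2ab27002a01c40018f2e000c8bc382d2a1c003125a0045dcc00a67ee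0011db480095db00017f2a00a49eb00522754002ea50001776d00146a68005bc9c002d64c0016d6900a2f6780074d78616114a0015f23000b0b2000c3e98028358e6895629001d25c004ffb14007e37a0025b9d00159c00005147c0028eb4003b7ba0013cc0804eeaec6145cb0a8ab45f000968e0004bd4c006e1620011f1b00090a8000a5d6d414f8960132cac1854535804c4a9c0058aae000fd180007fa4000805a80047730012e3a1009304f0007ddc0001ba2a012429a00079a280032450001967c001bd88009124a80486a48024211c000b7110005c9c00481a24001be82000a910000559a0046a208d1500ea0119e7e008cb3d804631dc614fc62000970d0004c960007bd08a91ac44011726c000fca30045a1a00010a140008725008ae3180455180000f6120007d21008a12c8001ac20000da3c01128520088d278001641c000b634010f84700025830001345c611606a010c43d0001c828000ec4c021686e010a63300017820000c43c02128560002703000148600420890020f040010661d0082a0c804118580206c240102c0e008120580001c0000012040100401))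
) (.node (.leaf (nat_lit 0x3436c38c00b3b9a08d94d5046c4f78235fee800ae13924d6dc8046addb0015423c81a9776005408e4e69de20234bed051a4f5608d18e4002d8f90a341a28119f12a004f5c000273ba82338779019b72174cd3c168666eb103306f8009752c08ca97368650b800133b6c00b2be040c81760023e358011d1a8818df72d0c67944e63167c93162f002b39e20044965046204c0010d58c4985f920056eec1460f638010458051808d80053ce7045fd54b42f7a7c009a9b948cf4e0a25e84d80130b68f9794b000459ce002a674801603b8008e1a224babb8001ce2a001573ac0071ca600530e69a5c1d9000e12cc006d8a040b6783001a0a7bf2cfeb8496715a24b60a80029472800c952c007f78600361ac4e60753892d8a980060a9208b02550457d38800bd584495d342002e044001efe100099e5c004ae820156fed001e8dfa72b0a6a4953cd000441cb125334f0932e764009f3c200468d0125689fb62d72480043274004dcdd00aa7f50054ffa2195ae80002d689001059b80141f8a095ab18001b935000db9a3f2aea1800366667cab65b001b4580a26a8e00034e620026f5204607bfbc2d75e1396befa002953900150a6800654bd39580760035e7e045633b80120b50029cdbe0018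72d002556c00060cb0005f746004a2d76c4fd23a725e975a13c8b200405c500a3de98051cf4851576d20029f99000b39300059490028919808ac36400a1a6500056c8c715e94401410c6000a99100054484002f6dc001eb3d0015bc200071494003cada003cbbd565392b0009cd5c00607480139bb7009c6da8229ba000024a380136bb1009a05780045c6d39540f60010f1a009925500041c64026094a002492b000fdb78003d4611954c8a012dfa0000738b000a749c024ad3a002d88d00169498007345d013d4b8000c11400160bc80486244f9528f8001ab8200905458002cc440237110011b687008d942800294400234d02000a10f008ca3d000274380230ce80118272305242400024c34a154e520008f0c2654e210045999c49388b40116466008ad310045497c022a0bc249da0b0003b849021c878000ea2601124510088b27004439300220c94010f4461c4e61f0043990c000860c010c03c1443a0e8921cc48021646c010a4320085018004270b802124540108e28000ed9000008c0c020ec3e0001d020440d838041085400024020881004008110500407020020220a0380200))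
 (.leaf (nat_lit 0x1ffc0000ffe00007ff00003ff80001ffc0000ffe00007ff00003ff80001ffc0000ffe00007ff00003ff80001ffc0000ffe00007ff00003ff80001ffc0000ffe00007ff00003ff80001ffc0000ffe00007ff00003ff80001ffc0000ffe00007ff00003ff80001ffc0000ffe00007ff00003ff80001ffc0000ffe00007ff00003ff80001ffc0000ffe00007ff00003ff80001ffc0000ffe00007ff00003ff80001ffc0000ffe00007ff00003ff80001ffc0000ffe00007ff00003ff80001ffc0000ffe00007ff00003ff80001ffc0000ffe00007ff00003ff80001ffc0000ffe00007ff00003ff80001ffc0000ffe00007ff00003ff80001ffc0000ffe00007ff00003ff80001ffc0000ffe00007ff00003ff80001ffc0000ffe00007ff00003ff80001ffc0000ffe00007ff00003ff80001ffc0000ffe00007ff00003ff80001ffc0000ffe00007ff00003ff80001ffc0000ffe00007ff00003ff80001ffc0000ffe00007ff00003ff80001ffc0000ffe00007ff00003ff80001ffc0000ffe00007ff00003ff80001ffc0000ffe00007ff00003ff80001ffc0000ffe00007ff00003ff80001ffc0000ffe00007ff00003ff80001ffc0000ffe00007ff00003ff80001ffc0000ffe00007ff00003ff80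001ffc0000ffe00007ff00003ff80001ffc0000ffe00007ff00003ff80001ffc0000ffe00007ff00003ff80001ffc0000ffe00007ff00003ff80001ffc0000ffe00007ff00003ff80001ffc0000ffe00007ff00003ff80001ffc0000ffe00007ff00003ff80001ffc0000ffe00007ff00003ff80001ffc0000ffe00007ff00003ff80001ffc0000ffe00007ff00003ff80001ffc0000ffe00007ff00003ff80001ffc0000ffe00007ff00003ff80001ffc0000ffe00007ff00003ff80001ffc0000ffe00007ff00003ff80001ffc0000ffe00007ff00003ff80001ffc0000ffe00007ff00003ff80001ffc0000ffe00007ff00003ff80001ffc0000ffe00007ff00003ff80001ffc0000ffe00007ff00003ff80001ffc0000ffe00007ff00003ff80001ffc0000ffe00007ff00003ff80001ffc0000ffe00007ff00003ff80001ffc0000ffe00007ff00003ff80001ffc0000ffe00007ff00003ff80001ffc0000ffe00007ff00003ff80001ffc0000ffe00007ff00003ff80001ffc0000ffe00007ff00003ff80001ffc0000ffe00007ff00003ff80001ffc0000ffe00007ff00))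
)) (.node (.node (.leaf (nat_lit 0x1636b3aab9b49d2ccd96c8666c558b336074271af38eccd67c1666aede573556ec00a951f30d47ae002d7f94534c6d4d9a4b3d68d19cd2c688601b34122d999f5a2cccf0da6e6766db3338a15619bb1c0059ff12c665d50012f1c96196af914cab752c64fbd1b3255d0d991f10004806db464beb5531e694008d8d4b0c697000289f1c531521800925ab5cc4cc96a621365730ea5c00854c658c276f6e60fcdd530627c0080f2a003e95ea85fe35ac2f82e8007b2b8003d35a001e7ac800fb7100078eaeb0bc4ad0e6063f800f8e45997613058ba7ac0026d6e800e5952717ed8400509e2002696e162de634006e5400036450985a248000ce93c0066ecc01590f0001a4c3805617bc00949ae003aab800230e78011fb4c00a55ca0157bee001be59162bc20800971b200544e8002ba76cb299196014b8a600251410021ce500104f18004d2d00036ab05851b1f00558fb0397c96f14a22600018ed4000d6de002aafd6002173a00205d3800abddc0041e7201537e780604628054af980057ac5009ba38001cd5b0006d4d0b16b0ce001b1330014da40729d134004f6a2001a53100a8a72000d5648009d7beecab03c001529b00121b50029edc2014eee000141ce800d1ebd795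0886014dfde0023c69372809180030258014a5d8000be95352ae224004ab380044bcc000b8942c2fe30c007937a0026d8000a2967000744dc002c6480143ccb002115fb32b2d58005e7446cac9840018fbf2f27f0f5713bc8e0014d21000f395ac2521496139c40013ccbe0009f8f8004ec780275972001331d009c3da004df6cc005a126589ca4c000f698000a4dec002263601328ab0099054804c2a98025fd481ca469a0e573d0800a3d38025ed46000eb17000ea9380038c5800382880123e99000678a800a460c393e4e20022b96009104a0002f44c00176240120c8c0090445000aa57c001a67e6c9e04a000eb97000a8e0400146200119c7d008c93c804629d802308e60026b69000f8b2162a20c8022f0dc001d942000468600022c2c001aa441c9c626008ac308001fc280229cba0114a5b008a02c0001c4240226caa00089250002f840044292c0220492010ee45000e18d00078c3c021b0800003d060085f1d80010450021586a00033050084f17804268b40212052001dd190e4e4070042008c0004206010621c008280c0000500802068220102a0d000068080405c1c0201c080380100))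
 (.leaf (nat_lit 0x136a3a981b45be90d9ab6486c75f801667c181aefd118d6bca486b0d4b0354f4c00b43e2c0d45aa002b075a434d71000a4108b4d1bd1026864e001405e5219fd20004fde1002a7748015abb0099afb8004d07302663e95c32fe3409963b16ccad710264deb001251bc00914dd64c838c00ad3793031d5cac98e34004c65cf0022fb3c6315b30098a14a04c5c748c6224880139778008632804c25a60020db0b0305a18007febc003efa4025fa5e812f727400a07c4003d78a00219df001637be517e0ba04bc0bb001ddab012ed9600083b8e04ba35f0020ae3001613b800729560048cd50029172812dd6c5816dea200488d4001c95a80111f2c09665580032d4c001a8d78015dbb400a7dce04b18a700189a52d2c398800612ca00534e6001eae0012bb284005c88894d1de40256dcf0009850e514b4b8002ad7a025264d00090d000085d9204a3a4502519440128a2540044a7718a5e990250f4900086ce80067d5c004f3e00250a47000844e400622fa94b85b0845a643800bf68c0040e6c749bc3c001a5bb252e7edc096ad1200382b3024d7410006a4c8e94f0ae04ab25b024d13f00067cc129987b40499a7b000cb9780542b8c007e7820499077000c697000d3e2c0050262c0c5ace00a6ae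e8053176c0295fb2049f64200a4ceb800e32d0092ecd8001732800145a581280118092d8d0001692600a31e8001007140289d9a0496063000ae9180508f20007677200155220015aaa30274998027cd86013dac25a54b2701251964002863e0022f554a56224804efaf00276974013a1b802497290004a470026e764049204f0008d8da529da0129518d601330ad0013ea6804c5aa00059d02048fe470007c8c2527e09d211e47e012eaa20096ccfa227b8a8091bc6a0124a9b0091c4c012328f40018a280123097009134b0048724c024251e048b8370005a889d2d4a14001622a048aa3300053880046b20c004fe5a011a07f008cc3e004639e002310ea048982b0004a868045f9c0002aec0011746d008b7350045a9a40910c48000830a008af3200035ca4090f8400007909008a22d0121b074000ce100112c530088f2801216864000aa0e010fc48024260b00011c18021b882010c83e0241d090000dc140216c70010a83402418070000b4100212c58048280b000128180421094020f4420106a1e0082c0d0041285c02070260102e0f0081306012020040000a000100602))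
) (.node (.leaf (nat_lit 0x36abc400b57e410d92e0086c3ef0435f78429ae39810d65be086acee853547a400aa5d414d41ce0869cee0434b78869a47a810d16cf00687668014bb9800afddc00593f00a67469801623bc00ab5d60053ae700664eb0332f720019677a10ca7c30064ee900132b6c6991b8000524e500274ef80127b5c198dba00046ed10028bf200150ba000a1fc600572ed0861f630530dafc198578e004beda00216648010ff2c69805840cbeac1002546c00100f14007d7880048ed50021be500159bb000969b200bc28e1a5de47802ee2542175d2800ba5920a5cec8832e5e402971f1610b898a085bfc6002dde24296db0a0cb65840a5a143832cee1801668ee34b2e78085953b052c99d021644e600b1a7e1a58a3f842c31f42960cf410b00790857c37002bb9a0695cad214ae1670056eb60d2989b4294b0cc0ca526500527318d29119021480c200a3c600051a2c8008b5600077374003afb9001642f800e9ae00073d6e00398b6001dedd800f0ef0195a6c400380b3001c85a800e2ad0006f164001bf5a001a1d7800cf2b8006dd6200366b00014cad8009c6000057ef614a70820018ad3800c6ea00061b4c14aaa570a55f40800c1e9400603480032fac0019ad6800caeac0050ed600327a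a00191d4852811bc193d0ba001ff6a00102b9000be68c004c73c002de9f065433a8027f9c0005cd42002efa2001715000096674004a738002459a00127cd800b523400483320023d981a563c98007d570003d2e2149f45e0854c418326fa200046b2e10a2c9600155be0324f0e421270760c9343a004981b8d24a8e02924c6c00922331a48e1a052460c81922862149102e0848616852420c0212085e009002b1a47d160523d8a8211e0520c8ec260a474140323909c011c048108da230646811002330806918c42148c21f0009caa8004d5500027aac0012b5200098a980049d442115c4a0011d4f00091a8000465380022a9a001094a00082a4800445300021a96000fb4700080a40003dd18001e28a000e94300072a10003b5100015e6a000e1410006da0000344fc0018e7a000cd3e000619e0021b848690d0261086411064300800217038690ac1e108520d00427058d21203029088140c83e09000348e8001bc78000ca38000611b0002b8c80017468000a6300004916000278b800114540007e281481e050840c820320540c0003e100001a070000b030020280400016040380300))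
 (.leaf (nat_lit 0x1c174c00e059a00601ac00300d50018069000c0538006019600300c880180a3c00c011e006028e00300c60018062800c0908006017f00302bd001811e400c02f20060178003013a801805d000c0ae6006047300302b9001801c800c0ae2006017000302b7801811bc00c08dc006006d0030135801809a800c00d4006056700302338018059c00c0aca006026500300b20018098c00c00c6006056200302308018098000c08bc006005e00302ae8018157000c00b8006005a003002c8018056000c00ae0050556002822b0014155400a02aa0050554002812a0014015000a04a6005015300280a90014154400a04a0005005000281278014013c00a0a98005044c00280a60014092c00a0296005054a00282250014052800a0492005014900280a28014151000a0888005024400282a18014110c00a0482005004100282a00014110000a0280005053f002829e001414ec00a0876005013b002829d001410e800a0474005003a002829c801410e400a00720050138002811b801404dc00a086c0050235002811a001400d000a046600500330028299001410c800a046200500310028298001410c000a0260005052f0028217801408bc00a025e005052e0028217001404b800a0a5a005022d0028096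801408b000a0058005052a0028015001404a400a0a50005042800280140014149c00a0a4c005042600281130014089000a0048005052300282118014088c00a0246005042200281110014088400a0242005002100280900014147c00a083e005011f002800f80100078008023a004001d002028e001010700080438004051b002020d8010086c0080036004021a002008d0010086400802320040518002020c0010086000802300040017002010b001000580080a2a0040115002000a801014500080828004021400200898010004c00800240040511002020880100844008022200405100020208001008400080020004020f002008780100838008021c004050d002020680100834008021a004020c00200060010002c0080a14004040a0020085001000280080a1200404090020104800c1420006081000301080018004000c141c006080e00301070018283000c1018006040c00300060018282800c1014006020a00300050018282000c1010006020800305030018201800c080c006000600202020010081000800080040402002010100100008004140000208000000000))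
)))

noncomputable def c3b_U_rules : LT :=
(.node (.node (.node (.node (.node (.node (.node (.leaf [nat_lit 12,nat_lit 2,nat_lit 0,nat_lit 3,nat_lit 4,nat_lit 3,nat_lit 4])
 (.leaf [nat_lit 16,nat_lit 4,nat_lit 1,nat_lit 1,nat_lit 2,nat_lit 0,nat_lit 0,nat_lit 2,nat_lit 5,nat_lit 2,nat_lit 1,nat_lit 1,nat_lit 4,nat_lit 2,nat_lit 1,nat_lit 5])
) (.leaf [nat_lit 14,nat_lit 3,nat_lit 0,nat_lit 2,nat_lit 4,nat_lit 2,nat_lit 4,nat_lit 1,nat_lit 1,nat_lit 1,nat_lit 4,nat_lit 0,nat_lit 0,nat_lit 0])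
) (.node (.node (.leaf [nat_lit 14,nat_lit 7,nat_lit 1,nat_lit 2,nat_lit 1,nat_lit 1,nat_lit 1,nat_lit 5,nat_lit 0,nat_lit 0,nat_lit 0,nat_lit 5,nat_lit 2,nat_lit 5])
 (.leaf [nat_lit 14,nat_lit 8,nat_lit 0,nat_lit 0,nat_lit 1,nat_lit 4,nat_lit 0,nat_lit 0,nat_lit 0,nat_lit 2,nat_lit 4,nat_lit 2,nat_lit 4,nat_lit 1])
) (.leaf [nat_lit 14,nat_lit 4,nat_lit 0,nat_lit 5,nat_lit 2,nat_lit 4,nat_lit 1,nat_lit 1,nat_lit 1,nat_lit 4,nat_lit 0,nat_lit 0,nat_lit 0,nat_lit 2])
)) (.node (.node (.node (.leaf [nat_lit 14,nat_lit 10,nat_lit 1,nat_lit 0,nat_lit 5,nat_lit 0,nat_lit 0,nat_lit 0,nat_lit 5,nat_lit 2,nat_lit 5,nat_lit 2,nat_lit 1,nat_lit 1])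
 (.leaf [nat_lit 15,nat_lit 5,nat_lit 1,nat_lit 0,nat_lit 4,nat_lit 0,nat_lit 4,nat_lit 2,nat_lit 1,nat_lit 1,nat_lit 5,nat_lit 0,nat_lit 0,nat_lit 5,nat_lit 2])
) (.leaf [nat_lit 15,nat_lit 5,nat_lit 0,nat_lit 4,nat_lit 0,nat_lit 2,nat_lit 4,nat_lit 1,nat_lit 1,nat_lit 4,nat_lit 0,nat_lit 0,nat_lit 2,nat_lit 5,nat_lit 1])
) (.node (.node (.leaf [nat_lit 16,nat_lit 11,nat_lit 0,nat_lit 2,nat_lit 5,nat_lit 0,nat_lit 0,nat_lit 2,nat_lit 4,nat_lit 2,nat_lit 1,nat_lit 1,nat_lit 2,nat_lit 1,nat_lit 4,nat_lit 0])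
 (.leaf [nat_lit 16,nat_lit 12,nat_lit 0,nat_lit 4,nat_lit 0,nat_lit 0,nat_lit 2,nat_lit 4,nat_lit 2,nat_lit 1,nat_lit 1,nat_lit 2,nat_lit 1,nat_lit 4,nat_lit 0,nat_lit 2])
) (.leaf [nat_lit 15,nat_lit 0,nat_lit 1,nat_lit 4,nat_lit 0,nat_lit 0,nat_lit 5,nat_lit 2,nat_lit 1,nat_lit 4,nat_lit 0,nat_lit 4,nat_lit 2,nat_lit 1,nat_lit 1])
))) (.node (.node (.node (.node (.leaf [nat_lit 8,nat_lit 0,nat_lit 1,nat_lit 3,nat_lit 0,nat_lit 3,nat_lit 1])
 (.leaf [nat_lit 16,nat_lit 6,nat_lit 0,nat_lit 0,nat_lit 2,nat_lit 1,nat_lit 4,nat_lit 0,nat_lit 2,nat_lit 5,nat_lit 0,nat_lit 0,nat_lit 2,nat_lit 4,nat_lit 2,nat_lit 1])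
) (.leaf [nat_lit 14,nat_lit 10,nat_lit 0,nat_lit 5,nat_lit 0,nat_lit 0,nat_lit 0,nat_lit 2,nat_lit 4,nat_lit 2,nat_lit 4,nat_lit 1,nat_lit 1,nat_lit 1])
) (.node (.node (.leaf [nat_lit 6,nat_lit 6,nat_lit 1,nat_lit 2,nat_lit 0,nat_lit 2,nat_lit 1,nat_lit 1,nat_lit 1,nat_lit 2,nat_lit 0,nat_lit 0,nat_lit 2,nat_lit 1,nat_lit 2,nat_lit 1,nat_lit 1,nat_lit 1,nat_lit 2,nat_lit 0,nat_lit 0,nat_lit 0,nat_lit 2,nat_lit 1])
 (.leaf [nat_lit 15,nat_lit 1,nat_lit 1,nat_lit 1,nat_lit 0,nat_lit 5,nat_lit 2,nat_lit 1,nat_lit 4,nat_lit 0,nat_lit 4,nat_lit 2,nat_lit 1,nat_lit 1,nat_lit 5])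
) (.leaf [nat_lit 14,nat_lit 5,nat_lit 0,nat_lit 2,nat_lit 4,nat_lit 1,nat_lit 1,nat_lit 1,nat_lit 4,nat_lit 0,nat_lit 0,nat_lit 0,nat_lit 2,nat_lit 4])
)) (.node (.node (.node (.leaf [nat_lit 12,nat_lit 0,nat_lit 1,nat_lit 4,nat_lit 3,nat_lit 5,nat_lit 3])
 (.leaf [nat_lit 15,nat_lit 1,nat_lit 0,nat_lit 1,nat_lit 2,nat_lit 5,nat_lit 1,nat_lit 5,nat_lit 0,nat_lit 2,nat_lit 4,nat_lit 1,nat_lit 1,nat_lit 4,nat_lit 0])
) (.leaf [nat_lit 15,nat_lit 7,nat_lit 1,nat_lit 1,nat_lit 4,nat_lit 2,nat_lit 1,nat_lit 1,nat_lit 5,nat_lit 0,nat_lit 0,nat_lit 5,nat_lit 2,nat_lit 1,nat_lit 4])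
) (.node (.node (.leaf [nat_lit 4,nat_lit 16,nat_lit 1,nat_lit 0,nat_lit 2,nat_lit 0,nat_lit 2,nat_lit 1,nat_lit 2,nat_lit 0,nat_lit 2,nat_lit 0,nat_lit 0,nat_lit 2,nat_lit 1,nat_lit 2,nat_lit 0,nat_lit 0,nat_lit 2,nat_lit 1])
 (.leaf [nat_lit 13,nat_lit 2,nat_lit 1,nat_lit 5,nat_lit 1,nat_lit 2,nat_lit 0,nat_lit 5,nat_lit 1,nat_lit 2,nat_lit 0])
) (.leaf [nat_lit 4,nat_lit 12,nat_lit 0,nat_lit 2,nat_lit 0,nat_lit 2,nat_lit 1,nat_lit 2,nat_lit 0,nat_lit 0,nat_lit 2,nat_lit 1,nat_lit 1,nat_lit 2,nat_lit 0,nat_lit 2,nat_lit 1,nat_lit 1,nat_lit 2,nat_lit 1])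
)))) (.node (.node (.node (.node (.node (.leaf [nat_lit 13,nat_lit 4,nat_lit 1,nat_lit 2,nat_lit 0,nat_lit 5,nat_lit 1,nat_lit 2,nat_lit 0,nat_lit 4,nat_lit 1])
 (.leaf [nat_lit 16,nat_lit 0,nat_lit 1,nat_lit 5,nat_lit 2,nat_lit 1,nat_lit 5,nat_lit 0,nat_lit 2,nat_lit 0,nat_lit 0,nat_lit 2,nat_lit 5,nat_lit 2,nat_lit 1,nat_lit 1])
) (.leaf [nat_lit 15,nat_lit 8,nat_lit 0,nat_lit 5,nat_lit 1,nat_lit 1,nat_lit 4,nat_lit 0,nat_lit 0,nat_lit 2,nat_lit 5,nat_lit 1,nat_lit 5,nat_lit 0,nat_lit 2])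
) (.node (.node (.leaf [nat_lit 15,nat_lit 10,nat_lit 1,nat_lit 0,nat_lit 1,nat_lit 5,nat_lit 0,nat_lit 0,nat_lit 5,nat_lit 2,nat_lit 1,nat_lit 4,nat_lit 0,nat_lit 4,nat_lit 2])
 (.leaf [nat_lit 15,nat_lit 7,nat_lit 0,nat_lit 2,nat_lit 4,nat_lit 1,nat_lit 1,nat_lit 4,nat_lit 0,nat_lit 0,nat_lit 2,nat_lit 5,nat_lit 1,nat_lit 5,nat_lit 0])
) (.leaf [nat_lit 6,nat_lit 20,nat_lit 1,nat_lit 0,nat_lit 2,nat_lit 0,nat_lit 0,nat_lit 0,nat_lit 2,nat_lit 1,nat_lit 2,nat_lit 0,nat_lit 2,nat_lit 1,nat_lit 1,nat_lit 1,nat_lit 2,nat_lit 0,nat_lit 0,nat_lit 2,nat_lit 1,nat_lit 2,nat_lit 1,nat_lit 1])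
)) (.node (.node (.node (.leaf [nat_lit 14,nat_lit 5,nat_lit 1,nat_lit 2,nat_lit 5,nat_lit 2,nat_lit 1,nat_lit 1,nat_lit 1,nat_lit 5,nat_lit 0,nat_lit 0,nat_lit 0,nat_lit 5])
 (.leaf [nat_lit 15,nat_lit 8,nat_lit 1,nat_lit 5,nat_lit 2,nat_lit 1,nat_lit 1,nat_lit 5,nat_lit 0,nat_lit 0,nat_lit 5,nat_lit 2,nat_lit 1,nat_lit 4,nat_lit 0])
) (.leaf [nat_lit 15,nat_lit 3,nat_lit 0,nat_lit 4,nat_lit 1,nat_lit 5,nat_lit 0,nat_lit 2,nat_lit 4,nat_lit 1,nat_lit 1,nat_lit 4,nat_lit 0,nat_lit 0,nat_lit 2])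
) (.node (.node (.leaf [nat_lit 11,nat_lit 1,nat_lit 1,nat_lit 4,nat_lit 5,nat_lit 5])
 (.leaf [nat_lit 14,nat_lit 2,nat_lit 1,nat_lit 1,nat_lit 0,nat_lit 5,nat_lit 2,nat_lit 5,nat_lit 2,nat_lit 1,nat_lit 1,nat_lit 1,nat_lit 5,nat_lit 0])
) (.leaf [nat_lit 14,nat_lit 4,nat_lit 1,nat_lit 4,nat_lit 2,nat_lit 5,nat_lit 2,nat_lit 1,nat_lit 1,nat_lit 1,nat_lit 5,nat_lit 0,nat_lit 0,nat_lit 0])
))) (.node (.node (.node (.node (.leaf [nat_lit 8,nat_lit 3,nat_lit 1,nat_lit 0,nat_lit 3,nat_lit 0,nat_lit 3])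
 (.leaf [nat_lit 15,nat_lit 11,nat_lit 0,nat_lit 5,nat_lit 0,nat_lit 0,nat_lit 2,nat_lit 5,nat_lit 1,nat_lit 5,nat_lit 0,nat_lit 2,nat_lit 4,nat_lit 1,nat_lit 1])
) (.leaf [nat_lit 14,nat_lit 9,nat_lit 1,nat_lit 0,nat_lit 1,nat_lit 5,nat_lit 0,nat_lit 0,nat_lit 0,nat_lit 5,nat_lit 2,nat_lit 5,nat_lit 2,nat_lit 1])
) (.node (.node (.leaf [nat_lit 13,nat_lit 1,nat_lit 1,nat_lit 1,nat_lit 4,nat_lit 1,nat_lit 2,nat_lit 0,nat_lit 5,nat_lit 1,nat_lit 2])
 (.leaf [nat_lit 14,nat_lit 6,nat_lit 1,nat_lit 4,nat_lit 2,nat_lit 1,nat_lit 1,nat_lit 1,nat_lit 5,nat_lit 0,nat_lit 0,nat_lit 0,nat_lit 5,nat_lit 2])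
) (.leaf [nat_lit 16,nat_lit 7,nat_lit 0,nat_lit 2,nat_lit 1,nat_lit 4,nat_lit 0,nat_lit 2,nat_lit 5,nat_lit 0,nat_lit 0,nat_lit 2,nat_lit 4,nat_lit 2,nat_lit 1,nat_lit 1])
)) (.node (.node (.node (.leaf [nat_lit 15,nat_lit 4,nat_lit 1,nat_lit 2,nat_lit 1,nat_lit 4,nat_lit 0,nat_lit 4,nat_lit 2,nat_lit 1,nat_lit 1,nat_lit 5,nat_lit 0,nat_lit 0,nat_lit 5])
 (.leaf [nat_lit 15,nat_lit 6,nat_lit 0,nat_lit 1,nat_lit 2,nat_lit 4,nat_lit 1,nat_lit 1,nat_lit 4,nat_lit 0,nat_lit 0,nat_lit 2,nat_lit 5,nat_lit 1,nat_lit 5])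
) (.leaf [nat_lit 15,nat_lit 0,nat_lit 0,nat_lit 1,nat_lit 0,nat_lit 2,nat_lit 5,nat_lit 1,nat_lit 5,nat_lit 0,nat_lit 2,nat_lit 4,nat_lit 1,nat_lit 1,nat_lit 4])
) (.node (.leaf [nat_lit 16,nat_lit 2,nat_lit 1,nat_lit 0,nat_lit 5,nat_lit 0,nat_lit 2,nat_lit 0,nat_lit 0,nat_lit 2,nat_lit 5,nat_lit 2,nat_lit 1,nat_lit 1,nat_lit 4,nat_lit 2])
 (.leaf [nat_lit 13,nat_lit 7,nat_lit 1,nat_lit 0,nat_lit 2,nat_lit 0,nat_lit 4,nat_lit 1,nat_lit 2,nat_lit 0,nat_lit 5])
))))) (.node (.node (.node (.node (.node (.node (.leaf [nat_lit 11,nat_lit 1,nat_lit 0,nat_lit 5,nat_lit 4,nat_lit 4])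
 (.leaf [nat_lit 4,nat_lit 10,nat_lit 0,nat_lit 2,nat_lit 1,nat_lit 2,nat_lit 0,nat_lit 2,nat_lit 1,nat_lit 2,nat_lit 0,nat_lit 0,nat_lit 2,nat_lit 1,nat_lit 1,nat_lit 2,nat_lit 0,nat_lit 2,nat_lit 1,nat_lit 1])
) (.leaf [nat_lit 15,nat_lit 9,nat_lit 0,nat_lit 0,nat_lit 1,nat_lit 4,nat_lit 0,nat_lit 0,nat_lit 2,nat_lit 5,nat_lit 1,nat_lit 5,nat_lit 0,nat_lit 2,nat_lit 4])
) (.node (.node (.leaf [nat_lit 16,nat_lit 12,nat_lit 1,nat_lit 0,nat_lit 4,nat_lit 2,nat_lit 1,nat_lit 5,nat_lit 0,nat_lit 2,nat_lit 0,nat_lit 0,nat_lit 2,nat_lit 5,nat_lit 2,nat_lit 1])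
 (.leaf [nat_lit 16,nat_lit 10,nat_lit 1,nat_lit 2,nat_lit 1,nat_lit 1,nat_lit 4,nat_lit 2,nat_lit 1,nat_lit 5,nat_lit 0,nat_lit 2,nat_lit 0,nat_lit 0,nat_lit 2,nat_lit 5])
) (.leaf [nat_lit 6,nat_lit 19,nat_lit 0,nat_lit 0,nat_lit 2,nat_lit 0,nat_lit 0,nat_lit 0,nat_lit 2,nat_lit 0,nat_lit 2,nat_lit 1,nat_lit 1,nat_lit 2,nat_lit 0,nat_lit 0,nat_lit 0,nat_lit 2,nat_lit 1,nat_lit 2,nat_lit 0,nat_lit 2,nat_lit 1,nat_lit 1])
)) (.node (.node (.node (.leaf [nat_lit 9,nat_lit 1,nat_lit 1,nat_lit 2,nat_lit 3,nat_lit 2,nat_lit 3])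
 (.leaf [nat_lit 16,nat_lit 5,nat_lit 1,nat_lit 2,nat_lit 0,nat_lit 0,nat_lit 2,nat_lit 5,nat_lit 2,nat_lit 1,nat_lit 1,nat_lit 4,nat_lit 2,nat_lit 1,nat_lit 5,nat_lit 0])
) (.leaf [nat_lit 6,nat_lit 16,nat_lit 1,nat_lit 0,nat_lit 2,nat_lit 1,nat_lit 1,nat_lit 1,nat_lit 2,nat_lit 0,nat_lit 0,nat_lit 0,nat_lit 2,nat_lit 1,nat_lit 2,nat_lit 0,nat_lit 2,nat_lit 1,nat_lit 1,nat_lit 1,nat_lit 2,nat_lit 0,nat_lit 0,nat_lit 2])
) (.node (.node (.leaf [nat_lit 13,nat_lit 3,nat_lit 1,nat_lit 0,nat_lit 2,nat_lit 0,nat_lit 5,nat_lit 1,nat_lit 2,nat_lit 0,nat_lit 4])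
 (.leaf [nat_lit 14,nat_lit 6,nat_lit 0,nat_lit 5,nat_lit 1,nat_lit 1,nat_lit 1,nat_lit 4,nat_lit 0,nat_lit 0,nat_lit 0,nat_lit 2,nat_lit 4,nat_lit 2])
) (.leaf [nat_lit 15,nat_lit 10,nat_lit 0,nat_lit 0,nat_lit 4,nat_lit 0,nat_lit 0,nat_lit 2,nat_lit 5,nat_lit 1,nat_lit 5,nat_lit 0,nat_lit 2,nat_lit 4,nat_lit 1])
))) (.node (.node (.node (.node (.leaf [nat_lit 9,nat_lit 2,nat_lit 1,nat_lit 3,nat_lit 2,nat_lit 3,nat_lit 2])
 (.leaf [nat_lit 14,nat_lit 1,nat_lit 1,nat_lit 1,nat_lit 0,nat_lit 0,nat_lit 5,nat_lit 2,nat_lit 5,nat_lit 2,nat_lit 1,nat_lit 1,nat_lit 1,nat_lit 5])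
) (.leaf [nat_lit 12,nat_lit 1,nat_lit 0,nat_lit 5,nat_lit 3,nat_lit 4,nat_lit 3])
) (.node (.node (.leaf [nat_lit 14,nat_lit 0,nat_lit 1,nat_lit 4,nat_lit 0,nat_lit 0,nat_lit 0,nat_lit 5,nat_lit 2,nat_lit 5,nat_lit 2,nat_lit 1,nat_lit 1,nat_lit 1])
 (.leaf [nat_lit 4,nat_lit 13,nat_lit 0,nat_lit 1,nat_lit 2,nat_lit 1,nat_lit 2,nat_lit 0,nat_lit 0,nat_lit 2,nat_lit 1,nat_lit 1,nat_lit 2,nat_lit 0,nat_lit 2,nat_lit 1,nat_lit 1,nat_lit 2,nat_lit 1,nat_lit 2])
) (.leaf [nat_lit 14,nat_lit 0,nat_lit 0,nat_lit 1,nat_lit 0,nat_lit 0,nat_lit 2,nat_lit 4,nat_lit 2,nat_lit 4,nat_lit 1,nat_lit 1,nat_lit 1,nat_lit 4])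
)) (.node (.node (.node (.leaf [nat_lit 12,nat_lit 1,nat_lit 1,nat_lit 3,nat_lit 5,nat_lit 3,nat_lit 5])
 (.leaf [nat_lit 4,nat_lit 6,nat_lit 1,nat_lit 2,nat_lit 0,nat_lit 0,nat_lit 2,nat_lit 1,nat_lit 2,nat_lit 0,nat_lit 0,nat_lit 2,nat_lit 1,nat_lit 1,nat_lit 2,nat_lit 0,nat_lit 2,nat_lit 1,nat_lit 2,nat_lit 0])
) (.leaf [nat_lit 16,nat_lit 9,nat_lit 0,nat_lit 5,nat_lit 0,nat_lit 2,nat_lit 5,nat_lit 0,nat_lit 0,nat_lit 2,nat_lit 4,nat_lit 2,nat_lit 1,nat_lit 1,nat_lit 2,nat_lit 1])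
) (.node (.node (.leaf [nat_lit 16,nat_lit 3,nat_lit 0,nat_lit 5,nat_lit 2,nat_lit 1,nat_lit 1,nat_lit 2,nat_lit 1,nat_lit 4,nat_lit 0,nat_lit 2,nat_lit 5,nat_lit 0,nat_lit 0,nat_lit 2])
 (.leaf [nat_lit 15,nat_lit 2,nat_lit 0,nat_lit 2,nat_lit 5,nat_lit 1,nat_lit 5,nat_lit 0,nat_lit 2,nat_lit 4,nat_lit 1,nat_lit 1,nat_lit 4,nat_lit 0,nat_lit 0])
) (.leaf [nat_lit 2,nat_lit 0,nat_lit 1,nat_lit 0,nat_lit 1,nat_lit 1,nat_lit 1,nat_lit 1,nat_lit 1,nat_lit 1,nat_lit 1,nat_lit 1,nat_lit 1,nat_lit 1])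
)))) (.node (.node (.node (.node (.node (.leaf [nat_lit 8,nat_lit 2,nat_lit 1,nat_lit 3,nat_lit 1,nat_lit 3,nat_lit 0])
 (.leaf [nat_lit 5,nat_lit 3,nat_lit 1,nat_lit 2,nat_lit 1,nat_lit 1,nat_lit 2,nat_lit 1,nat_lit 1,nat_lit 2,nat_lit 1,nat_lit 1,nat_lit 2,nat_lit 1,nat_lit 1,nat_lit 2,nat_lit 1,nat_lit 1,nat_lit 2,nat_lit 1,nat_lit 1])
) (.leaf [nat_lit 6,nat_lit 12,nat_lit 1,nat_lit 2,nat_lit 0,nat_lit 0,nat_lit 2,nat_lit 1,nat_lit 2,nat_lit 1,nat_lit 1,nat_lit 1,nat_lit 2,nat_lit 0,nat_lit 0,nat_lit 0,nat_lit 2,nat_lit 1,nat_lit 2,nat_lit 0,nat_lit 2,nat_lit 1,nat_lit 1,nat_lit 1])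
) (.node (.node (.leaf [nat_lit 15,nat_lit 9,nat_lit 1,nat_lit 2,nat_lit 1,nat_lit 1,nat_lit 5,nat_lit 0,nat_lit 0,nat_lit 5,nat_lit 2,nat_lit 1,nat_lit 4,nat_lit 0,nat_lit 4])
 (.leaf [nat_lit 13,nat_lit 6,nat_lit 1,nat_lit 4,nat_lit 1,nat_lit 2,nat_lit 0,nat_lit 4,nat_lit 1,nat_lit 2,nat_lit 0])
) (.leaf [nat_lit 2,nat_lit 8,nat_lit 0,nat_lit 1,nat_lit 0,nat_lit 0,nat_lit 0,nat_lit 0,nat_lit 0,nat_lit 0,nat_lit 0,nat_lit 0,nat_lit 0,nat_lit 0])
)) (.node (.node (.node (.leaf [nat_lit 14,nat_lit 7,nat_lit 0,nat_lit 0,nat_lit 1,nat_lit 1,nat_lit 4,nat_lit 0,nat_lit 0,nat_lit 0,nat_lit 2,nat_lit 4,nat_lit 2,nat_lit 4])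
 (.leaf [nat_lit 15,nat_lit 2,nat_lit 1,nat_lit 1,nat_lit 5,nat_lit 2,nat_lit 1,nat_lit 4,nat_lit 0,nat_lit 4,nat_lit 2,nat_lit 1,nat_lit 1,nat_lit 5,nat_lit 0])
) (.leaf [nat_lit 6,nat_lit 12,nat_lit 0,nat_lit 2,nat_lit 1,nat_lit 2,nat_lit 0,nat_lit 2,nat_lit 1,nat_lit 1,nat_lit 1,nat_lit 2,nat_lit 0,nat_lit 0,nat_lit 0,nat_lit 2,nat_lit 0,nat_lit 2,nat_lit 1,nat_lit 1,nat_lit 2,nat_lit 0,nat_lit 0,nat_lit 0])
) (.node (.node (.leaf [nat_lit 13,nat_lit 5,nat_lit 1,nat_lit 1,nat_lit 5,nat_lit 1,nat_lit 2,nat_lit 0,nat_lit 4,nat_lit 1,nat_lit 2])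
 (.leaf [nat_lit 15,nat_lit 6,nat_lit 1,nat_lit 5,nat_lit 0,nat_lit 4,nat_lit 2,nat_lit 1,nat_lit 1,nat_lit 5,nat_lit 0,nat_lit 0,nat_lit 5,nat_lit 2,nat_lit 1])
) (.leaf [nat_lit 6,nat_lit 7,nat_lit 1,nat_lit 1,nat_lit 2,nat_lit 1,nat_lit 1,nat_lit 1,nat_lit 2,nat_lit 0,nat_lit 0,nat_lit 2,nat_lit 1,nat_lit 2,nat_lit 1,nat_lit 1,nat_lit 1,nat_lit 2,nat_lit 0,nat_lit 0,nat_lit 0,nat_lit 2,nat_lit 1,nat_lit 2])
))) (.node (.node (.node (.node (.leaf [nat_lit 8,nat_lit 1,nat_lit 1,nat_lit 1,nat_lit 3,nat_lit 1,nat_lit 3])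
 (.leaf [nat_lit 15,nat_lit 4,nat_lit 0,nat_lit 0,nat_lit 5,nat_lit 0,nat_lit 2,nat_lit 4,nat_lit 1,nat_lit 1,nat_lit 4,nat_lit 0,nat_lit 0,nat_lit 2,nat_lit 5])
) (.leaf [nat_lit 13,nat_lit 0,nat_lit 1,nat_lit 2,nat_lit 0,nat_lit 4,nat_lit 1,nat_lit 2,nat_lit 0,nat_lit 5,nat_lit 1])
) (.node (.node (.leaf [nat_lit 15,nat_lit 11,nat_lit 1,nat_lit 0,nat_lit 5,nat_lit 0,nat_lit 0,nat_lit 5,nat_lit 2,nat_lit 1,nat_lit 4,nat_lit 0,nat_lit 4,nat_lit 2,nat_lit 1])
 (.leaf [nat_lit 14,nat_lit 2,nat_lit 0,nat_lit 1,nat_lit 2,nat_lit 4,nat_lit 2,nat_lit 4,nat_lit 1,nat_lit 1,nat_lit 1,nat_lit 4,nat_lit 0,nat_lit 0])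
) (.leaf [nat_lit 16,nat_lit 10,nat_lit 0,nat_lit 1,nat_lit 2,nat_lit 5,nat_lit 0,nat_lit 0,nat_lit 2,nat_lit 4,nat_lit 2,nat_lit 1,nat_lit 1,nat_lit 2,nat_lit 1,nat_lit 4])
)) (.node (.node (.node (.leaf [nat_lit 14,nat_lit 9,nat_lit 0,nat_lit 0,nat_lit 4,nat_lit 0,nat_lit 0,nat_lit 0,nat_lit 2,nat_lit 4,nat_lit 2,nat_lit 4,nat_lit 1,nat_lit 1])
 (.leaf [nat_lit 14,nat_lit 8,nat_lit 1,nat_lit 0,nat_lit 1,nat_lit 1,nat_lit 5,nat_lit 0,nat_lit 0,nat_lit 0,nat_lit 5,nat_lit 2,nat_lit 5,nat_lit 2])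
) (.leaf [nat_lit 14,nat_lit 3,nat_lit 1,nat_lit 1,nat_lit 5,nat_lit 2,nat_lit 5,nat_lit 2,nat_lit 1,nat_lit 1,nat_lit 1,nat_lit 5,nat_lit 0,nat_lit 0])
) (.node (.leaf [nat_lit 16,nat_lit 1,nat_lit 1,nat_lit 2,nat_lit 1,nat_lit 5,nat_lit 0,nat_lit 2,nat_lit 0,nat_lit 0,nat_lit 2,nat_lit 5,nat_lit 2,nat_lit 1,nat_lit 1,nat_lit 4])
 (.leaf [nat_lit 4,nat_lit 14,nat_lit 1,nat_lit 2,nat_lit 1,nat_lit 1,nat_lit 2,nat_lit 0,nat_lit 2,nat_lit 1,nat_lit 2,nat_lit 0,nat_lit 2,nat_lit 0,nat_lit 0,nat_lit 2,nat_lit 1,nat_lit 2,nat_lit 0,nat_lit 0])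
))))))

noncomputable def c3b_U_subs : LT :=
(.leaf [nat_lit 0,nat_lit 0,nat_lit 0,nat_lit 6])


noncomputable def c3b_U : TC :=
  ⟨fun x c => Nat.shiftRight (BT.get c3b_U_t x) (Nat.mul (nat_lit 29) c),
  (nat_lit 8), (nat_lit 255), (nat_lit 524287), (nat_lit 19), (nat_lit 1023), (nat_lit 524032), (nat_lit 243), (nat_lit 243), (nat_lit 6), (nat_lit 4), (nat_lit 6), (nat_lit 7), c3b_inv, c3b_U_rules, c3b_U_subs⟩

noncomputable def c3b_A9 : LA :=
  ⟨(nat_lit 9), (nat_lit 0x1fc3f87f0fe1fc3f87f), (nat_lit 127), (nat_lit 6), (nat_lit 0), BT.get (.node (.node (.node (.leaf (nat_lit 0))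
 (.leaf (nat_lit 0x1000000))
) (.leaf (nat_lit 0))
) (.node (.node (.leaf (nat_lit 0))
 (.leaf (nat_lit 0x1400008))
) (.leaf (nat_lit 0))
)), BT.get (.leaf (nat_lit 0)), BT.get (.leaf (nat_lit 0)),
(.node (.node (.node (.leaf [])
 (.leaf [nat_lit 458754])
) (.node (.leaf [])
 (.leaf [nat_lit 524290,nat_lit 262147,nat_lit 524293])
)) (.node (.node (.leaf [nat_lit 327680])
 (.leaf [nat_lit 458754,nat_lit 196611,nat_lit 458757])
) (.leaf [nat_lit 327681])
)),
(.leaf [])⟩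

theorem co3_b : co3_C.base = true := by decide +kernel

theorem co3_s0 : co3_C.slots (nat_lit 0) (nat_lit 171) = true := by decide +kernel

theorem co3_U_c1 : co3_U.rules.all (ruleOK co3_U.m co3_U.inv co3_rels) = true := by decide +kernel
theorem co3_U_c2 : co3_U.subs.all (subOK co3_U.m co3_U.inv (LT.leaf [])) = true := by decide +kernel
theorem co3_U_c3 : co3_U.base = true := by decide +kernel

theorem co3_U_s0 : co3_U.slots (nat_lit 0) (nat_lit 552) = true := by decide +kernel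

theorem co3_U_c6 : co3_U.rules.all (fun l => goodB (nat_lit 22) (nat_lit 26) co3_U.mH co3_rels (hdL l)) = true := by decide +kernel

theorem co3_A4_ok : co3_A4.ok co3_C = true := by decide +kernel

theorem co3_A5_ok : co3_A5.ok co3_C = true := by decide +kernel

theorem c3a_b : c3a_C.base = true := by decide +kernel

theorem c3a_s0 : c3a_C.slots (nat_lit 0) (nat_lit 2) = true := by decide +kernel

theorem c3a_U_c1 : c3a_U.rules.all (ruleOK c3a_U.m c3a_U.inv c3a_rels) = true := by decide +kernel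
theorem c3a_U_c2 : c3a_U.subs.all (subOK c3a_U.m c3a_U.inv (LT.leaf [])) = true := by decide +kernel
theorem c3a_U_c3 : c3a_U.base = true := by decide +kernel

theorem c3a_U_s0 : c3a_U.slots (nat_lit 0) (nat_lit 2) = true := by decide +kernel

theorem c3a_U_c6 : c3a_U.rules.all (fun l => goodB (nat_lit 7) (nat_lit 3) c3a_U.mH c3a_rels (hdL l)) = true := by decide +kernel

theorem c3a_A9_ok : c3a_A9.ok c3a_C = true := by decide +kernel

theorem c3b_b : c3b_C.base = true := by decide +kernel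

theorem c3b_s0 : c3b_C.slots (nat_lit 0) (nat_lit 40) = true := by decide +kernel

theorem c3b_U_c1 : c3b_U.rules.all (ruleOK c3b_U.m c3b_U.inv c3b_rels) = true := by decide +kernel
theorem c3b_U_c2 : c3b_U.subs.all (subOK c3b_U.m c3b_U.inv (LT.leaf [])) = true := by decide +kernel
theorem c3b_U_c3 : c3b_U.base = true := by decide +kernel

theorem c3b_U_s0 : c3b_U.slots (nat_lit 0) (nat_lit 243) = true := by decide +kernel

theorem c3b_U_c6 : c3b_U.rules.all (fun l => goodB (nat_lit 10) (nat_lit 7) c3b_U.mH c3b_rels (hdL l)) = true := by decide +kernel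

theorem c3b_A9_ok : c3b_A9.ok c3b_C = true := by decide +kernel

theorem co3_up : co3_C.Upto co3_C.T.N := ((LC.upto_zero co3_C).step _ co3_s0)

theorem co3_U_c4 : co3_U.Upto co3_U.N := ((TC.upto_zero co3_U).step _ co3_U_s0)
theorem co3_U_c5 : co3_U.UptoE co3_U.N := (TC.uptoE_n co3_U)

theorem co3_idx : Idx.{u} co3_rels (nat_lit 22) (nat_lit 26) co3_inv (nat_lit 4) (nat_lit 5) (nat_lit 552) :=
  idx_of_tc co3_U_c1 co3_U_c2 co3_U_c3 co3_U_c4 co3_U_c5 co3_U_c6

theorem co3_low {G : Type u} [Group G] {g : ℕ → G} (h : ∀ i, evalW g (co3_rels.get i) = 1) : ∀ i, evalW g (mcl_rels.get i) = 1 :=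
  rels_of_sub (by decide +kernel) h

theorem co3_bnd {G : Type u} [Group G] {g : ℕ → G} (h : ∀ i, evalW g (co3_rels.get i) = 1) : Bnd g 5 495766656000 :=
  Bnd.step (C := co3_C) h (mcl_bnd (co3_low h)) co3_b co3_idx

theorem co3_l4 {G : Type u} [Group G] {g : ℕ → G} (h : ∀ i, evalW g (co3_rels.get i) = 1) : Lifts 4 g 5 495766656000 :=
  Lifts.step (C := co3_C) (L := co3_A4) h (mcl_l4 (co3_low h)) co3_b co3_up co3_A4_ok co3_idx (by decide +kernel)

theorem co3_l5 {G : Type u} [Group G] {g : ℕ → G} (h : ∀ i, evalW g (co3_rels.get i) = 1) : Lifts 5 g 5 495766656000 :=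
  Lifts.step (C := co3_C) (L := co3_A5) h (mcl_l5 (co3_low h)) co3_b co3_up co3_A5_ok co3_idx (by decide +kernel)

theorem c3a_up : c3a_C.Upto c3a_C.T.N := ((LC.upto_zero c3a_C).step _ c3a_s0)

theorem c3a_U_c4 : c3a_U.Upto c3a_U.N := ((TC.upto_zero c3a_U).step _ c3a_U_s0)
theorem c3a_U_c5 : c3a_U.UptoE c3a_U.N := (TC.uptoE_n c3a_U)

theorem c3a_idx : Idx.{u} c3a_rels (nat_lit 7) (nat_lit 3) c3a_inv (nat_lit 3) (nat_lit 4) (nat_lit 2) :=
  idx_of_tc c3a_U_c1 c3a_U_c2 c3a_U_c3 c3a_U_c4 c3a_U_c5 c3a_U_c6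

theorem c3a_low {G : Type u} [Group G] {g : ℕ → G} (h : ∀ i, evalW g (c3a_rels.get i) = 1) : ∀ i, evalW g (m11_rels.get i) = 1 :=
  rels_of_sub (by decide +kernel) h

theorem c3a_bnd {G : Type u} [Group G] {g : ℕ → G} (h : ∀ i, evalW g (c3a_rels.get i) = 1) : Bnd g 4 15840 :=
  Bnd.step (C := c3a_C) h (m11_bnd (c3a_low h)) c3a_b c3a_idx

theorem c3a_l9 {G : Type u} [Group G] {g : ℕ → G} (h : ∀ i, evalW g (c3a_rels.get i) = 1) : Lifts 9 g 4 15840 :=
  Lifts.step (C := c3a_C) (L := c3a_A9) h (m11_l9 (c3a_low h)) c3a_b c3a_up c3a_A9_ok c3a_idx (by decide +kernel)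

theorem c3b_up : c3b_C.Upto c3b_C.T.N := ((LC.upto_zero c3b_C).step _ c3b_s0)

theorem c3b_U_c4 : c3b_U.Upto c3b_U.N := ((TC.upto_zero c3b_U).step _ c3b_U_s0)
theorem c3b_U_c5 : c3b_U.UptoE c3b_U.N := (TC.uptoE_n c3b_U)

theorem c3b_idx : Idx.{u} c3b_rels (nat_lit 10) (nat_lit 7) c3b_inv (nat_lit 4) (nat_lit 6) (nat_lit 243) :=
  idx_of_tc c3b_U_c1 c3b_U_c2 c3b_U_c3 c3b_U_c4 c3b_U_c5 c3b_U_c6

theorem c3b_low {G : Type u} [Group G] {g : ℕ → G} (h : ∀ i, evalW g (c3b_rels.get i) = 1) : ∀ i, evalW g (c3a_rels.get i) = 1 :=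
  rels_of_sub (by decide +kernel) h

theorem c3b_bnd {G : Type u} [Group G] {g : ℕ → G} (h : ∀ i, evalW g (c3b_rels.get i) = 1) : Bnd g 6 3849120 :=
  Bnd.step (C := c3b_C) h (c3a_bnd (c3b_low h)) c3b_b c3b_idx

theorem c3b_l9 {G : Type u} [Group G] {g : ℕ → G} (h : ∀ i, evalW g (c3b_rels.get i) = 1) : Lifts 9 g 6 3849120 :=
  Lifts.step (C := c3b_C) (L := c3b_A9) h (c3a_l9 (c3b_low h)) c3b_b c3b_up c3b_A9_ok c3b_idx (by decide +kernel)


end Cfsg.Agent.Spor.MX
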