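import Mathlib
import Cfsg.Agent.Spor.MX.Co3
import Cfsg.Agent.Spor.MX.Glue4
import Cfsg.Agent.Spor.MX.LeechM

/-! Generated by tools/mx: letters in Co3 -/

set_option autoImplicit false
set_option maxRecDepth 100000
set_option linter.unusedVariables false
set_option exponentiation.threshold 100000

namespace Cfsg.Agent.Spor.MX

open Cfsg.Agent.Spor

universe u

noncomputable def co3_ws : LT :=
(.node (.node (.node (.leaf [nat_lit 7,nat_lit 11,nat_lit 7,nat_lit 10,nat_lit 9,nat_lit 3,nat_lit 2,nat_lit 8,nat_lit 3,nat_lit 1,nat_lit 1,nat_lit 6,nat_lit 0,nat_lit 4,nat_lit 1,nat_lit 1,nat_lit 0,nat_lit 3,nat_lit 1,nat_lit 1])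
 (.leaf [nat_lit 10,nat_lit 8,nat_lit 11,nat_lit 0,nat_lit 7,nat_lit 9,nat_lit 1,nat_lit 4,nat_lit 6,nat_lit 4,nat_lit 2,nat_lit 4,nat_lit 1,nat_lit 0,nat_lit 3,nat_lit 1,nat_lit 1,nat_lit 0,nat_lit 1])
) (.leaf [nat_lit 14,nat_lit 9,nat_lit 13,nat_lit 1,nat_lit 8,nat_lit 1,nat_lit 6,nat_lit 5,nat_lit 0,nat_lit 1,nat_lit 0,nat_lit 3,nat_lit 0,nat_lit 1,nat_lit 0,nat_lit 2])
) (.node (.leaf [nat_lit 10,nat_lit 2,nat_lit 4,nat_lit 10,nat_lit 6,nat_lit 9,nat_lit 7,nat_lit 7,nat_lit 3,nat_lit 6,nat_lit 4,nat_lit 2,nat_lit 4,nat_lit 1,nat_lit 0,nat_lit 1,nat_lit 3,nat_lit 0,nat_lit 2,nat_lit 0,nat_lit 1])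
 (.leaf [nat_lit 8,nat_lit 11,nat_lit 3,nat_lit 10,nat_lit 9,nat_lit 6,nat_lit 0,nat_lit 8,nat_lit 7,nat_lit 0,nat_lit 6,nat_lit 0,nat_lit 5,nat_lit 5,nat_lit 2,nat_lit 0,nat_lit 3,nat_lit 1,nat_lit 0,nat_lit 2,nat_lit 0,nat_lit 1])
))

noncomputable def co3_back : LT :=
(.node (.node (.node (.node (.leaf [nat_lit 1,nat_lit 1,nat_lit 2,nat_lit 1,nat_lit 2,nat_lit 0,nat_lit 2,nat_lit 0,nat_lit 0,nat_lit 0,nat_lit 2,nat_lit 1,nat_lit 1,nat_lit 2,nat_lit 0,nat_lit 0,nat_lit 0,nat_lit 2,nat_lit 0,nat_lit 0,nat_lit 3,nat_lit 1,nat_lit 2,nat_lit 1,nat_lit 2,nat_lit 0,nat_lit 4,nat_lit 0,nat_lit 2,nat_lit 1,nat_lit 2,nat_lit 1,nat_lit 2])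
 (.leaf [nat_lit 0,nat_lit 0,nat_lit 0,nat_lit 2,nat_lit 0,nat_lit 2,nat_lit 0,nat_lit 0,nat_lit 2,nat_lit 1,nat_lit 1,nat_lit 2,nat_lit 1,nat_lit 1,nat_lit 1,nat_lit 2,nat_lit 1,nat_lit 2,nat_lit 0,nat_lit 3,nat_lit 0,nat_lit 0,nat_lit 3,nat_lit 0,nat_lit 3,nat_lit 2,nat_lit 0,nat_lit 3,nat_lit 4,nat_lit 0,nat_lit 3,nat_lit 0,nat_lit 3])
) (.node (.leaf [nat_lit 1,nat_lit 1,nat_lit 2,nat_lit 0,nat_lit 0,nat_lit 2,nat_lit 0,nat_lit 0,nat_lit 2,nat_lit 0,nat_lit 2,nat_lit 0,nat_lit 0,nat_lit 2,nat_lit 1,nat_lit 2,nat_lit 0,nat_lit 2,nat_lit 0,nat_lit 3,nat_lit 2,nat_lit 3,nat_lit 0,nat_lit 0,nat_lit 0,nat_lit 2,nat_lit 3,nat_lit 2,nat_lit 0,nat_lit 4,nat_lit 1,nat_lit 1,nat_lit 3,nat_lit 2,nat_lit 3])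
 (.leaf [nat_lit 0,nat_lit 2,nat_lit 0,nat_lit 0,nat_lit 0,nat_lit 2,nat_lit 1,nat_lit 2,nat_lit 1,nat_lit 1,nat_lit 1,nat_lit 2,nat_lit 1,nat_lit 2,nat_lit 3,nat_lit 0,nat_lit 2,nat_lit 1,nat_lit 2,nat_lit 1,nat_lit 3,nat_lit 1,nat_lit 4,nat_lit 0,nat_lit 2,nat_lit 1,nat_lit 2,nat_lit 1])
)) (.node (.node (.leaf [nat_lit 0,nat_lit 0,nat_lit 2,nat_lit 0,nat_lit 2,nat_lit 1,nat_lit 2,nat_lit 0,nat_lit 2,nat_lit 1,nat_lit 1,nat_lit 1,nat_lit 2,nat_lit 1,nat_lit 1,nat_lit 3,nat_lit 0,nat_lit 3,nat_lit 1,nat_lit 2,nat_lit 3,nat_lit 2,nat_lit 3,nat_lit 1,nat_lit 4,nat_lit 3,nat_lit 2,nat_lit 3,nat_lit 4])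
 (.leaf [nat_lit 2,nat_lit 0,nat_lit 0,nat_lit 2,nat_lit 1,nat_lit 1,nat_lit 2,nat_lit 1,nat_lit 2,nat_lit 1,nat_lit 2,nat_lit 0,nat_lit 0,nat_lit 0,nat_lit 2,nat_lit 0,nat_lit 0,nat_lit 0,nat_lit 3,nat_lit 1,nat_lit 3,nat_lit 1,nat_lit 1,nat_lit 1,nat_lit 3,nat_lit 0,nat_lit 3,nat_lit 2,nat_lit 4,nat_lit 1,nat_lit 1,nat_lit 1,nat_lit 2,nat_lit 4,nat_lit 3])
) (.node (.leaf [nat_lit 1,nat_lit 1,nat_lit 1,nat_lit 2,nat_lit 0,nat_lit 0,nat_lit 2,nat_lit 0,nat_lit 2,nat_lit 0,nat_lit 2,nat_lit 1,nat_lit 2,nat_lit 0,nat_lit 2,nat_lit 0,nat_lit 0,nat_lit 3,nat_lit 2,nat_lit 1,nat_lit 1,nat_lit 2,nat_lit 3,nat_lit 1,nat_lit 4,nat_lit 0,nat_lit 0,nat_lit 4,nat_lit 0,nat_lit 2,nat_lit 4])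
 (.leaf [nat_lit 1,nat_lit 1,nat_lit 2,nat_lit 0,nat_lit 2,nat_lit 0,nat_lit 0,nat_lit 0,nat_lit 2,nat_lit 0,nat_lit 0,nat_lit 2,nat_lit 1,nat_lit 2,nat_lit 0,nat_lit 0,nat_lit 2,nat_lit 3,nat_lit 0,nat_lit 0,nat_lit 0,nat_lit 3,nat_lit 1,nat_lit 1,nat_lit 2,nat_lit 4,nat_lit 1,nat_lit 2,nat_lit 0,nat_lit 2,nat_lit 4,nat_lit 1])
))) (.node (.node (.node (.leaf [nat_lit 1,nat_lit 1,nat_lit 2,nat_lit 0,nat_lit 2,nat_lit 1,nat_lit 1,nat_lit 2,nat_lit 1,nat_lit 1,nat_lit 2,nat_lit 1,nat_lit 2,nat_lit 1,nat_lit 2,nat_lit 0,nat_lit 2,nat_lit 0,nat_lit 0,nat_lit 2,nat_lit 3,nat_lit 1,nat_lit 3,nat_lit 2,nat_lit 0,nat_lit 0,nat_lit 0,nat_lit 3,nat_lit 0,nat_lit 4,nat_lit 0,nat_lit 2,nat_lit 0,nat_lit 4,nat_lit 3])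
 (.leaf [nat_lit 0,nat_lit 2,nat_lit 1,nat_lit 2,nat_lit 1,nat_lit 2,nat_lit 1,nat_lit 2,nat_lit 0,nat_lit 0,nat_lit 2,nat_lit 1,nat_lit 2,nat_lit 0,nat_lit 2,nat_lit 0,nat_lit 3,nat_lit 1,nat_lit 3,nat_lit 2,nat_lit 1,nat_lit 3,nat_lit 2,nat_lit 4,nat_lit 3,nat_lit 0,nat_lit 3,nat_lit 1,nat_lit 1])
) (.node (.leaf [nat_lit 1,nat_lit 1,nat_lit 2,nat_lit 1,nat_lit 2,nat_lit 1,nat_lit 2,nat_lit 1,nat_lit 2,nat_lit 0,nat_lit 0,nat_lit 2,nat_lit 0,nat_lit 0,nat_lit 0,nat_lit 2,nat_lit 0,nat_lit 2,nat_lit 3,nat_lit 1,nat_lit 1,nat_lit 3,nat_lit 1,nat_lit 2,nat_lit 3,nat_lit 2,nat_lit 3,nat_lit 1,nat_lit 2,nat_lit 4,nat_lit 0,nat_lit 2,nat_lit 0,nat_lit 4,nat_lit 3])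
 (.leaf [nat_lit 1,nat_lit 1,nat_lit 1,nat_lit 2,nat_lit 1,nat_lit 1,nat_lit 2,nat_lit 1,nat_lit 1,nat_lit 2,nat_lit 1,nat_lit 2,nat_lit 0,nat_lit 2,nat_lit 1,nat_lit 1,nat_lit 2,nat_lit 3,nat_lit 1,nat_lit 2,nat_lit 3,nat_lit 0,nat_lit 3,nat_lit 1,nat_lit 4,nat_lit 3,nat_lit 0,nat_lit 2])
)) (.node (.node (.leaf [nat_lit 1,nat_lit 1,nat_lit 1,nat_lit 2,nat_lit 1,nat_lit 2,nat_lit 1,nat_lit 2,nat_lit 1,nat_lit 1,nat_lit 2,nat_lit 1,nat_lit 2,nat_lit 0,nat_lit 2,nat_lit 3,nat_lit 0,nat_lit 0,nat_lit 0,nat_lit 2,nat_lit 0,nat_lit 0,nat_lit 2])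
 (.leaf [nat_lit 1,nat_lit 1,nat_lit 1,nat_lit 2,nat_lit 0,nat_lit 2,nat_lit 1,nat_lit 1,nat_lit 1,nat_lit 2,nat_lit 1,nat_lit 2,nat_lit 0,nat_lit 2,nat_lit 1,nat_lit 2,nat_lit 1,nat_lit 1,nat_lit 2,nat_lit 3,nat_lit 1,nat_lit 2,nat_lit 0,nat_lit 3,nat_lit 0,nat_lit 0,nat_lit 3,nat_lit 0,nat_lit 3,nat_lit 4,nat_lit 1,nat_lit 2,nat_lit 0,nat_lit 2,nat_lit 4,nat_lit 1])
) (.leaf [nat_lit 0,nat_lit 0,nat_lit 0,nat_lit 2,nat_lit 0,nat_lit 0,nat_lit 0,nat_lit 2,nat_lit 0,nat_lit 2,nat_lit 1,nat_lit 1,nat_lit 2,nat_lit 0,nat_lit 0,nat_lit 2,nat_lit 0,nat_lit 2,nat_lit 0,nat_lit 0,nat_lit 2,nat_lit 3,nat_lit 0,nat_lit 2,nat_lit 0,nat_lit 3,nat_lit 1,nat_lit 3,nat_lit 2,nat_lit 0,nat_lit 4,nat_lit 0,nat_lit 3,nat_lit 2,nat_lit 4,nat_lit 1,nat_lit 3])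
)))

/-- The letters of the chain. -/
noncomputable def co3_g : ℕ → co3G := fun x => evalW co3K (co3_ws.get x)

noncomputable def co3hw_S_t0 : BT :=
(.node (.node (.node (.node (.node (.leaf (nat_lit 0x1ebe82d1ab262fe03c66ed4274ca52a474e5bb86cc0e9c3464c175cbd6ac56a86901e6c58c14891a0427cf162a142031c0899424444880e00301))
 (.leaf (nat_lit 0x1ea324d17b262953932889fae4c80fa430694996a19c3b8085b1172e8e8b505d99c36f9bc1541caac5aac5031e3868c78c04092c782052008080))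
) (.leaf (nat_lit 0x12bb7c9da196a70630790543d529189756e810d36cceb63498c324448f2d7239b872b005bf14b8f930c8d6031e2049670a90115e502052005080))
) (.node (.leaf (nat_lit 0x1f3680ed8b082add2a70fdabd7899a333ebcf2d72dd4a84e912b2248c8a15cb0e8c3868c982e1cb062889003200871b16280892a4c0051e34404))
 (.leaf (nat_lit 0x1cc176e911e567d73360f9e925a511ac7f010215ef192768198933069bb86c44b9c18d53254858a8a3aa15031e0869b32a44880e2c2052038080))
)) (.node (.node (.node (.leaf (nat_lit 0x1fbb82d9eb880e9cbc60f97b454c98b76a956ac56cd01c3e997244688ba94e786a8303089b42407942648c962a28e9a043828406184880e2c001))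
 (.leaf (nat_lit 0x1dbf6d05a337cadd375501ab16091ebc5c7cf2d72e149a4ec92a646890115eb051c3660ca82e58a9426490901e3868c3a2c4880e182840608080))
) (.leaf (nat_lit 0x202e5ed9aaa7efa0a0427cd2770a52b756e59b076445125064c1762f562d74f099c18885a33a58ab248d0f031e0869b0c504880e982052038080))
) (.node (.leaf (nat_lit 0x1b1a30fda3780b8f8b3aa1dbd54918b80e590115e299b57c9a0b2248c0892a854ba569de256030d8628884031e79639325c68e384c20520b4100))
 (.leaf (nat_lit 0xc276a6a08b50891a932955be3af1d8a7ad0994245d69f72cdd3080d9332621909c36b962f3c1cab770fd2031e3868c40444092ca82052008080))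
))) (.node (.node (.node (.node (.leaf (nat_lit 0x1fb975020b86cbd72c5aadebe6ef1daa448d0a03e7993568cd8b02a5899424454a8349d3254840788121c31c362ce98325c284060470d1828002))
 (.leaf (nat_lit 0x17b956b8c203eda02d58e891a422d41182f9c377e789b1467510a4e959bc76a931c36d0a3d0c58a9952d58101e3868c64904880e5c2840608080))
) (.leaf (nat_lit 0x129a509c9196af9d9d1660e22524d1975c7de3082286b41818d9480d90115ecd22b74f41311c1cab770fd0831e796b94cc84092ca820520b0080))
) (.node (.leaf (nat_lit 0x1dbf6d05a337ce55b75501ab16091ebc5c7d61e74e14a84ec92a644490115eb4e9b1868c982e543930c8d08f063411c16284012c502002038485))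
 (.leaf (nat_lit 0x13b47a95c976aa0d324cc4fba5279599444859d30910c05eb572c7704314462950c36fc8b6401cabc60f89901e3471c6ee04092ccc2840608080))
)) (.node (.node (.node (.leaf (nat_lit 0x1e3770cd94160b16bf80a94a67cf523b4085cba3cd9a9d32d0bb1265172f22ad40d1c2d38a4a204a24618f840a6ce023460a9602487900030383))
 (.leaf (nat_lit 0x1f3680ed8b082e55aa70fdabd7899a333ebd61e74dd4984e912b246888a15cb459c36a0c9a2e58a9426490101e3868c14744880e182840608080))
) (.leaf (nat_lit 0x15a324e8d2d726c6132889da83c28c2c3ebc68238199bf7c2e09d62d08a15c39c354b01e36601caa464f50031e5d4a76ea84092c982052064080))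
) (.node (.leaf (nat_lit 0x20b974f8b3c76fe02c5aada876620ab04449bb86c7949c4e052893ebc31446a86a83030c9b2ef58a022b89901e28e9a04392326884284062d300))
 (.leaf (nat_lit 0x11283449f9446d1e8a1661dc00ce1b134e9532462759ba82ddf2a3ebd4976ac960c36e582b781caa022b8c901e3471c5a784092c842840608080))
))))

noncomputable def co3hw_S_t : BT :=
co3hw_S_t0

noncomputable def co3hw_S : ℕ → ℕ → ℕ := fun x i => Nat.land (Nat.shiftRight (BT.get co3hw_S_t x) (Nat.mul (nat_lit 7) i)) (nat_lit 127)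

noncomputable def co3hw_defs : LT :=
(.node (.node (.node (.node (.node (.leaf [nat_lit 0])
 (.leaf [nat_lit 1,nat_lit 14])
) (.leaf [nat_lit 1,nat_lit 6])
) (.node (.leaf [nat_lit 0])
 (.leaf [nat_lit 1,nat_lit 10])
)) (.node (.node (.node (.leaf [nat_lit 0])
 (.leaf [nat_lit 0,nat_lit 13,nat_lit 17,nat_lit 13])
) (.leaf [nat_lit 0,nat_lit 6,nat_lit 7,nat_lit 6,nat_lit 7,nat_lit 6,nat_lit 6,nat_lit 6])
) (.node (.leaf [nat_lit 0,nat_lit 0,nat_lit 2,nat_lit 1,nat_lit 5,nat_lit 1])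
 (.leaf [nat_lit 0,nat_lit 9,nat_lit 12,nat_lit 11,nat_lit 12,nat_lit 11])
))) (.node (.node (.node (.node (.leaf [nat_lit 0])
 (.leaf [nat_lit 0,nat_lit 16,nat_lit 16])
) (.leaf [nat_lit 0,nat_lit 7,nat_lit 8,nat_lit 7])
) (.node (.leaf [nat_lit 0])
 (.leaf [nat_lit 0,nat_lit 11,nat_lit 12,nat_lit 9,nat_lit 9])
)) (.node (.node (.node (.leaf [nat_lit 0])
 (.leaf [nat_lit 1,nat_lit 18])
) (.leaf [nat_lit 1,nat_lit 9])
) (.node (.leaf [nat_lit 0,nat_lit 0,nat_lit 0,nat_lit 0,nat_lit 0,nat_lit 2,nat_lit 1,nat_lit 1,nat_lit 1,nat_lit 1])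
 (.leaf [nat_lit 1,nat_lit 13])
))))
noncomputable def co3hw_iota : ℕ → ℕ := getP (nat_lit 8) (nat_lit 255) (nat_lit 0x50403020100070b09100e0d0f1312)
noncomputable def co3hw_inv : ℕ → ℕ := getP (nat_lit 8) (nat_lit 255) (nat_lit 0xd0e0c0b090a080607040502030001)
noncomputable def co3hw_hws : LT := .leaf []

noncomputable def co3hw_T_t0 : BT :=
(.node (.node (.node (.node (.leaf (nat_lit 0x1dbf6d05a337cadd375501ab16091ebc5c7cf2d72e149a4ec92a646890115eb051c3660ca82e58a9426490901e3868c3a2c4880e182840608080))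
 (.leaf (nat_lit 0x20b974f8b3c76fe02c5aada876620ab04449bb86c7949c4e052893ebc31446a86a83030c9b2ef58a022b89901e28e9a04392326884284062d300))
) (.node (.leaf (nat_lit 0xc276a6a08b50891a932955be3af1d8a7ad0994245d69f72cdd3080d9332621909c36b962f3c1cab770fd2031e3868c40444092ca82052008080))
 (.leaf (nat_lit 0x1e3770cd94160b16bf80a94a67cf523b4085cba3cd9a9d32d0bb1265172f22ad40d1c2d38a4a204a24618f840a6ce023460a9602487900030383))
)) (.node (.node (.leaf (nat_lit 0x11283449f9446d1e8a1661dc00ce1b134e9532462759ba82ddf2a3ebd4976ac960c36e582b781caa022b8c901e3471c5a784092c842840608080))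
 (.leaf (nat_lit 0x1fb975020b86cbd72c5aadebe6ef1daa448d0a03e7993568cd8b02a5899424454a8349d3254840788121c31c362ce98325c284060470d1828002))
) (.node (.leaf (nat_lit 0x129a509c9196af9d9d1660e22524d1975c7de3082286b41818d9480d90115ecd22b74f41311c1cab770fd0831e796b94cc84092ca820520b0080))
 (.leaf (nat_lit 0x1dbf6d05a337ce55b75501ab16091ebc5c7d61e74e14a84ec92a644490115eb4e9b1868c982e543930c8d08f063411c16284012c502002038485))
))) (.node (.node (.node (.leaf (nat_lit 0x1f3680ed8b082e55aa70fdabd7899a333ebd61e74dd4984e912b246888a15cb459c36a0c9a2e58a9426490101e3868c14744880e182840608080))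
 (.leaf (nat_lit 0x1ebe82d1ab262fe03c66ed4274ca52a474e5bb86cc0e9c3464c175cbd6ac56a86901e6c58c14891a0427cf162a142031c0899424444880e00301))
) (.node (.leaf (nat_lit 0x1ea324d17b262953932889fae4c80fa430694996a19c3b8085b1172e8e8b505d99c36f9bc1541caac5aac5031e3868c78c04092c782052008080))
 (.leaf (nat_lit 0x1f3680ed8b082add2a70fdabd7899a333ebcf2d72dd4a84e912b2248c8a15cb0e8c3868c982e1cb062889003200871b16280892a4c0051e34404))
)) (.node (.node (.leaf (nat_lit 0x13b47a95c976aa0d324cc4fba5279599444859d30910c05eb572c7704314462950c36fc8b6401cabc60f89901e3471c6ee04092ccc2840608080))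
 (.leaf (nat_lit 0x1fbb82d9eb880e9cbc60f97b454c98b76a956ac56cd01c3e997244688ba94e786a8303089b42407942648c962a28e9a043828406184880e2c001))
) (.leaf (nat_lit 0x15a324e8d2d726c6132889da83c28c2c3ebc68238199bf7c2e09d62d08a15c39c354b01e36601caa464f50031e5d4a76ea84092c982052064080))
)))

noncomputable def co3hw_T_t : BT :=
co3hw_T_t0

noncomputable def co3hw_T : ℕ → ℕ → ℕ := fun x i => Nat.land (Nat.shiftRight (BT.get co3hw_T_t x) (Nat.mul (nat_lit 7) i)) (nat_lit 127)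

noncomputable def co3hw_E_t0 : BT :=
(.node (.node (.node (.leaf (nat_lit 0x28650ca0b43286406a1903203c088074328340c80b00686407a1943201307a1901603506818c2282400a1b41e02409a190120140381d0318340c81300e0740d81d0320530561cc358730c610c2586b0e618c2906a0e41882505100))
 (.leaf (nat_lit 0x30000000000000000000000004040000030100000000000000001818000000000000000000101b010000000000000000201800806000004028040018000000000000000000000000000004000000000000000000))
) (.leaf (nat_lit 0x306000000004066080000000080f00c0030700000180a0700100e0200000100c0030300000202c03000c0181000000001030008080000030580a0018100000101a03000805008000000010140000000040000000))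
) (.node (.node (.leaf (nat_lit 0x405000000004036060000000060ac04004050000018140200100e02000000820003000000018240400100a0300000000202800a080000040780e0020200000141a0300060d01a04408000c1c0000000102080000))
 (.leaf (nat_lit 0x10000000000000000000000000000000000000000000000000402400000000000000000000000000000))
) (.leaf (nat_lit 0x20500000000000000000000000000000000020000000000))
))

noncomputable def co3hw_E_t : BT :=
co3hw_E_t0

noncomputable def co3hw_E : ℕ → ℕ → ℕ := fun x i => Nat.land (Nat.shiftRight (BT.get co3hw_E_t x) (Nat.mul (nat_lit 11) i)) (nat_lit 2047)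

noncomputable def co3h_ws : LT :=
(.node (.node (.node (.leaf [nat_lit 8,nat_lit 13,nat_lit 11,nat_lit 6,nat_lit 2,nat_lit 0,nat_lit 8,nat_lit 3,nat_lit 0,nat_lit 6,nat_lit 2,nat_lit 5,nat_lit 5,nat_lit 1,nat_lit 0,nat_lit 3,nat_lit 2,nat_lit 0,nat_lit 2,nat_lit 0,nat_lit 1,nat_lit 0])
 (.leaf [nat_lit 9,nat_lit 3,nat_lit 9,nat_lit 2,nat_lit 3,nat_lit 6,nat_lit 5,nat_lit 1,nat_lit 1,nat_lit 0,nat_lit 3,nat_lit 1,nat_lit 0,nat_lit 2])
) (.leaf [nat_lit 2,nat_lit 0,nat_lit 14,nat_lit 6,nat_lit 4,nat_lit 8,nat_lit 1,nat_lit 7,nat_lit 1,nat_lit 6,nat_lit 3,nat_lit 1,nat_lit 0,nat_lit 1,nat_lit 3,nat_lit 2])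
) (.node (.node (.leaf [nat_lit 0,nat_lit 11,nat_lit 3,nat_lit 10,nat_lit 0,nat_lit 9,nat_lit 2,nat_lit 8,nat_lit 4,nat_lit 6,nat_lit 3,nat_lit 6,nat_lit 5,nat_lit 2,nat_lit 4,nat_lit 2,nat_lit 0,nat_lit 3,nat_lit 0,nat_lit 2,nat_lit 0,nat_lit 1,nat_lit 0])
 (.leaf [nat_lit 3,nat_lit 8,nat_lit 8,nat_lit 7,nat_lit 5,nat_lit 6,nat_lit 2,nat_lit 0,nat_lit 4,nat_lit 3,nat_lit 1,nat_lit 3,nat_lit 2,nat_lit 0,nat_lit 2])
) (.leaf [nat_lit 13,nat_lit 5,nat_lit 10,nat_lit 9,nat_lit 4,nat_lit 4,nat_lit 9,nat_lit 5,nat_lit 1,nat_lit 6,nat_lit 1,nat_lit 3,nat_lit 4,nat_lit 3,nat_lit 1,nat_lit 3,nat_lit 0])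
))

/-- The letters of the chain. -/
noncomputable def co3h_g : ℕ → co3G := fun x => evalW co3K (co3h_ws.get x)

noncomputable def co3h_PQ_t0 : BT :=
(.node (.leaf (nat_lit 0x21d9827c8967077648d71d453268542596e6817e67881464cd10cec2a1a3156193457547da5838ba7c5fa6687646c2e279a67d972089cb3d4cb41e121141f3c1612f5d159dcc4996f83105625776a46e1b00e))
 (.leaf (nat_lit 0xa000000000000000012000000002300007000000000000000000000000000000000000000000020000000001900000000000840000000000000000000000000000000000000000000000000000000000000000000000000000003000000000000a058000000000000000000000000000000000000000000000000000000000000000000000000000000000000c000001a090000a80000033000310003d0001f0004000000000000003b00000000000000000000014000000000000000000000000032000000000000000010000980000018000000203400000000000000002c00000000000003800000000000000000000000000000000000000000000000000000000000000000000000000000000000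00000000000000000000000000000000000000000000000000000000000000090000000000000000940000000074000bc00000000000000000000000000000000000000000004c00018000000000000000000000000000000000000005400000000000f000000002c000000000000000000000000000000000000000000000000000e800000000000009c00000000b80005000000000000000000000000000000000034000002200000000000000000000000000000000000000000002b000000000000000000000fc1b000000003700000000350000000000000000000000000000000f8001040000000000000c000000000000000000000000f01e0e4000000000000000020000100000000000000000000000000000000000000000000000000000000a4360e000000000000000000000000000000000044000b4000000000000000000000000000000000000000000000000001c0000000000000000000000000000170000004000000000000000000000000000000000000000000000000000000000000000000000000000000))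
)

noncomputable def co3h_PQ : ℕ → ℕ → ℕ := fun x i => Nat.land (Nat.shiftRight (BT.get co3h_PQ_t0 x) (Nat.mul (nat_lit 10) i)) (nat_lit 1023)

theorem co3_k0 : allRange (nat_lit 0) (nat_lit 15) (backB OutC.co3_T co3_ws co3_back [nat_lit 34,nat_lit 348,nat_lit 111,nat_lit 149,nat_lit 468,nat_lit 259,nat_lit 511]) = true := by decide +kernel

theorem co3_r511 : fixAll (tabW OutC.co3_T co3_ws) co3_rels (nat_lit 511) = true := by decide +kernel

theorem co3_r259 : fixAll (tabW OutC.co3_T co3_ws) co3_rels (nat_lit 259) = true := by decide +kernel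

theorem co3_r468 : fixAll (tabW OutC.co3_T co3_ws) co3_rels (nat_lit 468) = true := by decide +kernel

theorem co3_r149 : fixAll (tabW OutC.co3_T co3_ws) co3_rels (nat_lit 149) = true := by decide +kernel

theorem co3_r111 : fixAll (tabW OutC.co3_T co3_ws) co3_rels (nat_lit 111) = true := by decide +kernel

theorem co3_r348 : fixAll (tabW OutC.co3_T co3_ws) co3_rels (nat_lit 348) = true := by decide +kernel

theorem co3_r34 : fixAll (tabW OutC.co3_T co3_ws) co3_rels (nat_lit 34) = true := by decide +kernel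

theorem co3hw_slp0 : allLt (nat_lit 14) (fun i => force (Nat.add (nat_lit 6) i) (slpOK co3hw_S co3hw_defs (nat_lit 66))) = true := by decide +kernel

theorem co3hw_ren : allLt (nat_lit 15) (fun x => force (co3hw_iota x) fun y => band (blt y (nat_lit 20)) (allRange (nat_lit 0) (nat_lit 66) fun i => Nat.beq (co3hw_S y i) (co3hw_T x i))) = true := by decide +kernel

theorem co3hw_L5_o : band (allRange (nat_lit 0) (nat_lit 66) (orbOK co3hw_T (nat_lit 2) (co3hw_E (nat_lit 5)) (Nat.beq (nat_lit 10)))) (band (Nat.ble (nat_lit 3) (count2 (nat_lit 66) fun p => Nat.ble 256 (co3hw_E (nat_lit 5) p))) (allLt (nat_lit 0) (fun x => Nat.beq (co3hw_T x (nat_lit 10)) (nat_lit 10)))) = true := by decide +kernel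

theorem co3hw_L4_o : band (allRange (nat_lit 0) (nat_lit 66) (orbOK co3hw_T (nat_lit 4) (co3hw_E (nat_lit 4)) (Nat.beq (nat_lit 6)))) (band (Nat.ble (nat_lit 12) (count2 (nat_lit 66) fun p => Nat.ble 256 (co3hw_E (nat_lit 4) p))) (allLt (nat_lit 2) (fun x => Nat.beq (co3hw_T x (nat_lit 6)) (nat_lit 6)))) = true := by decide +kernel

theorem co3hw_L3_o : band (allRange (nat_lit 0) (nat_lit 66) (orbOK co3hw_T (nat_lit 6) (co3hw_E (nat_lit 3)) (Nat.beq (nat_lit 3)))) (band (Nat.ble (nat_lit 2) (count2 (nat_lit 66) fun p => Nat.ble 256 (co3hw_E (nat_lit 3) p))) (allLt (nat_lit 4) (fun x => Nat.beq (co3hw_T x (nat_lit 3)) (nat_lit 3)))) = true := by decide +kernel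

theorem co3hw_L2_o : band (allRange (nat_lit 0) (nat_lit 66) (orbOK co3hw_T (nat_lit 8) (co3hw_E (nat_lit 2)) (Nat.beq (nat_lit 2)))) (band (Nat.ble (nat_lit 27) (count2 (nat_lit 66) fun p => Nat.ble 256 (co3hw_E (nat_lit 2) p))) (allLt (nat_lit 6) (fun x => Nat.beq (co3hw_T x (nat_lit 2)) (nat_lit 2)))) = true := by decide +kernel

theorem co3hw_L1_o : band (allRange (nat_lit 0) (nat_lit 66) (orbOK co3hw_T (nat_lit 9) (co3hw_E (nat_lit 1)) (Nat.beq (nat_lit 1)))) (band (Nat.ble (nat_lit 30) (count2 (nat_lit 66) fun p => Nat.ble 256 (co3hw_E (nat_lit 1) p))) (allLt (nat_lit 8) (fun x => Nat.beq (co3hw_T x (nat_lit 1)) (nat_lit 1)))) = true := by decide +kernel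

theorem co3hw_L0_o : band (allRange (nat_lit 0) (nat_lit 66) (orbOK co3hw_T (nat_lit 15) (co3hw_E (nat_lit 0)) (Nat.beq (nat_lit 0)))) (band (Nat.ble (nat_lit 66) (count2 (nat_lit 66) fun p => Nat.ble 256 (co3hw_E (nat_lit 0) p))) (allLt (nat_lit 9) (fun x => Nat.beq (co3hw_T x (nat_lit 0)) (nat_lit 0)))) = true := by decide +kernel

theorem co3h_r511 : fixAll (tabW OutC.co3_T co3h_ws) c3b_rels (nat_lit 511) = true := by decide +kernel

theorem co3h_r259 : fixAll (tabW OutC.co3_T co3h_ws) c3b_rels (nat_lit 259) = true := by decide +kernel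

theorem co3h_r468 : fixAll (tabW OutC.co3_T co3h_ws) c3b_rels (nat_lit 468) = true := by decide +kernel

theorem co3h_r149 : fixAll (tabW OutC.co3_T co3h_ws) c3b_rels (nat_lit 149) = true := by decide +kernel

theorem co3h_r111 : fixAll (tabW OutC.co3_T co3h_ws) c3b_rels (nat_lit 111) = true := by decide +kernel

theorem co3h_r348 : fixAll (tabW OutC.co3_T co3h_ws) c3b_rels (nat_lit 348) = true := by decide +kernel

theorem co3h_r34 : fixAll (tabW OutC.co3_T co3h_ws) c3b_rels (nat_lit 34) = true := by decide +kernel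

theorem co3h_e0 : allRange (nat_lit 0) (nat_lit 66) (resB (co3h_PQ 0) 552 6 66 (tabW OutC.co3_T co3h_ws) co3hw_S) = true := by decide +kernel

theorem co3_tabs : Tabs co3E 552 (tabW OutC.co3_T co3_ws) co3_g 5 := tabs_tabW co3K_tabs (by decide +kernel) 5

theorem co3_eq : genLt co3_g 5 = genLt co3K 15 :=
  genLt_tabW co3K_tabs co3K_base (back := co3_back) (by decide +kernel) (range_append _ (allLt_of_zero _) co3_k0 rfl)

theorem co3_base : IsBase co3E (genLt co3_g 5) [34, 348, 111, 149, 468, 259, 511] := co3_eq ▸ co3K_base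

theorem co3_gen : Gen ⊤ co3_g co3_rels 5 495766656000 :=
  gen_of_fixAll co3_tabs (co3_eq.trans co3K_top) (co3K_top ▸ co3K_base) co3K_card (by decide +kernel) (forall_mem_cons' co3_r34 (forall_mem_cons' co3_r348 (forall_mem_cons' co3_r111 (forall_mem_cons' co3_r149 (forall_mem_cons' co3_r468 (forall_mem_cons' co3_r259 (forall_mem_cons' co3_r511 forall_mem_nil')))))))

/-- The letters: a strong generating set, deepest stabiliser first. -/
noncomputable def co3hw_g {G : Type*} [Group G] (a : ℕ → G) : ℕ → G := fun x => slp a 6 co3hw_defs (co3hw_iota x)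

theorem co3hw_tabs {G α : Type*} [Group G] [MulAction G α] {e : ℕ → α} {a : ℕ → G} (h0 : Tabs e 66 co3hw_S a 6) : Tabs e 66 co3hw_T (co3hw_g a) 15 :=
  Tabs.rename (ι := co3hw_iota) (g := slp a 6 co3hw_defs) ((Tabs.slp_base co3hw_defs h0).slp_add (by decide) _ co3hw_slp0) co3hw_ren

theorem co3hw_gen {G : Type*} [Group G] (a : ℕ → G) : genLt (co3hw_g a) 15 = genLt a 6 :=
  genLt_slp_eq a co3hw_defs (back := getP 8 255 (nat_lit 0xe0d0c0b0a09)) (by decide +kernel)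

theorem co3hw_low5 {G α : Type*} [Group G] [MulAction G α] {e : ℕ → α} {a : ℕ → G} (he : Set.InjOn e (Set.Iio 66)) (h0 : Tabs e 66 co3hw_S a 6) :
    LowLevel (genLt (co3hw_g a) 2) (genLt (co3hw_g a) 0) (e 10) 3 :=
  Tabs.lowLevel (co3hw_tabs h0) he (by decide) (by decide) (by decide) co3hw_L5_o

theorem co3hw_ge5 {G α : Type*} [Group G] [MulAction G α] {e : ℕ → α} {a : ℕ → G} (he : Set.InjOn e (Set.Iio 66)) (h0 : Tabs e 66 co3hw_S a 6) :
    Finite (genLt (co3hw_g a) 2) → 3 ≤ Nat.card (genLt (co3hw_g a) 2) := fun hK =>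
  (co3hw_low5 he h0).card hK (one_le_card_fin _)

theorem co3hw_fix5 {G α : Type*} [Group G] [MulAction G α] {e : ℕ → α} {a : ℕ → G} (he : Set.InjOn e (Set.Iio 66)) (h0 : Tabs e 66 co3hw_S a 6) :
    ∀ X : Subgroup G, Finite X → (genLt (co3hw_g a) 2) ≤ X → 3 * Nat.card (fixB e X [10]) ≤ Nat.card X :=
  (co3hw_low5 he h0).card_fix (card_fix_nil _ _)

theorem co3hw_low4 {G α : Type*} [Group G] [MulAction G α] {e : ℕ → α} {a : ℕ → G} (he : Set.InjOn e (Set.Iio 66)) (h0 : Tabs e 66 co3hw_S a 6) :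
    LowLevel (genLt (co3hw_g a) 4) (genLt (co3hw_g a) 2) (e 6) 12 :=
  Tabs.lowLevel (co3hw_tabs h0) he (by decide) (by decide) (by decide) co3hw_L4_o

theorem co3hw_ge4 {G α : Type*} [Group G] [MulAction G α] {e : ℕ → α} {a : ℕ → G} (he : Set.InjOn e (Set.Iio 66)) (h0 : Tabs e 66 co3hw_S a 6) :
    Finite (genLt (co3hw_g a) 4) → 36 ≤ Nat.card (genLt (co3hw_g a) 4) := fun hK =>
  (co3hw_low4 he h0).card hK (co3hw_ge5 he h0)

theorem co3hw_fix4 {G α : Type*} [Group G] [MulAction G α] {e : ℕ → α} {a : ℕ → G} (he : Set.InjOn e (Set.Iio 66)) (h0 : Tabs e 66 co3hw_S a 6) :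
    ∀ X : Subgroup G, Finite X → (genLt (co3hw_g a) 4) ≤ X → 36 * Nat.card (fixB e X [6, 10]) ≤ Nat.card X :=
  (co3hw_low4 he h0).card_fix (co3hw_fix5 he h0)

theorem co3hw_low3 {G α : Type*} [Group G] [MulAction G α] {e : ℕ → α} {a : ℕ → G} (he : Set.InjOn e (Set.Iio 66)) (h0 : Tabs e 66 co3hw_S a 6) :
    LowLevel (genLt (co3hw_g a) 6) (genLt (co3hw_g a) 4) (e 3) 2 :=
  Tabs.lowLevel (co3hw_tabs h0) he (by decide) (by decide) (by decide) co3hw_L3_o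

theorem co3hw_ge3 {G α : Type*} [Group G] [MulAction G α] {e : ℕ → α} {a : ℕ → G} (he : Set.InjOn e (Set.Iio 66)) (h0 : Tabs e 66 co3hw_S a 6) :
    Finite (genLt (co3hw_g a) 6) → 72 ≤ Nat.card (genLt (co3hw_g a) 6) := fun hK =>
  (co3hw_low3 he h0).card hK (co3hw_ge4 he h0)

theorem co3hw_fix3 {G α : Type*} [Group G] [MulAction G α] {e : ℕ → α} {a : ℕ → G} (he : Set.InjOn e (Set.Iio 66)) (h0 : Tabs e 66 co3hw_S a 6) :
    ∀ X : Subgroup G, Finite X → (genLt (co3hw_g a) 6) ≤ X → 72 * Nat.card (fixB e X [3, 6, 10]) ≤ Nat.card X :=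
  (co3hw_low3 he h0).card_fix (co3hw_fix4 he h0)

theorem co3hw_low2 {G α : Type*} [Group G] [MulAction G α] {e : ℕ → α} {a : ℕ → G} (he : Set.InjOn e (Set.Iio 66)) (h0 : Tabs e 66 co3hw_S a 6) :
    LowLevel (genLt (co3hw_g a) 8) (genLt (co3hw_g a) 6) (e 2) 27 :=
  Tabs.lowLevel (co3hw_tabs h0) he (by decide) (by decide) (by decide) co3hw_L2_o

theorem co3hw_ge2 {G α : Type*} [Group G] [MulAction G α] {e : ℕ → α} {a : ℕ → G} (he : Set.InjOn e (Set.Iio 66)) (h0 : Tabs e 66 co3hw_S a 6) :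
    Finite (genLt (co3hw_g a) 8) → 1944 ≤ Nat.card (genLt (co3hw_g a) 8) := fun hK =>
  (co3hw_low2 he h0).card hK (co3hw_ge3 he h0)

theorem co3hw_fix2 {G α : Type*} [Group G] [MulAction G α] {e : ℕ → α} {a : ℕ → G} (he : Set.InjOn e (Set.Iio 66)) (h0 : Tabs e 66 co3hw_S a 6) :
    ∀ X : Subgroup G, Finite X → (genLt (co3hw_g a) 8) ≤ X → 1944 * Nat.card (fixB e X [2, 3, 6, 10]) ≤ Nat.card X :=
  (co3hw_low2 he h0).card_fix (co3hw_fix3 he h0)

theorem co3hw_low1 {G α : Type*} [Group G] [MulAction G α] {e : ℕ → α} {a : ℕ → G} (he : Set.InjOn e (Set.Iio 66)) (h0 : Tabs e 66 co3hw_S a 6) :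
    LowLevel (genLt (co3hw_g a) 9) (genLt (co3hw_g a) 8) (e 1) 30 :=
  Tabs.lowLevel (co3hw_tabs h0) he (by decide) (by decide) (by decide) co3hw_L1_o

theorem co3hw_ge1 {G α : Type*} [Group G] [MulAction G α] {e : ℕ → α} {a : ℕ → G} (he : Set.InjOn e (Set.Iio 66)) (h0 : Tabs e 66 co3hw_S a 6) :
    Finite (genLt (co3hw_g a) 9) → 58320 ≤ Nat.card (genLt (co3hw_g a) 9) := fun hK =>
  (co3hw_low1 he h0).card hK (co3hw_ge2 he h0)

theorem co3hw_fix1 {G α : Type*} [Group G] [MulAction G α] {e : ℕ → α} {a : ℕ → G} (he : Set.InjOn e (Set.Iio 66)) (h0 : Tabs e 66 co3hw_S a 6) :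
    ∀ X : Subgroup G, Finite X → (genLt (co3hw_g a) 9) ≤ X → 58320 * Nat.card (fixB e X [1, 2, 3, 6, 10]) ≤ Nat.card X :=
  (co3hw_low1 he h0).card_fix (co3hw_fix2 he h0)

theorem co3hw_low0 {G α : Type*} [Group G] [MulAction G α] {e : ℕ → α} {a : ℕ → G} (he : Set.InjOn e (Set.Iio 66)) (h0 : Tabs e 66 co3hw_S a 6) :
    LowLevel (genLt (co3hw_g a) 15) (genLt (co3hw_g a) 9) (e 0) 66 :=
  Tabs.lowLevel (co3hw_tabs h0) he (by decide) (by decide) (by decide) co3hw_L0_o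

theorem co3hw_ge0 {G α : Type*} [Group G] [MulAction G α] {e : ℕ → α} {a : ℕ → G} (he : Set.InjOn e (Set.Iio 66)) (h0 : Tabs e 66 co3hw_S a 6) :
    Finite (genLt (co3hw_g a) 15) → 3849120 ≤ Nat.card (genLt (co3hw_g a) 15) := fun hK =>
  (co3hw_low0 he h0).card hK (co3hw_ge1 he h0)

theorem co3hw_fix0 {G α : Type*} [Group G] [MulAction G α] {e : ℕ → α} {a : ℕ → G} (he : Set.InjOn e (Set.Iio 66)) (h0 : Tabs e 66 co3hw_S a 6) :
    ∀ X : Subgroup G, Finite X → (genLt (co3hw_g a) 15) ≤ X → 3849120 * Nat.card (fixB e X [0, 1, 2, 3, 6, 10]) ≤ Nat.card X :=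
  (co3hw_low0 he h0).card_fix (co3hw_fix1 he h0)

theorem co3hw_ub0 {G α : Type*} [Group G] [MulAction G α] {e : ℕ → α} {a : ℕ → G} (he : Set.InjOn e (Set.Iio 66)) (h0 : Tabs e 66 co3hw_S a 6) (hub : Nat.card (genLt a 6) ≠ 0 ∧ Nat.card (genLt a 6) ≤ 3849120) :
    Nat.card (genLt (co3hw_g a) 15) ≠ 0 ∧ Nat.card (genLt (co3hw_g a) 15) ≤ 3849120 := by rw [co3hw_gen]; exact hub

theorem co3hw_level0 {G α : Type*} [Group G] [MulAction G α] {e : ℕ → α} {a : ℕ → G} (he : Set.InjOn e (Set.Iio 66)) (h0 : Tabs e 66 co3hw_S a 6) (hub : Nat.card (genLt a 6) ≠ 0 ∧ Nat.card (genLt a 6) ≤ 3849120) :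
    Level (genLt (co3hw_g a) 15) (genLt (co3hw_g a) 9) (e 0) 66 :=
  ((co3hw_low0 he h0).level (c := 58320) (co3hw_ub0 he h0 hub) (co3hw_ge1 he h0)).1

theorem co3hw_ub1 {G α : Type*} [Group G] [MulAction G α] {e : ℕ → α} {a : ℕ → G} (he : Set.InjOn e (Set.Iio 66)) (h0 : Tabs e 66 co3hw_S a 6) (hub : Nat.card (genLt a 6) ≠ 0 ∧ Nat.card (genLt a 6) ≤ 3849120) :
    Nat.card (genLt (co3hw_g a) 9) ≠ 0 ∧ Nat.card (genLt (co3hw_g a) 9) ≤ 58320 :=
  ((co3hw_low0 he h0).level (c := 58320) (co3hw_ub0 he h0 hub) (co3hw_ge1 he h0)).2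

theorem co3hw_level1 {G α : Type*} [Group G] [MulAction G α] {e : ℕ → α} {a : ℕ → G} (he : Set.InjOn e (Set.Iio 66)) (h0 : Tabs e 66 co3hw_S a 6) (hub : Nat.card (genLt a 6) ≠ 0 ∧ Nat.card (genLt a 6) ≤ 3849120) :
    Level (genLt (co3hw_g a) 9) (genLt (co3hw_g a) 8) (e 1) 30 :=
  ((co3hw_low1 he h0).level (c := 1944) (co3hw_ub1 he h0 hub) (co3hw_ge2 he h0)).1

theorem co3hw_ub2 {G α : Type*} [Group G] [MulAction G α] {e : ℕ → α} {a : ℕ → G} (he : Set.InjOn e (Set.Iio 66)) (h0 : Tabs e 66 co3hw_S a 6) (hub : Nat.card (genLt a 6) ≠ 0 ∧ Nat.card (genLt a 6) ≤ 3849120) :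
    Nat.card (genLt (co3hw_g a) 8) ≠ 0 ∧ Nat.card (genLt (co3hw_g a) 8) ≤ 1944 :=
  ((co3hw_low1 he h0).level (c := 1944) (co3hw_ub1 he h0 hub) (co3hw_ge2 he h0)).2

theorem co3hw_level2 {G α : Type*} [Group G] [MulAction G α] {e : ℕ → α} {a : ℕ → G} (he : Set.InjOn e (Set.Iio 66)) (h0 : Tabs e 66 co3hw_S a 6) (hub : Nat.card (genLt a 6) ≠ 0 ∧ Nat.card (genLt a 6) ≤ 3849120) :
    Level (genLt (co3hw_g a) 8) (genLt (co3hw_g a) 6) (e 2) 27 :=
  ((co3hw_low2 he h0).level (c := 72) (co3hw_ub2 he h0 hub) (co3hw_ge3 he h0)).1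

theorem co3hw_ub3 {G α : Type*} [Group G] [MulAction G α] {e : ℕ → α} {a : ℕ → G} (he : Set.InjOn e (Set.Iio 66)) (h0 : Tabs e 66 co3hw_S a 6) (hub : Nat.card (genLt a 6) ≠ 0 ∧ Nat.card (genLt a 6) ≤ 3849120) :
    Nat.card (genLt (co3hw_g a) 6) ≠ 0 ∧ Nat.card (genLt (co3hw_g a) 6) ≤ 72 :=
  ((co3hw_low2 he h0).level (c := 72) (co3hw_ub2 he h0 hub) (co3hw_ge3 he h0)).2

theorem co3hw_level3 {G α : Type*} [Group G] [MulAction G α] {e : ℕ → α} {a : ℕ → G} (he : Set.InjOn e (Set.Iio 66)) (h0 : Tabs e 66 co3hw_S a 6) (hub : Nat.card (genLt a 6) ≠ 0 ∧ Nat.card (genLt a 6) ≤ 3849120) :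
    Level (genLt (co3hw_g a) 6) (genLt (co3hw_g a) 4) (e 3) 2 :=
  ((co3hw_low3 he h0).level (c := 36) (co3hw_ub3 he h0 hub) (co3hw_ge4 he h0)).1

theorem co3hw_ub4 {G α : Type*} [Group G] [MulAction G α] {e : ℕ → α} {a : ℕ → G} (he : Set.InjOn e (Set.Iio 66)) (h0 : Tabs e 66 co3hw_S a 6) (hub : Nat.card (genLt a 6) ≠ 0 ∧ Nat.card (genLt a 6) ≤ 3849120) :
    Nat.card (genLt (co3hw_g a) 4) ≠ 0 ∧ Nat.card (genLt (co3hw_g a) 4) ≤ 36 :=
  ((co3hw_low3 he h0).level (c := 36) (co3hw_ub3 he h0 hub) (co3hw_ge4 he h0)).2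

theorem co3hw_level4 {G α : Type*} [Group G] [MulAction G α] {e : ℕ → α} {a : ℕ → G} (he : Set.InjOn e (Set.Iio 66)) (h0 : Tabs e 66 co3hw_S a 6) (hub : Nat.card (genLt a 6) ≠ 0 ∧ Nat.card (genLt a 6) ≤ 3849120) :
    Level (genLt (co3hw_g a) 4) (genLt (co3hw_g a) 2) (e 6) 12 :=
  ((co3hw_low4 he h0).level (c := 3) (co3hw_ub4 he h0 hub) (co3hw_ge5 he h0)).1

theorem co3hw_ub5 {G α : Type*} [Group G] [MulAction G α] {e : ℕ → α} {a : ℕ → G} (he : Set.InjOn e (Set.Iio 66)) (h0 : Tabs e 66 co3hw_S a 6) (hub : Nat.card (genLt a 6) ≠ 0 ∧ Nat.card (genLt a 6) ≤ 3849120) :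
    Nat.card (genLt (co3hw_g a) 2) ≠ 0 ∧ Nat.card (genLt (co3hw_g a) 2) ≤ 3 :=
  ((co3hw_low4 he h0).level (c := 3) (co3hw_ub4 he h0 hub) (co3hw_ge5 he h0)).2

theorem co3hw_level5 {G α : Type*} [Group G] [MulAction G α] {e : ℕ → α} {a : ℕ → G} (he : Set.InjOn e (Set.Iio 66)) (h0 : Tabs e 66 co3hw_S a 6) (hub : Nat.card (genLt a 6) ≠ 0 ∧ Nat.card (genLt a 6) ≤ 3849120) :
    Level (genLt (co3hw_g a) 2) (genLt (co3hw_g a) 0) (e 10) 3 :=
  ((co3hw_low5 he h0).level (c := 1) (co3hw_ub5 he h0 hub) (one_le_card_fin _)).1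

theorem co3hw_card5 {G α : Type*} [Group G] [MulAction G α] {e : ℕ → α} {a : ℕ → G} (he : Set.InjOn e (Set.Iio 66)) (h0 : Tabs e 66 co3hw_S a 6) (hub : Nat.card (genLt a 6) ≠ 0 ∧ Nat.card (genLt a 6) ≤ 3849120) :
    Nat.card (genLt (co3hw_g a) 2) = 3 :=
  (co3hw_level5 he h0 hub).card (card_genLt_zero _)

theorem co3hw_base5 {G α : Type*} [Group G] [MulAction G α] {e : ℕ → α} {a : ℕ → G} (he : Set.InjOn e (Set.Iio 66)) (h0 : Tabs e 66 co3hw_S a 6) (hub : Nat.card (genLt a 6) ≠ 0 ∧ Nat.card (genLt a 6) ≤ 3849120) :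
    IsBase e (genLt (co3hw_g a) 2) [10] :=
  (co3hw_level5 he h0 hub).base (isBase_genLt_zero _ _)

theorem co3hw_card4 {G α : Type*} [Group G] [MulAction G α] {e : ℕ → α} {a : ℕ → G} (he : Set.InjOn e (Set.Iio 66)) (h0 : Tabs e 66 co3hw_S a 6) (hub : Nat.card (genLt a 6) ≠ 0 ∧ Nat.card (genLt a 6) ≤ 3849120) :
    Nat.card (genLt (co3hw_g a) 4) = 36 :=
  (co3hw_level4 he h0 hub).card (co3hw_card5 he h0 hub)

theorem co3hw_base4 {G α : Type*} [Group G] [MulAction G α] {e : ℕ → α} {a : ℕ → G} (he : Set.InjOn e (Set.Iio 66)) (h0 : Tabs e 66 co3hw_S a 6) (hub : Nat.card (genLt a 6) ≠ 0 ∧ Nat.card (genLt a 6) ≤ 3849120) :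
    IsBase e (genLt (co3hw_g a) 4) [6, 10] :=
  (co3hw_level4 he h0 hub).base (co3hw_base5 he h0 hub)

theorem co3hw_card3 {G α : Type*} [Group G] [MulAction G α] {e : ℕ → α} {a : ℕ → G} (he : Set.InjOn e (Set.Iio 66)) (h0 : Tabs e 66 co3hw_S a 6) (hub : Nat.card (genLt a 6) ≠ 0 ∧ Nat.card (genLt a 6) ≤ 3849120) :
    Nat.card (genLt (co3hw_g a) 6) = 72 :=
  (co3hw_level3 he h0 hub).card (co3hw_card4 he h0 hub)

theorem co3hw_base3 {G α : Type*} [Group G] [MulAction G α] {e : ℕ → α} {a : ℕ → G} (he : Set.InjOn e (Set.Iio 66)) (h0 : Tabs e 66 co3hw_S a 6) (hub : Nat.card (genLt a 6) ≠ 0 ∧ Nat.card (genLt a 6) ≤ 3849120) :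
    IsBase e (genLt (co3hw_g a) 6) [3, 6, 10] :=
  (co3hw_level3 he h0 hub).base (co3hw_base4 he h0 hub)

theorem co3hw_card2 {G α : Type*} [Group G] [MulAction G α] {e : ℕ → α} {a : ℕ → G} (he : Set.InjOn e (Set.Iio 66)) (h0 : Tabs e 66 co3hw_S a 6) (hub : Nat.card (genLt a 6) ≠ 0 ∧ Nat.card (genLt a 6) ≤ 3849120) :
    Nat.card (genLt (co3hw_g a) 8) = 1944 :=
  (co3hw_level2 he h0 hub).card (co3hw_card3 he h0 hub)

theorem co3hw_base2 {G α : Type*} [Group G] [MulAction G α] {e : ℕ → α} {a : ℕ → G} (he : Set.InjOn e (Set.Iio 66)) (h0 : Tabs e 66 co3hw_S a 6) (hub : Nat.card (genLt a 6) ≠ 0 ∧ Nat.card (genLt a 6) ≤ 3849120) :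
    IsBase e (genLt (co3hw_g a) 8) [2, 3, 6, 10] :=
  (co3hw_level2 he h0 hub).base (co3hw_base3 he h0 hub)

theorem co3hw_card1 {G α : Type*} [Group G] [MulAction G α] {e : ℕ → α} {a : ℕ → G} (he : Set.InjOn e (Set.Iio 66)) (h0 : Tabs e 66 co3hw_S a 6) (hub : Nat.card (genLt a 6) ≠ 0 ∧ Nat.card (genLt a 6) ≤ 3849120) :
    Nat.card (genLt (co3hw_g a) 9) = 58320 :=
  (co3hw_level1 he h0 hub).card (co3hw_card2 he h0 hub)

theorem co3hw_base1 {G α : Type*} [Group G] [MulAction G α] {e : ℕ → α} {a : ℕ → G} (he : Set.InjOn e (Set.Iio 66)) (h0 : Tabs e 66 co3hw_S a 6) (hub : Nat.card (genLt a 6) ≠ 0 ∧ Nat.card (genLt a 6) ≤ 3849120) :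
    IsBase e (genLt (co3hw_g a) 9) [1, 2, 3, 6, 10] :=
  (co3hw_level1 he h0 hub).base (co3hw_base2 he h0 hub)

theorem co3hw_card0 {G α : Type*} [Group G] [MulAction G α] {e : ℕ → α} {a : ℕ → G} (he : Set.InjOn e (Set.Iio 66)) (h0 : Tabs e 66 co3hw_S a 6) (hub : Nat.card (genLt a 6) ≠ 0 ∧ Nat.card (genLt a 6) ≤ 3849120) :
    Nat.card (genLt (co3hw_g a) 15) = 3849120 :=
  (co3hw_level0 he h0 hub).card (co3hw_card1 he h0 hub)

theorem co3hw_base0 {G α : Type*} [Group G] [MulAction G α] {e : ℕ → α} {a : ℕ → G} (he : Set.InjOn e (Set.Iio 66)) (h0 : Tabs e 66 co3hw_S a 6) (hub : Nat.card (genLt a 6) ≠ 0 ∧ Nat.card (genLt a 6) ≤ 3849120) :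
    IsBase e (genLt (co3hw_g a) 15) [0, 1, 2, 3, 6, 10] :=
  (co3hw_level0 he h0 hub).base (co3hw_base1 he h0 hub)

theorem co3hw_hinv {G α : Type*} [Group G] [MulAction G α] {e : ℕ → α} {a : ℕ → G} (he : Set.InjOn e (Set.Iio 66)) (h0 : Tabs e 66 co3hw_S a 6) (hub : Nat.card (genLt a 6) ≠ 0 ∧ Nat.card (genLt a 6) ≤ 3849120) : ∀ x < 15, co3hw_g a x * co3hw_g a (co3hw_inv x) = 1 :=
  (co3hw_tabs h0).hinv_of_base (co3hw_base0 he h0 hub) (by decide +kernel)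

theorem co3hw_card {G α : Type*} [Group G] [MulAction G α] {e : ℕ → α} {a : ℕ → G} (he : Set.InjOn e (Set.Iio 66)) (h0 : Tabs e 66 co3hw_S a 6) (hub : Nat.card (genLt a 6) ≠ 0 ∧ Nat.card (genLt a 6) ≤ 3849120) :
    Nat.card (genLt a 6) = 3849120 := by
  rw [← co3hw_gen]; exact co3hw_card0 he h0 hub
theorem co3h_tabs : Tabs co3E 552 (tabW OutC.co3_T co3h_ws) co3h_g 6 := tabs_tabW co3K_tabs (by decide +kernel) 6

theorem co3h_base : IsBase co3E (genLt co3h_g 6) [34, 348, 111, 149, 468, 259, 511] := (co3K_top ▸ co3K_base).mono le_top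

theorem co3h_rel : ∀ i, evalW co3h_g (c3b_rels.get i) = 1 := rels_of_fixAll co3h_tabs co3h_base (by decide +kernel) (forall_mem_cons' co3h_r34 (forall_mem_cons' co3h_r348 (forall_mem_cons' co3h_r111 (forall_mem_cons' co3h_r149 (forall_mem_cons' co3h_r468 (forall_mem_cons' co3h_r259 (forall_mem_cons' co3h_r511 forall_mem_nil')))))))

theorem co3h_gen : Gen (genLt co3h_g 6) co3h_g c3b_rels 6 3849120 :=
  ⟨rfl, co3h_rel, (co3hw_card (injOn_restrict (P := co3h_PQ 0) (Q := co3h_PQ 1) co3E_inj (by decide +kernel))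
    (tabs_res co3h_tabs (range_append _ (allLt_of_zero _) co3h_e0 rfl)) (c3b_bnd co3h_rel))⟩


end Cfsg.Agent.Spor.MX
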