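import Mathlib
import Cfsg.Agent.Spor.MX.Glue
import Cfsg.Agent.Spor.MX.F42D0
import Cfsg.Agent.Spor.MX.F42D1
import Cfsg.Agent.Spor.MX.F42D2

/-! Generated by tools/mx: the chain S8(2) < F4(2) -/

set_option autoImplicit false
set_option maxRecDepth 100000
set_option linter.unusedVariables false
set_option exponentiation.threshold 100000

namespace Cfsg.Agent.Spor.MX

open Cfsg.Agent.Spor

universe u

noncomputable def f42_rels : LT :=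
(.node (.node (.node (.node (.node (.node (.node (.leaf [])
 (.leaf [nat_lit 0,nat_lit 2,nat_lit 1,nat_lit 5,nat_lit 6,nat_lit 4,nat_lit 5,nat_lit 6,nat_lit 5,nat_lit 2,nat_lit 5,nat_lit 6,nat_lit 5,nat_lit 4,nat_lit 6,nat_lit 5])
) (.leaf [nat_lit 0,nat_lit 6,nat_lit 1,nat_lit 5,nat_lit 0,nat_lit 6,nat_lit 1,nat_lit 5])
) (.node (.leaf [nat_lit 0,nat_lit 0,nat_lit 0,nat_lit 3,nat_lit 1,nat_lit 3,nat_lit 2,nat_lit 1,nat_lit 1,nat_lit 2,nat_lit 0,nat_lit 4,nat_lit 1,nat_lit 1,nat_lit 4,nat_lit 1,nat_lit 4,nat_lit 0,nat_lit 4,nat_lit 3])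
 (.leaf [nat_lit 3,nat_lit 4,nat_lit 5,nat_lit 6,nat_lit 5,nat_lit 4,nat_lit 3,nat_lit 4,nat_lit 5,nat_lit 6,nat_lit 5,nat_lit 4])
)) (.node (.node (.leaf [nat_lit 0,nat_lit 2,nat_lit 3,nat_lit 2,nat_lit 1,nat_lit 2,nat_lit 0,nat_lit 3,nat_lit 1,nat_lit 2])
 (.leaf [nat_lit 0,nat_lit 2,nat_lit 1,nat_lit 4,nat_lit 6,nat_lit 4,nat_lit 0,nat_lit 2,nat_lit 1,nat_lit 4,nat_lit 6,nat_lit 4])
) (.node (.leaf [nat_lit 0,nat_lit 2,nat_lit 1,nat_lit 3,nat_lit 0,nat_lit 2,nat_lit 5,nat_lit 1,nat_lit 3,nat_lit 0,nat_lit 5,nat_lit 1,nat_lit 3])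
 (.leaf [nat_lit 0,nat_lit 2,nat_lit 3,nat_lit 4,nat_lit 0,nat_lit 3,nat_lit 6,nat_lit 3,nat_lit 1,nat_lit 4,nat_lit 3,nat_lit 2,nat_lit 1,nat_lit 5,nat_lit 6,nat_lit 5])
))) (.node (.node (.node (.node (.leaf [nat_lit 0,nat_lit 0,nat_lit 2,nat_lit 1,nat_lit 1,nat_lit 2,nat_lit 0,nat_lit 0,nat_lit 2,nat_lit 1,nat_lit 2,nat_lit 1,nat_lit 2])
 (.leaf [nat_lit 0,nat_lit 0,nat_lit 0,nat_lit 2,nat_lit 1,nat_lit 1,nat_lit 2,nat_lit 1,nat_lit 2,nat_lit 1,nat_lit 1,nat_lit 6,nat_lit 4,nat_lit 6,nat_lit 5,nat_lit 1,nat_lit 1,nat_lit 3,nat_lit 6,nat_lit 3,nat_lit 0,nat_lit 0,nat_lit 5,nat_lit 4,nat_lit 0,nat_lit 0,nat_lit 0,nat_lit 2,nat_lit 1,nat_lit 1,nat_lit 3,nat_lit 0,nat_lit 2])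
) (.leaf [nat_lit 5,nat_lit 6,nat_lit 5,nat_lit 6,nat_lit 5,nat_lit 6,nat_lit 5,nat_lit 6])
) (.node (.leaf [nat_lit 3,nat_lit 5,nat_lit 3,nat_lit 5,nat_lit 3,nat_lit 5])
 (.leaf [nat_lit 0,nat_lit 2,nat_lit 6,nat_lit 1,nat_lit 2,nat_lit 0,nat_lit 6,nat_lit 2,nat_lit 1,nat_lit 2])
)) (.node (.node (.leaf [nat_lit 0,nat_lit 0,nat_lit 3,nat_lit 1,nat_lit 1,nat_lit 3,nat_lit 1,nat_lit 3,nat_lit 0,nat_lit 2,nat_lit 1,nat_lit 3,nat_lit 0,nat_lit 2,nat_lit 3])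
 (.leaf [nat_lit 2,nat_lit 3,nat_lit 2,nat_lit 5,nat_lit 6,nat_lit 5,nat_lit 2,nat_lit 3,nat_lit 2,nat_lit 5,nat_lit 6,nat_lit 5])
) (.node (.leaf [nat_lit 0,nat_lit 2,nat_lit 1,nat_lit 2,nat_lit 4,nat_lit 5,nat_lit 4,nat_lit 0,nat_lit 2,nat_lit 1,nat_lit 2,nat_lit 4,nat_lit 5,nat_lit 4])
 (.leaf [nat_lit 0,nat_lit 5,nat_lit 2,nat_lit 6,nat_lit 2,nat_lit 5,nat_lit 1,nat_lit 5,nat_lit 0,nat_lit 5,nat_lit 3,nat_lit 6,nat_lit 3,nat_lit 5,nat_lit 1,nat_lit 5])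
)))) (.node (.node (.node (.node (.node (.leaf [nat_lit 0,nat_lit 0,nat_lit 0,nat_lit 0,nat_lit 0,nat_lit 0,nat_lit 0])
 (.leaf [nat_lit 0,nat_lit 0,nat_lit 3,nat_lit 4,nat_lit 5,nat_lit 2,nat_lit 6,nat_lit 2,nat_lit 5,nat_lit 4,nat_lit 3,nat_lit 1,nat_lit 1,nat_lit 3,nat_lit 2,nat_lit 6,nat_lit 2,nat_lit 3])
) (.leaf [nat_lit 2,nat_lit 4,nat_lit 2,nat_lit 6,nat_lit 2,nat_lit 4,nat_lit 2,nat_lit 6])
) (.node (.leaf [nat_lit 0,nat_lit 0,nat_lit 0,nat_lit 2,nat_lit 0,nat_lit 2,nat_lit 0,nat_lit 0,nat_lit 2,nat_lit 0,nat_lit 3,nat_lit 2,nat_lit 3,nat_lit 0,nat_lit 4,nat_lit 1,nat_lit 2,nat_lit 1,nat_lit 4,nat_lit 2,nat_lit 4,nat_lit 0,nat_lit 2])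
 (.leaf [nat_lit 0,nat_lit 3,nat_lit 1,nat_lit 4,nat_lit 5,nat_lit 3,nat_lit 6,nat_lit 3,nat_lit 5,nat_lit 4,nat_lit 0,nat_lit 3,nat_lit 1,nat_lit 6])
)) (.node (.node (.leaf [nat_lit 0,nat_lit 0,nat_lit 0,nat_lit 2,nat_lit 1,nat_lit 3,nat_lit 0,nat_lit 2,nat_lit 1,nat_lit 1,nat_lit 1,nat_lit 3,nat_lit 2,nat_lit 3])
 (.leaf [nat_lit 0,nat_lit 5,nat_lit 1,nat_lit 6,nat_lit 2,nat_lit 6,nat_lit 0,nat_lit 5,nat_lit 1,nat_lit 6,nat_lit 2,nat_lit 6])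
) (.node (.leaf [nat_lit 0,nat_lit 0,nat_lit 5,nat_lit 1,nat_lit 1,nat_lit 2,nat_lit 5,nat_lit 4,nat_lit 5,nat_lit 2,nat_lit 5,nat_lit 4,nat_lit 5])
 (.leaf [nat_lit 0,nat_lit 3,nat_lit 5,nat_lit 6,nat_lit 5,nat_lit 3,nat_lit 1,nat_lit 5,nat_lit 4,nat_lit 0,nat_lit 5,nat_lit 6,nat_lit 5,nat_lit 1,nat_lit 4,nat_lit 5])
))) (.node (.node (.node (.leaf [nat_lit 3,nat_lit 3])
 (.leaf [nat_lit 2,nat_lit 3,nat_lit 4,nat_lit 6,nat_lit 4,nat_lit 3,nat_lit 2,nat_lit 3,nat_lit 4,nat_lit 6,nat_lit 4,nat_lit 3])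
) (.node (.leaf [nat_lit 0,nat_lit 3,nat_lit 1,nat_lit 5,nat_lit 1,nat_lit 3,nat_lit 5,nat_lit 0,nat_lit 3,nat_lit 1,nat_lit 5,nat_lit 3,nat_lit 0,nat_lit 5])
 (.leaf [nat_lit 2,nat_lit 5,nat_lit 2,nat_lit 5,nat_lit 2,nat_lit 6,nat_lit 5,nat_lit 6,nat_lit 5,nat_lit 6,nat_lit 5,nat_lit 6])
)) (.node (.node (.leaf [nat_lit 0,nat_lit 0,nat_lit 2,nat_lit 4,nat_lit 2,nat_lit 1,nat_lit 2,nat_lit 0,nat_lit 4,nat_lit 2,nat_lit 4,nat_lit 1,nat_lit 3,nat_lit 2,nat_lit 3,nat_lit 1,nat_lit 2])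
 (.leaf [nat_lit 2,nat_lit 5,nat_lit 2,nat_lit 6,nat_lit 4,nat_lit 6,nat_lit 2,nat_lit 5,nat_lit 2,nat_lit 6,nat_lit 4,nat_lit 6])
) (.node (.leaf [nat_lit 0,nat_lit 6,nat_lit 1,nat_lit 2,nat_lit 0,nat_lit 6,nat_lit 1,nat_lit 2])
 (.leaf [nat_lit 4,nat_lit 5,nat_lit 4,nat_lit 5,nat_lit 6,nat_lit 4,nat_lit 6,nat_lit 5,nat_lit 4,nat_lit 5,nat_lit 6,nat_lit 4,nat_lit 6])
))))) (.node (.node (.node (.node (.node (.node (.leaf [nat_lit 0,nat_lit 1])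
 (.leaf [nat_lit 0,nat_lit 2,nat_lit 5,nat_lit 4,nat_lit 3,nat_lit 5,nat_lit 0,nat_lit 3,nat_lit 6,nat_lit 3,nat_lit 1,nat_lit 5,nat_lit 3,nat_lit 4,nat_lit 5,nat_lit 2,nat_lit 1,nat_lit 6])
) (.leaf [nat_lit 2,nat_lit 3,nat_lit 6,nat_lit 3,nat_lit 2,nat_lit 3,nat_lit 6,nat_lit 3])
) (.node (.leaf [nat_lit 0,nat_lit 0,nat_lit 2,nat_lit 0,nat_lit 2,nat_lit 0,nat_lit 3,nat_lit 0,nat_lit 2,nat_lit 1,nat_lit 2,nat_lit 3,nat_lit 4,nat_lit 0,nat_lit 2,nat_lit 1,nat_lit 1,nat_lit 3,nat_lit 0,nat_lit 0,nat_lit 4])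
 (.leaf [nat_lit 0,nat_lit 0,nat_lit 5,nat_lit 6,nat_lit 1,nat_lit 2,nat_lit 0,nat_lit 6,nat_lit 5,nat_lit 1,nat_lit 2,nat_lit 1,nat_lit 2])
)) (.node (.node (.leaf [nat_lit 0,nat_lit 2,nat_lit 1,nat_lit 3,nat_lit 2,nat_lit 3,nat_lit 0,nat_lit 2,nat_lit 1,nat_lit 3,nat_lit 2,nat_lit 3])
 (.leaf [nat_lit 0,nat_lit 3,nat_lit 1,nat_lit 5,nat_lit 6,nat_lit 5,nat_lit 0,nat_lit 3,nat_lit 1,nat_lit 5,nat_lit 6,nat_lit 5])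
) (.node (.leaf [nat_lit 0,nat_lit 5,nat_lit 1,nat_lit 3,nat_lit 5,nat_lit 3,nat_lit 0,nat_lit 5,nat_lit 1,nat_lit 5,nat_lit 2,nat_lit 3,nat_lit 2,nat_lit 5])
 (.leaf [nat_lit 0,nat_lit 3,nat_lit 1,nat_lit 5,nat_lit 1,nat_lit 6,nat_lit 3,nat_lit 5,nat_lit 0,nat_lit 3,nat_lit 1,nat_lit 5,nat_lit 3,nat_lit 6,nat_lit 0,nat_lit 5])
))) (.node (.node (.node (.node (.leaf [nat_lit 0,nat_lit 0,nat_lit 2,nat_lit 0,nat_lit 0,nat_lit 2,nat_lit 0,nat_lit 2,nat_lit 0,nat_lit 0,nat_lit 2,nat_lit 0,nat_lit 0,nat_lit 2,nat_lit 0,nat_lit 2,nat_lit 0,nat_lit 0,nat_lit 2,nat_lit 0,nat_lit 0,nat_lit 2,nat_lit 0,nat_lit 2])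
 (.leaf [nat_lit 0,nat_lit 0,nat_lit 0,nat_lit 2,nat_lit 1,nat_lit 6,nat_lit 4,nat_lit 1,nat_lit 3,nat_lit 4,nat_lit 6,nat_lit 0,nat_lit 0,nat_lit 5,nat_lit 3,nat_lit 1,nat_lit 6,nat_lit 2,nat_lit 5,nat_lit 2,nat_lit 0,nat_lit 0,nat_lit 4,nat_lit 0,nat_lit 4,nat_lit 2,nat_lit 0,nat_lit 3,nat_lit 0,nat_lit 2,nat_lit 1,nat_lit 1,nat_lit 2,nat_lit 1,nat_lit 2])
) (.leaf [nat_lit 2,nat_lit 4,nat_lit 6,nat_lit 4,nat_lit 5,nat_lit 2,nat_lit 5,nat_lit 2,nat_lit 5,nat_lit 4,nat_lit 6,nat_lit 4])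
) (.node (.leaf [nat_lit 0,nat_lit 3,nat_lit 1,nat_lit 5,nat_lit 0,nat_lit 3,nat_lit 1,nat_lit 5,nat_lit 0,nat_lit 3,nat_lit 1,nat_lit 5])
 (.leaf [nat_lit 0,nat_lit 3,nat_lit 2,nat_lit 3,nat_lit 1,nat_lit 2,nat_lit 4,nat_lit 3,nat_lit 6,nat_lit 4,nat_lit 2,nat_lit 4,nat_lit 6,nat_lit 3,nat_lit 4])
)) (.node (.node (.leaf [nat_lit 4,nat_lit 4])
 (.leaf [nat_lit 2,nat_lit 4,nat_lit 5,nat_lit 6,nat_lit 5,nat_lit 4,nat_lit 2,nat_lit 4,nat_lit 5,nat_lit 6,nat_lit 5,nat_lit 4])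
) (.node (.leaf [nat_lit 6,nat_lit 6])
 (.leaf [nat_lit 2,nat_lit 4,nat_lit 2,nat_lit 5,nat_lit 2,nat_lit 6,nat_lit 2,nat_lit 5,nat_lit 2,nat_lit 4,nat_lit 2,nat_lit 5,nat_lit 4,nat_lit 6,nat_lit 4,nat_lit 5])
)))) (.node (.node (.node (.node (.node (.leaf [nat_lit 2,nat_lit 2])
 (.leaf [nat_lit 0,nat_lit 0,nat_lit 4,nat_lit 1,nat_lit 1,nat_lit 4,nat_lit 2,nat_lit 5,nat_lit 6,nat_lit 5,nat_lit 2,nat_lit 4,nat_lit 0,nat_lit 0,nat_lit 4,nat_lit 1,nat_lit 1,nat_lit 6])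
) (.leaf [nat_lit 2,nat_lit 4,nat_lit 6,nat_lit 4,nat_lit 2,nat_lit 4,nat_lit 6,nat_lit 4])
) (.node (.leaf [nat_lit 5,nat_lit 5])
 (.leaf [nat_lit 3,nat_lit 4,nat_lit 5,nat_lit 3,nat_lit 4,nat_lit 6,nat_lit 4,nat_lit 3,nat_lit 5,nat_lit 4,nat_lit 3,nat_lit 5,nat_lit 6,nat_lit 5])
)) (.node (.node (.leaf [nat_lit 0,nat_lit 0,nat_lit 0,nat_lit 2,nat_lit 1,nat_lit 1,nat_lit 1,nat_lit 2,nat_lit 3,nat_lit 1,nat_lit 3,nat_lit 0,nat_lit 3,nat_lit 2])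
 (.leaf [nat_lit 0,nat_lit 5,nat_lit 6,nat_lit 5,nat_lit 1,nat_lit 5,nat_lit 0,nat_lit 5,nat_lit 6,nat_lit 5,nat_lit 1,nat_lit 5])
) (.node (.leaf [nat_lit 0,nat_lit 3,nat_lit 0,nat_lit 5,nat_lit 2,nat_lit 4,nat_lit 3,nat_lit 4,nat_lit 2,nat_lit 5,nat_lit 1,nat_lit 3,nat_lit 1,nat_lit 5])
 (.leaf [nat_lit 0,nat_lit 3,nat_lit 6,nat_lit 3,nat_lit 1,nat_lit 2,nat_lit 5,nat_lit 2,nat_lit 0,nat_lit 3,nat_lit 6,nat_lit 3,nat_lit 1,nat_lit 5,nat_lit 2,nat_lit 5])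
))) (.node (.node (.node (.leaf [nat_lit 2,nat_lit 3,nat_lit 2,nat_lit 3,nat_lit 2,nat_lit 3,nat_lit 2,nat_lit 3])
 (.leaf [nat_lit 2,nat_lit 3,nat_lit 5,nat_lit 3,nat_lit 2,nat_lit 6,nat_lit 2,nat_lit 5,nat_lit 3,nat_lit 5,nat_lit 2,nat_lit 6])
) (.node (.leaf [nat_lit 0,nat_lit 0,nat_lit 2,nat_lit 5,nat_lit 1,nat_lit 2,nat_lit 0,nat_lit 5,nat_lit 2,nat_lit 1,nat_lit 1,nat_lit 2])
 (.leaf [nat_lit 0,nat_lit 0,nat_lit 6,nat_lit 1,nat_lit 1,nat_lit 3,nat_lit 2,nat_lit 1,nat_lit 3,nat_lit 0,nat_lit 6,nat_lit 1,nat_lit 3,nat_lit 0,nat_lit 2,nat_lit 3])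
)) (.node (.node (.leaf [nat_lit 0,nat_lit 0,nat_lit 0,nat_lit 2,nat_lit 0,nat_lit 0,nat_lit 0,nat_lit 2,nat_lit 1,nat_lit 3,nat_lit 0,nat_lit 2,nat_lit 0,nat_lit 2,nat_lit 4,nat_lit 3,nat_lit 4,nat_lit 2])
 (.leaf [nat_lit 3,nat_lit 4,nat_lit 5,nat_lit 4,nat_lit 3,nat_lit 6,nat_lit 3,nat_lit 4,nat_lit 5,nat_lit 4,nat_lit 3,nat_lit 6])
) (.node (.leaf [nat_lit 3,nat_lit 6,nat_lit 3,nat_lit 6,nat_lit 3,nat_lit 6,nat_lit 3,nat_lit 6])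
 (.leaf [nat_lit 0,nat_lit 5,nat_lit 6,nat_lit 1,nat_lit 2,nat_lit 5,nat_lit 2,nat_lit 0,nat_lit 6,nat_lit 5,nat_lit 1,nat_lit 5,nat_lit 3,nat_lit 2,nat_lit 3,nat_lit 5])
))))))
noncomputable def f42_inv : ℕ → ℕ := getP (nat_lit 8) (nat_lit 255) (nat_lit 0x6050403020001)
noncomputable def f42_pi : ℕ → ℕ := getP (nat_lit 16) (nat_lit 65535) (nat_lit 0x1d0013000d0006000300010001)

noncomputable def f42_L_t : BT :=
(.node (.node f42_L_t0 f42_L_t2) (.node f42_L_t1 f42_L_t3))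

noncomputable def f42_L_rules : LT :=
(.node (.node (.node (.node (.node (.node (.node (.node (.node (.node (.leaf [nat_lit 0xd180002,nat_lit 30,nat_lit 4,nat_lit 1,nat_lit 2,nat_lit 0,nat_lit 6,nat_lit 1,nat_lit 2,nat_lit 0,nat_lit 6,nat_lit 1])
 (.leaf [nat_lit 0,nat_lit 28,nat_lit 10,nat_lit 1,nat_lit 2,nat_lit 0,nat_lit 2,nat_lit 1,nat_lit 4,nat_lit 5,nat_lit 4,nat_lit 2,nat_lit 0,nat_lit 2,nat_lit 1,nat_lit 4,nat_lit 5,nat_lit 4])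
) (.leaf [nat_lit 0x1000000000000000000000000000000000000000000000000000000000000000000000000000000000000000000000000000000000000000000,nat_lit 53,nat_lit 7,nat_lit 0,nat_lit 3,nat_lit 6,nat_lit 4,nat_lit 2,nat_lit 4,nat_lit 6,nat_lit 3,nat_lit 4,nat_lit 0,nat_lit 3,nat_lit 2,nat_lit 3,nat_lit 1,nat_lit 2,nat_lit 4])
) (.node (.leaf [nat_lit 0x8000000000000000000000000000000000000000000000000000000000000000000000000000000000000000000000000000000000000000000000000000000000000000000000000000000000000,nat_lit 62,nat_lit 1,nat_lit 0,nat_lit 5,nat_lit 4,nat_lit 5,nat_lit 6,nat_lit 4,nat_lit 6,nat_lit 5,nat_lit 4,nat_lit 5,nat_lit 6,nat_lit 4,nat_lit 6,nat_lit 4])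
 (.leaf [nat_lit 0x1a3000000000000000000000000000000000000000000000000000000000000000000000000000000000000000000000000000000000000000000000000000000000000000000000000000000000000000000000000001,nat_lit 65,nat_lit 0,nat_lit 1,nat_lit 6,nat_lit 0,nat_lit 2,nat_lit 5,nat_lit 4,nat_lit 3,nat_lit 5,nat_lit 0,nat_lit 3,nat_lit 6,nat_lit 3,nat_lit 1,nat_lit 5,nat_lit 3,nat_lit 4,nat_lit 5,nat_lit 2,nat_lit 1])
)) (.node (.node (.leaf [nat_lit 0,nat_lit 22,nat_lit 5,nat_lit 1,nat_lit 3,nat_lit 1,nat_lit 5,nat_lit 3,nat_lit 0,nat_lit 5,nat_lit 0,nat_lit 3,nat_lit 1,nat_lit 5,nat_lit 1,nat_lit 3,nat_lit 5,nat_lit 0])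
 (.leaf [nat_lit 0,nat_lit 26,nat_lit 6,nat_lit 0,nat_lit 5,nat_lit 4,nat_lit 5,nat_lit 2,nat_lit 5,nat_lit 4,nat_lit 5,nat_lit 0,nat_lit 0,nat_lit 5,nat_lit 1,nat_lit 1,nat_lit 2])
) (.node (.leaf [nat_lit 0x346000000000000000000000000000000000000000000000000000000000000000000000000000000000000000002,nat_lit 48,nat_lit 10,nat_lit 1,nat_lit 4,nat_lit 3,nat_lit 4,nat_lit 5,nat_lit 6,nat_lit 5,nat_lit 4,nat_lit 3,nat_lit 4,nat_lit 5,nat_lit 6,nat_lit 5])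
 (.leaf [nat_lit 0x68c000000000000000000000000000000000000000000000000000000000000000000000000000000000000000000000000000000000000000000000000000000000000000000000000000000000000000000000000000000000002,nat_lit 67,nat_lit 16,nat_lit 1,nat_lit 0,nat_lit 1,nat_lit 6,nat_lit 0,nat_lit 0,nat_lit 4,nat_lit 1,nat_lit 1,nat_lit 4,nat_lit 2,nat_lit 5,nat_lit 6,nat_lit 5,nat_lit 2,nat_lit 4,nat_lit 0,nat_lit 0,nat_lit 4])
))) (.node (.node (.node (.node (.leaf [nat_lit 0x1000000000000000000000000000000000000000000000000000000000000000000000000000000000000000000000000000000000000000000,nat_lit 53,nat_lit 1,nat_lit 0,nat_lit 3,nat_lit 2,nat_lit 3,nat_lit 1,nat_lit 2,nat_lit 4,nat_lit 3,nat_lit 6,nat_lit 4,nat_lit 2,nat_lit 4,nat_lit 6,nat_lit 3,nat_lit 4,nat_lit 0])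
 (.leaf [nat_lit 0,nat_lit 28,nat_lit 11,nat_lit 1,nat_lit 1,nat_lit 2,nat_lit 1,nat_lit 4,nat_lit 5,nat_lit 4,nat_lit 2,nat_lit 0,nat_lit 2,nat_lit 1,nat_lit 4,nat_lit 5,nat_lit 4,nat_lit 2])
) (.leaf [nat_lit 0,nat_lit 18,nat_lit 19,nat_lit 0,nat_lit 2,nat_lit 4,nat_lit 0,nat_lit 2,nat_lit 0,nat_lit 0,nat_lit 0,nat_lit 2,nat_lit 0,nat_lit 2,nat_lit 0,nat_lit 0,nat_lit 2,nat_lit 0,nat_lit 3,nat_lit 2,nat_lit 3,nat_lit 0,nat_lit 4,nat_lit 1,nat_lit 2,nat_lit 1,nat_lit 4])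
) (.node (.leaf [nat_lit 0,nat_lit 4,nat_lit 4,nat_lit 1,nat_lit 2,nat_lit 1,nat_lit 1,nat_lit 2,nat_lit 0,nat_lit 0,nat_lit 2,nat_lit 1,nat_lit 1,nat_lit 2,nat_lit 0,nat_lit 2,nat_lit 0])
 (.leaf [nat_lit 0x3460000000000000000000000000000000000000000000000000000000000000000000000000000000000000000000000000000000000002,nat_lit 52,nat_lit 6,nat_lit 1,nat_lit 1,nat_lit 6,nat_lit 2,nat_lit 1,nat_lit 2,nat_lit 0,nat_lit 2,nat_lit 6,nat_lit 1,nat_lit 2])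
)) (.node (.node (.leaf [nat_lit 0,nat_lit 12,nat_lit 12,nat_lit 1,nat_lit 3,nat_lit 1,nat_lit 1,nat_lit 3,nat_lit 2,nat_lit 1,nat_lit 3,nat_lit 0,nat_lit 2,nat_lit 1,nat_lit 3,nat_lit 0,nat_lit 3,nat_lit 0,nat_lit 0])
 (.leaf [nat_lit 0,nat_lit 4,nat_lit 9,nat_lit 1,nat_lit 1,nat_lit 2,nat_lit 1,nat_lit 1,nat_lit 2,nat_lit 0,nat_lit 2,nat_lit 0,nat_lit 2,nat_lit 1,nat_lit 1,nat_lit 2,nat_lit 0])
) (.node (.leaf [nat_lit 0,nat_lit 11,nat_lit 2,nat_lit 1,nat_lit 0,nat_lit 3,nat_lit 0,nat_lit 3,nat_lit 2,nat_lit 0,nat_lit 0,nat_lit 0,nat_lit 2,nat_lit 1,nat_lit 1,nat_lit 1,nat_lit 2,nat_lit 3])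
 (.leaf [nat_lit 0,nat_lit 4,nat_lit 4,nat_lit 0,nat_lit 0,nat_lit 2,nat_lit 0,nat_lit 0,nat_lit 2,nat_lit 1,nat_lit 2,nat_lit 1,nat_lit 2,nat_lit 0,nat_lit 0,nat_lit 2,nat_lit 1])
)))) (.node (.node (.node (.node (.node (.leaf [nat_lit 0x1a300000000000000000000000000000000000000000000000000000000000000000000000000000000000000000000002,nat_lit 49,nat_lit 7,nat_lit 1,nat_lit 2,nat_lit 0,nat_lit 6,nat_lit 5,nat_lit 1,nat_lit 1,nat_lit 2,nat_lit 0,nat_lit 2,nat_lit 0,nat_lit 5,nat_lit 6,nat_lit 1])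
 (.leaf [nat_lit 0,nat_lit 16,nat_lit 7,nat_lit 1,nat_lit 1,nat_lit 4,nat_lit 1,nat_lit 2,nat_lit 0,nat_lit 0,nat_lit 2,nat_lit 3,nat_lit 0,nat_lit 3,nat_lit 1,nat_lit 1,nat_lit 1,nat_lit 3,nat_lit 4,nat_lit 1,nat_lit 4,nat_lit 0,nat_lit 4,nat_lit 0])
) (.leaf [nat_lit 0x346000000000000000000000000000000000000000000000000000000000000000000000000000000000000000001,nat_lit 48,nat_lit 8,nat_lit 1,nat_lit 6,nat_lit 5,nat_lit 4,nat_lit 3,nat_lit 4,nat_lit 5,nat_lit 6,nat_lit 5,nat_lit 4,nat_lit 3,nat_lit 4,nat_lit 5])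
) (.node (.leaf [nat_lit 0,nat_lit 12,nat_lit 5,nat_lit 1,nat_lit 2,nat_lit 1,nat_lit 3,nat_lit 0,nat_lit 3,nat_lit 0,nat_lit 0,nat_lit 3,nat_lit 1,nat_lit 1,nat_lit 3,nat_lit 2,nat_lit 1,nat_lit 3,nat_lit 0])
 (.leaf [nat_lit 0x1000000000000000000000000000000000000000000000000000000000000000000000000000000000000000000000000000000000000000000,nat_lit 53,nat_lit 6,nat_lit 0,nat_lit 4,nat_lit 3,nat_lit 6,nat_lit 4,nat_lit 2,nat_lit 4,nat_lit 6,nat_lit 3,nat_lit 4,nat_lit 0,nat_lit 3,nat_lit 2,nat_lit 3,nat_lit 1,nat_lit 2])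
)) (.node (.node (.leaf [nat_lit 0x68c00000000000000000000000000000000000000000000002,nat_lit 39,nat_lit 3,nat_lit 1,nat_lit 3,nat_lit 5,nat_lit 2,nat_lit 6,nat_lit 2,nat_lit 3,nat_lit 5,nat_lit 3,nat_lit 2,nat_lit 6,nat_lit 2,nat_lit 5])
 (.leaf [nat_lit 0x34600000000000000000000000000000000000000000000000000000000000000000000000000000000000000000000000000000000000000000000000000000000000000000000000000000000000000000000000000000000000000003,nat_lit 68,nat_lit 2,nat_lit 1,nat_lit 3,nat_lit 0,nat_lit 0,nat_lit 2,nat_lit 1,nat_lit 1,nat_lit 1,nat_lit 4,nat_lit 5,nat_lit 1,nat_lit 1,nat_lit 3,nat_lit 6,nat_lit 3,nat_lit 0,nat_lit 0,nat_lit 5,nat_lit 6,nat_lit 4,nat_lit 6,nat_lit 0,nat_lit 0,nat_lit 2,nat_lit 0,nat_lit 2,nat_lit 0,nat_lit 0,nat_lit 2,nat_lit 1,nat_lit 1,nat_lit 1,nat_lit 2,nat_lit 1])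
) (.node (.leaf [nat_lit 0,nat_lit 14,nat_lit 15,nat_lit 1,nat_lit 0,nat_lit 1,nat_lit 2,nat_lit 0,nat_lit 3,nat_lit 2,nat_lit 3,nat_lit 0,nat_lit 4,nat_lit 2,nat_lit 4,nat_lit 1,nat_lit 2,nat_lit 0,nat_lit 2,nat_lit 4,nat_lit 2])
 (.leaf [nat_lit 0,nat_lit 16,nat_lit 0,nat_lit 1,nat_lit 3,nat_lit 4,nat_lit 1,nat_lit 4,nat_lit 0,nat_lit 4,nat_lit 0,nat_lit 0,nat_lit 4,nat_lit 1,nat_lit 2,nat_lit 0,nat_lit 0,nat_lit 2,nat_lit 3,nat_lit 0,nat_lit 3,nat_lit 1,nat_lit 1,nat_lit 1])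
))) (.node (.node (.node (.node (.leaf [nat_lit 0,nat_lit 22,nat_lit 12,nat_lit 1,nat_lit 3,nat_lit 1,nat_lit 5,nat_lit 1,nat_lit 3,nat_lit 5,nat_lit 0,nat_lit 3,nat_lit 1,nat_lit 5,nat_lit 3,nat_lit 0,nat_lit 5,nat_lit 0])
 (.leaf [nat_lit 0xd180000000000000000000000000000000000000000000000000000000000000000000000000000000000000000000000000000000000000000000000000000000000000000000000000000000000000000000000000000002,nat_lit 66,nat_lit 17,nat_lit 1,nat_lit 0,nat_lit 3,nat_lit 2,nat_lit 6,nat_lit 2,nat_lit 3,nat_lit 0,nat_lit 0,nat_lit 3,nat_lit 4,nat_lit 5,nat_lit 2,nat_lit 6,nat_lit 2,nat_lit 5,nat_lit 4,nat_lit 3,nat_lit 1])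
) (.leaf [nat_lit 0x1a3000000000000000000000000000000000000000000000000000000000000000000000000000000000000000000000000000000000000000002,nat_lit 53,nat_lit 8,nat_lit 1,nat_lit 4,nat_lit 2,nat_lit 0,nat_lit 3,nat_lit 2,nat_lit 3,nat_lit 1,nat_lit 4,nat_lit 3,nat_lit 6,nat_lit 4,nat_lit 2,nat_lit 4,nat_lit 6,nat_lit 3])
) (.node (.leaf [nat_lit 0x1a3000000000000000000000000000000000000000000000000000000001,nat_lit 41,nat_lit 1,nat_lit 1,nat_lit 6,nat_lit 5,nat_lit 0,nat_lit 3,nat_lit 1,nat_lit 5,nat_lit 6,nat_lit 5,nat_lit 0,nat_lit 3,nat_lit 1,nat_lit 5])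
 (.leaf [nat_lit 0xd1800000000000000000000000000000000000000000000000000000000000000000000000000000000000000000000000000000000000000000000000000000000000000002,nat_lit 58,nat_lit 2,nat_lit 1,nat_lit 1,nat_lit 5,nat_lit 6,nat_lit 5,nat_lit 1,nat_lit 4,nat_lit 5,nat_lit 0,nat_lit 3,nat_lit 5,nat_lit 6,nat_lit 5,nat_lit 3,nat_lit 1,nat_lit 5,nat_lit 4])
)) (.node (.node (.leaf [nat_lit 0x1a3000000000000000000000000000000000000000000000000000000000000000000000000000000000000000000000000000000000000000000000000000000000000000000000000000000000000000000000000002,nat_lit 65,nat_lit 13,nat_lit 1,nat_lit 3,nat_lit 4,nat_lit 5,nat_lit 2,nat_lit 1,nat_lit 6,nat_lit 0,nat_lit 2,nat_lit 5,nat_lit 4,nat_lit 3,nat_lit 5,nat_lit 0,nat_lit 3,nat_lit 6,nat_lit 3,nat_lit 1,nat_lit 5])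
 (.leaf [nat_lit 0x68c000000000000000000000000000000000000000000000000000000000000000000000000000000000000000000000000000000000000000000000000000000000000000000000000000000000000000000000000000000000002,nat_lit 67,nat_lit 1,nat_lit 1,nat_lit 1,nat_lit 0,nat_lit 4,nat_lit 1,nat_lit 1,nat_lit 4,nat_lit 2,nat_lit 5,nat_lit 6,nat_lit 5,nat_lit 2,nat_lit 4,nat_lit 0,nat_lit 0,nat_lit 4,nat_lit 1,nat_lit 1,nat_lit 6])
) (.node (.leaf [nat_lit 0xd18000000000000000000000000000000000000000000000000000000000000000000000000000000000000000000000000002,nat_lit 50,nat_lit 8,nat_lit 1,nat_lit 3,nat_lit 5,nat_lit 4,nat_lit 0,nat_lit 3,nat_lit 1,nat_lit 6,nat_lit 0,nat_lit 3,nat_lit 1,nat_lit 4,nat_lit 5,nat_lit 3,nat_lit 6])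
 (.leaf [nat_lit 0,nat_lit 28,nat_lit 1,nat_lit 1,nat_lit 5,nat_lit 4,nat_lit 2,nat_lit 0,nat_lit 2,nat_lit 1,nat_lit 4,nat_lit 5,nat_lit 4,nat_lit 2,nat_lit 0,nat_lit 2,nat_lit 1,nat_lit 4])
))))) (.node (.node (.node (.node (.node (.node (.leaf [nat_lit 0,nat_lit 20,nat_lit 3,nat_lit 1,nat_lit 3,nat_lit 5,nat_lit 3,nat_lit 5,nat_lit 3,nat_lit 5])
 (.leaf [nat_lit 0,nat_lit 16,nat_lit 19,nat_lit 1,nat_lit 0,nat_lit 3,nat_lit 4,nat_lit 1,nat_lit 4,nat_lit 0,nat_lit 4,nat_lit 0,nat_lit 0,nat_lit 4,nat_lit 1,nat_lit 2,nat_lit 0,nat_lit 0,nat_lit 2,nat_lit 3,nat_lit 0,nat_lit 3,nat_lit 1,nat_lit 1])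
) (.leaf [nat_lit 0x68c000000000000000000000000000000000000000000000000000000000000000000000000000000000000000000000000000000000000000000000000000000000000000000000000000000000000000000000000000000000002,nat_lit 67,nat_lit 4,nat_lit 1,nat_lit 0,nat_lit 1,nat_lit 4,nat_lit 2,nat_lit 5,nat_lit 6,nat_lit 5,nat_lit 2,nat_lit 4,nat_lit 0,nat_lit 0,nat_lit 4,nat_lit 1,nat_lit 1,nat_lit 6,nat_lit 0,nat_lit 0,nat_lit 4])
) (.node (.leaf [nat_lit 0,nat_lit 14,nat_lit 13,nat_lit 1,nat_lit 4,nat_lit 2,nat_lit 1,nat_lit 1,nat_lit 2,nat_lit 0,nat_lit 3,nat_lit 2,nat_lit 3,nat_lit 0,nat_lit 4,nat_lit 2,nat_lit 4,nat_lit 1,nat_lit 2,nat_lit 0,nat_lit 2])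
 (.leaf [nat_lit 0x1a3000000000000000000000000000000000000000000000000000000000000000000000000000000000000000000000000000000000000000000000000000000000000000000000000000000000000000000000000002,nat_lit 65,nat_lit 15,nat_lit 1,nat_lit 5,nat_lit 2,nat_lit 1,nat_lit 6,nat_lit 0,nat_lit 2,nat_lit 5,nat_lit 4,nat_lit 3,nat_lit 5,nat_lit 0,nat_lit 3,nat_lit 6,nat_lit 3,nat_lit 1,nat_lit 5,nat_lit 3,nat_lit 4])
)) (.node (.node (.leaf [nat_lit 0x34600000000000001,nat_lit 32,nat_lit 6,nat_lit 1,nat_lit 6,nat_lit 1,nat_lit 5,nat_lit 0,nat_lit 6,nat_lit 1,nat_lit 5,nat_lit 0])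
 (.leaf [nat_lit 0,nat_lit 16,nat_lit 11,nat_lit 0,nat_lit 4,nat_lit 1,nat_lit 1,nat_lit 4,nat_lit 1,nat_lit 4,nat_lit 0,nat_lit 4,nat_lit 3,nat_lit 0,nat_lit 0,nat_lit 0,nat_lit 3,nat_lit 1,nat_lit 3,nat_lit 2,nat_lit 1,nat_lit 1,nat_lit 2,nat_lit 0])
) (.node (.leaf [nat_lit 0x68c0000000000000000000000000000000000000000000000000000000000000000000000000000000000002,nat_lit 47,nat_lit 7,nat_lit 1,nat_lit 3,nat_lit 4,nat_lit 5,nat_lit 4,nat_lit 3,nat_lit 6,nat_lit 3,nat_lit 4,nat_lit 5,nat_lit 4,nat_lit 3,nat_lit 6])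
 (.leaf [nat_lit 0x68c00000000000000000000000000000000000000000000000000000000000000000000000000000000000000000000000000000002,nat_lit 51,nat_lit 3,nat_lit 1,nat_lit 3,nat_lit 4,nat_lit 5,nat_lit 3,nat_lit 4,nat_lit 6,nat_lit 4,nat_lit 3,nat_lit 5,nat_lit 4,nat_lit 3,nat_lit 5,nat_lit 6,nat_lit 5])
))) (.node (.node (.node (.node (.leaf [nat_lit 0,nat_lit 8,nat_lit 4,nat_lit 1,nat_lit 2,nat_lit 0,nat_lit 2,nat_lit 3,nat_lit 2,nat_lit 1,nat_lit 2,nat_lit 0,nat_lit 3,nat_lit 1])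
 (.leaf [nat_lit 0x3460000000000000000000000000000000000000000000000000000000000000000000000000000000000000000000000000000000000000000000000000000000000000000000000000000000000000000000004,nat_lit 64,nat_lit 0,nat_lit 1,nat_lit 5,nat_lit 6,nat_lit 4,nat_lit 5,nat_lit 6,nat_lit 5,nat_lit 2,nat_lit 5,nat_lit 6,nat_lit 5,nat_lit 4,nat_lit 6,nat_lit 5,nat_lit 0,nat_lit 2,nat_lit 1])
) (.leaf [nat_lit 0x8000000000000000000000000000000000000000000000000000000000000000000000000000000000000000000000000000000000000000000000000000000000000000000000000000000000000,nat_lit 62,nat_lit 11,nat_lit 0,nat_lit 4,nat_lit 6,nat_lit 4,nat_lit 5,nat_lit 4,nat_lit 5,nat_lit 6,nat_lit 4,nat_lit 6,nat_lit 5,nat_lit 4,nat_lit 5,nat_lit 6])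
) (.node (.leaf [nat_lit 0,nat_lit 25,nat_lit 10,nat_lit 1,nat_lit 3,nat_lit 0,nat_lit 5,nat_lit 1,nat_lit 5,nat_lit 2,nat_lit 3,nat_lit 2,nat_lit 5,nat_lit 0,nat_lit 5,nat_lit 1,nat_lit 3,nat_lit 5])
 (.leaf [nat_lit 0,nat_lit 17,nat_lit 12,nat_lit 0,nat_lit 4,nat_lit 0,nat_lit 2,nat_lit 1,nat_lit 1,nat_lit 3,nat_lit 0,nat_lit 0,nat_lit 4,nat_lit 0,nat_lit 0,nat_lit 2,nat_lit 0,nat_lit 2,nat_lit 0,nat_lit 3,nat_lit 0,nat_lit 2,nat_lit 1,nat_lit 2,nat_lit 3])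
)) (.node (.node (.leaf [nat_lit 0x1a3000000000000000000000000000000000000000000000000000000000000000000000000000000000000000000000000000000000000000002,nat_lit 53,nat_lit 0,nat_lit 1,nat_lit 4,nat_lit 3,nat_lit 6,nat_lit 4,nat_lit 2,nat_lit 4,nat_lit 6,nat_lit 3,nat_lit 4,nat_lit 2,nat_lit 0,nat_lit 3,nat_lit 2,nat_lit 3,nat_lit 1])
 (.leaf [nat_lit 0,nat_lit 27,nat_lit 9,nat_lit 1,nat_lit 2,nat_lit 5,nat_lit 1,nat_lit 3,nat_lit 1,nat_lit 5,nat_lit 0,nat_lit 3,nat_lit 0,nat_lit 5,nat_lit 2,nat_lit 4,nat_lit 3,nat_lit 4])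
) (.node (.leaf [nat_lit 0,nat_lit 16,nat_lit 15,nat_lit 0,nat_lit 0,nat_lit 4,nat_lit 0,nat_lit 4,nat_lit 3,nat_lit 0,nat_lit 0,nat_lit 0,nat_lit 3,nat_lit 1,nat_lit 3,nat_lit 2,nat_lit 1,nat_lit 1,nat_lit 2,nat_lit 0,nat_lit 4,nat_lit 1,nat_lit 1,nat_lit 4])
 (.leaf [nat_lit 0,nat_lit 14,nat_lit 0,nat_lit 1,nat_lit 2,nat_lit 0,nat_lit 3,nat_lit 2,nat_lit 3,nat_lit 0,nat_lit 4,nat_lit 2,nat_lit 4,nat_lit 1,nat_lit 2,nat_lit 0,nat_lit 2,nat_lit 4,nat_lit 2,nat_lit 1,nat_lit 1])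
)))) (.node (.node (.node (.node (.node (.leaf [nat_lit 0x3460000000000000000000000000000000000000000000000000000000000000000000000000000000000000000000000000000000000000000000000000000000000000000000000000000000000000000000004,nat_lit 64,nat_lit 6,nat_lit 1,nat_lit 2,nat_lit 5,nat_lit 6,nat_lit 5,nat_lit 4,nat_lit 6,nat_lit 5,nat_lit 0,nat_lit 2,nat_lit 1,nat_lit 5,nat_lit 6,nat_lit 4,nat_lit 5,nat_lit 6,nat_lit 5])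
 (.leaf [nat_lit 0,nat_lit 15,nat_lit 13,nat_lit 0,nat_lit 2,nat_lit 4,nat_lit 3,nat_lit 4,nat_lit 2,nat_lit 0,nat_lit 0,nat_lit 0,nat_lit 2,nat_lit 0,nat_lit 0,nat_lit 0,nat_lit 2,nat_lit 1,nat_lit 3,nat_lit 0,nat_lit 2,nat_lit 0])
) (.leaf [nat_lit 0x68c000000003,nat_lit 31,nat_lit 6,nat_lit 1,nat_lit 6,nat_lit 3,nat_lit 6,nat_lit 3,nat_lit 6,nat_lit 3,nat_lit 6,nat_lit 3])
) (.node (.leaf [nat_lit 0xd180001,nat_lit 30,nat_lit 2,nat_lit 1,nat_lit 6,nat_lit 1,nat_lit 2,nat_lit 0,nat_lit 6,nat_lit 1,nat_lit 2,nat_lit 0])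
 (.leaf [nat_lit 0x1a3000000000000000000000000000000000000000000000000000000000000000000000000000000000000000000000000000000000000000002,nat_lit 53,nat_lit 14,nat_lit 1,nat_lit 0,nat_lit 4,nat_lit 3,nat_lit 6,nat_lit 4,nat_lit 2,nat_lit 4,nat_lit 6,nat_lit 3,nat_lit 4,nat_lit 2,nat_lit 0,nat_lit 3,nat_lit 2,nat_lit 3])
)) (.node (.node (.leaf [nat_lit 0xd1800000000000000000000002,nat_lit 34,nat_lit 5,nat_lit 1,nat_lit 2,nat_lit 4,nat_lit 2,nat_lit 6,nat_lit 2,nat_lit 4,nat_lit 2,nat_lit 6])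
 (.leaf [nat_lit 0x34600000000000000000000000000000000000000000000000000000000000000000000000000000000000000000000000000000000000000000000000000000000000000000000000000000000000000000000000000000000000000002,nat_lit 68,nat_lit 19,nat_lit 1,nat_lit 6,nat_lit 4,nat_lit 6,nat_lit 0,nat_lit 0,nat_lit 2,nat_lit 0,nat_lit 2,nat_lit 0,nat_lit 0,nat_lit 2,nat_lit 1,nat_lit 1,nat_lit 1,nat_lit 2,nat_lit 1,nat_lit 3,nat_lit 0,nat_lit 0,nat_lit 2,nat_lit 1,nat_lit 1,nat_lit 1,nat_lit 4,nat_lit 5,nat_lit 1,nat_lit 1,nat_lit 3,nat_lit 6,nat_lit 3,nat_lit 0,nat_lit 0,nat_lit 5])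
) (.node (.leaf [nat_lit 0x1a300000000000000000000000000000000000002,nat_lit 37,nat_lit 6,nat_lit 1,nat_lit 2,nat_lit 5,nat_lit 4,nat_lit 6,nat_lit 4,nat_lit 2,nat_lit 4,nat_lit 6,nat_lit 4,nat_lit 5,nat_lit 2,nat_lit 5])
 (.leaf [nat_lit 0x200000000000000000000000000000000000000000000000000000000000000000000000000000000000000000000000000000000000000000000000000000000000000000000000000000000000000000000000000000000000000000,nat_lit 68,nat_lit 23,nat_lit 0,nat_lit 4,nat_lit 0,nat_lit 0,nat_lit 0,nat_lit 2,nat_lit 1,nat_lit 1,nat_lit 3,nat_lit 0,nat_lit 2,nat_lit 0,nat_lit 0,nat_lit 0,nat_lit 2,nat_lit 1,nat_lit 1,nat_lit 2,nat_lit 1,nat_lit 2,nat_lit 1,nat_lit 1,nat_lit 6,nat_lit 4,nat_lit 6,nat_lit 5,nat_lit 1,nat_lit 1,nat_lit 3,nat_lit 6,nat_lit 3,nat_lit 0,nat_lit 0,nat_lit 5])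
))) (.node (.node (.node (.leaf [nat_lit 0xd18000000000000000000000000000000000000000000000000000000000000000000000000000000000000000000000000000000000000000000000000000000000000000000000000000000000004,nat_lit 62,nat_lit 4,nat_lit 1,nat_lit 4,nat_lit 5,nat_lit 6,nat_lit 4,nat_lit 6,nat_lit 5,nat_lit 4,nat_lit 5,nat_lit 4,nat_lit 6,nat_lit 4,nat_lit 6,nat_lit 5])
 (.leaf [nat_lit 0,nat_lit 18,nat_lit 18,nat_lit 0,nat_lit 4,nat_lit 2,nat_lit 4,nat_lit 0,nat_lit 2,nat_lit 0,nat_lit 0,nat_lit 0,nat_lit 2,nat_lit 0,nat_lit 2,nat_lit 0,nat_lit 0,nat_lit 2,nat_lit 0,nat_lit 3,nat_lit 2,nat_lit 3,nat_lit 0,nat_lit 4,nat_lit 1,nat_lit 2,nat_lit 1])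
) (.node (.leaf [nat_lit 0xd180000000000000000000000000000000000000000000000000000000000000000000000000000000000000000000000000000000000000000000000000000000000000000000000000000000000000000000000000000002,nat_lit 66,nat_lit 7,nat_lit 1,nat_lit 3,nat_lit 4,nat_lit 5,nat_lit 2,nat_lit 6,nat_lit 2,nat_lit 5,nat_lit 4,nat_lit 3,nat_lit 1,nat_lit 1,nat_lit 3,nat_lit 2,nat_lit 6,nat_lit 2,nat_lit 3,nat_lit 0,nat_lit 0])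
 (.leaf [nat_lit 0x1a30000000000000000000000000000000000000000000000000000000000000000000000000002,nat_lit 45,nat_lit 6,nat_lit 1,nat_lit 4,nat_lit 5,nat_lit 6,nat_lit 5,nat_lit 4,nat_lit 2,nat_lit 4,nat_lit 5,nat_lit 6,nat_lit 5,nat_lit 4,nat_lit 2])
)) (.node (.node (.leaf [nat_lit 0x68c00000000000000000000000000000000000000000000000000000000000000000000000000000000000000000000000000000000000000000000000000000000000000000000000000000000000000002,nat_lit 63,nat_lit 5,nat_lit 1,nat_lit 1,nat_lit 5,nat_lit 6,nat_lit 1,nat_lit 2,nat_lit 5,nat_lit 2,nat_lit 0,nat_lit 6,nat_lit 5,nat_lit 1,nat_lit 5,nat_lit 3,nat_lit 2,nat_lit 3,nat_lit 5])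
 (.leaf [nat_lit 0x1a300000000000000000000000000000000000000000000000000000000000000000000000000000000000000000000000000000000000000000000000000000000000000000000000000000002,nat_lit 61,nat_lit 6,nat_lit 1,nat_lit 4,nat_lit 2,nat_lit 5,nat_lit 2,nat_lit 6,nat_lit 2,nat_lit 5,nat_lit 2,nat_lit 4,nat_lit 2,nat_lit 5,nat_lit 4,nat_lit 6,nat_lit 4,nat_lit 5,nat_lit 2])
) (.node (.leaf [nat_lit 0xd180000000000000000000000000000000000000000000000000000000000000000000000000000000000000000000000000000000000000000000000000000000000000000000000000000000000000000000000000000002,nat_lit 66,nat_lit 3,nat_lit 1,nat_lit 2,nat_lit 3,nat_lit 0,nat_lit 0,nat_lit 3,nat_lit 4,nat_lit 5,nat_lit 2,nat_lit 6,nat_lit 2,nat_lit 5,nat_lit 4,nat_lit 3,nat_lit 1,nat_lit 1,nat_lit 3,nat_lit 2,nat_lit 6])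
 (.leaf [nat_lit 0,nat_lit 10,nat_lit 5,nat_lit 1,nat_lit 1,nat_lit 2,nat_lit 1,nat_lit 3,nat_lit 0,nat_lit 2,nat_lit 1,nat_lit 1,nat_lit 1,nat_lit 3,nat_lit 2,nat_lit 3,nat_lit 0,nat_lit 0])
)))))) (.node (.node (.node (.node (.node (.node (.node (.leaf [nat_lit 0x68c0000000000000000000000000002,nat_lit 35,nat_lit 3,nat_lit 1,nat_lit 2,nat_lit 4,nat_lit 6,nat_lit 4,nat_lit 2,nat_lit 4,nat_lit 6,nat_lit 4])
 (.leaf [nat_lit 0,nat_lit 17,nat_lit 7,nat_lit 1,nat_lit 0,nat_lit 4,nat_lit 3,nat_lit 2,nat_lit 0,nat_lit 2,nat_lit 1,nat_lit 3,nat_lit 1,nat_lit 2,nat_lit 1,nat_lit 2,nat_lit 1,nat_lit 1,nat_lit 4,nat_lit 1,nat_lit 1,nat_lit 3,nat_lit 0,nat_lit 0,nat_lit 2])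
) (.leaf [nat_lit 0x68c000000000000000000000000000000000000000000000000000000000000000002,nat_lit 43,nat_lit 7,nat_lit 1,nat_lit 1,nat_lit 5,nat_lit 6,nat_lit 5,nat_lit 1,nat_lit 5,nat_lit 0,nat_lit 5,nat_lit 6,nat_lit 5,nat_lit 1,nat_lit 5])
) (.node (.leaf [nat_lit 0xd180002,nat_lit 30,nat_lit 3,nat_lit 1,nat_lit 0,nat_lit 2,nat_lit 0,nat_lit 6,nat_lit 1,nat_lit 2,nat_lit 0,nat_lit 6])
 (.leaf [nat_lit 0x100000000000000000000000000000000000000000000000000000000000000000000000000000000000000000000000000000000000000000000000000000000000000000000000000000000000000000000000000000000000000000001a3,nat_lit 69,nat_lit 10,nat_lit 0,nat_lit 6,nat_lit 0,nat_lit 0,nat_lit 5,nat_lit 3,nat_lit 1,nat_lit 6,nat_lit 2,nat_lit 5,nat_lit 2,nat_lit 0,nat_lit 0,nat_lit 4,nat_lit 0,nat_lit 4,nat_lit 2,nat_lit 0,nat_lit 3,nat_lit 0,nat_lit 2,nat_lit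 1,nat_lit 1,nat_lit 2,nat_lit 1,nat_lit 2,nat_lit 0,nat_lit 0,nat_lit 0,nat_lit 2,nat_lit 1,nat_lit 6,nat_lit 4,nat_lit 1,nat_lit 3,nat_lit 4])
)) (.node (.node (.leaf [nat_lit 0x68c00000000000000000000000000000000000000000000000000000000000000000000000000000000000000000000000000000002,nat_lit 51,nat_lit 4,nat_lit 1,nat_lit 4,nat_lit 5,nat_lit 3,nat_lit 4,nat_lit 6,nat_lit 4,nat_lit 3,nat_lit 5,nat_lit 4,nat_lit 3,nat_lit 5,nat_lit 6,nat_lit 5,nat_lit 3])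
 (.leaf [nat_lit 0,nat_lit 8,nat_lit 6,nat_lit 1,nat_lit 2,nat_lit 3,nat_lit 2,nat_lit 1,nat_lit 2,nat_lit 0,nat_lit 3,nat_lit 1,nat_lit 2,nat_lit 0])
) (.node (.leaf [nat_lit 0x1a30000000000000000000000000000000000000000000000000000000000000000000000000000000000000000000000000000000000000000000000000000000000002,nat_lit 57,nat_lit 11,nat_lit 1,nat_lit 1,nat_lit 5,nat_lit 0,nat_lit 3,nat_lit 1,nat_lit 5,nat_lit 1,nat_lit 6,nat_lit 3,nat_lit 5,nat_lit 0,nat_lit 3,nat_lit 1,nat_lit 5,nat_lit 3,nat_lit 6])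
 (.leaf [nat_lit 0x3460000000000000000000000000000000000000000000000000000000000000000000000000000000000000000000000000000000000000000000000000000000000000000000000000000000000000000000004,nat_lit 64,nat_lit 15,nat_lit 1,nat_lit 0,nat_lit 5,nat_lit 6,nat_lit 4,nat_lit 5,nat_lit 6,nat_lit 5,nat_lit 2,nat_lit 5,nat_lit 6,nat_lit 5,nat_lit 4,nat_lit 6,nat_lit 5,nat_lit 0,nat_lit 2])
))) (.node (.node (.node (.node (.leaf [nat_lit 0,nat_lit 26,nat_lit 1,nat_lit 1,nat_lit 4,nat_lit 5,nat_lit 2,nat_lit 5,nat_lit 4,nat_lit 5,nat_lit 2,nat_lit 0,nat_lit 0,nat_lit 5,nat_lit 1,nat_lit 1,nat_lit 5])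
 (.leaf [nat_lit 0x68c0000000000000000000000000000000000000000000000000000000000000000000000000000000000000000000000000000000000000000000000000000000000000000000002,nat_lit 59,nat_lit 15,nat_lit 1,nat_lit 0,nat_lit 5,nat_lit 2,nat_lit 5,nat_lit 0,nat_lit 3,nat_lit 6,nat_lit 3,nat_lit 1,nat_lit 2,nat_lit 5,nat_lit 2,nat_lit 0,nat_lit 3,nat_lit 6,nat_lit 3])
) (.leaf [nat_lit 0,nat_lit 17,nat_lit 11,nat_lit 0,nat_lit 3,nat_lit 4,nat_lit 0,nat_lit 2,nat_lit 1,nat_lit 1,nat_lit 3,nat_lit 0,nat_lit 0,nat_lit 4,nat_lit 0,nat_lit 0,nat_lit 2,nat_lit 0,nat_lit 2,nat_lit 0,nat_lit 3,nat_lit 0,nat_lit 2,nat_lit 1,nat_lit 2])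
) (.node (.leaf [nat_lit 0x68c0000000000000000000000000000000000000000000000000000000000000000000000000000000000002,nat_lit 47,nat_lit 8,nat_lit 1,nat_lit 4,nat_lit 5,nat_lit 4,nat_lit 3,nat_lit 6,nat_lit 3,nat_lit 4,nat_lit 5,nat_lit 4,nat_lit 3,nat_lit 6,nat_lit 3])
 (.leaf [nat_lit 0xd180000000000000000000000000000000000000000000000000000000000000000000000000000000000000000000000000000000000000000000000000000000000000000000000000000000000000000000000000000002,nat_lit 66,nat_lit 4,nat_lit 1,nat_lit 3,nat_lit 0,nat_lit 0,nat_lit 3,nat_lit 4,nat_lit 5,nat_lit 2,nat_lit 6,nat_lit 2,nat_lit 5,nat_lit 4,nat_lit 3,nat_lit 1,nat_lit 1,nat_lit 3,nat_lit 2,nat_lit 6,nat_lit 2])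
)) (.node (.node (.leaf [nat_lit 0,nat_lit 14,nat_lit 9,nat_lit 0,nat_lit 2,nat_lit 4,nat_lit 1,nat_lit 3,nat_lit 2,nat_lit 3,nat_lit 1,nat_lit 2,nat_lit 0,nat_lit 0,nat_lit 2,nat_lit 4,nat_lit 2,nat_lit 1,nat_lit 2,nat_lit 0,nat_lit 4])
 (.leaf [nat_lit 0,nat_lit 21,nat_lit 11,nat_lit 1,nat_lit 0,nat_lit 5,nat_lit 0,nat_lit 3,nat_lit 1,nat_lit 5,nat_lit 0,nat_lit 3,nat_lit 1,nat_lit 5,nat_lit 0,nat_lit 3])
) (.node (.leaf [nat_lit 0xd1800000000000000000000000000000000000000000000000000000000000000000000000000000003,nat_lit 46,nat_lit 2,nat_lit 1,nat_lit 6,nat_lit 2,nat_lit 5,nat_lit 2,nat_lit 6,nat_lit 4,nat_lit 6,nat_lit 2,nat_lit 5,nat_lit 2,nat_lit 6,nat_lit 4])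
 (.leaf [nat_lit 0,nat_lit 24,nat_lit 0,nat_lit 0,nat_lit 1,nat_lit 2,nat_lit 1,nat_lit 3,nat_lit 0,nat_lit 2,nat_lit 5,nat_lit 1,nat_lit 3,nat_lit 0,nat_lit 5,nat_lit 1,nat_lit 3])
)))) (.node (.node (.node (.node (.node (.leaf [nat_lit 0x68c000000000000000000000000000000000000000000000000000000000000000002,nat_lit 43,nat_lit 6,nat_lit 1,nat_lit 5,nat_lit 0,nat_lit 5,nat_lit 6,nat_lit 5,nat_lit 1,nat_lit 5,nat_lit 0,nat_lit 5,nat_lit 6,nat_lit 5,nat_lit 1])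
 (.leaf [nat_lit 0,nat_lit 15,nat_lit 6,nat_lit 1,nat_lit 2,nat_lit 1,nat_lit 3,nat_lit 0,nat_lit 2,nat_lit 1,nat_lit 1,nat_lit 1,nat_lit 2,nat_lit 1,nat_lit 1,nat_lit 1,nat_lit 2,nat_lit 4,nat_lit 3,nat_lit 4,nat_lit 2,nat_lit 1])
) (.leaf [nat_lit 0x1a300000000000000000000000000000000000000000000000000000000000000000000000000000000000000000000000000000000000000000000000000000000000000000000000000000002,nat_lit 61,nat_lit 9,nat_lit 1,nat_lit 2,nat_lit 6,nat_lit 2,nat_lit 5,nat_lit 2,nat_lit 4,nat_lit 2,nat_lit 5,nat_lit 4,nat_lit 6,nat_lit 4,nat_lit 5,nat_lit 2,nat_lit 4,nat_lit 2,nat_lit 5])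
) (.node (.leaf [nat_lit 0,nat_lit 17,nat_lit 20,nat_lit 0,nat_lit 4,nat_lit 0,nat_lit 0,nat_lit 2,nat_lit 0,nat_lit 2,nat_lit 0,nat_lit 3,nat_lit 0,nat_lit 2,nat_lit 1,nat_lit 2,nat_lit 3,nat_lit 4,nat_lit 0,nat_lit 2,nat_lit 1,nat_lit 1,nat_lit 3,nat_lit 0,nat_lit 0])
 (.leaf [nat_lit 0x1a300000000000000000000000000000000000000000000000000000000000000000000000000000000000000000000002,nat_lit 49,nat_lit 4,nat_lit 1,nat_lit 5,nat_lit 6,nat_lit 1,nat_lit 2,nat_lit 0,nat_lit 6,nat_lit 5,nat_lit 1,nat_lit 1,nat_lit 2,nat_lit 0,nat_lit 2,nat_lit 0])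
)) (.node (.node (.leaf [nat_lit 0xd1800000000000000000000000000000000000000000000000000000000000000000000000000000000000000000000000000000000000000000000000000000000000000002,nat_lit 58,nat_lit 8,nat_lit 1,nat_lit 5,nat_lit 0,nat_lit 3,nat_lit 5,nat_lit 6,nat_lit 5,nat_lit 3,nat_lit 1,nat_lit 5,nat_lit 4,nat_lit 0,nat_lit 5,nat_lit 6,nat_lit 5,nat_lit 1,nat_lit 4])
 (.leaf [nat_lit 0xd180000000000000000000000000000000000000000000000000000000000003,nat_lit 42,nat_lit 0,nat_lit 1,nat_lit 6,nat_lit 2,nat_lit 6,nat_lit 0,nat_lit 5,nat_lit 1,nat_lit 6,nat_lit 2,nat_lit 6,nat_lit 0,nat_lit 5,nat_lit 1])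
) (.node (.leaf [nat_lit 0,nat_lit 14,nat_lit 6,nat_lit 1,nat_lit 4,nat_lit 2,nat_lit 4,nat_lit 1,nat_lit 2,nat_lit 0,nat_lit 2,nat_lit 4,nat_lit 2,nat_lit 1,nat_lit 1,nat_lit 2,nat_lit 0,nat_lit 3,nat_lit 2,nat_lit 3,nat_lit 0])
 (.leaf [nat_lit 0,nat_lit 26,nat_lit 5,nat_lit 0,nat_lit 2,nat_lit 5,nat_lit 4,nat_lit 5,nat_lit 2,nat_lit 5,nat_lit 4,nat_lit 5,nat_lit 0,nat_lit 0,nat_lit 5,nat_lit 1,nat_lit 1])
))) (.node (.node (.node (.leaf [nat_lit 0x3460000000000000000000000000000000000000000000000000000000000000000000000000000000000000000000000000000000000000000000000000000000000000000000000000000000000000000000004,nat_lit 64,nat_lit 14,nat_lit 1,nat_lit 2,nat_lit 1,nat_lit 5,nat_lit 6,nat_lit 4,nat_lit 5,nat_lit 6,nat_lit 5,nat_lit 2,nat_lit 5,nat_lit 6,nat_lit 5,nat_lit 4,nat_lit 6,nat_lit 5,nat_lit 0])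
 (.leaf [nat_lit 0x100000000000000000000000000000000000000000000000000000000000000000000000000000000000000000000000,nat_lit 49,nat_lit 1,nat_lit 0,nat_lit 1,nat_lit 5,nat_lit 6,nat_lit 1,nat_lit 2,nat_lit 0,nat_lit 6,nat_lit 5,nat_lit 1,nat_lit 2,nat_lit 1,nat_lit 2,nat_lit 0])
) (.node (.leaf [nat_lit 0,nat_lit 23,nat_lit 5,nat_lit 1,nat_lit 0,nat_lit 2,nat_lit 0,nat_lit 5,nat_lit 2,nat_lit 1,nat_lit 1,nat_lit 2,nat_lit 0,nat_lit 0,nat_lit 2,nat_lit 5])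
 (.leaf [nat_lit 0x3460000000000000000000000000000000000000000000000000000000000000000000000000000000000000000000000000000000000002,nat_lit 52,nat_lit 5,nat_lit 1,nat_lit 2,nat_lit 0,nat_lit 6,nat_lit 2,nat_lit 1,nat_lit 2,nat_lit 0,nat_lit 2,nat_lit 6,nat_lit 1])
)) (.node (.node (.leaf [nat_lit 0x68c00000000000000000000000000000000000000000000002,nat_lit 39,nat_lit 4,nat_lit 1,nat_lit 5,nat_lit 2,nat_lit 6,nat_lit 2,nat_lit 3,nat_lit 5,nat_lit 3,nat_lit 2,nat_lit 6,nat_lit 2,nat_lit 5,nat_lit 3])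
 (.leaf [nat_lit 0,nat_lit 16,nat_lit 14,nat_lit 0,nat_lit 4,nat_lit 1,nat_lit 4,nat_lit 0,nat_lit 4,nat_lit 3,nat_lit 0,nat_lit 0,nat_lit 0,nat_lit 3,nat_lit 1,nat_lit 3,nat_lit 2,nat_lit 1,nat_lit 1,nat_lit 2,nat_lit 0,nat_lit 4,nat_lit 1,nat_lit 1])
) (.node (.leaf [nat_lit 0x8000000000000000000000000000000000000000000000000000000000000000000000000000000000000000000000000000000000000000000000000000000000000000000000000000000000000,nat_lit 62,nat_lit 3,nat_lit 0,nat_lit 5,nat_lit 6,nat_lit 4,nat_lit 6,nat_lit 5,nat_lit 4,nat_lit 5,nat_lit 6,nat_lit 4,nat_lit 6,nat_lit 4,nat_lit 5,nat_lit 4])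
 (.leaf [nat_lit 0,nat_lit 17,nat_lit 14,nat_lit 0,nat_lit 2,nat_lit 1,nat_lit 1,nat_lit 3,nat_lit 0,nat_lit 0,nat_lit 4,nat_lit 0,nat_lit 0,nat_lit 2,nat_lit 0,nat_lit 2,nat_lit 0,nat_lit 3,nat_lit 0,nat_lit 2,nat_lit 1,nat_lit 2,nat_lit 3,nat_lit 4,nat_lit 0])
))))) (.node (.node (.node (.node (.node (.node (.leaf [nat_lit 0,nat_lit 7,nat_lit 6,nat_lit 1,nat_lit 3,nat_lit 2,nat_lit 3,nat_lit 2,nat_lit 3,nat_lit 2,nat_lit 3,nat_lit 2])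
 (.leaf [nat_lit 0x1a3000000000000000000000000000000000000000000000000000000000000000000000000000000000000000000000000000000000000000002,nat_lit 53,nat_lit 12,nat_lit 1,nat_lit 2,nat_lit 3,nat_lit 1,nat_lit 4,nat_lit 3,nat_lit 6,nat_lit 4,nat_lit 2,nat_lit 4,nat_lit 6,nat_lit 3,nat_lit 4,nat_lit 2,nat_lit 0,nat_lit 3])
) (.leaf [nat_lit 0xd18000000000000000000000000000000000000000000000000000000000000000000000000000000000000000000000000002,nat_lit 50,nat_lit 12,nat_lit 1,nat_lit 3,nat_lit 1,nat_lit 6,nat_lit 0,nat_lit 3,nat_lit 1,nat_lit 4,nat_lit 5,nat_lit 3,nat_lit 6,nat_lit 3,nat_lit 5,nat_lit 4,nat_lit 0])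
) (.node (.leaf [nat_lit 0,nat_lit 17,nat_lit 13,nat_lit 0,nat_lit 1,nat_lit 2,nat_lit 1,nat_lit 1,nat_lit 3,nat_lit 0,nat_lit 0,nat_lit 4,nat_lit 0,nat_lit 0,nat_lit 2,nat_lit 0,nat_lit 2,nat_lit 0,nat_lit 3,nat_lit 0,nat_lit 2,nat_lit 1,nat_lit 2,nat_lit 3,nat_lit 4])
 (.leaf [nat_lit 0,nat_lit 15,nat_lit 9,nat_lit 0,nat_lit 3,nat_lit 0,nat_lit 2,nat_lit 0,nat_lit 2,nat_lit 4,nat_lit 3,nat_lit 4,nat_lit 2,nat_lit 0,nat_lit 0,nat_lit 0,nat_lit 2,nat_lit 0,nat_lit 0,nat_lit 0,nat_lit 2,nat_lit 1])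
)) (.node (.node (.leaf [nat_lit 0,nat_lit 26,nat_lit 10,nat_lit 1,nat_lit 5,nat_lit 1,nat_lit 1,nat_lit 5,nat_lit 4,nat_lit 5,nat_lit 2,nat_lit 5,nat_lit 4,nat_lit 5,nat_lit 2,nat_lit 0,nat_lit 0])
 (.leaf [nat_lit 0,nat_lit 15,nat_lit 0,nat_lit 0,nat_lit 1,nat_lit 0,nat_lit 0,nat_lit 2,nat_lit 0,nat_lit 0,nat_lit 0,nat_lit 2,nat_lit 1,nat_lit 3,nat_lit 0,nat_lit 2,nat_lit 0,nat_lit 2,nat_lit 4,nat_lit 3,nat_lit 4,nat_lit 2])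
) (.node (.leaf [nat_lit 0,nat_lit 9,nat_lit 6,nat_lit 1,nat_lit 3,nat_lit 2,nat_lit 3,nat_lit 0,nat_lit 2,nat_lit 1,nat_lit 3,nat_lit 2,nat_lit 3,nat_lit 0,nat_lit 2,nat_lit 1])
 (.leaf [nat_lit 0xd1800000000000000000000000000000000000000000000000000000000000000000000000000000004,nat_lit 46,nat_lit 9,nat_lit 1,nat_lit 2,nat_lit 5,nat_lit 2,nat_lit 6,nat_lit 4,nat_lit 6,nat_lit 2,nat_lit 5,nat_lit 2,nat_lit 6,nat_lit 4,nat_lit 6])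
))) (.node (.node (.node (.node (.leaf [nat_lit 0x1a30000000000000000000000000000000000000000000000000000000000000000000000000000000000000000000000000000000000000000000000000000000000002,nat_lit 57,nat_lit 6,nat_lit 1,nat_lit 3,nat_lit 1,nat_lit 5,nat_lit 3,nat_lit 6,nat_lit 0,nat_lit 5,nat_lit 0,nat_lit 3,nat_lit 1,nat_lit 5,nat_lit 1,nat_lit 6,nat_lit 3,nat_lit 5,nat_lit 0])
 (.leaf [nat_lit 0x68c000000000000000000000000000000000000000000000000000000000000000000000000000000000000000000000000000000000000000000000000002,nat_lit 55,nat_lit 8,nat_lit 1,nat_lit 1,nat_lit 2,nat_lit 3,nat_lit 0,nat_lit 0,nat_lit 6,nat_lit 1,nat_lit 1,nat_lit 3,nat_lit 2,nat_lit 1,nat_lit 3,nat_lit 0,nat_lit 6,nat_lit 1,nat_lit 3])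
) (.leaf [nat_lit 0x68c0000000000000000000000000000000000000000000000000000000000000000000000000000000000000000000000000000000000000000000000000000000000000000000002,nat_lit 59,nat_lit 2,nat_lit 1,nat_lit 5,nat_lit 0,nat_lit 3,nat_lit 6,nat_lit 3,nat_lit 1,nat_lit 2,nat_lit 5,nat_lit 2,nat_lit 0,nat_lit 3,nat_lit 6,nat_lit 3,nat_lit 1,nat_lit 5,nat_lit 2])
) (.node (.leaf [nat_lit 0xd18000000000000000000000000000000000000000000000000000000000000000000000000000000000000000000000000002,nat_lit 50,nat_lit 4,nat_lit 1,nat_lit 4,nat_lit 5,nat_lit 3,nat_lit 6,nat_lit 3,nat_lit 5,nat_lit 4,nat_lit 0,nat_lit 3,nat_lit 1,nat_lit 6,nat_lit 0,nat_lit 3,nat_lit 1])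
 (.leaf [nat_lit 0x1000000000000000000000000000000000000000000000000000000000000000000000000000000000000000000000000000000000000000000,nat_lit 53,nat_lit 14,nat_lit 0,nat_lit 4,nat_lit 0,nat_lit 3,nat_lit 2,nat_lit 3,nat_lit 1,nat_lit 2,nat_lit 4,nat_lit 3,nat_lit 6,nat_lit 4,nat_lit 2,nat_lit 4,nat_lit 6,nat_lit 3])
)) (.node (.node (.leaf [nat_lit 0,nat_lit 23,nat_lit 6,nat_lit 1,nat_lit 2,nat_lit 0,nat_lit 5,nat_lit 2,nat_lit 1,nat_lit 1,nat_lit 2,nat_lit 0,nat_lit 0,nat_lit 2,nat_lit 5,nat_lit 1])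
 (.leaf [nat_lit 0x346000000000000000000000000000000000000000000000000000000000000000000000000000000000000000000000000000000000000000000000000000000000000000000000000002,nat_lit 60,nat_lit 1,nat_lit 1,nat_lit 1,nat_lit 5,nat_lit 3,nat_lit 6,nat_lit 3,nat_lit 5,nat_lit 1,nat_lit 5,nat_lit 0,nat_lit 5,nat_lit 2,nat_lit 6,nat_lit 2,nat_lit 5,nat_lit 1,nat_lit 5])
) (.node (.leaf [nat_lit 0,nat_lit 10,nat_lit 6,nat_lit 1,nat_lit 2,nat_lit 1,nat_lit 3,nat_lit 0,nat_lit 2,nat_lit 1,nat_lit 1,nat_lit 1,nat_lit 3,nat_lit 2,nat_lit 3,nat_lit 0,nat_lit 0,nat_lit 0])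
 (.leaf [nat_lit 0x1a3000000000000000000000000000000000000000000000000000000000000000000000000000000000000000000000000000000000000000002,nat_lit 53,nat_lit 10,nat_lit 1,nat_lit 1,nat_lit 3,nat_lit 2,nat_lit 3,nat_lit 1,nat_lit 4,nat_lit 3,nat_lit 6,nat_lit 4,nat_lit 2,nat_lit 4,nat_lit 6,nat_lit 3,nat_lit 4,nat_lit 2])
)))) (.node (.node (.node (.node (.node (.leaf [nat_lit 0,nat_lit 18,nat_lit 8,nat_lit 1,nat_lit 4,nat_lit 1,nat_lit 3,nat_lit 2,nat_lit 3,nat_lit 1,nat_lit 2,nat_lit 1,nat_lit 1,nat_lit 2,nat_lit 1,nat_lit 2,nat_lit 1,nat_lit 1,nat_lit 1,nat_lit 2,nat_lit 1,nat_lit 4,nat_lit 2,nat_lit 4,nat_lit 0,nat_lit 2,nat_lit 0])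
 (.leaf [nat_lit 0,nat_lit 17,nat_lit 19,nat_lit 0,nat_lit 1,nat_lit 4,nat_lit 0,nat_lit 0,nat_lit 2,nat_lit 0,nat_lit 2,nat_lit 0,nat_lit 3,nat_lit 0,nat_lit 2,nat_lit 1,nat_lit 2,nat_lit 3,nat_lit 4,nat_lit 0,nat_lit 2,nat_lit 1,nat_lit 1,nat_lit 3,nat_lit 0])
) (.leaf [nat_lit 0x68c00000000000000000000000000000000000000000000000000000000000000000000000000000000000000000000000000000000000000000000000000000000000000000000000000000000000000002,nat_lit 63,nat_lit 3,nat_lit 1,nat_lit 3,nat_lit 5,nat_lit 0,nat_lit 5,nat_lit 6,nat_lit 1,nat_lit 2,nat_lit 5,nat_lit 2,nat_lit 0,nat_lit 6,nat_lit 5,nat_lit 1,nat_lit 5,nat_lit 3,nat_lit 2])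
) (.node (.leaf [nat_lit 0,nat_lit 22,nat_lit 6,nat_lit 1,nat_lit 0,nat_lit 5,nat_lit 3,nat_lit 0,nat_lit 5,nat_lit 0,nat_lit 3,nat_lit 1,nat_lit 5,nat_lit 1,nat_lit 3,nat_lit 5,nat_lit 0,nat_lit 3])
 (.leaf [nat_lit 0,nat_lit 9,nat_lit 5,nat_lit 1,nat_lit 0,nat_lit 3,nat_lit 2,nat_lit 3,nat_lit 0,nat_lit 2,nat_lit 1,nat_lit 3,nat_lit 2,nat_lit 3,nat_lit 0,nat_lit 2])
)) (.node (.node (.leaf [nat_lit 0,nat_lit 28,nat_lit 0,nat_lit 0,nat_lit 1,nat_lit 2,nat_lit 1,nat_lit 2,nat_lit 4,nat_lit 5,nat_lit 4,nat_lit 0,nat_lit 2,nat_lit 1,nat_lit 2,nat_lit 4,nat_lit 5,nat_lit 4])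
 (.leaf [nat_lit 0,nat_lit 15,nat_lit 8,nat_lit 1,nat_lit 3,nat_lit 0,nat_lit 2,nat_lit 1,nat_lit 1,nat_lit 1,nat_lit 2,nat_lit 1,nat_lit 1,nat_lit 1,nat_lit 2,nat_lit 4,nat_lit 3,nat_lit 4,nat_lit 2,nat_lit 1,nat_lit 2,nat_lit 1])
) (.node (.leaf [nat_lit 0x68c000000000000000000000000000000000000000000000000000000000000000000000000000000000000000000000000000000000000000000000000000000000000000000000000000000000000000000000000000000000002,nat_lit 67,nat_lit 3,nat_lit 1,nat_lit 4,nat_lit 1,nat_lit 1,nat_lit 4,nat_lit 2,nat_lit 5,nat_lit 6,nat_lit 5,nat_lit 2,nat_lit 4,nat_lit 0,nat_lit 0,nat_lit 4,nat_lit 1,nat_lit 1,nat_lit 6,nat_lit 0,nat_lit 0])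
 (.leaf [nat_lit 0,nat_lit 18,nat_lit 12,nat_lit 0,nat_lit 3,nat_lit 0,nat_lit 4,nat_lit 1,nat_lit 2,nat_lit 1,nat_lit 4,nat_lit 2,nat_lit 4,nat_lit 0,nat_lit 2,nat_lit 0,nat_lit 0,nat_lit 0,nat_lit 2,nat_lit 0,nat_lit 2,nat_lit 0,nat_lit 0,nat_lit 2,nat_lit 0,nat_lit 3,nat_lit 2])
))) (.node (.node (.node (.leaf [nat_lit 0x68c0000000000000000000000000000000000000000000000000000000000000000000000000000000000000000000000000000000000000000000000000000000000000000000002,nat_lit 59,nat_lit 1,nat_lit 1,nat_lit 2,nat_lit 5,nat_lit 0,nat_lit 3,nat_lit 6,nat_lit 3,nat_lit 1,nat_lit 2,nat_lit 5,nat_lit 2,nat_lit 0,nat_lit 3,nat_lit 6,nat_lit 3,nat_lit 1,nat_lit 5])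
 (.leaf [nat_lit 0,nat_lit 12,nat_lit 9,nat_lit 0,nat_lit 2,nat_lit 1,nat_lit 3,nat_lit 0,nat_lit 2,nat_lit 3,nat_lit 0,nat_lit 0,nat_lit 3,nat_lit 1,nat_lit 1,nat_lit 3,nat_lit 1,nat_lit 3,nat_lit 0])
) (.node (.leaf [nat_lit 0xd180000000000000000000000000000000000000000000000000000000000000000000000000000000000000000000000000000000000000000000000000000000000000000000000000000000000000000000000000000002,nat_lit 66,nat_lit 14,nat_lit 1,nat_lit 4,nat_lit 3,nat_lit 1,nat_lit 1,nat_lit 3,nat_lit 2,nat_lit 6,nat_lit 2,nat_lit 3,nat_lit 0,nat_lit 0,nat_lit 3,nat_lit 4,nat_lit 5,nat_lit 2,nat_lit 6,nat_lit 2,nat_lit 5])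
 (.leaf [nat_lit 0,nat_lit 26,nat_lit 8,nat_lit 1,nat_lit 1,nat_lit 0,nat_lit 5,nat_lit 1,nat_lit 1,nat_lit 5,nat_lit 4,nat_lit 5,nat_lit 2,nat_lit 5,nat_lit 4,nat_lit 5,nat_lit 2])
)) (.node (.node (.leaf [nat_lit 0x1a30000000000000000001,nat_lit 33,nat_lit 1,nat_lit 1,nat_lit 6,nat_lit 3,nat_lit 2,nat_lit 3,nat_lit 6,nat_lit 3,nat_lit 2,nat_lit 3])
 (.leaf [nat_lit 0x1a30000000000000000000000000000000000000000000000000000000000000000000000000000000000000000000000000000000000000000000000000000000000000000000000000000000000000000000000000000000000000000000003,nat_lit 69,nat_lit 23,nat_lit 1,nat_lit 0,nat_lit 6,nat_lit 4,nat_lit 3,nat_lit 0,nat_lit 4,nat_lit 6,nat_lit 0,nat_lit 2,nat_lit 1,nat_lit 1,nat_lit 1,nat_lit 2,nat_lit 0,nat_lit 2,nat_lit 0,nat_lit 0,nat_lit 2,nat_lit 1,nat_lit 3,nat_lit 1,nat_lit 2,nat_lit 4,nat_lit 1,nat_lit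 4,nat_lit 1,nat_lit 1,nat_lit 2,nat_lit 5,nat_lit 2,nat_lit 6,nat_lit 0,nat_lit 3,nat_lit 5,nat_lit 1])
) (.node (.leaf [nat_lit 0,nat_lit 22,nat_lit 9,nat_lit 1,nat_lit 1,nat_lit 5,nat_lit 0,nat_lit 3,nat_lit 1,nat_lit 5,nat_lit 1,nat_lit 3,nat_lit 5,nat_lit 0,nat_lit 3,nat_lit 1,nat_lit 5,nat_lit 3])
 (.leaf [nat_lit 0,nat_lit 18,nat_lit 8,nat_lit 0,nat_lit 2,nat_lit 0,nat_lit 3,nat_lit 2,nat_lit 3,nat_lit 0,nat_lit 4,nat_lit 1,nat_lit 2,nat_lit 1,nat_lit 4,nat_lit 2,nat_lit 4,nat_lit 0,nat_lit 2,nat_lit 0,nat_lit 0,nat_lit 0,nat_lit 2,nat_lit 0,nat_lit 2,nat_lit 0,nat_lit 0])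
))))))) (.node (.node (.node (.node (.node (.node (.node (.node (.leaf [nat_lit 0xd1800000000000000000000002,nat_lit 34,nat_lit 6,nat_lit 1,nat_lit 4,nat_lit 2,nat_lit 6,nat_lit 2,nat_lit 4,nat_lit 2,nat_lit 6,nat_lit 2])
 (.leaf [nat_lit 0,nat_lit 15,nat_lit 7,nat_lit 0,nat_lit 2,nat_lit 1,nat_lit 3,nat_lit 0,nat_lit 2,nat_lit 0,nat_lit 2,nat_lit 4,nat_lit 3,nat_lit 4,nat_lit 2,nat_lit 0,nat_lit 0,nat_lit 0,nat_lit 2,nat_lit 0,nat_lit 0,nat_lit 0])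
) (.leaf [nat_lit 0,nat_lit 10,nat_lit 2,nat_lit 1,nat_lit 3,nat_lit 0,nat_lit 0,nat_lit 0,nat_lit 2,nat_lit 1,nat_lit 3,nat_lit 0,nat_lit 2,nat_lit 1,nat_lit 1,nat_lit 1,nat_lit 3,nat_lit 2])
) (.node (.leaf [nat_lit 0x1a300000000000000000000000000000000000000000000000000000000000000000000000000000000000000000000002,nat_lit 49,nat_lit 0,nat_lit 1,nat_lit 2,nat_lit 0,nat_lit 2,nat_lit 0,nat_lit 5,nat_lit 6,nat_lit 1,nat_lit 2,nat_lit 0,nat_lit 6,nat_lit 5,nat_lit 1,nat_lit 1])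
 (.leaf [nat_lit 0x1a30000000000000000000000000000000000000000000000000000000000000000000000000000000000000000000000000000000000000000000000000000000000000000000000000000000000000000000000000000000000000000000003,nat_lit 69,nat_lit 12,nat_lit 1,nat_lit 4,nat_lit 1,nat_lit 1,nat_lit 2,nat_lit 5,nat_lit 2,nat_lit 6,nat_lit 0,nat_lit 3,nat_lit 5,nat_lit 1,nat_lit 1,nat_lit 6,nat_lit 4,nat_lit 3,nat_lit 0,nat_lit 4,nat_lit 6,nat_lit 0,nat_lit 2,nat_lit 1,nat_lit 1,nat_lit 1,nat_lit 2,nat_lit 0,nat_lit 2,nat_lit 0,nat_lit 0,nat_lit 2,nat_lit 1,nat_lit 3,nat_lit 1,nat_lit 2,nat_lit 4,nat_lit 1])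
)) (.node (.node (.leaf [nat_lit 0x1a30000000000000000002,nat_lit 33,nat_lit 4,nat_lit 1,nat_lit 3,nat_lit 6,nat_lit 3,nat_lit 2,nat_lit 3,nat_lit 6,nat_lit 3,nat_lit 2])
 (.leaf [nat_lit 0,nat_lit 23,nat_lit 1,nat_lit 1,nat_lit 1,nat_lit 0,nat_lit 2,nat_lit 5,nat_lit 1,nat_lit 2,nat_lit 0,nat_lit 5,nat_lit 2,nat_lit 1,nat_lit 1,nat_lit 2])
) (.node (.leaf [nat_lit 0xd18000000000000000000000000000000000000000000000000000000000000000000000000000000000000000000000000000000000000000000000000000000000000000000000000000000000004,nat_lit 62,nat_lit 1,nat_lit 1,nat_lit 4,nat_lit 6,nat_lit 5,nat_lit 4,nat_lit 5,nat_lit 6,nat_lit 4,nat_lit 6,nat_lit 5,nat_lit 4,nat_lit 5,nat_lit 4,nat_lit 6])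
 (.leaf [nat_lit 0xd18000000000000000000000000000000000000000000000000000000000000000000000000000000000000000000000000002,nat_lit 50,nat_lit 6,nat_lit 1,nat_lit 3,nat_lit 6,nat_lit 3,nat_lit 5,nat_lit 4,nat_lit 0,nat_lit 3,nat_lit 1,nat_lit 6,nat_lit 0,nat_lit 3,nat_lit 1,nat_lit 4,nat_lit 5])
))) (.node (.node (.node (.node (.leaf [nat_lit 0x1a30000000000000000000000000000000000000000000000000000000000000000000000000000000000000000000000000000000000000000000000000000000000002,nat_lit 57,nat_lit 14,nat_lit 1,nat_lit 3,nat_lit 1,nat_lit 5,nat_lit 1,nat_lit 6,nat_lit 3,nat_lit 5,nat_lit 0,nat_lit 3,nat_lit 1,nat_lit 5,nat_lit 3,nat_lit 6,nat_lit 0,nat_lit 5,nat_lit 0])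
 (.leaf [nat_lit 0xd1800000000000000000000000000000000000000000000000000000000000000000000000000000003,nat_lit 46,nat_lit 6,nat_lit 1,nat_lit 6,nat_lit 4,nat_lit 6,nat_lit 2,nat_lit 5,nat_lit 2,nat_lit 6,nat_lit 4,nat_lit 6,nat_lit 2,nat_lit 5,nat_lit 2])
) (.leaf [nat_lit 0x34600000000000000000000000000000000000000000000000000000000000000000000001,nat_lit 44,nat_lit 7,nat_lit 1,nat_lit 6,nat_lit 5,nat_lit 2,nat_lit 3,nat_lit 2,nat_lit 5,nat_lit 6,nat_lit 5,nat_lit 2,nat_lit 3,nat_lit 2,nat_lit 5])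
) (.node (.leaf [nat_lit 0,nat_lit 12,nat_lit 9,nat_lit 1,nat_lit 3,nat_lit 0,nat_lit 0,nat_lit 3,nat_lit 1,nat_lit 1,nat_lit 3,nat_lit 2,nat_lit 1,nat_lit 3,nat_lit 0,nat_lit 2,nat_lit 1,nat_lit 3,nat_lit 0])
 (.leaf [nat_lit 0,nat_lit 4,nat_lit 8,nat_lit 0,nat_lit 2,nat_lit 1,nat_lit 2,nat_lit 1,nat_lit 2,nat_lit 0,nat_lit 0,nat_lit 2,nat_lit 1,nat_lit 1,nat_lit 2,nat_lit 0,nat_lit 0])
)) (.node (.node (.leaf [nat_lit 0,nat_lit 12,nat_lit 5,nat_lit 0,nat_lit 3,nat_lit 1,nat_lit 3,nat_lit 0,nat_lit 2,nat_lit 1,nat_lit 3,nat_lit 0,nat_lit 2,nat_lit 3,nat_lit 0,nat_lit 0,nat_lit 3,nat_lit 1,nat_lit 1])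
 (.leaf [nat_lit 0,nat_lit 15,nat_lit 4,nat_lit 0,nat_lit 1,nat_lit 0,nat_lit 0,nat_lit 2,nat_lit 1,nat_lit 3,nat_lit 0,nat_lit 2,nat_lit 0,nat_lit 2,nat_lit 4,nat_lit 3,nat_lit 4,nat_lit 2,nat_lit 0,nat_lit 0,nat_lit 0,nat_lit 2])
) (.node (.leaf [nat_lit 0xd180000000000000000000000000000000000000000000000000000000000000000000000000000000000000000000000000000000000000000000004,nat_lit 54,nat_lit 9,nat_lit 1,nat_lit 2,nat_lit 5,nat_lit 2,nat_lit 6,nat_lit 5,nat_lit 6,nat_lit 5,nat_lit 6,nat_lit 5,nat_lit 6,nat_lit 2,nat_lit 5])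
 (.leaf [nat_lit 0,nat_lit 18,nat_lit 2,nat_lit 0,nat_lit 1,nat_lit 2,nat_lit 0,nat_lit 2,nat_lit 0,nat_lit 0,nat_lit 2,nat_lit 0,nat_lit 3,nat_lit 2,nat_lit 3,nat_lit 0,nat_lit 4,nat_lit 1,nat_lit 2,nat_lit 1,nat_lit 4,nat_lit 2,nat_lit 4,nat_lit 0,nat_lit 2,nat_lit 0,nat_lit 0])
)))) (.node (.node (.node (.node (.node (.leaf [nat_lit 0x8000000000000000000000000000000000000000000000000000000000000000000000000000000000000000000000000000000000000000000000000000000000000000000000000000000000000,nat_lit 62,nat_lit 0,nat_lit 0,nat_lit 4,nat_lit 5,nat_lit 4,nat_lit 5,nat_lit 6,nat_lit 4,nat_lit 6,nat_lit 5,nat_lit 4,nat_lit 5,nat_lit 6,nat_lit 4,nat_lit 6])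
 (.leaf [nat_lit 0,nat_lit 16,nat_lit 12,nat_lit 0,nat_lit 0,nat_lit 1,nat_lit 4,nat_lit 1,nat_lit 4,nat_lit 0,nat_lit 4,nat_lit 3,nat_lit 0,nat_lit 0,nat_lit 0,nat_lit 3,nat_lit 1,nat_lit 3,nat_lit 2,nat_lit 1,nat_lit 1,nat_lit 2,nat_lit 0,nat_lit 4])
) (.leaf [nat_lit 0x100000000000000000000000000000000000000000000000000000000000000000000000000000000000000000000000,nat_lit 49,nat_lit 9,nat_lit 0,nat_lit 0,nat_lit 2,nat_lit 1,nat_lit 2,nat_lit 0,nat_lit 0,nat_lit 5,nat_lit 6,nat_lit 1,nat_lit 2,nat_lit 0,nat_lit 6,nat_lit 5])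
) (.node (.leaf [nat_lit 0,nat_lit 24,nat_lit 6,nat_lit 1,nat_lit 5,nat_lit 2,nat_lit 1,nat_lit 3,nat_lit 0,nat_lit 2,nat_lit 1,nat_lit 3,nat_lit 0,nat_lit 5,nat_lit 1,nat_lit 3,nat_lit 0])
 (.leaf [nat_lit 0,nat_lit 23,nat_lit 11,nat_lit 1,nat_lit 0,nat_lit 2,nat_lit 0,nat_lit 0,nat_lit 2,nat_lit 5,nat_lit 1,nat_lit 2,nat_lit 0,nat_lit 5,nat_lit 2,nat_lit 1])
)) (.node (.node (.leaf [nat_lit 0,nat_lit 8,nat_lit 7,nat_lit 1,nat_lit 3,nat_lit 2,nat_lit 1,nat_lit 2,nat_lit 0,nat_lit 3,nat_lit 1,nat_lit 2,nat_lit 0,nat_lit 2])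
 (.leaf [nat_lit 0,nat_lit 15,nat_lit 12,nat_lit 0,nat_lit 1,nat_lit 2,nat_lit 4,nat_lit 3,nat_lit 4,nat_lit 2,nat_lit 0,nat_lit 0,nat_lit 0,nat_lit 2,nat_lit 0,nat_lit 0,nat_lit 0,nat_lit 2,nat_lit 1,nat_lit 3,nat_lit 0,nat_lit 2])
) (.node (.leaf [nat_lit 0x34600000000000000000000000000000000000000000000000000000000000000000000000000000000000000000000000000000000000000000000000000000002,nat_lit 56,nat_lit 4,nat_lit 1,nat_lit 2,nat_lit 3,nat_lit 4,nat_lit 0,nat_lit 3,nat_lit 6,nat_lit 3,nat_lit 1,nat_lit 4,nat_lit 3,nat_lit 2,nat_lit 1,nat_lit 5,nat_lit 6,nat_lit 5,nat_lit 0])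
 (.leaf [nat_lit 0,nat_lit 4,nat_lit 12,nat_lit 1,nat_lit 0,nat_lit 2,nat_lit 0,nat_lit 2,nat_lit 0,nat_lit 2,nat_lit 1,nat_lit 1,nat_lit 2,nat_lit 0,nat_lit 0,nat_lit 2,nat_lit 1])
))) (.node (.node (.node (.node (.leaf [nat_lit 0,nat_lit 9,nat_lit 7,nat_lit 1,nat_lit 2,nat_lit 3,nat_lit 0,nat_lit 2,nat_lit 1,nat_lit 3,nat_lit 2,nat_lit 3,nat_lit 0,nat_lit 2,nat_lit 1,nat_lit 3])
 (.leaf [nat_lit 0x1a300000000000000000000000000000000000002,nat_lit 37,nat_lit 11,nat_lit 1,nat_lit 2,nat_lit 4,nat_lit 6,nat_lit 4,nat_lit 5,nat_lit 2,nat_lit 5,nat_lit 2,nat_lit 5,nat_lit 4,nat_lit 6,nat_lit 4])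
) (.leaf [nat_lit 0x1a300000000000000000000000000000000000000000000000000000000000000000000000000000000000000000000000000000000000000000000000000000000000000000000000000000002,nat_lit 61,nat_lit 0,nat_lit 1,nat_lit 5,nat_lit 4,nat_lit 6,nat_lit 4,nat_lit 5,nat_lit 2,nat_lit 4,nat_lit 2,nat_lit 5,nat_lit 2,nat_lit 6,nat_lit 2,nat_lit 5,nat_lit 2,nat_lit 4,nat_lit 2])
) (.node (.leaf [nat_lit 0,nat_lit 10,nat_lit 13,nat_lit 1,nat_lit 0,nat_lit 3,nat_lit 2,nat_lit 3,nat_lit 0,nat_lit 0,nat_lit 0,nat_lit 2,nat_lit 1,nat_lit 3,nat_lit 0,nat_lit 2,nat_lit 1,nat_lit 1])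
 (.leaf [nat_lit 0,nat_lit 16,nat_lit 6,nat_lit 1,nat_lit 1,nat_lit 0,nat_lit 4,nat_lit 1,nat_lit 2,nat_lit 0,nat_lit 0,nat_lit 2,nat_lit 3,nat_lit 0,nat_lit 3,nat_lit 1,nat_lit 1,nat_lit 1,nat_lit 3,nat_lit 4,nat_lit 1,nat_lit 4,nat_lit 0,nat_lit 4])
)) (.node (.node (.leaf [nat_lit 0,nat_lit 11,nat_lit 10,nat_lit 1,nat_lit 2,nat_lit 1,nat_lit 1,nat_lit 1,nat_lit 2,nat_lit 3,nat_lit 1,nat_lit 3,nat_lit 0,nat_lit 3,nat_lit 2,nat_lit 0,nat_lit 0,nat_lit 0])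
 (.leaf [nat_lit 0x1a3000000000000000000000000000000000000000000000000000000000000000000000000000000000000000000000000000000000000000000000000000000000000000000000000000000000000000000000000002,nat_lit 65,nat_lit 4,nat_lit 1,nat_lit 4,nat_lit 3,nat_lit 5,nat_lit 0,nat_lit 3,nat_lit 6,nat_lit 3,nat_lit 1,nat_lit 5,nat_lit 3,nat_lit 4,nat_lit 5,nat_lit 2,nat_lit 1,nat_lit 6,nat_lit 0,nat_lit 2,nat_lit 5])
) (.node (.leaf [nat_lit 0,nat_lit 23,nat_lit 4,nat_lit 1,nat_lit 5,nat_lit 1,nat_lit 2,nat_lit 0,nat_lit 5,nat_lit 2,nat_lit 1,nat_lit 1,nat_lit 2,nat_lit 0,nat_lit 0,nat_lit 2])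
 (.leaf [nat_lit 0,nat_lit 25,nat_lit 0,nat_lit 1,nat_lit 5,nat_lit 2,nat_lit 3,nat_lit 2,nat_lit 5,nat_lit 0,nat_lit 5,nat_lit 1,nat_lit 3,nat_lit 5,nat_lit 3,nat_lit 0,nat_lit 5,nat_lit 1])
))))) (.node (.node (.node (.node (.node (.node (.leaf [nat_lit 0,nat_lit 27,nat_lit 7,nat_lit 1,nat_lit 3,nat_lit 4,nat_lit 2,nat_lit 5,nat_lit 1,nat_lit 3,nat_lit 1,nat_lit 5,nat_lit 0,nat_lit 3,nat_lit 0,nat_lit 5,nat_lit 2,nat_lit 4])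
 (.leaf [nat_lit 0,nat_lit 16,nat_lit 19,nat_lit 0,nat_lit 3,nat_lit 0,nat_lit 0,nat_lit 0,nat_lit 3,nat_lit 1,nat_lit 3,nat_lit 2,nat_lit 1,nat_lit 1,nat_lit 2,nat_lit 0,nat_lit 4,nat_lit 1,nat_lit 1,nat_lit 4,nat_lit 1,nat_lit 4,nat_lit 0,nat_lit 4])
) (.leaf [nat_lit 0x346000000000000000000000000000000003,nat_lit 36,nat_lit 6,nat_lit 1,nat_lit 6,nat_lit 5,nat_lit 6,nat_lit 5,nat_lit 6,nat_lit 5,nat_lit 6,nat_lit 5])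
) (.node (.leaf [nat_lit 0x100000000000000000000000000000000000000000000000000000000000000000000000000000000000000000000000,nat_lit 49,nat_lit 11,nat_lit 0,nat_lit 0,nat_lit 2,nat_lit 0,nat_lit 0,nat_lit 5,nat_lit 6,nat_lit 1,nat_lit 2,nat_lit 0,nat_lit 6,nat_lit 5,nat_lit 1,nat_lit 2])
 (.leaf [nat_lit 0,nat_lit 14,nat_lit 8,nat_lit 1,nat_lit 4,nat_lit 1,nat_lit 2,nat_lit 0,nat_lit 2,nat_lit 4,nat_lit 2,nat_lit 1,nat_lit 1,nat_lit 2,nat_lit 0,nat_lit 3,nat_lit 2,nat_lit 3,nat_lit 0,nat_lit 4,nat_lit 2])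
)) (.node (.node (.leaf [nat_lit 0,nat_lit 17,nat_lit 0,nat_lit 1,nat_lit 4,nat_lit 1,nat_lit 1,nat_lit 3,nat_lit 0,nat_lit 0,nat_lit 2,nat_lit 1,nat_lit 4,nat_lit 3,nat_lit 2,nat_lit 0,nat_lit 2,nat_lit 1,nat_lit 3,nat_lit 1,nat_lit 2,nat_lit 1,nat_lit 2,nat_lit 1,nat_lit 1])
 (.leaf [nat_lit 0,nat_lit 4,nat_lit 11,nat_lit 0,nat_lit 0,nat_lit 2,nat_lit 0,nat_lit 0,nat_lit 2,nat_lit 1,nat_lit 1,nat_lit 2,nat_lit 0,nat_lit 0,nat_lit 2,nat_lit 1,nat_lit 2])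
) (.node (.leaf [nat_lit 0,nat_lit 10,nat_lit 3,nat_lit 1,nat_lit 1,nat_lit 0,nat_lit 0,nat_lit 2,nat_lit 1,nat_lit 3,nat_lit 0,nat_lit 2,nat_lit 1,nat_lit 1,nat_lit 1,nat_lit 3,nat_lit 2,nat_lit 3])
 (.leaf [nat_lit 0,nat_lit 24,nat_lit 10,nat_lit 1,nat_lit 1,nat_lit 2,nat_lit 1,nat_lit 3,nat_lit 0,nat_lit 5,nat_lit 1,nat_lit 3,nat_lit 0,nat_lit 5,nat_lit 2,nat_lit 1,nat_lit 3])
))) (.node (.node (.node (.node (.leaf [nat_lit 0,nat_lit 23,nat_lit 7,nat_lit 1,nat_lit 1,nat_lit 5,nat_lit 2,nat_lit 1,nat_lit 1,nat_lit 2,nat_lit 0,nat_lit 0,nat_lit 2,nat_lit 5,nat_lit 1,nat_lit 2])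
 (.leaf [nat_lit 0xd18000000000000000000000000000000000000000002,nat_lit 38,nat_lit 9,nat_lit 1,nat_lit 4,nat_lit 3,nat_lit 2,nat_lit 3,nat_lit 4,nat_lit 6,nat_lit 4,nat_lit 3,nat_lit 2,nat_lit 3,nat_lit 4,nat_lit 6])
) (.leaf [nat_lit 0,nat_lit 9,nat_lit 3,nat_lit 1,nat_lit 1,nat_lit 2,nat_lit 1,nat_lit 3,nat_lit 2,nat_lit 3,nat_lit 0,nat_lit 2,nat_lit 1,nat_lit 3,nat_lit 2,nat_lit 3])
) (.node (.leaf [nat_lit 0x1a30000000000000000000000000000000000000000000000000000000000000000000000000002,nat_lit 45,nat_lit 10,nat_lit 1,nat_lit 4,nat_lit 2,nat_lit 4,nat_lit 5,nat_lit 6,nat_lit 5,nat_lit 4,nat_lit 2,nat_lit 4,nat_lit 5,nat_lit 6,nat_lit 5])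
 (.leaf [nat_lit 0,nat_lit 11,nat_lit 7,nat_lit 1,nat_lit 1,nat_lit 0,nat_lit 0,nat_lit 2,nat_lit 1,nat_lit 1,nat_lit 1,nat_lit 2,nat_lit 3,nat_lit 1,nat_lit 3,nat_lit 0,nat_lit 3,nat_lit 2])
)) (.node (.node (.leaf [nat_lit 0,nat_lit 27,nat_lit 2,nat_lit 1,nat_lit 3,nat_lit 0,nat_lit 5,nat_lit 2,nat_lit 4,nat_lit 3,nat_lit 4,nat_lit 2,nat_lit 5,nat_lit 1,nat_lit 3,nat_lit 1,nat_lit 5,nat_lit 0])
 (.leaf [nat_lit 0,nat_lit 4,nat_lit 0,nat_lit 1,nat_lit 2,nat_lit 0,nat_lit 2,nat_lit 0,nat_lit 2,nat_lit 1,nat_lit 1,nat_lit 2,nat_lit 0,nat_lit 0,nat_lit 2,nat_lit 1,nat_lit 1])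
) (.node (.leaf [nat_lit 0x34600000000000000000000000000000000000000000000000000000000000000000000002,nat_lit 44,nat_lit 0,nat_lit 1,nat_lit 5,nat_lit 6,nat_lit 5,nat_lit 2,nat_lit 3,nat_lit 2,nat_lit 5,nat_lit 6,nat_lit 5,nat_lit 2,nat_lit 3,nat_lit 2])
 (.leaf [nat_lit 0,nat_lit 26,nat_lit 11,nat_lit 0,nat_lit 4,nat_lit 5,nat_lit 0,nat_lit 0,nat_lit 5,nat_lit 1,nat_lit 1,nat_lit 2,nat_lit 5,nat_lit 4,nat_lit 5,nat_lit 2,nat_lit 5])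
)))) (.node (.node (.node (.node (.node (.leaf [nat_lit 0,nat_lit 8,nat_lit 2,nat_lit 1,nat_lit 3,nat_lit 1,nat_lit 2,nat_lit 0,nat_lit 2,nat_lit 3,nat_lit 2,nat_lit 1,nat_lit 2,nat_lit 0])
 (.leaf [nat_lit 0x34600000000000000000000000000000000000000000000000000000000000000000000000000000000000000000000000000000000000000000000000000000002,nat_lit 56,nat_lit 15,nat_lit 1,nat_lit 0,nat_lit 5,nat_lit 6,nat_lit 5,nat_lit 0,nat_lit 2,nat_lit 3,nat_lit 4,nat_lit 0,nat_lit 3,nat_lit 6,nat_lit 3,nat_lit 1,nat_lit 4,nat_lit 3,nat_lit 2])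
) (.leaf [nat_lit 0,nat_lit 14,nat_lit 1,nat_lit 1,nat_lit 1,nat_lit 3,nat_lit 2,nat_lit 3,nat_lit 0,nat_lit 4,nat_lit 2,nat_lit 4,nat_lit 1,nat_lit 2,nat_lit 0,nat_lit 2,nat_lit 4,nat_lit 2,nat_lit 1,nat_lit 1,nat_lit 2])
) (.node (.leaf [nat_lit 0xd180000000000000000000000000000000000000000000000000000000000000000000000000000000000000000000000000000000000000000000000000000000000000000000000000000000000000000000000000000002,nat_lit 66,nat_lit 10,nat_lit 1,nat_lit 2,nat_lit 6,nat_lit 2,nat_lit 5,nat_lit 4,nat_lit 3,nat_lit 1,nat_lit 1,nat_lit 3,nat_lit 2,nat_lit 6,nat_lit 2,nat_lit 3,nat_lit 0,nat_lit 0,nat_lit 3,nat_lit 4,nat_lit 5])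
 (.leaf [nat_lit 0,nat_lit 12,nat_lit 2,nat_lit 1,nat_lit 0,nat_lit 3,nat_lit 0,nat_lit 2,nat_lit 1,nat_lit 3,nat_lit 0,nat_lit 3,nat_lit 0,nat_lit 0,nat_lit 3,nat_lit 1,nat_lit 1,nat_lit 3,nat_lit 2])
)) (.node (.node (.leaf [nat_lit 0xd18000000000000000000000000000000000000000000000000000000000000000000000000000000000000000000000000000000000000000000000000000000000000000000000000000000000004,nat_lit 62,nat_lit 5,nat_lit 1,nat_lit 5,nat_lit 6,nat_lit 4,nat_lit 6,nat_lit 5,nat_lit 4,nat_lit 5,nat_lit 4,nat_lit 6,nat_lit 4,nat_lit 6,nat_lit 5,nat_lit 4])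
 (.leaf [nat_lit 0xd180000000000000000000000000000000000000000000000000000000000000000000000000000000000000000000000000000000000000000000000000000000000000000000000000000000000000000000000000000001,nat_lit 66,nat_lit 2,nat_lit 1,nat_lit 6,nat_lit 2,nat_lit 3,nat_lit 0,nat_lit 0,nat_lit 3,nat_lit 4,nat_lit 5,nat_lit 2,nat_lit 6,nat_lit 2,nat_lit 5,nat_lit 4,nat_lit 3,nat_lit 1,nat_lit 1,nat_lit 3,nat_lit 2])
) (.node (.leaf [nat_lit 0x68c0000000000000000000000000002,nat_lit 35,nat_lit 4,nat_lit 1,nat_lit 4,nat_lit 6,nat_lit 4,nat_lit 2,nat_lit 4,nat_lit 6,nat_lit 4,nat_lit 2])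
 (.leaf [nat_lit 0x68c000000000000000000000000000000000000000000000000000000000000000000000000000000000000000000000000000000000000000000000000001,nat_lit 55,nat_lit 13,nat_lit 1,nat_lit 6,nat_lit 1,nat_lit 1,nat_lit 3,nat_lit 2,nat_lit 1,nat_lit 3,nat_lit 0,nat_lit 6,nat_lit 1,nat_lit 3,nat_lit 0,nat_lit 2,nat_lit 3,nat_lit 0,nat_lit 0])
))) (.node (.node (.node (.leaf [nat_lit 0,nat_lit 14,nat_lit 3,nat_lit 1,nat_lit 2,nat_lit 3,nat_lit 0,nat_lit 4,nat_lit 2,nat_lit 4,nat_lit 1,nat_lit 2,nat_lit 0,nat_lit 2,nat_lit 4,nat_lit 2,nat_lit 1,nat_lit 1,nat_lit 2,nat_lit 0,nat_lit 3])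
 (.leaf [nat_lit 0,nat_lit 12,nat_lit 14,nat_lit 1,nat_lit 0,nat_lit 3,nat_lit 2,nat_lit 1,nat_lit 3,nat_lit 0,nat_lit 2,nat_lit 1,nat_lit 3,nat_lit 0,nat_lit 3,nat_lit 0,nat_lit 0,nat_lit 3,nat_lit 1])
) (.node (.leaf [nat_lit 0xd18000000000000000000000000000000000000000000000000000000000000000000000000000000000000000000000000000000000000000000000000000000000000000000000000000000000004,nat_lit 62,nat_lit 9,nat_lit 1,nat_lit 5,nat_lit 4,nat_lit 5,nat_lit 4,nat_lit 6,nat_lit 4,nat_lit 6,nat_lit 5,nat_lit 4,nat_lit 5,nat_lit 6,nat_lit 4,nat_lit 6])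
 (.leaf [nat_lit 0x1a30000000000000000000000000000000000000000000000000000000000000000000000000000000000000000000000000000000000000000000000000000000000002,nat_lit 57,nat_lit 13,nat_lit 1,nat_lit 1,nat_lit 3,nat_lit 1,nat_lit 5,nat_lit 1,nat_lit 6,nat_lit 3,nat_lit 5,nat_lit 0,nat_lit 3,nat_lit 1,nat_lit 5,nat_lit 3,nat_lit 6,nat_lit 0,nat_lit 5])
)) (.node (.node (.leaf [nat_lit 0x1a300000000000000000000000000000000000002,nat_lit 37,nat_lit 7,nat_lit 1,nat_lit 5,nat_lit 4,nat_lit 6,nat_lit 4,nat_lit 2,nat_lit 4,nat_lit 6,nat_lit 4,nat_lit 5,nat_lit 2,nat_lit 5,nat_lit 2])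
 (.leaf [nat_lit 0,nat_lit 23,nat_lit 8,nat_lit 1,nat_lit 5,nat_lit 2,nat_lit 1,nat_lit 1,nat_lit 2,nat_lit 0,nat_lit 0,nat_lit 2,nat_lit 5,nat_lit 1,nat_lit 2,nat_lit 0])
) (.node (.leaf [nat_lit 0,nat_lit 14,nat_lit 7,nat_lit 0,nat_lit 1,nat_lit 4,nat_lit 2,nat_lit 4,nat_lit 1,nat_lit 3,nat_lit 2,nat_lit 3,nat_lit 1,nat_lit 2,nat_lit 0,nat_lit 0,nat_lit 2,nat_lit 4,nat_lit 2,nat_lit 1,nat_lit 2])
 (.leaf [nat_lit 0,nat_lit 17,nat_lit 0,nat_lit 0,nat_lit 1,nat_lit 0,nat_lit 2,nat_lit 0,nat_lit 2,nat_lit 0,nat_lit 3,nat_lit 0,nat_lit 2,nat_lit 1,nat_lit 2,nat_lit 3,nat_lit 4,nat_lit 0,nat_lit 2,nat_lit 1,nat_lit 1,nat_lit 3,nat_lit 0,nat_lit 0,nat_lit 4])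
)))))) (.node (.node (.node (.node (.node (.node (.node (.leaf [nat_lit 0,nat_lit 7,nat_lit 5,nat_lit 1,nat_lit 2,nat_lit 3,nat_lit 2,nat_lit 3,nat_lit 2,nat_lit 3,nat_lit 2,nat_lit 3])
 (.leaf [nat_lit 0,nat_lit 24,nat_lit 8,nat_lit 1,nat_lit 0,nat_lit 3,nat_lit 0,nat_lit 2,nat_lit 1,nat_lit 3,nat_lit 0,nat_lit 5,nat_lit 1,nat_lit 3,nat_lit 0,nat_lit 5,nat_lit 2])
) (.leaf [nat_lit 0,nat_lit 12,nat_lit 3,nat_lit 1,nat_lit 3,nat_lit 0,nat_lit 2,nat_lit 1,nat_lit 3,nat_lit 0,nat_lit 3,nat_lit 0,nat_lit 0,nat_lit 3,nat_lit 1,nat_lit 1,nat_lit 3,nat_lit 2,nat_lit 1])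
) (.node (.leaf [nat_lit 0,nat_lit 11,nat_lit 0,nat_lit 1,nat_lit 2,nat_lit 3,nat_lit 1,nat_lit 3,nat_lit 0,nat_lit 3,nat_lit 2,nat_lit 0,nat_lit 0,nat_lit 0,nat_lit 2,nat_lit 1,nat_lit 1,nat_lit 1])
 (.leaf [nat_lit 0x68c00000000000000000000000000000000000000000000000000000000000000000000000000000000000000000000000000000001,nat_lit 51,nat_lit 8,nat_lit 1,nat_lit 6,nat_lit 4,nat_lit 3,nat_lit 5,nat_lit 4,nat_lit 3,nat_lit 5,nat_lit 6,nat_lit 5,nat_lit 3,nat_lit 4,nat_lit 5,nat_lit 3,nat_lit 4])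
)) (.node (.node (.leaf [nat_lit 0x1a300000000000000000000000000000000000000000000000000000000000000000000000000000000000000000000000000000000000000000000000000000000000000000000000000000002,nat_lit 61,nat_lit 14,nat_lit 1,nat_lit 4,nat_lit 2,nat_lit 5,nat_lit 4,nat_lit 6,nat_lit 4,nat_lit 5,nat_lit 2,nat_lit 4,nat_lit 2,nat_lit 5,nat_lit 2,nat_lit 6,nat_lit 2,nat_lit 5,nat_lit 2])
 (.leaf [nat_lit 0,nat_lit 25,nat_lit 8,nat_lit 1,nat_lit 3,nat_lit 5,nat_lit 3,nat_lit 0,nat_lit 5,nat_lit 1,nat_lit 5,nat_lit 2,nat_lit 3,nat_lit 2,nat_lit 5,nat_lit 0,nat_lit 5,nat_lit 1])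
) (.node (.leaf [nat_lit 0,nat_lit 26,nat_lit 4,nat_lit 0,nat_lit 0,nat_lit 2,nat_lit 5,nat_lit 4,nat_lit 5,nat_lit 2,nat_lit 5,nat_lit 4,nat_lit 5,nat_lit 0,nat_lit 0,nat_lit 5,nat_lit 1])
 (.leaf [nat_lit 0x1a300000000000000000000000000000000000000000000000000000000000000000000000000000000000000000000000000000000000000000000000000000000000000000000000000000002,nat_lit 61,nat_lit 11,nat_lit 1,nat_lit 2,nat_lit 5,nat_lit 2,nat_lit 4,nat_lit 2,nat_lit 5,nat_lit 4,nat_lit 6,nat_lit 4,nat_lit 5,nat_lit 2,nat_lit 4,nat_lit 2,nat_lit 5,nat_lit 2,nat_lit 6])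
))) (.node (.node (.node (.node (.leaf [nat_lit 0,nat_lit 2,nat_lit 5,nat_lit 0,nat_lit 1,nat_lit 0,nat_lit 0,nat_lit 0,nat_lit 0,nat_lit 0,nat_lit 0])
 (.leaf [nat_lit 0,nat_lit 4,nat_lit 0,nat_lit 0,nat_lit 1,nat_lit 0,nat_lit 2,nat_lit 1,nat_lit 1,nat_lit 2,nat_lit 0,nat_lit 0,nat_lit 2,nat_lit 1,nat_lit 2,nat_lit 1,nat_lit 2])
) (.leaf [nat_lit 0xd180000000000000000000000000000000000000000000000000000000000000000000000000000000000000000000000000000000000000000000000000000000000000000000000000000000000000000000000000000002,nat_lit 66,nat_lit 5,nat_lit 1,nat_lit 1,nat_lit 0,nat_lit 3,nat_lit 4,nat_lit 5,nat_lit 2,nat_lit 6,nat_lit 2,nat_lit 5,nat_lit 4,nat_lit 3,nat_lit 1,nat_lit 1,nat_lit 3,nat_lit 2,nat_lit 6,nat_lit 2,nat_lit 3])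
) (.node (.leaf [nat_lit 0,nat_lit 14,nat_lit 14,nat_lit 1,nat_lit 2,nat_lit 1,nat_lit 1,nat_lit 2,nat_lit 0,nat_lit 3,nat_lit 2,nat_lit 3,nat_lit 0,nat_lit 4,nat_lit 2,nat_lit 4,nat_lit 1,nat_lit 2,nat_lit 0,nat_lit 2,nat_lit 4])
 (.leaf [nat_lit 0x1a300000000000000000000000000000000000000000000000000000000000000000000000000000000000000000000002,nat_lit 49,nat_lit 2,nat_lit 1,nat_lit 2,nat_lit 0,nat_lit 5,nat_lit 6,nat_lit 1,nat_lit 2,nat_lit 0,nat_lit 6,nat_lit 5,nat_lit 1,nat_lit 1,nat_lit 2,nat_lit 0])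
)) (.node (.node (.leaf [nat_lit 0x1000000000000000000000000000000000000000000000000000000000000000000000000000000000000000000000000000000000000000000,nat_lit 53,nat_lit 13,nat_lit 0,nat_lit 3,nat_lit 4,nat_lit 0,nat_lit 3,nat_lit 2,nat_lit 3,nat_lit 1,nat_lit 2,nat_lit 4,nat_lit 3,nat_lit 6,nat_lit 4,nat_lit 2,nat_lit 4,nat_lit 6])
 (.leaf [nat_lit 0,nat_lit 28,nat_lit 9,nat_lit 0,nat_lit 0,nat_lit 2,nat_lit 4,nat_lit 5,nat_lit 4,nat_lit 0,nat_lit 2,nat_lit 1,nat_lit 2,nat_lit 4,nat_lit 5,nat_lit 4,nat_lit 0,nat_lit 2])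
) (.node (.leaf [nat_lit 0x68c0000000000000000000000000000000000000000000000000000000000000000000000000000000000002,nat_lit 47,nat_lit 5,nat_lit 1,nat_lit 3,nat_lit 6,nat_lit 3,nat_lit 4,nat_lit 5,nat_lit 4,nat_lit 3,nat_lit 6,nat_lit 3,nat_lit 4,nat_lit 5,nat_lit 4])
 (.leaf [nat_lit 0,nat_lit 27,nat_lit 3,nat_lit 1,nat_lit 1,nat_lit 5,nat_lit 2,nat_lit 4,nat_lit 3,nat_lit 4,nat_lit 2,nat_lit 5,nat_lit 1,nat_lit 3,nat_lit 1,nat_lit 5,nat_lit 0,nat_lit 3])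
)))) (.node (.node (.node (.node (.node (.leaf [nat_lit 0x1a30000000000000000000000000000000000000000000000000000000000000000000000000002,nat_lit 45,nat_lit 5,nat_lit 1,nat_lit 2,nat_lit 4,nat_lit 5,nat_lit 6,nat_lit 5,nat_lit 4,nat_lit 2,nat_lit 4,nat_lit 5,nat_lit 6,nat_lit 5,nat_lit 4])
 (.leaf [nat_lit 0x1a30000000000000000000000000000000000000000000000000000000000000000000000000001,nat_lit 45,nat_lit 8,nat_lit 1,nat_lit 6,nat_lit 5,nat_lit 4,nat_lit 2,nat_lit 4,nat_lit 5,nat_lit 6,nat_lit 5,nat_lit 4,nat_lit 2,nat_lit 4,nat_lit 5])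
) (.leaf [nat_lit 0,nat_lit 12,nat_lit 3,nat_lit 0,nat_lit 0,nat_lit 1,nat_lit 3,nat_lit 1,nat_lit 3,nat_lit 0,nat_lit 2,nat_lit 1,nat_lit 3,nat_lit 0,nat_lit 2,nat_lit 3,nat_lit 0,nat_lit 0,nat_lit 3])
) (.node (.leaf [nat_lit 0,nat_lit 27,nat_lit 13,nat_lit 1,nat_lit 0,nat_lit 5,nat_lit 0,nat_lit 3,nat_lit 0,nat_lit 5,nat_lit 2,nat_lit 4,nat_lit 3,nat_lit 4,nat_lit 2,nat_lit 5,nat_lit 1,nat_lit 3])
 (.leaf [nat_lit 0,nat_lit 14,nat_lit 2,nat_lit 0,nat_lit 2,nat_lit 4,nat_lit 2,nat_lit 1,nat_lit 2,nat_lit 0,nat_lit 4,nat_lit 2,nat_lit 4,nat_lit 1,nat_lit 3,nat_lit 2,nat_lit 3,nat_lit 1,nat_lit 2,nat_lit 0,nat_lit 0])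
)) (.node (.node (.leaf [nat_lit 0,nat_lit 28,nat_lit 12,nat_lit 1,nat_lit 2,nat_lit 1,nat_lit 4,nat_lit 5,nat_lit 4,nat_lit 2,nat_lit 0,nat_lit 2,nat_lit 1,nat_lit 4,nat_lit 5,nat_lit 4,nat_lit 2,nat_lit 0])
 (.leaf [nat_lit 0,nat_lit 9,nat_lit 8,nat_lit 1,nat_lit 3,nat_lit 0,nat_lit 2,nat_lit 1,nat_lit 3,nat_lit 2,nat_lit 3,nat_lit 0,nat_lit 2,nat_lit 1,nat_lit 3,nat_lit 2])
) (.node (.leaf [nat_lit 0x1000000000000000000000000000000000000000000000000000000000000000000000000000000000000000000000000000000000000000000,nat_lit 53,nat_lit 0,nat_lit 0,nat_lit 1,nat_lit 3,nat_lit 2,nat_lit 3,nat_lit 1,nat_lit 2,nat_lit 4,nat_lit 3,nat_lit 6,nat_lit 4,nat_lit 2,nat_lit 4,nat_lit 6,nat_lit 3,nat_lit 4])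
 (.leaf [nat_lit 0,nat_lit 22,nat_lit 11,nat_lit 1,nat_lit 1,nat_lit 3,nat_lit 1,nat_lit 5,nat_lit 1,nat_lit 3,nat_lit 5,nat_lit 0,nat_lit 3,nat_lit 1,nat_lit 5,nat_lit 3,nat_lit 0,nat_lit 5])
))) (.node (.node (.node (.leaf [nat_lit 0xd1800000000000000000000000000000000000000000000000000000000000000000000000000000004,nat_lit 46,nat_lit 10,nat_lit 1,nat_lit 5,nat_lit 2,nat_lit 6,nat_lit 4,nat_lit 6,nat_lit 2,nat_lit 5,nat_lit 2,nat_lit 6,nat_lit 4,nat_lit 6,nat_lit 2])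
 (.leaf [nat_lit 0,nat_lit 10,nat_lit 8,nat_lit 1,nat_lit 3,nat_lit 0,nat_lit 2,nat_lit 1,nat_lit 1,nat_lit 1,nat_lit 3,nat_lit 2,nat_lit 3,nat_lit 0,nat_lit 0,nat_lit 0,nat_lit 2,nat_lit 1])
) (.node (.leaf [nat_lit 0,nat_lit 15,nat_lit 1,nat_lit 0,nat_lit 1,nat_lit 0,nat_lit 2,nat_lit 0,nat_lit 0,nat_lit 0,nat_lit 2,nat_lit 1,nat_lit 3,nat_lit 0,nat_lit 2,nat_lit 0,nat_lit 2,nat_lit 4,nat_lit 3,nat_lit 4,nat_lit 2,nat_lit 0])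
 (.leaf [nat_lit 0x346000000000000000000000000000000000000000000000000000000000000000000000000000000000000000000000000000000000000000000000000000000000000000000000000002,nat_lit 60,nat_lit 2,nat_lit 1,nat_lit 5,nat_lit 3,nat_lit 6,nat_lit 3,nat_lit 5,nat_lit 1,nat_lit 5,nat_lit 0,nat_lit 5,nat_lit 2,nat_lit 6,nat_lit 2,nat_lit 5,nat_lit 1,nat_lit 5,nat_lit 0])
)) (.node (.node (.leaf [nat_lit 0x34600000000000000000000000000000000000000000000000000000000000000000000000000000000000000000000000000000000000000000000000000000002,nat_lit 56,nat_lit 8,nat_lit 1,nat_lit 3,nat_lit 6,nat_lit 3,nat_lit 1,nat_lit 4,nat_lit 3,nat_lit 2,nat_lit 1,nat_lit 5,nat_lit 6,nat_lit 5,nat_lit 0,nat_lit 2,nat_lit 3,nat_lit 4,nat_lit 0])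
 (.leaf [nat_lit 0,nat_lit 15,nat_lit 0,nat_lit 1,nat_lit 2,nat_lit 4,nat_lit 3,nat_lit 4,nat_lit 2,nat_lit 1,nat_lit 2,nat_lit 1,nat_lit 3,nat_lit 0,nat_lit 2,nat_lit 1,nat_lit 1,nat_lit 1,nat_lit 2,nat_lit 1,nat_lit 1,nat_lit 1])
) (.node (.leaf [nat_lit 0x68c00000000000000000000000000000000000000000000000000000000000000000000000000000000000000000000000000000002,nat_lit 51,nat_lit 13,nat_lit 1,nat_lit 3,nat_lit 5,nat_lit 6,nat_lit 5,nat_lit 3,nat_lit 4,nat_lit 5,nat_lit 3,nat_lit 4,nat_lit 6,nat_lit 4,nat_lit 3,nat_lit 5,nat_lit 4])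
 (.leaf [nat_lit 0,nat_lit 25,nat_lit 5,nat_lit 1,nat_lit 1,nat_lit 5,nat_lit 1,nat_lit 3,nat_lit 5,nat_lit 3,nat_lit 0,nat_lit 5,nat_lit 1,nat_lit 5,nat_lit 2,nat_lit 3,nat_lit 2,nat_lit 5])
))))) (.node (.node (.node (.node (.node (.node (.leaf [nat_lit 0x68c000000004,nat_lit 31,nat_lit 5,nat_lit 1,nat_lit 3,nat_lit 6,nat_lit 3,nat_lit 6,nat_lit 3,nat_lit 6,nat_lit 3,nat_lit 6])
 (.leaf [nat_lit 0x68c000000000000000000000000000000000000000000000000000000000000000000000000000000000000000000000000000000000000000000000000002,nat_lit 55,nat_lit 10,nat_lit 1,nat_lit 3,nat_lit 0,nat_lit 0,nat_lit 6,nat_lit 1,nat_lit 1,nat_lit 3,nat_lit 2,nat_lit 1,nat_lit 3,nat_lit 0,nat_lit 6,nat_lit 1,nat_lit 3,nat_lit 0,nat_lit 2])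
) (.leaf [nat_lit 0,nat_lit 16,nat_lit 18,nat_lit 0,nat_lit 4,nat_lit 3,nat_lit 0,nat_lit 0,nat_lit 0,nat_lit 3,nat_lit 1,nat_lit 3,nat_lit 2,nat_lit 1,nat_lit 1,nat_lit 2,nat_lit 0,nat_lit 4,nat_lit 1,nat_lit 1,nat_lit 4,nat_lit 1,nat_lit 4,nat_lit 0])
) (.node (.leaf [nat_lit 0,nat_lit 15,nat_lit 2,nat_lit 1,nat_lit 3,nat_lit 4,nat_lit 2,nat_lit 1,nat_lit 2,nat_lit 1,nat_lit 3,nat_lit 0,nat_lit 2,nat_lit 1,nat_lit 1,nat_lit 1,nat_lit 2,nat_lit 1,nat_lit 1,nat_lit 1,nat_lit 2,nat_lit 4])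
 (.leaf [nat_lit 0,nat_lit 18,nat_lit 6,nat_lit 1,nat_lit 2,nat_lit 0,nat_lit 4,nat_lit 1,nat_lit 3,nat_lit 2,nat_lit 3,nat_lit 1,nat_lit 2,nat_lit 1,nat_lit 1,nat_lit 2,nat_lit 1,nat_lit 2,nat_lit 1,nat_lit 1,nat_lit 1,nat_lit 2,nat_lit 1,nat_lit 4,nat_lit 2,nat_lit 4,nat_lit 0])
)) (.node (.node (.leaf [nat_lit 0x1a3000000000000000000000000000000000000000000000000000000002,nat_lit 41,nat_lit 0,nat_lit 1,nat_lit 5,nat_lit 6,nat_lit 5,nat_lit 0,nat_lit 3,nat_lit 1,nat_lit 5,nat_lit 6,nat_lit 5,nat_lit 0,nat_lit 3,nat_lit 1])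
 (.leaf [nat_lit 0,nat_lit 14,nat_lit 9,nat_lit 1,nat_lit 0,nat_lit 2,nat_lit 0,nat_lit 2,nat_lit 4,nat_lit 2,nat_lit 1,nat_lit 1,nat_lit 2,nat_lit 0,nat_lit 3,nat_lit 2,nat_lit 3,nat_lit 0,nat_lit 4,nat_lit 2,nat_lit 4])
) (.node (.leaf [nat_lit 0x1a300000000000000000000000000000000000000000000000000000000000000000000000000000000000000000000002,nat_lit 49,nat_lit 12,nat_lit 1,nat_lit 0,nat_lit 2,nat_lit 0,nat_lit 2,nat_lit 0,nat_lit 5,nat_lit 6,nat_lit 1,nat_lit 2,nat_lit 0,nat_lit 6,nat_lit 5,nat_lit 1])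
 (.leaf [nat_lit 0,nat_lit 12,nat_lit 1,nat_lit 0,nat_lit 1,nat_lit 3,nat_lit 1,nat_lit 1,nat_lit 3,nat_lit 1,nat_lit 3,nat_lit 0,nat_lit 2,nat_lit 1,nat_lit 3,nat_lit 0,nat_lit 2,nat_lit 3,nat_lit 0])
))) (.node (.node (.node (.node (.leaf [nat_lit 0x68c00000000000000000000000000000000000000000000001,nat_lit 39,nat_lit 0,nat_lit 1,nat_lit 6,nat_lit 2,nat_lit 5,nat_lit 3,nat_lit 5,nat_lit 2,nat_lit 6,nat_lit 2,nat_lit 3,nat_lit 5,nat_lit 3,nat_lit 2])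
 (.leaf [nat_lit 0x8000000000000000000000000000000000000000000000000000000000000000000000000000000000000000000000000000000000000000000000000000000000000000000000000000000000000,nat_lit 62,nat_lit 9,nat_lit 0,nat_lit 5,nat_lit 6,nat_lit 4,nat_lit 6,nat_lit 4,nat_lit 5,nat_lit 4,nat_lit 5,nat_lit 6,nat_lit 4,nat_lit 6,nat_lit 5,nat_lit 4])
) (.leaf [nat_lit 0,nat_lit 10,nat_lit 10,nat_lit 1,nat_lit 2,nat_lit 1,nat_lit 1,nat_lit 1,nat_lit 3,nat_lit 2,nat_lit 3,nat_lit 0,nat_lit 0,nat_lit 0,nat_lit 2,nat_lit 1,nat_lit 3,nat_lit 0])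
) (.node (.leaf [nat_lit 0,nat_lit 14,nat_lit 5,nat_lit 1,nat_lit 1,nat_lit 4,nat_lit 2,nat_lit 4,nat_lit 1,nat_lit 2,nat_lit 0,nat_lit 2,nat_lit 4,nat_lit 2,nat_lit 1,nat_lit 1,nat_lit 2,nat_lit 0,nat_lit 3,nat_lit 2,nat_lit 3])
 (.leaf [nat_lit 0,nat_lit 12,nat_lit 13,nat_lit 1,nat_lit 0,nat_lit 1,nat_lit 3,nat_lit 2,nat_lit 1,nat_lit 3,nat_lit 0,nat_lit 2,nat_lit 1,nat_lit 3,nat_lit 0,nat_lit 3,nat_lit 0,nat_lit 0,nat_lit 3])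
)) (.node (.node (.leaf [nat_lit 0,nat_lit 25,nat_lit 9,nat_lit 1,nat_lit 5,nat_lit 3,nat_lit 0,nat_lit 5,nat_lit 1,nat_lit 5,nat_lit 2,nat_lit 3,nat_lit 2,nat_lit 5,nat_lit 0,nat_lit 5,nat_lit 1,nat_lit 3])
 (.leaf [nat_lit 0xd180000000000000000000000000000000000000000000000000000000000000000000000000000000000000000000000000000000000000000000000000000000000000000000000000000000000000000000000000000002,nat_lit 66,nat_lit 16,nat_lit 1,nat_lit 0,nat_lit 1,nat_lit 3,nat_lit 2,nat_lit 6,nat_lit 2,nat_lit 3,nat_lit 0,nat_lit 0,nat_lit 3,nat_lit 4,nat_lit 5,nat_lit 2,nat_lit 6,nat_lit 2,nat_lit 5,nat_lit 4,nat_lit 3])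
) (.node (.leaf [nat_lit 0x68c00000000000000000000000000000000000000000000002,nat_lit 39,nat_lit 5,nat_lit 1,nat_lit 2,nat_lit 6,nat_lit 2,nat_lit 3,nat_lit 5,nat_lit 3,nat_lit 2,nat_lit 6,nat_lit 2,nat_lit 5,nat_lit 3,nat_lit 5])
 (.leaf [nat_lit 0x346000000000000000000000000000000000000000000000000000000000000000000000000000000000000000000000000000000000000000000000000000000000000000000000000002,nat_lit 60,nat_lit 9,nat_lit 1,nat_lit 1,nat_lit 5,nat_lit 2,nat_lit 6,nat_lit 2,nat_lit 5,nat_lit 1,nat_lit 5,nat_lit 0,nat_lit 5,nat_lit 3,nat_lit 6,nat_lit 3,nat_lit 5,nat_lit 1,nat_lit 5])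
)))) (.node (.node (.node (.node (.node (.leaf [nat_lit 0xd18000000000000000000000000000000000000000000000000000000000000000000000000000000000000000000000000002,nat_lit 50,nat_lit 10,nat_lit 1,nat_lit 4,nat_lit 0,nat_lit 3,nat_lit 1,nat_lit 6,nat_lit 0,nat_lit 3,nat_lit 1,nat_lit 4,nat_lit 5,nat_lit 3,nat_lit 6,nat_lit 3,nat_lit 5])
 (.leaf [nat_lit 0,nat_lit 24,nat_lit 6,nat_lit 0,nat_lit 5,nat_lit 1,nat_lit 3,nat_lit 0,nat_lit 5,nat_lit 1,nat_lit 3,nat_lit 0,nat_lit 2,nat_lit 1,nat_lit 3,nat_lit 0,nat_lit 2])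
) (.leaf [nat_lit 0,nat_lit 15,nat_lit 3,nat_lit 1,nat_lit 4,nat_lit 2,nat_lit 1,nat_lit 2,nat_lit 1,nat_lit 3,nat_lit 0,nat_lit 2,nat_lit 1,nat_lit 1,nat_lit 1,nat_lit 2,nat_lit 1,nat_lit 1,nat_lit 1,nat_lit 2,nat_lit 4,nat_lit 3])
) (.node (.leaf [nat_lit 0x1a3000000000000000000000000000000000000000000000000000000000000000000000000000000000000000000000000000000000000000002,nat_lit 53,nat_lit 11,nat_lit 1,nat_lit 3,nat_lit 2,nat_lit 3,nat_lit 1,nat_lit 4,nat_lit 3,nat_lit 6,nat_lit 4,nat_lit 2,nat_lit 4,nat_lit 6,nat_lit 3,nat_lit 4,nat_lit 2,nat_lit 0])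
 (.leaf [nat_lit 0,nat_lit 5,nat_lit 19,nat_lit 1,nat_lit 0,nat_lit 1,nat_lit 2,nat_lit 1,nat_lit 1,nat_lit 2,nat_lit 1,nat_lit 2,nat_lit 1,nat_lit 1,nat_lit 2,nat_lit 1,nat_lit 1,nat_lit 2,nat_lit 1,nat_lit 2,nat_lit 1,nat_lit 1,nat_lit 2,nat_lit 1,nat_lit 1,nat_lit 2,nat_lit 1,nat_lit 2])
)) (.node (.node (.leaf [nat_lit 0x68c000000000000000000000000000000000000000000000000000000000000000000000000000000000000000000000000000000000000000000000000000000000000000000000000000000000000000000000000000000000002,nat_lit 67,nat_lit 13,nat_lit 1,nat_lit 1,nat_lit 0,nat_lit 4,nat_lit 1,nat_lit 1,nat_lit 6,nat_lit 0,nat_lit 0,nat_lit 4,nat_lit 1,nat_lit 1,nat_lit 4,nat_lit 2,nat_lit 5,nat_lit 6,nat_lit 5,nat_lit 2,nat_lit 4])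
 (.leaf [nat_lit 0x1a300000000000000000000000000000000000000000000000000000000000000000000000000000000000000000000002,nat_lit 49,nat_lit 10,nat_lit 1,nat_lit 5,nat_lit 1,nat_lit 1,nat_lit 2,nat_lit 0,nat_lit 2,nat_lit 0,nat_lit 5,nat_lit 6,nat_lit 1,nat_lit 2,nat_lit 0,nat_lit 6])
) (.node (.leaf [nat_lit 0x1a300000000000000000000000000000000000000000000000000000000000000000000000000000000000000000000000000000000000000000000000000000000000000000000000000000002,nat_lit 61,nat_lit 3,nat_lit 1,nat_lit 4,nat_lit 5,nat_lit 2,nat_lit 4,nat_lit 2,nat_lit 5,nat_lit 2,nat_lit 6,nat_lit 2,nat_lit 5,nat_lit 2,nat_lit 4,nat_lit 2,nat_lit 5,nat_lit 4,nat_lit 6])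
 (.leaf [nat_lit 0,nat_lit 12,nat_lit 6,nat_lit 0,nat_lit 0,nat_lit 3,nat_lit 0,nat_lit 2,nat_lit 1,nat_lit 3,nat_lit 0,nat_lit 2,nat_lit 3,nat_lit 0,nat_lit 0,nat_lit 3,nat_lit 1,nat_lit 1,nat_lit 3])
))) (.node (.node (.node (.leaf [nat_lit 0x68c00000000000000000000000000000000000000000000000000000000000000000000000000000000000000000000000000000002,nat_lit 51,nat_lit 6,nat_lit 1,nat_lit 3,nat_lit 4,nat_lit 6,nat_lit 4,nat_lit 3,nat_lit 5,nat_lit 4,nat_lit 3,nat_lit 5,nat_lit 6,nat_lit 5,nat_lit 3,nat_lit 4,nat_lit 5])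
 (.leaf [nat_lit 0,nat_lit 26,nat_lit 5,nat_lit 1,nat_lit 4,nat_lit 5,nat_lit 2,nat_lit 0,nat_lit 0,nat_lit 5,nat_lit 1,nat_lit 1,nat_lit 5,nat_lit 4,nat_lit 5,nat_lit 2,nat_lit 5])
) (.node (.leaf [nat_lit 0x346000000000000000000000000000000000000000000000000000000000000000000000000000000000000000000000000000000000000000000000000000000000000000000000000002,nat_lit 60,nat_lit 8,nat_lit 1,nat_lit 5,nat_lit 0,nat_lit 5,nat_lit 2,nat_lit 6,nat_lit 2,nat_lit 5,nat_lit 1,nat_lit 5,nat_lit 0,nat_lit 5,nat_lit 3,nat_lit 6,nat_lit 3,nat_lit 5,nat_lit 1])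
 (.leaf [nat_lit 0,nat_lit 18,nat_lit 5,nat_lit 1,nat_lit 1,nat_lit 2,nat_lit 0,nat_lit 4,nat_lit 1,nat_lit 3,nat_lit 2,nat_lit 3,nat_lit 1,nat_lit 2,nat_lit 1,nat_lit 1,nat_lit 2,nat_lit 1,nat_lit 2,nat_lit 1,nat_lit 1,nat_lit 1,nat_lit 2,nat_lit 1,nat_lit 4,nat_lit 2,nat_lit 4])
)) (.node (.node (.leaf [nat_lit 0,nat_lit 23,nat_lit 2,nat_lit 1,nat_lit 1,nat_lit 2,nat_lit 5,nat_lit 1,nat_lit 2,nat_lit 0,nat_lit 5,nat_lit 2,nat_lit 1,nat_lit 1,nat_lit 2,nat_lit 0])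
 (.leaf [nat_lit 0x3460000000000000000000000000000000000000000000000000000000000000000000000000000000000000000000000000000000000002,nat_lit 52,nat_lit 9,nat_lit 1,nat_lit 0,nat_lit 2,nat_lit 0,nat_lit 2,nat_lit 6,nat_lit 1,nat_lit 2,nat_lit 0,nat_lit 6,nat_lit 2])
) (.node (.leaf [nat_lit 0x1a300000000000000000000000000000000000002,nat_lit 37,nat_lit 2,nat_lit 1,nat_lit 4,nat_lit 5,nat_lit 2,nat_lit 5,nat_lit 2,nat_lit 5,nat_lit 4,nat_lit 6,nat_lit 4,nat_lit 2,nat_lit 4,nat_lit 6])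
 (.leaf [nat_lit 0,nat_lit 14,nat_lit 10,nat_lit 0,nat_lit 4,nat_lit 1,nat_lit 3,nat_lit 2,nat_lit 3,nat_lit 1,nat_lit 2,nat_lit 0,nat_lit 0,nat_lit 2,nat_lit 4,nat_lit 2,nat_lit 1,nat_lit 2,nat_lit 0,nat_lit 4,nat_lit 2])
)))))))) (.node (.node (.node (.node (.node (.node (.node (.node (.node (.leaf [nat_lit 0x34600000000000002,nat_lit 32,nat_lit 4,nat_lit 1,nat_lit 5,nat_lit 0,nat_lit 6,nat_lit 1,nat_lit 5,nat_lit 0,nat_lit 6,nat_lit 1])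
 (.leaf [nat_lit 0,nat_lit 26,nat_lit 3,nat_lit 0,nat_lit 0,nat_lit 1,nat_lit 2,nat_lit 5,nat_lit 4,nat_lit 5,nat_lit 2,nat_lit 5,nat_lit 4,nat_lit 5,nat_lit 0,nat_lit 0,nat_lit 5])
) (.leaf [nat_lit 0,nat_lit 22,nat_lit 4,nat_lit 1,nat_lit 1,nat_lit 3,nat_lit 1,nat_lit 5,nat_lit 3,nat_lit 0,nat_lit 5,nat_lit 0,nat_lit 3,nat_lit 1,nat_lit 5,nat_lit 1,nat_lit 3,nat_lit 5])
) (.node (.leaf [nat_lit 0,nat_lit 8,nat_lit 0,nat_lit 1,nat_lit 2,nat_lit 0,nat_lit 3,nat_lit 1,nat_lit 2,nat_lit 0,nat_lit 2,nat_lit 3,nat_lit 2,nat_lit 1])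
 (.leaf [nat_lit 0,nat_lit 27,nat_lit 1,nat_lit 1,nat_lit 1,nat_lit 3,nat_lit 0,nat_lit 5,nat_lit 2,nat_lit 4,nat_lit 3,nat_lit 4,nat_lit 2,nat_lit 5,nat_lit 1,nat_lit 3,nat_lit 1,nat_lit 5])
)) (.node (.node (.leaf [nat_lit 0x346000000000000000000000000000000000000000000000000000000000000000000000000000000000000000000000000000000000000000000000000000000000000000000000000002,nat_lit 60,nat_lit 0,nat_lit 1,nat_lit 5,nat_lit 0,nat_lit 5,nat_lit 3,nat_lit 6,nat_lit 3,nat_lit 5,nat_lit 1,nat_lit 5,nat_lit 0,nat_lit 5,nat_lit 2,nat_lit 6,nat_lit 2,nat_lit 5,nat_lit 1])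
 (.leaf [nat_lit 0,nat_lit 4,nat_lit 3,nat_lit 1,nat_lit 1,nat_lit 2,nat_lit 1,nat_lit 1,nat_lit 2,nat_lit 0,nat_lit 0,nat_lit 2,nat_lit 1,nat_lit 1,nat_lit 2,nat_lit 0,nat_lit 2])
) (.node (.leaf [nat_lit 0x68c00000000000000000000000000000000000000000000000000000000000000000000000000000000000000000000000000000002,nat_lit 51,nat_lit 5,nat_lit 1,nat_lit 5,nat_lit 3,nat_lit 4,nat_lit 6,nat_lit 4,nat_lit 3,nat_lit 5,nat_lit 4,nat_lit 3,nat_lit 5,nat_lit 6,nat_lit 5,nat_lit 3,nat_lit 4])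
 (.leaf [nat_lit 0,nat_lit 4,nat_lit 1,nat_lit 1,nat_lit 1,nat_lit 2,nat_lit 0,nat_lit 2,nat_lit 1,nat_lit 1,nat_lit 2,nat_lit 0,nat_lit 0,nat_lit 2,nat_lit 1,nat_lit 1,nat_lit 2])
))) (.node (.node (.node (.node (.leaf [nat_lit 0,nat_lit 20,nat_lit 4,nat_lit 1,nat_lit 5,nat_lit 3,nat_lit 5,nat_lit 3,nat_lit 5,nat_lit 3])
 (.leaf [nat_lit 0x34600000000000000000000000000000000000000000000000000000000000000000000002,nat_lit 44,nat_lit 2,nat_lit 1,nat_lit 5,nat_lit 2,nat_lit 3,nat_lit 2,nat_lit 5,nat_lit 6,nat_lit 5,nat_lit 2,nat_lit 3,nat_lit 2,nat_lit 5,nat_lit 6])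
) (.leaf [nat_lit 0x2000000000000000000000000000000000000000000000000000000000000000000000000000000000000000000000000000000000000000000000000000000000000000000000000000000000000000000000000000000000000001a3,nat_lit 68,nat_lit 18,nat_lit 0,nat_lit 6,nat_lit 3,nat_lit 0,nat_lit 0,nat_lit 5,nat_lit 4,nat_lit 0,nat_lit 0,nat_lit 0,nat_lit 2,nat_lit 1,nat_lit 1,nat_lit 3,nat_lit 0,nat_lit 2,nat_lit 0,nat_lit 0,nat_lit 0,nat_lit 2,nat_lit 1,nat_lit 1,nat_lit 2,nat_lit 1,nat_lit 2,nat_lit 1,nat_lit 1,nat_lit 6,nat_lit 4,nat_lit 6,nat_lit 5,nat_lit 1,nat_lit 1,nat_lit 3])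
) (.node (.leaf [nat_lit 0x1000000000000000000000000000000000000000000000000000000000000000000000000000000000000000000000000000000000000000000,nat_lit 53,nat_lit 9,nat_lit 0,nat_lit 4,nat_lit 2,nat_lit 4,nat_lit 6,nat_lit 3,nat_lit 4,nat_lit 0,nat_lit 3,nat_lit 2,nat_lit 3,nat_lit 1,nat_lit 2,nat_lit 4,nat_lit 3,nat_lit 6])
 (.leaf [nat_lit 0xd180000000000000000000000000000000000000000000000000000000000000000000000000000000000000000000000000000000000000000000004,nat_lit 54,nat_lit 11,nat_lit 1,nat_lit 2,nat_lit 6,nat_lit 5,nat_lit 6,nat_lit 5,nat_lit 6,nat_lit 5,nat_lit 6,nat_lit 2,nat_lit 5,nat_lit 2,nat_lit 5])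
)) (.node (.node (.leaf [nat_lit 0,nat_lit 25,nat_lit 12,nat_lit 1,nat_lit 5,nat_lit 1,nat_lit 5,nat_lit 2,nat_lit 3,nat_lit 2,nat_lit 5,nat_lit 0,nat_lit 5,nat_lit 1,nat_lit 3,nat_lit 5,nat_lit 3,nat_lit 0])
 (.leaf [nat_lit 0,nat_lit 4,nat_lit 6,nat_lit 1,nat_lit 0,nat_lit 2,nat_lit 0,nat_lit 0,nat_lit 2,nat_lit 1,nat_lit 1,nat_lit 2,nat_lit 0,nat_lit 2,nat_lit 0,nat_lit 2,nat_lit 1])
) (.node (.leaf [nat_lit 0x1a300000000000000000000000000000000000000000000000000000000000000000000000000000000000000000000002,nat_lit 49,nat_lit 3,nat_lit 1,nat_lit 1,nat_lit 5,nat_lit 6,nat_lit 1,nat_lit 2,nat_lit 0,nat_lit 6,nat_lit 5,nat_lit 1,nat_lit 1,nat_lit 2,nat_lit 0,nat_lit 2])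
 (.leaf [nat_lit 0,nat_lit 26,nat_lit 0,nat_lit 1,nat_lit 5,nat_lit 4,nat_lit 5,nat_lit 2,nat_lit 5,nat_lit 4,nat_lit 5,nat_lit 2,nat_lit 0,nat_lit 0,nat_lit 5,nat_lit 1,nat_lit 1])
)))) (.node (.node (.node (.node (.node (.leaf [nat_lit 0xd18000000000000000000000000000000000000000002,nat_lit 38,nat_lit 5,nat_lit 1,nat_lit 2,nat_lit 3,nat_lit 4,nat_lit 6,nat_lit 4,nat_lit 3,nat_lit 2,nat_lit 3,nat_lit 4,nat_lit 6,nat_lit 4,nat_lit 3])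
 (.leaf [nat_lit 0,nat_lit 25,nat_lit 3,nat_lit 1,nat_lit 2,nat_lit 5,nat_lit 0,nat_lit 5,nat_lit 1,nat_lit 3,nat_lit 5,nat_lit 3,nat_lit 0,nat_lit 5,nat_lit 1,nat_lit 5,nat_lit 2,nat_lit 3])
) (.leaf [nat_lit 0x3460000000000000000000000000000000000000000000000000002,nat_lit 40,nat_lit 5,nat_lit 1,nat_lit 0,nat_lit 4,nat_lit 6,nat_lit 4,nat_lit 0,nat_lit 2,nat_lit 1,nat_lit 4,nat_lit 6,nat_lit 4,nat_lit 0,nat_lit 2])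
) (.node (.leaf [nat_lit 0,nat_lit 12,nat_lit 0,nat_lit 1,nat_lit 3,nat_lit 2,nat_lit 1,nat_lit 3,nat_lit 0,nat_lit 2,nat_lit 1,nat_lit 3,nat_lit 0,nat_lit 3,nat_lit 0,nat_lit 0,nat_lit 3,nat_lit 1,nat_lit 1])
 (.leaf [nat_lit 0,nat_lit 11,nat_lit 13,nat_lit 1,nat_lit 0,nat_lit 2,nat_lit 3,nat_lit 1,nat_lit 3,nat_lit 0,nat_lit 3,nat_lit 2,nat_lit 0,nat_lit 0,nat_lit 0,nat_lit 2,nat_lit 1,nat_lit 1])
)) (.node (.node (.leaf [nat_lit 0x8000000000000000000000000000000000000000000000000000000000000000000000000000000000000000000000000000000000000000000000000000000000000000000000000000000000000,nat_lit 62,nat_lit 7,nat_lit 0,nat_lit 5,nat_lit 4,nat_lit 5,nat_lit 6,nat_lit 4,nat_lit 6,nat_lit 4,nat_lit 5,nat_lit 4,nat_lit 5,nat_lit 6,nat_lit 4,nat_lit 6])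
 (.leaf [nat_lit 0,nat_lit 15,nat_lit 17,nat_lit 1,nat_lit 0,nat_lit 2,nat_lit 4,nat_lit 3,nat_lit 4,nat_lit 2,nat_lit 1,nat_lit 2,nat_lit 1,nat_lit 3,nat_lit 0,nat_lit 2,nat_lit 1,nat_lit 1,nat_lit 1,nat_lit 2,nat_lit 1,nat_lit 1])
) (.node (.leaf [nat_lit 0,nat_lit 26,nat_lit 1,nat_lit 0,nat_lit 1,nat_lit 5,nat_lit 1,nat_lit 1,nat_lit 2,nat_lit 5,nat_lit 4,nat_lit 5,nat_lit 2,nat_lit 5,nat_lit 4,nat_lit 5,nat_lit 0])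
 (.leaf [nat_lit 0,nat_lit 12,nat_lit 2,nat_lit 0,nat_lit 3,nat_lit 1,nat_lit 1,nat_lit 3,nat_lit 1,nat_lit 3,nat_lit 0,nat_lit 2,nat_lit 1,nat_lit 3,nat_lit 0,nat_lit 2,nat_lit 3,nat_lit 0,nat_lit 0])
))) (.node (.node (.node (.node (.leaf [nat_lit 0xd180000000000000000000000000000000000000000000000000000000000000000000000000000000000000000000000000000000000000000000004,nat_lit 54,nat_lit 8,nat_lit 1,nat_lit 5,nat_lit 2,nat_lit 5,nat_lit 2,nat_lit 6,nat_lit 5,nat_lit 6,nat_lit 5,nat_lit 6,nat_lit 5,nat_lit 6,nat_lit 2])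
 (.leaf [nat_lit 0x1a300000000000000000000000000000000000000000000000000000000000000000000000000000000000000000000002,nat_lit 49,nat_lit 6,nat_lit 1,nat_lit 0,nat_lit 2,nat_lit 0,nat_lit 6,nat_lit 5,nat_lit 1,nat_lit 1,nat_lit 2,nat_lit 0,nat_lit 2,nat_lit 0,nat_lit 5,nat_lit 6])
) (.leaf [nat_lit 0x68c00000000000000000000000000000000000000000000000000000000000000000000000000000000000000000000000000000002,nat_lit 51,nat_lit 10,nat_lit 1,nat_lit 3,nat_lit 5,nat_lit 4,nat_lit 3,nat_lit 5,nat_lit 6,nat_lit 5,nat_lit 3,nat_lit 4,nat_lit 5,nat_lit 3,nat_lit 4,nat_lit 6,nat_lit 4])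
) (.node (.leaf [nat_lit 0x3460000000000000000000000000000000000000000000000000000000000000000000000000000000000000000000000000000000000000000000000000000000000000000000000000000000000000000000004,nat_lit 64,nat_lit 13,nat_lit 1,nat_lit 1,nat_lit 2,nat_lit 1,nat_lit 5,nat_lit 6,nat_lit 4,nat_lit 5,nat_lit 6,nat_lit 5,nat_lit 2,nat_lit 5,nat_lit 6,nat_lit 5,nat_lit 4,nat_lit 6,nat_lit 5])
 (.leaf [nat_lit 0,nat_lit 17,nat_lit 2,nat_lit 1,nat_lit 0,nat_lit 3,nat_lit 0,nat_lit 0,nat_lit 2,nat_lit 1,nat_lit 4,nat_lit 3,nat_lit 2,nat_lit 0,nat_lit 2,nat_lit 1,nat_lit 3,nat_lit 1,nat_lit 2,nat_lit 1,nat_lit 2,nat_lit 1,nat_lit 1,nat_lit 4,nat_lit 1])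
)) (.node (.node (.leaf [nat_lit 0x1a300000000000000000000000000000000000002,nat_lit 37,nat_lit 8,nat_lit 1,nat_lit 4,nat_lit 6,nat_lit 4,nat_lit 2,nat_lit 4,nat_lit 6,nat_lit 4,nat_lit 5,nat_lit 2,nat_lit 5,nat_lit 2,nat_lit 5])
 (.leaf [nat_lit 0,nat_lit 24,nat_lit 5,nat_lit 0,nat_lit 2,nat_lit 5,nat_lit 1,nat_lit 3,nat_lit 0,nat_lit 5,nat_lit 1,nat_lit 3,nat_lit 0,nat_lit 2,nat_lit 1,nat_lit 3,nat_lit 0])
) (.node (.leaf [nat_lit 0,nat_lit 18,nat_lit 9,nat_lit 1,nat_lit 0,nat_lit 3,nat_lit 2,nat_lit 3,nat_lit 1,nat_lit 2,nat_lit 1,nat_lit 1,nat_lit 2,nat_lit 1,nat_lit 2,nat_lit 1,nat_lit 1,nat_lit 1,nat_lit 2,nat_lit 1,nat_lit 4,nat_lit 2,nat_lit 4,nat_lit 0,nat_lit 2,nat_lit 0,nat_lit 4])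
 (.leaf [nat_lit 0x68c00000000000000000000000000000000000000000000000000000000000000000000000000000000000000000000000000000002,nat_lit 51,nat_lit 7,nat_lit 1,nat_lit 4,nat_lit 6,nat_lit 4,nat_lit 3,nat_lit 5,nat_lit 4,nat_lit 3,nat_lit 5,nat_lit 6,nat_lit 5,nat_lit 3,nat_lit 4,nat_lit 5,nat_lit 3])
))))) (.node (.node (.node (.node (.node (.node (.leaf [nat_lit 0xd1800000000000000000000002,nat_lit 34,nat_lit 7,nat_lit 1,nat_lit 2,nat_lit 6,nat_lit 2,nat_lit 4,nat_lit 2,nat_lit 6,nat_lit 2,nat_lit 4])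
 (.leaf [nat_lit 0,nat_lit 15,nat_lit 10,nat_lit 0,nat_lit 1,nat_lit 2,nat_lit 0,nat_lit 2,nat_lit 4,nat_lit 3,nat_lit 4,nat_lit 2,nat_lit 0,nat_lit 0,nat_lit 0,nat_lit 2,nat_lit 0,nat_lit 0,nat_lit 0,nat_lit 2,nat_lit 1,nat_lit 3])
) (.leaf [nat_lit 0xd18000000000000000000000000000000000000000002,nat_lit 38,nat_lit 1,nat_lit 1,nat_lit 4,nat_lit 6,nat_lit 4,nat_lit 3,nat_lit 2,nat_lit 3,nat_lit 4,nat_lit 6,nat_lit 4,nat_lit 3,nat_lit 2,nat_lit 3])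
) (.node (.leaf [nat_lit 0x1a300000000000000000000000000000000000000000000000000000000000000000000000000000000000000000000000000000000000000000000000000000000000000000000000000000002,nat_lit 61,nat_lit 4,nat_lit 1,nat_lit 5,nat_lit 2,nat_lit 4,nat_lit 2,nat_lit 5,nat_lit 2,nat_lit 6,nat_lit 2,nat_lit 5,nat_lit 2,nat_lit 4,nat_lit 2,nat_lit 5,nat_lit 4,nat_lit 6,nat_lit 4])
 (.leaf [nat_lit 0,nat_lit 17,nat_lit 18,nat_lit 0,nat_lit 1,nat_lit 0,nat_lit 4,nat_lit 0,nat_lit 0,nat_lit 2,nat_lit 0,nat_lit 2,nat_lit 0,nat_lit 3,nat_lit 0,nat_lit 2,nat_lit 1,nat_lit 2,nat_lit 3,nat_lit 4,nat_lit 0,nat_lit 2,nat_lit 1,nat_lit 1,nat_lit 3])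
)) (.node (.node (.leaf [nat_lit 0x1a30000000000000000000000000000000000000000000000000000000000000000000000000002,nat_lit 45,nat_lit 1,nat_lit 1,nat_lit 5,nat_lit 6,nat_lit 5,nat_lit 4,nat_lit 2,nat_lit 4,nat_lit 5,nat_lit 6,nat_lit 5,nat_lit 4,nat_lit 2,nat_lit 4])
 (.leaf [nat_lit 0xd180000000000000000000000000000000000000000000000000000000000000000000000000000000000000000000000000000000000000000000000000000000000000000000000000000000000000000000000000000002,nat_lit 66,nat_lit 8,nat_lit 1,nat_lit 4,nat_lit 5,nat_lit 2,nat_lit 6,nat_lit 2,nat_lit 5,nat_lit 4,nat_lit 3,nat_lit 1,nat_lit 1,nat_lit 3,nat_lit 2,nat_lit 6,nat_lit 2,nat_lit 3,nat_lit 0,nat_lit 0,nat_lit 3])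
) (.node (.leaf [nat_lit 0,nat_lit 24,nat_lit 11,nat_lit 1,nat_lit 2,nat_lit 1,nat_lit 3,nat_lit 0,nat_lit 5,nat_lit 1,nat_lit 3,nat_lit 0,nat_lit 5,nat_lit 2,nat_lit 1,nat_lit 3,nat_lit 0])
 (.leaf [nat_lit 0,nat_lit 18,nat_lit 4,nat_lit 1,nat_lit 4,nat_lit 0,nat_lit 2,nat_lit 0,nat_lit 4,nat_lit 1,nat_lit 3,nat_lit 2,nat_lit 3,nat_lit 1,nat_lit 2,nat_lit 1,nat_lit 1,nat_lit 2,nat_lit 1,nat_lit 2,nat_lit 1,nat_lit 1,nat_lit 1,nat_lit 2,nat_lit 1,nat_lit 4,nat_lit 2])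
))) (.node (.node (.node (.node (.leaf [nat_lit 0x3460000000000000000000000000000000000000000000000000000000000000000000000000000000000000000000000000000000000002,nat_lit 52,nat_lit 1,nat_lit 1,nat_lit 1,nat_lit 2,nat_lit 6,nat_lit 1,nat_lit 2,nat_lit 0,nat_lit 6,nat_lit 2,nat_lit 1,nat_lit 2])
 (.leaf [nat_lit 0x34600000000000000000000000000000000000000000000000000000000000000000000000000000000000000000000000000000000000000000000000000000000000000000000000000000000000000000000000000000000000000003,nat_lit 68,nat_lit 15,nat_lit 1,nat_lit 3,nat_lit 0,nat_lit 0,nat_lit 5,nat_lit 6,nat_lit 4,nat_lit 6,nat_lit 0,nat_lit 0,nat_lit 2,nat_lit 0,nat_lit 2,nat_lit 0,nat_lit 0,nat_lit 2,nat_lit 1,nat_lit 1,nat_lit 1,nat_lit 2,nat_lit 1,nat_lit 3,nat_lit 0,nat_lit 0,nat_lit 2,nat_lit 1,nat_lit 1,nat_lit 1,nat_lit 4,nat_lit 5,nat_lit 1,nat_lit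 1,nat_lit 3,nat_lit 6])
) (.leaf [nat_lit 0x68c00000000000000000000000000000000000000000000001,nat_lit 39,nat_lit 6,nat_lit 1,nat_lit 6,nat_lit 2,nat_lit 3,nat_lit 5,nat_lit 3,nat_lit 2,nat_lit 6,nat_lit 2,nat_lit 5,nat_lit 3,nat_lit 5,nat_lit 2])
) (.node (.leaf [nat_lit 0x68c00000000000000000000000000000000000000000000000000000000000000000000000000000000000000000000000000000002,nat_lit 51,nat_lit 12,nat_lit 1,nat_lit 4,nat_lit 3,nat_lit 5,nat_lit 6,nat_lit 5,nat_lit 3,nat_lit 4,nat_lit 5,nat_lit 3,nat_lit 4,nat_lit 6,nat_lit 4,nat_lit 3,nat_lit 5])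
 (.leaf [nat_lit 0x68c000000000000000000000000000000000000000000000000000000000000000000000000000000000000000000000000000000000000000000000000000000000000000000000000000000000000000000000000000000000002,nat_lit 67,nat_lit 15,nat_lit 1,nat_lit 4,nat_lit 1,nat_lit 1,nat_lit 6,nat_lit 0,nat_lit 0,nat_lit 4,nat_lit 1,nat_lit 1,nat_lit 4,nat_lit 2,nat_lit 5,nat_lit 6,nat_lit 5,nat_lit 2,nat_lit 4,nat_lit 0,nat_lit 0])
)) (.node (.node (.leaf [nat_lit 0,nat_lit 8,nat_lit 5,nat_lit 1,nat_lit 1,nat_lit 2,nat_lit 3,nat_lit 2,nat_lit 1,nat_lit 2,nat_lit 0,nat_lit 3,nat_lit 1,nat_lit 2])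
 (.leaf [nat_lit 0,nat_lit 17,nat_lit 20,nat_lit 1,nat_lit 0,nat_lit 4,nat_lit 1,nat_lit 1,nat_lit 3,nat_lit 0,nat_lit 0,nat_lit 2,nat_lit 1,nat_lit 4,nat_lit 3,nat_lit 2,nat_lit 0,nat_lit 2,nat_lit 1,nat_lit 3,nat_lit 1,nat_lit 2,nat_lit 1,nat_lit 2,nat_lit 1])
) (.node (.leaf [nat_lit 0x100000000000000000000000000000000000000000000000000000000000000000000000000000000000000000000000,nat_lit 49,nat_lit 2,nat_lit 0,nat_lit 5,nat_lit 6,nat_lit 1,nat_lit 2,nat_lit 0,nat_lit 6,nat_lit 5,nat_lit 1,nat_lit 2,nat_lit 1,nat_lit 2,nat_lit 0,nat_lit 0])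
 (.leaf [nat_lit 0x68c00000000000000000000000000000000000000000000000000000000000000000000000000000000000000000000000000000000000000000000000000000000000000000000000000000000000000002,nat_lit 63,nat_lit 10,nat_lit 1,nat_lit 5,nat_lit 2,nat_lit 0,nat_lit 6,nat_lit 5,nat_lit 1,nat_lit 5,nat_lit 3,nat_lit 2,nat_lit 3,nat_lit 5,nat_lit 0,nat_lit 5,nat_lit 6,nat_lit 1,nat_lit 2])
)))) (.node (.node (.node (.node (.node (.leaf [nat_lit 0x346000000000000000000000000000000004,nat_lit 36,nat_lit 5,nat_lit 1,nat_lit 5,nat_lit 6,nat_lit 5,nat_lit 6,nat_lit 5,nat_lit 6,nat_lit 5,nat_lit 6])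
 (.leaf [nat_lit 0,nat_lit 15,nat_lit 6,nat_lit 0,nat_lit 1,nat_lit 2,nat_lit 1,nat_lit 3,nat_lit 0,nat_lit 2,nat_lit 0,nat_lit 2,nat_lit 4,nat_lit 3,nat_lit 4,nat_lit 2,nat_lit 0,nat_lit 0,nat_lit 0,nat_lit 2,nat_lit 0,nat_lit 0])
) (.leaf [nat_lit 0,nat_lit 14,nat_lit 11,nat_lit 0,nat_lit 0,nat_lit 3,nat_lit 2,nat_lit 3,nat_lit 1,nat_lit 2,nat_lit 0,nat_lit 0,nat_lit 2,nat_lit 4,nat_lit 2,nat_lit 1,nat_lit 2,nat_lit 0,nat_lit 4,nat_lit 2,nat_lit 4])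
) (.node (.leaf [nat_lit 0,nat_lit 26,nat_lit 9,nat_lit 0,nat_lit 2,nat_lit 5,nat_lit 4,nat_lit 5,nat_lit 0,nat_lit 0,nat_lit 5,nat_lit 1,nat_lit 1,nat_lit 2,nat_lit 5,nat_lit 4,nat_lit 5])
 (.leaf [nat_lit 0,nat_lit 4,nat_lit 10,nat_lit 0,nat_lit 2,nat_lit 1,nat_lit 2,nat_lit 0,nat_lit 0,nat_lit 2,nat_lit 1,nat_lit 1,nat_lit 2,nat_lit 0,nat_lit 0,nat_lit 2,nat_lit 1])
)) (.node (.node (.leaf [nat_lit 0x1a300000000000000000000000000000000000000000000000000000000000000000000000000000000000000000000000000000000000000000000000000000000000000000000000000000002,nat_lit 61,nat_lit 1,nat_lit 1,nat_lit 4,nat_lit 6,nat_lit 4,nat_lit 5,nat_lit 2,nat_lit 4,nat_lit 2,nat_lit 5,nat_lit 2,nat_lit 6,nat_lit 2,nat_lit 5,nat_lit 2,nat_lit 4,nat_lit 2,nat_lit 5])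
 (.leaf [nat_lit 0,nat_lit 14,nat_lit 12,nat_lit 0,nat_lit 3,nat_lit 2,nat_lit 3,nat_lit 1,nat_lit 2,nat_lit 0,nat_lit 0,nat_lit 2,nat_lit 4,nat_lit 2,nat_lit 1,nat_lit 2,nat_lit 0,nat_lit 4,nat_lit 2,nat_lit 4,nat_lit 1])
) (.node (.leaf [nat_lit 0x68c0000000000000000000000000000000000000000000000000000000000000000000000000000000000000000000000000000000000000000000000000000000000000000000001,nat_lit 59,nat_lit 13,nat_lit 1,nat_lit 6,nat_lit 3,nat_lit 1,nat_lit 5,nat_lit 2,nat_lit 5,nat_lit 0,nat_lit 3,nat_lit 6,nat_lit 3,nat_lit 1,nat_lit 2,nat_lit 5,nat_lit 2,nat_lit 0,nat_lit 3])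
 (.leaf [nat_lit 0,nat_lit 24,nat_lit 11,nat_lit 0,nat_lit 0,nat_lit 3,nat_lit 0,nat_lit 2,nat_lit 1,nat_lit 3,nat_lit 0,nat_lit 2,nat_lit 5,nat_lit 1,nat_lit 3,nat_lit 0,nat_lit 5])
))) (.node (.node (.node (.leaf [nat_lit 0x200000000000000000000000000000000000000000000000000000000000000000000000000000000000000000000000000000000000000000000000000000000000000000000000000000000000000000000000000000000000000000,nat_lit 68,nat_lit 14,nat_lit 0,nat_lit 5,nat_lit 1,nat_lit 1,nat_lit 3,nat_lit 6,nat_lit 3,nat_lit 0,nat_lit 0,nat_lit 5,nat_lit 4,nat_lit 0,nat_lit 0,nat_lit 0,nat_lit 2,nat_lit 1,nat_lit 1,nat_lit 3,nat_lit 0,nat_lit 2,nat_lit 0,nat_lit 0,nat_lit 0,nat_lit 2,nat_lit 1,nat_lit 1,nat_lit 2,nat_lit 1,nat_lit 2,nat_lit 1,nat_lit 1,nat_lit 6,nat_lit 4,nat_lit 6])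
 (.leaf [nat_lit 0,nat_lit 10,nat_lit 4,nat_lit 1,nat_lit 1,nat_lit 0,nat_lit 2,nat_lit 1,nat_lit 3,nat_lit 0,nat_lit 2,nat_lit 1,nat_lit 1,nat_lit 1,nat_lit 3,nat_lit 2,nat_lit 3,nat_lit 0])
) (.node (.leaf [nat_lit 0x1a300000000000000000000000000000000000000000000000000000000000000000000000000000000000000000000000000000000000000000000000000000000000000000000000000000001,nat_lit 61,nat_lit 2,nat_lit 1,nat_lit 6,nat_lit 4,nat_lit 5,nat_lit 2,nat_lit 4,nat_lit 2,nat_lit 5,nat_lit 2,nat_lit 6,nat_lit 2,nat_lit 5,nat_lit 2,nat_lit 4,nat_lit 2,nat_lit 5,nat_lit 4])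
 (.leaf [nat_lit 0x346000000000000000000000000000000000000000000000000000000000000000000000000000000000000000000000000000000000000000000000000000000000000000000000000002,nat_lit 60,nat_lit 7,nat_lit 1,nat_lit 0,nat_lit 5,nat_lit 0,nat_lit 5,nat_lit 2,nat_lit 6,nat_lit 2,nat_lit 5,nat_lit 1,nat_lit 5,nat_lit 0,nat_lit 5,nat_lit 3,nat_lit 6,nat_lit 3,nat_lit 5])
)) (.node (.node (.leaf [nat_lit 0x3460000000000000000000000000000000000000000000000000000000000000000000000000000000000000000000000000000000000002,nat_lit 52,nat_lit 2,nat_lit 1,nat_lit 2,nat_lit 6,nat_lit 1,nat_lit 2,nat_lit 0,nat_lit 6,nat_lit 2,nat_lit 1,nat_lit 2,nat_lit 0])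
 (.leaf [nat_lit 0x8000000000000000000000000000000000000000000000000000000000000000000000000000000000000000000000000000000000000000000000000000000000000000000000000000000000000,nat_lit 62,nat_lit 2,nat_lit 0,nat_lit 4,nat_lit 5,nat_lit 6,nat_lit 4,nat_lit 6,nat_lit 5,nat_lit 4,nat_lit 5,nat_lit 6,nat_lit 4,nat_lit 6,nat_lit 4,nat_lit 5])
) (.node (.leaf [nat_lit 0,nat_lit 11,nat_lit 5,nat_lit 1,nat_lit 3,nat_lit 2,nat_lit 0,nat_lit 0,nat_lit 0,nat_lit 2,nat_lit 1,nat_lit 1,nat_lit 1,nat_lit 2,nat_lit 3,nat_lit 1,nat_lit 3,nat_lit 0])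
 (.leaf [nat_lit 0xd180000000000000000000000000000000000000000000000000000000000000000000000000000000000000000000000000000000000000000000000000000000000000000000000000000000000000000000000000000002,nat_lit 66,nat_lit 1,nat_lit 1,nat_lit 2,nat_lit 6,nat_lit 2,nat_lit 3,nat_lit 0,nat_lit 0,nat_lit 3,nat_lit 4,nat_lit 5,nat_lit 2,nat_lit 6,nat_lit 2,nat_lit 5,nat_lit 4,nat_lit 3,nat_lit 1,nat_lit 1,nat_lit 3])
)))))) (.node (.node (.node (.node (.node (.node (.node (.leaf [nat_lit 0x3460000000000000000000000000000000000000000000000000000000000000000000000000000000000000000000000000000000000002,nat_lit 52,nat_lit 0,nat_lit 1,nat_lit 2,nat_lit 0,nat_lit 2,nat_lit 6,nat_lit 1,nat_lit 2,nat_lit 0,nat_lit 6,nat_lit 2,nat_lit 1])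
 (.leaf [nat_lit 0,nat_lit 12,nat_lit 8,nat_lit 1,nat_lit 1,nat_lit 3,nat_lit 0,nat_lit 0,nat_lit 3,nat_lit 1,nat_lit 1,nat_lit 3,nat_lit 2,nat_lit 1,nat_lit 3,nat_lit 0,nat_lit 2,nat_lit 1,nat_lit 3])
) (.leaf [nat_lit 0xd18000000000000000000000000000000000000000002,nat_lit 38,nat_lit 10,nat_lit 1,nat_lit 3,nat_lit 2,nat_lit 3,nat_lit 4,nat_lit 6,nat_lit 4,nat_lit 3,nat_lit 2,nat_lit 3,nat_lit 4,nat_lit 6,nat_lit 4])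
) (.node (.leaf [nat_lit 0x34600000000000002,nat_lit 32,nat_lit 3,nat_lit 1,nat_lit 0,nat_lit 5,nat_lit 0,nat_lit 6,nat_lit 1,nat_lit 5,nat_lit 0,nat_lit 6])
 (.leaf [nat_lit 0,nat_lit 24,nat_lit 9,nat_lit 1,nat_lit 3,nat_lit 0,nat_lit 2,nat_lit 1,nat_lit 3,nat_lit 0,nat_lit 5,nat_lit 1,nat_lit 3,nat_lit 0,nat_lit 5,nat_lit 2,nat_lit 1])
)) (.node (.node (.leaf [nat_lit 0x34600000000000000000000000000000000000000000000000000000000000000000000002,nat_lit 44,nat_lit 5,nat_lit 1,nat_lit 2,nat_lit 5,nat_lit 6,nat_lit 5,nat_lit 2,nat_lit 3,nat_lit 2,nat_lit 5,nat_lit 6,nat_lit 5,nat_lit 2,nat_lit 3])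
 (.leaf [nat_lit 0,nat_lit 24,nat_lit 3,nat_lit 0,nat_lit 3,nat_lit 0,nat_lit 2,nat_lit 5,nat_lit 1,nat_lit 3,nat_lit 0,nat_lit 5,nat_lit 1,nat_lit 3,nat_lit 0,nat_lit 2,nat_lit 1])
) (.node (.leaf [nat_lit 0xd180000000000000000000000000000000000000000000000000000000000000000000000000000000000000000000000000000000000000000000004,nat_lit 54,nat_lit 10,nat_lit 1,nat_lit 5,nat_lit 2,nat_lit 6,nat_lit 5,nat_lit 6,nat_lit 5,nat_lit 6,nat_lit 5,nat_lit 6,nat_lit 2,nat_lit 5,nat_lit 2])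
 (.leaf [nat_lit 0x68c0000000000000000000000000000000000000000000000000000000000000000000000000000000000001,nat_lit 47,nat_lit 0,nat_lit 1,nat_lit 6,nat_lit 3,nat_lit 4,nat_lit 5,nat_lit 4,nat_lit 3,nat_lit 6,nat_lit 3,nat_lit 4,nat_lit 5,nat_lit 4,nat_lit 3])
))) (.node (.node (.node (.node (.leaf [nat_lit 0x1a300000000000000000000000000000000000002,nat_lit 37,nat_lit 5,nat_lit 1,nat_lit 5,nat_lit 2,nat_lit 5,nat_lit 4,nat_lit 6,nat_lit 4,nat_lit 2,nat_lit 4,nat_lit 6,nat_lit 4,nat_lit 5,nat_lit 2])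
 (.leaf [nat_lit 0,nat_lit 24,nat_lit 2,nat_lit 0,nat_lit 0,nat_lit 3,nat_lit 0,nat_lit 2,nat_lit 5,nat_lit 1,nat_lit 3,nat_lit 0,nat_lit 5,nat_lit 1,nat_lit 3,nat_lit 0,nat_lit 2])
) (.leaf [nat_lit 0,nat_lit 26,nat_lit 11,nat_lit 1,nat_lit 0,nat_lit 1,nat_lit 5,nat_lit 4,nat_lit 5,nat_lit 2,nat_lit 5,nat_lit 4,nat_lit 5,nat_lit 2,nat_lit 0,nat_lit 0,nat_lit 5])
) (.node (.leaf [nat_lit 0x3460000000000000000000000000000000000000000000000000000000000000000000000000000000000000000000000000000000000002,nat_lit 52,nat_lit 4,nat_lit 1,nat_lit 0,nat_lit 2,nat_lit 0,nat_lit 6,nat_lit 2,nat_lit 1,nat_lit 2,nat_lit 0,nat_lit 2,nat_lit 6])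
 (.leaf [nat_lit 0x34600000000000000000000000000000000000000000000000000000000000000000000000000000000000000000000000000000000000000000000000000000002,nat_lit 56,nat_lit 6,nat_lit 1,nat_lit 4,nat_lit 0,nat_lit 3,nat_lit 6,nat_lit 3,nat_lit 1,nat_lit 4,nat_lit 3,nat_lit 2,nat_lit 1,nat_lit 5,nat_lit 6,nat_lit 5,nat_lit 0,nat_lit 2,nat_lit 3])
)) (.node (.node (.leaf [nat_lit 0x1a3000000000000000000000000000000000000000000000000000000000000000000000000000000000000000000000000000000000000000002,nat_lit 53,nat_lit 4,nat_lit 1,nat_lit 2,nat_lit 4,nat_lit 6,nat_lit 3,nat_lit 4,nat_lit 2,nat_lit 0,nat_lit 3,nat_lit 2,nat_lit 3,nat_lit 1,nat_lit 4,nat_lit 3,nat_lit 6,nat_lit 4])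
 (.leaf [nat_lit 0x68c00000000000000000000000000000000000000000000002,nat_lit 39,nat_lit 7,nat_lit 1,nat_lit 2,nat_lit 3,nat_lit 5,nat_lit 3,nat_lit 2,nat_lit 6,nat_lit 2,nat_lit 5,nat_lit 3,nat_lit 5,nat_lit 2,nat_lit 6])
) (.node (.leaf [nat_lit 0,nat_lit 8,nat_lit 3,nat_lit 1,nat_lit 0,nat_lit 2,nat_lit 0,nat_lit 2,nat_lit 3,nat_lit 2,nat_lit 1,nat_lit 2,nat_lit 0,nat_lit 3])
 (.leaf [nat_lit 0xd18000000000000000000000000000000000000000000000000000000000000000000000000000000000000000000000000002,nat_lit 50,nat_lit 13,nat_lit 1,nat_lit 0,nat_lit 6,nat_lit 0,nat_lit 3,nat_lit 1,nat_lit 4,nat_lit 5,nat_lit 3,nat_lit 6,nat_lit 3,nat_lit 5,nat_lit 4,nat_lit 0,nat_lit 3])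
)))) (.node (.node (.node (.node (.node (.leaf [nat_lit 0x34600000000000000000000000000000000000000000000000000000000000000000000002,nat_lit 44,nat_lit 10,nat_lit 1,nat_lit 3,nat_lit 2,nat_lit 5,nat_lit 6,nat_lit 5,nat_lit 2,nat_lit 3,nat_lit 2,nat_lit 5,nat_lit 6,nat_lit 5,nat_lit 2])
 (.leaf [nat_lit 0,nat_lit 24,nat_lit 0,nat_lit 1,nat_lit 3,nat_lit 0,nat_lit 5,nat_lit 1,nat_lit 3,nat_lit 0,nat_lit 5,nat_lit 2,nat_lit 1,nat_lit 3,nat_lit 0,nat_lit 2,nat_lit 1])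
) (.leaf [nat_lit 0,nat_lit 10,nat_lit 1,nat_lit 1,nat_lit 2,nat_lit 3,nat_lit 0,nat_lit 0,nat_lit 0,nat_lit 2,nat_lit 1,nat_lit 3,nat_lit 0,nat_lit 2,nat_lit 1,nat_lit 1,nat_lit 1,nat_lit 3])
) (.node (.leaf [nat_lit 0,nat_lit 18,nat_lit 4,nat_lit 0,nat_lit 1,nat_lit 2,nat_lit 0,nat_lit 0,nat_lit 2,nat_lit 0,nat_lit 3,nat_lit 2,nat_lit 3,nat_lit 0,nat_lit 4,nat_lit 1,nat_lit 2,nat_lit 1,nat_lit 4,nat_lit 2,nat_lit 4,nat_lit 0,nat_lit 2,nat_lit 0,nat_lit 0,nat_lit 0,nat_lit 2])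
 (.leaf [nat_lit 0,nat_lit 4,nat_lit 5,nat_lit 1,nat_lit 0,nat_lit 1,nat_lit 2,nat_lit 0,nat_lit 0,nat_lit 2,nat_lit 1,nat_lit 1,nat_lit 2,nat_lit 0,nat_lit 2,nat_lit 0,nat_lit 2])
)) (.node (.node (.leaf [nat_lit 0xd1800000000000000000000001,nat_lit 34,nat_lit 4,nat_lit 1,nat_lit 6,nat_lit 2,nat_lit 4,nat_lit 2,nat_lit 6,nat_lit 2,nat_lit 4,nat_lit 2])
 (.leaf [nat_lit 0x100000000000000000000000000000000000000000000000000000000000000000000000000000000000000000000000,nat_lit 49,nat_lit 5,nat_lit 0,nat_lit 2,nat_lit 0,nat_lit 6,nat_lit 5,nat_lit 1,nat_lit 2,nat_lit 1,nat_lit 2,nat_lit 0,nat_lit 0,nat_lit 5,nat_lit 6,nat_lit 1])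
) (.node (.leaf [nat_lit 0,nat_lit 11,nat_lit 11,nat_lit 1,nat_lit 0,nat_lit 1,nat_lit 1,nat_lit 2,nat_lit 3,nat_lit 1,nat_lit 3,nat_lit 0,nat_lit 3,nat_lit 2,nat_lit 0,nat_lit 0,nat_lit 0,nat_lit 2])
 (.leaf [nat_lit 0x1000000000000000000000000000000000000000000000000000000000000000000000000000000000000000000000000000000000000000000,nat_lit 53,nat_lit 3,nat_lit 0,nat_lit 3,nat_lit 1,nat_lit 2,nat_lit 4,nat_lit 3,nat_lit 6,nat_lit 4,nat_lit 2,nat_lit 4,nat_lit 6,nat_lit 3,nat_lit 4,nat_lit 0,nat_lit 3,nat_lit 2])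
))) (.node (.node (.node (.leaf [nat_lit 0xd180000000000000000000000000000000000000000000000000000000000004,nat_lit 42,nat_lit 10,nat_lit 1,nat_lit 5,nat_lit 1,nat_lit 6,nat_lit 2,nat_lit 6,nat_lit 0,nat_lit 5,nat_lit 1,nat_lit 6,nat_lit 2,nat_lit 6,nat_lit 0])
 (.leaf [nat_lit 0x68c00000000000000000000000000000000000000000000000000000000000000000000000000000000000000000000000000000001,nat_lit 51,nat_lit 1,nat_lit 1,nat_lit 6,nat_lit 5,nat_lit 3,nat_lit 4,nat_lit 5,nat_lit 3,nat_lit 4,nat_lit 6,nat_lit 4,nat_lit 3,nat_lit 5,nat_lit 4,nat_lit 3,nat_lit 5])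
) (.node (.leaf [nat_lit 0,nat_lit 10,nat_lit 7,nat_lit 1,nat_lit 0,nat_lit 3,nat_lit 0,nat_lit 2,nat_lit 1,nat_lit 1,nat_lit 1,nat_lit 3,nat_lit 2,nat_lit 3,nat_lit 0,nat_lit 0,nat_lit 0,nat_lit 2])
 (.leaf [nat_lit 0,nat_lit 25,nat_lit 2,nat_lit 1,nat_lit 3,nat_lit 2,nat_lit 5,nat_lit 0,nat_lit 5,nat_lit 1,nat_lit 3,nat_lit 5,nat_lit 3,nat_lit 0,nat_lit 5,nat_lit 1,nat_lit 5,nat_lit 2])
)) (.node (.node (.leaf [nat_lit 0xd1800000000000000000000000000000000000000000000000000000000000000000000000000000004,nat_lit 46,nat_lit 7,nat_lit 1,nat_lit 4,nat_lit 6,nat_lit 2,nat_lit 5,nat_lit 2,nat_lit 6,nat_lit 4,nat_lit 6,nat_lit 2,nat_lit 5,nat_lit 2,nat_lit 6])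
 (.leaf [nat_lit 0,nat_lit 5,nat_lit 9,nat_lit 0,nat_lit 1,nat_lit 2,nat_lit 0,nat_lit 0,nat_lit 2,nat_lit 0,nat_lit 2,nat_lit 0,nat_lit 0,nat_lit 2,nat_lit 0,nat_lit 0,nat_lit 2,nat_lit 0,nat_lit 2,nat_lit 0,nat_lit 0,nat_lit 2,nat_lit 0,nat_lit 0,nat_lit 2,nat_lit 0,nat_lit 2,nat_lit 0])
) (.node (.leaf [nat_lit 0x68c00000000000000000000000000000000000000000000002,nat_lit 39,nat_lit 11,nat_lit 1,nat_lit 2,nat_lit 6,nat_lit 2,nat_lit 5,nat_lit 3,nat_lit 5,nat_lit 2,nat_lit 6,nat_lit 2,nat_lit 3,nat_lit 5,nat_lit 3])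
 (.leaf [nat_lit 0,nat_lit 24,nat_lit 3,nat_lit 1,nat_lit 0,nat_lit 3,nat_lit 0,nat_lit 5,nat_lit 2,nat_lit 1,nat_lit 3,nat_lit 0,nat_lit 2,nat_lit 1,nat_lit 3,nat_lit 0,nat_lit 5])
))))) (.node (.node (.node (.node (.node (.node (.leaf [nat_lit 0x68c0000000000000000000000000000000000000000000000000000000000000000000000000000000000002,nat_lit 47,nat_lit 9,nat_lit 1,nat_lit 5,nat_lit 4,nat_lit 3,nat_lit 6,nat_lit 3,nat_lit 4,nat_lit 5,nat_lit 4,nat_lit 3,nat_lit 6,nat_lit 3,nat_lit 4])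
 (.leaf [nat_lit 0x68c00000000000000000000000000000000000000000000000000000000000000000000000000000000000000000000000000000000000000000000000000000000000000000000000000000000000000002,nat_lit 63,nat_lit 4,nat_lit 1,nat_lit 5,nat_lit 0,nat_lit 5,nat_lit 6,nat_lit 1,nat_lit 2,nat_lit 5,nat_lit 2,nat_lit 0,nat_lit 6,nat_lit 5,nat_lit 1,nat_lit 5,nat_lit 3,nat_lit 2,nat_lit 3])
) (.leaf [nat_lit 0x1a3000000000000000000000000000000000000000000000000000000002,nat_lit 41,nat_lit 5,nat_lit 1,nat_lit 0,nat_lit 5,nat_lit 6,nat_lit 5,nat_lit 0,nat_lit 3,nat_lit 1,nat_lit 5,nat_lit 6,nat_lit 5,nat_lit 0,nat_lit 3])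
) (.node (.leaf [nat_lit 0,nat_lit 10,nat_lit 12,nat_lit 1,nat_lit 0,nat_lit 1,nat_lit 3,nat_lit 2,nat_lit 3,nat_lit 0,nat_lit 0,nat_lit 0,nat_lit 2,nat_lit 1,nat_lit 3,nat_lit 0,nat_lit 2,nat_lit 1])
 (.leaf [nat_lit 0,nat_lit 25,nat_lit 4,nat_lit 1,nat_lit 5,nat_lit 0,nat_lit 5,nat_lit 1,nat_lit 3,nat_lit 5,nat_lit 3,nat_lit 0,nat_lit 5,nat_lit 1,nat_lit 5,nat_lit 2,nat_lit 3,nat_lit 2])
)) (.node (.node (.leaf [nat_lit 0x34600000000000000000000000000000000000000000000000000000000000000000000000000000000000000000000000000000000000000000000000000000002,nat_lit 56,nat_lit 13,nat_lit 1,nat_lit 3,nat_lit 2,nat_lit 1,nat_lit 5,nat_lit 6,nat_lit 5,nat_lit 0,nat_lit 2,nat_lit 3,nat_lit 4,nat_lit 0,nat_lit 3,nat_lit 6,nat_lit 3,nat_lit 1,nat_lit 4])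
 (.leaf [nat_lit 0x1a3000000000000000000000000000000000000000000000000000000000000000000000000000000000000000000000000000000000000000000000000000000000000000000000000000000000000000000000000001,nat_lit 65,nat_lit 9,nat_lit 1,nat_lit 6,nat_lit 3,nat_lit 1,nat_lit 5,nat_lit 3,nat_lit 4,nat_lit 5,nat_lit 2,nat_lit 1,nat_lit 6,nat_lit 0,nat_lit 2,nat_lit 5,nat_lit 4,nat_lit 3,nat_lit 5,nat_lit 0,nat_lit 3])
) (.node (.leaf [nat_lit 0,nat_lit 14,nat_lit 13,nat_lit 0,nat_lit 2,nat_lit 3,nat_lit 1,nat_lit 2,nat_lit 0,nat_lit 0,nat_lit 2,nat_lit 4,nat_lit 2,nat_lit 1,nat_lit 2,nat_lit 0,nat_lit 4,nat_lit 2,nat_lit 4,nat_lit 1,nat_lit 3])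
 (.leaf [nat_lit 0xd18000000000000000000000000000000000000000000000000000000000000000000000000000000000000000000000000000000000000000000000000000000000000000000000000000000000003,nat_lit 62,nat_lit 8,nat_lit 1,nat_lit 6,nat_lit 5,nat_lit 4,nat_lit 5,nat_lit 4,nat_lit 6,nat_lit 4,nat_lit 6,nat_lit 5,nat_lit 4,nat_lit 5,nat_lit 6,nat_lit 4])
))) (.node (.node (.node (.node (.leaf [nat_lit 0x68c0000000000000000000000000000000000000000000000000000000000000000000000000000000000000000000000000000000000000000000000000000000000000000000002,nat_lit 59,nat_lit 9,nat_lit 1,nat_lit 5,nat_lit 2,nat_lit 0,nat_lit 3,nat_lit 6,nat_lit 3,nat_lit 1,nat_lit 5,nat_lit 2,nat_lit 5,nat_lit 0,nat_lit 3,nat_lit 6,nat_lit 3,nat_lit 1,nat_lit 2])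
 (.leaf [nat_lit 0x34600000000000000000000000000000000000000000000000000000000000000000000000000000000000000000000000000000000000000000000000000000000000000000000000000000000000000000000000000000000000000003,nat_lit 68,nat_lit 20,nat_lit 1,nat_lit 4,nat_lit 6,nat_lit 0,nat_lit 0,nat_lit 2,nat_lit 0,nat_lit 2,nat_lit 0,nat_lit 0,nat_lit 2,nat_lit 1,nat_lit 1,nat_lit 1,nat_lit 2,nat_lit 1,nat_lit 3,nat_lit 0,nat_lit 0,nat_lit 2,nat_lit 1,nat_lit 1,nat_lit 1,nat_lit 4,nat_lit 5,nat_lit 1,nat_lit 1,nat_lit 3,nat_lit 6,nat_lit 3,nat_lit 0,nat_lit 0,nat_lit 5,nat_lit 6])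
) (.leaf [nat_lit 0x1a300000000000000000000000000000000000000000000000000000000000000000000000000000000000000000000000000000000000000000000000000000000000000000000000000000002,nat_lit 61,nat_lit 8,nat_lit 1,nat_lit 5,nat_lit 2,nat_lit 6,nat_lit 2,nat_lit 5,nat_lit 2,nat_lit 4,nat_lit 2,nat_lit 5,nat_lit 4,nat_lit 6,nat_lit 4,nat_lit 5,nat_lit 2,nat_lit 4,nat_lit 2])
) (.node (.leaf [nat_lit 0x346000000000000000000000000000000000000000000000000000000000000000000000000000000000000000002,nat_lit 48,nat_lit 1,nat_lit 1,nat_lit 5,nat_lit 6,nat_lit 5,nat_lit 4,nat_lit 3,nat_lit 4,nat_lit 5,nat_lit 6,nat_lit 5,nat_lit 4,nat_lit 3,nat_lit 4])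
 (.leaf [nat_lit 0,nat_lit 26,nat_lit 8,nat_lit 0,nat_lit 5,nat_lit 2,nat_lit 5,nat_lit 4,nat_lit 5,nat_lit 0,nat_lit 0,nat_lit 5,nat_lit 1,nat_lit 1,nat_lit 2,nat_lit 5,nat_lit 4])
)) (.node (.node (.leaf [nat_lit 0,nat_lit 24,nat_lit 4,nat_lit 1,nat_lit 3,nat_lit 0,nat_lit 5,nat_lit 2,nat_lit 1,nat_lit 3,nat_lit 0,nat_lit 2,nat_lit 1,nat_lit 3,nat_lit 0,nat_lit 5,nat_lit 1])
 (.leaf [nat_lit 0x1a3000000000000000000000000000000000000000000000000000000000000000000000000000000000000000000000000000000000000000000000000000000000000000000000000000000000000000000000000002,nat_lit 65,nat_lit 2,nat_lit 1,nat_lit 2,nat_lit 5,nat_lit 4,nat_lit 3,nat_lit 5,nat_lit 0,nat_lit 3,nat_lit 6,nat_lit 3,nat_lit 1,nat_lit 5,nat_lit 3,nat_lit 4,nat_lit 5,nat_lit 2,nat_lit 1,nat_lit 6,nat_lit 0])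
) (.node (.leaf [nat_lit 0,nat_lit 4,nat_lit 7,nat_lit 1,nat_lit 2,nat_lit 0,nat_lit 0,nat_lit 2,nat_lit 1,nat_lit 1,nat_lit 2,nat_lit 0,nat_lit 2,nat_lit 0,nat_lit 2,nat_lit 1,nat_lit 1])
 (.leaf [nat_lit 0x68c000000000000000000000000000000000000000000000000000000000000000000000000000000000000000000000000000000000000000000000000000000000000000000000000000000000000000000000000000000000002,nat_lit 67,nat_lit 5,nat_lit 1,nat_lit 0,nat_lit 4,nat_lit 2,nat_lit 5,nat_lit 6,nat_lit 5,nat_lit 2,nat_lit 4,nat_lit 0,nat_lit 0,nat_lit 4,nat_lit 1,nat_lit 1,nat_lit 6,nat_lit 0,nat_lit 0,nat_lit 4,nat_lit 1])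
)))) (.node (.node (.node (.node (.node (.leaf [nat_lit 0,nat_lit 12,nat_lit 7,nat_lit 1,nat_lit 3,nat_lit 0,nat_lit 3,nat_lit 0,nat_lit 0,nat_lit 3,nat_lit 1,nat_lit 1,nat_lit 3,nat_lit 2,nat_lit 1,nat_lit 3,nat_lit 0,nat_lit 2,nat_lit 1])
 (.leaf [nat_lit 0,nat_lit 12,nat_lit 0,nat_lit 0,nat_lit 1,nat_lit 0,nat_lit 3,nat_lit 1,nat_lit 1,nat_lit 3,nat_lit 1,nat_lit 3,nat_lit 0,nat_lit 2,nat_lit 1,nat_lit 3,nat_lit 0,nat_lit 2,nat_lit 3])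
) (.leaf [nat_lit 0,nat_lit 23,nat_lit 10,nat_lit 1,nat_lit 0,nat_lit 1,nat_lit 2,nat_lit 0,nat_lit 0,nat_lit 2,nat_lit 5,nat_lit 1,nat_lit 2,nat_lit 0,nat_lit 5,nat_lit 2])
) (.node (.leaf [nat_lit 0xd18000000000000000000000000000000000000000000000000000000000000000000000000000000000000000000000000002,nat_lit 50,nat_lit 1,nat_lit 1,nat_lit 1,nat_lit 3,nat_lit 1,nat_lit 4,nat_lit 5,nat_lit 3,nat_lit 6,nat_lit 3,nat_lit 5,nat_lit 4,nat_lit 0,nat_lit 3,nat_lit 1,nat_lit 6])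
 (.leaf [nat_lit 0,nat_lit 25,nat_lit 1,nat_lit 1,nat_lit 2,nat_lit 3,nat_lit 2,nat_lit 5,nat_lit 0,nat_lit 5,nat_lit 1,nat_lit 3,nat_lit 5,nat_lit 3,nat_lit 0,nat_lit 5,nat_lit 1,nat_lit 5])
)) (.node (.node (.leaf [nat_lit 0,nat_lit 11,nat_lit 1,nat_lit 1,nat_lit 3,nat_lit 1,nat_lit 3,nat_lit 0,nat_lit 3,nat_lit 2,nat_lit 0,nat_lit 0,nat_lit 0,nat_lit 2,nat_lit 1,nat_lit 1,nat_lit 1,nat_lit 2])
 (.leaf [nat_lit 0,nat_lit 15,nat_lit 16,nat_lit 0,nat_lit 4,nat_lit 2,nat_lit 0,nat_lit 0,nat_lit 0,nat_lit 2,nat_lit 0,nat_lit 0,nat_lit 0,nat_lit 2,nat_lit 1,nat_lit 3,nat_lit 0,nat_lit 2,nat_lit 0,nat_lit 2,nat_lit 4,nat_lit 3])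
) (.node (.leaf [nat_lit 0x100000000000000000000000000000000000000000000000000000000000000000000000000000000000000000000000,nat_lit 49,nat_lit 12,nat_lit 0,nat_lit 2,nat_lit 0,nat_lit 0,nat_lit 5,nat_lit 6,nat_lit 1,nat_lit 2,nat_lit 0,nat_lit 6,nat_lit 5,nat_lit 1,nat_lit 2,nat_lit 1])
 (.leaf [nat_lit 0,nat_lit 11,nat_lit 12,nat_lit 1,nat_lit 0,nat_lit 1,nat_lit 2,nat_lit 3,nat_lit 1,nat_lit 3,nat_lit 0,nat_lit 3,nat_lit 2,nat_lit 0,nat_lit 0,nat_lit 0,nat_lit 2,nat_lit 1])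
))) (.node (.node (.node (.leaf [nat_lit 0xd18000000000000000000000000000000000000000000000000000000000000000000000000000000000000000000000000002,nat_lit 50,nat_lit 2,nat_lit 1,nat_lit 3,nat_lit 1,nat_lit 4,nat_lit 5,nat_lit 3,nat_lit 6,nat_lit 3,nat_lit 5,nat_lit 4,nat_lit 0,nat_lit 3,nat_lit 1,nat_lit 6,nat_lit 0])
 (.leaf [nat_lit 0,nat_lit 17,nat_lit 19,nat_lit 1,nat_lit 0,nat_lit 1,nat_lit 4,nat_lit 1,nat_lit 1,nat_lit 3,nat_lit 0,nat_lit 0,nat_lit 2,nat_lit 1,nat_lit 4,nat_lit 3,nat_lit 2,nat_lit 0,nat_lit 2,nat_lit 1,nat_lit 3,nat_lit 1,nat_lit 2,nat_lit 1,nat_lit 2])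
) (.node (.leaf [nat_lit 0x68c000000000000000000000000000000000000000000000000000000000000000002,nat_lit 43,nat_lit 5,nat_lit 1,nat_lit 0,nat_lit 5,nat_lit 0,nat_lit 5,nat_lit 6,nat_lit 5,nat_lit 1,nat_lit 5,nat_lit 0,nat_lit 5,nat_lit 6,nat_lit 5])
 (.leaf [nat_lit 0,nat_lit 15,nat_lit 5,nat_lit 1,nat_lit 0,nat_lit 2,nat_lit 1,nat_lit 3,nat_lit 0,nat_lit 2,nat_lit 1,nat_lit 1,nat_lit 1,nat_lit 2,nat_lit 1,nat_lit 1,nat_lit 1,nat_lit 2,nat_lit 4,nat_lit 3,nat_lit 4,nat_lit 2])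
)) (.node (.node (.leaf [nat_lit 0,nat_lit 8,nat_lit 9,nat_lit 1,nat_lit 0,nat_lit 2,nat_lit 0,nat_lit 3,nat_lit 1,nat_lit 2,nat_lit 0,nat_lit 2,nat_lit 3,nat_lit 2])
 (.leaf [nat_lit 0x1a300000000000000000000000000000000000000000000000000000000000000000000000000000000000000000000000000000000000000000000000000000000000000000000000000000002,nat_lit 61,nat_lit 12,nat_lit 1,nat_lit 5,nat_lit 2,nat_lit 4,nat_lit 2,nat_lit 5,nat_lit 4,nat_lit 6,nat_lit 4,nat_lit 5,nat_lit 2,nat_lit 4,nat_lit 2,nat_lit 5,nat_lit 2,nat_lit 6,nat_lit 2])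
) (.node (.leaf [nat_lit 0,nat_lit 24,nat_lit 5,nat_lit 1,nat_lit 1,nat_lit 5,nat_lit 2,nat_lit 1,nat_lit 3,nat_lit 0,nat_lit 2,nat_lit 1,nat_lit 3,nat_lit 0,nat_lit 5,nat_lit 1,nat_lit 3])
 (.leaf [nat_lit 0,nat_lit 17,nat_lit 1,nat_lit 1,nat_lit 0,nat_lit 1,nat_lit 3,nat_lit 0,nat_lit 0,nat_lit 2,nat_lit 1,nat_lit 4,nat_lit 3,nat_lit 2,nat_lit 0,nat_lit 2,nat_lit 1,nat_lit 3,nat_lit 1,nat_lit 2,nat_lit 1,nat_lit 2,nat_lit 1,nat_lit 1,nat_lit 4])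
))))))) (.node (.node (.node (.node (.node (.node (.node (.node (.leaf [nat_lit 0x1a30000000000000000002,nat_lit 33,nat_lit 3,nat_lit 1,nat_lit 2,nat_lit 3,nat_lit 6,nat_lit 3,nat_lit 2,nat_lit 3,nat_lit 6,nat_lit 3])
 (.leaf [nat_lit 0x34600000000000000000000000000000000000000000000000000000000000000000000000000000000000000000000000000000000000000000000000000000002,nat_lit 56,nat_lit 12,nat_lit 1,nat_lit 4,nat_lit 3,nat_lit 2,nat_lit 1,nat_lit 5,nat_lit 6,nat_lit 5,nat_lit 0,nat_lit 2,nat_lit 3,nat_lit 4,nat_lit 0,nat_lit 3,nat_lit 6,nat_lit 3,nat_lit 1])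
) (.leaf [nat_lit 0x1a3000000000000000000000000000000000000000000000000000000000000000000000000000000000000000000000000000000000000000002,nat_lit 53,nat_lit 13,nat_lit 1,nat_lit 3,nat_lit 1,nat_lit 4,nat_lit 3,nat_lit 6,nat_lit 4,nat_lit 2,nat_lit 4,nat_lit 6,nat_lit 3,nat_lit 4,nat_lit 2,nat_lit 0,nat_lit 3,nat_lit 2])
) (.node (.leaf [nat_lit 0xd180000000000000000000000000000000000000000000000000000000000004,nat_lit 42,nat_lit 7,nat_lit 1,nat_lit 2,nat_lit 6,nat_lit 0,nat_lit 5,nat_lit 1,nat_lit 6,nat_lit 2,nat_lit 6,nat_lit 0,nat_lit 5,nat_lit 1,nat_lit 6])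
 (.leaf [nat_lit 0,nat_lit 22,nat_lit 3,nat_lit 1,nat_lit 5,nat_lit 0,nat_lit 3,nat_lit 1,nat_lit 5,nat_lit 3,nat_lit 0,nat_lit 5,nat_lit 0,nat_lit 3,nat_lit 1,nat_lit 5,nat_lit 1,nat_lit 3])
)) (.node (.node (.leaf [nat_lit 0,nat_lit 8,nat_lit 1,nat_lit 1,nat_lit 1,nat_lit 3,nat_lit 1,nat_lit 2,nat_lit 0,nat_lit 2,nat_lit 3,nat_lit 2,nat_lit 1,nat_lit 2])
 (.leaf [nat_lit 0x68c0000000000000000000000000001,nat_lit 35,nat_lit 5,nat_lit 1,nat_lit 6,nat_lit 4,nat_lit 2,nat_lit 4,nat_lit 6,nat_lit 4,nat_lit 2,nat_lit 4])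
) (.node (.leaf [nat_lit 0,nat_lit 24,nat_lit 2,nat_lit 1,nat_lit 5,nat_lit 1,nat_lit 3,nat_lit 0,nat_lit 5,nat_lit 2,nat_lit 1,nat_lit 3,nat_lit 0,nat_lit 2,nat_lit 1,nat_lit 3,nat_lit 0])
 (.leaf [nat_lit 0xd18000000000000000000000000000000000000000000000000000000000000000000000000000000000000000000000000000000000000000000000000000000000000000000000000000000000004,nat_lit 62,nat_lit 7,nat_lit 1,nat_lit 4,nat_lit 6,nat_lit 5,nat_lit 4,nat_lit 5,nat_lit 4,nat_lit 6,nat_lit 4,nat_lit 6,nat_lit 5,nat_lit 4,nat_lit 5,nat_lit 6])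
))) (.node (.node (.node (.node (.leaf [nat_lit 0,nat_lit 28,nat_lit 13,nat_lit 1,nat_lit 0,nat_lit 4,nat_lit 5,nat_lit 4,nat_lit 2,nat_lit 0,nat_lit 2,nat_lit 1,nat_lit 4,nat_lit 5,nat_lit 4,nat_lit 2,nat_lit 0,nat_lit 2])
 (.leaf [nat_lit 0x346000000000000000000000000000000000000000000000000000000000000000000000000000000000000000000000000000000000000000000000000000000000000000000000000002,nat_lit 60,nat_lit 15,nat_lit 1,nat_lit 0,nat_lit 5,nat_lit 0,nat_lit 5,nat_lit 3,nat_lit 6,nat_lit 3,nat_lit 5,nat_lit 1,nat_lit 5,nat_lit 0,nat_lit 5,nat_lit 2,nat_lit 6,nat_lit 2,nat_lit 5])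
) (.leaf [nat_lit 0,nat_lit 14,nat_lit 11,nat_lit 1,nat_lit 1,nat_lit 2,nat_lit 4,nat_lit 2,nat_lit 1,nat_lit 1,nat_lit 2,nat_lit 0,nat_lit 3,nat_lit 2,nat_lit 3,nat_lit 0,nat_lit 4,nat_lit 2,nat_lit 4,nat_lit 1,nat_lit 2])
) (.node (.leaf [nat_lit 0x68c00000000000000000000000000000000000000000000002,nat_lit 39,nat_lit 1,nat_lit 1,nat_lit 2,nat_lit 5,nat_lit 3,nat_lit 5,nat_lit 2,nat_lit 6,nat_lit 2,nat_lit 3,nat_lit 5,nat_lit 3,nat_lit 2,nat_lit 6])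
 (.leaf [nat_lit 0x1a3000000000000000000000000000000000000000000000000000000000000000000000000000000000000000000000000000000000000000001,nat_lit 53,nat_lit 6,nat_lit 1,nat_lit 6,nat_lit 3,nat_lit 4,nat_lit 2,nat_lit 0,nat_lit 3,nat_lit 2,nat_lit 3,nat_lit 1,nat_lit 4,nat_lit 3,nat_lit 6,nat_lit 4,nat_lit 2,nat_lit 4])
)) (.node (.node (.leaf [nat_lit 0xd180002,nat_lit 30,nat_lit 5,nat_lit 1,nat_lit 1,nat_lit 6,nat_lit 1,nat_lit 2,nat_lit 0,nat_lit 6,nat_lit 1,nat_lit 2])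
 (.leaf [nat_lit 0x68c0000000000000000000000000000000000000000000000000000000000000000000000000000000000000000000000000000000000000000000000000000000000000000000002,nat_lit 59,nat_lit 0,nat_lit 1,nat_lit 5,nat_lit 2,nat_lit 5,nat_lit 0,nat_lit 3,nat_lit 6,nat_lit 3,nat_lit 1,nat_lit 2,nat_lit 5,nat_lit 2,nat_lit 0,nat_lit 3,nat_lit 6,nat_lit 3,nat_lit 1])
) (.node (.leaf [nat_lit 0x68c00000000000000000000000000000000000000000000002,nat_lit 39,nat_lit 8,nat_lit 1,nat_lit 3,nat_lit 5,nat_lit 3,nat_lit 2,nat_lit 6,nat_lit 2,nat_lit 5,nat_lit 3,nat_lit 5,nat_lit 2,nat_lit 6,nat_lit 2])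
 (.leaf [nat_lit 0,nat_lit 12,nat_lit 13,nat_lit 0,nat_lit 2,nat_lit 3,nat_lit 0,nat_lit 0,nat_lit 3,nat_lit 1,nat_lit 1,nat_lit 3,nat_lit 1,nat_lit 3,nat_lit 0,nat_lit 2,nat_lit 1,nat_lit 3,nat_lit 0])
)))) (.node (.node (.node (.node (.node (.leaf [nat_lit 0x1a3000000000000000000000000000000000000000000000000000000002,nat_lit 41,nat_lit 10,nat_lit 1,nat_lit 3,nat_lit 1,nat_lit 5,nat_lit 6,nat_lit 5,nat_lit 0,nat_lit 3,nat_lit 1,nat_lit 5,nat_lit 6,nat_lit 5,nat_lit 0])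
 (.leaf [nat_lit 0,nat_lit 15,nat_lit 3,nat_lit 0,nat_lit 2,nat_lit 0,nat_lit 0,nat_lit 0,nat_lit 2,nat_lit 1,nat_lit 3,nat_lit 0,nat_lit 2,nat_lit 0,nat_lit 2,nat_lit 4,nat_lit 3,nat_lit 4,nat_lit 2,nat_lit 0,nat_lit 0,nat_lit 0])
) (.leaf [nat_lit 0x34600000000000002,nat_lit 32,nat_lit 5,nat_lit 1,nat_lit 1,nat_lit 6,nat_lit 1,nat_lit 5,nat_lit 0,nat_lit 6,nat_lit 1,nat_lit 5])
) (.node (.leaf [nat_lit 0,nat_lit 27,nat_lit 8,nat_lit 1,nat_lit 4,nat_lit 2,nat_lit 5,nat_lit 1,nat_lit 3,nat_lit 1,nat_lit 5,nat_lit 0,nat_lit 3,nat_lit 0,nat_lit 5,nat_lit 2,nat_lit 4,nat_lit 3])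
 (.leaf [nat_lit 0,nat_lit 18,nat_lit 21,nat_lit 1,nat_lit 0,nat_lit 1,nat_lit 2,nat_lit 1,nat_lit 4,nat_lit 2,nat_lit 4,nat_lit 0,nat_lit 2,nat_lit 0,nat_lit 4,nat_lit 1,nat_lit 3,nat_lit 2,nat_lit 3,nat_lit 1,nat_lit 2,nat_lit 1,nat_lit 1,nat_lit 2,nat_lit 1,nat_lit 2,nat_lit 1])
)) (.node (.node (.leaf [nat_lit 0,nat_lit 14,nat_lit 2,nat_lit 1,nat_lit 3,nat_lit 2,nat_lit 3,nat_lit 0,nat_lit 4,nat_lit 2,nat_lit 4,nat_lit 1,nat_lit 2,nat_lit 0,nat_lit 2,nat_lit 4,nat_lit 2,nat_lit 1,nat_lit 1,nat_lit 2,nat_lit 0])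
 (.leaf [nat_lit 0,nat_lit 22,nat_lit 7,nat_lit 1,nat_lit 5,nat_lit 3,nat_lit 0,nat_lit 5,nat_lit 0,nat_lit 3,nat_lit 1,nat_lit 5,nat_lit 1,nat_lit 3,nat_lit 5,nat_lit 0,nat_lit 3,nat_lit 1])
) (.node (.leaf [nat_lit 0,nat_lit 22,nat_lit 1,nat_lit 1,nat_lit 0,nat_lit 3,nat_lit 5,nat_lit 0,nat_lit 3,nat_lit 1,nat_lit 5,nat_lit 3,nat_lit 0,nat_lit 5,nat_lit 0,nat_lit 3,nat_lit 1,nat_lit 5])
 (.leaf [nat_lit 0x346000000000000000000000000000000000000000000000000000000000000000000000000000000000000000002,nat_lit 48,nat_lit 6,nat_lit 1,nat_lit 4,nat_lit 5,nat_lit 6,nat_lit 5,nat_lit 4,nat_lit 3,nat_lit 4,nat_lit 5,nat_lit 6,nat_lit 5,nat_lit 4,nat_lit 3])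
))) (.node (.node (.node (.leaf [nat_lit 0,nat_lit 21,nat_lit 10,nat_lit 1,nat_lit 3,nat_lit 1,nat_lit 5,nat_lit 0,nat_lit 3,nat_lit 1,nat_lit 5,nat_lit 0,nat_lit 3,nat_lit 1,nat_lit 5,nat_lit 0])
 (.leaf [nat_lit 0,nat_lit 18,nat_lit 14,nat_lit 0,nat_lit 4,nat_lit 1,nat_lit 2,nat_lit 1,nat_lit 4,nat_lit 2,nat_lit 4,nat_lit 0,nat_lit 2,nat_lit 0,nat_lit 0,nat_lit 0,nat_lit 2,nat_lit 0,nat_lit 2,nat_lit 0,nat_lit 0,nat_lit 2,nat_lit 0,nat_lit 3,nat_lit 2,nat_lit 3,nat_lit 0])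
) (.node (.leaf [nat_lit 0x68c0000000000000000000000000000000000000000000000000000000000000000000000000000000000002,nat_lit 47,nat_lit 10,nat_lit 1,nat_lit 4,nat_lit 3,nat_lit 6,nat_lit 3,nat_lit 4,nat_lit 5,nat_lit 4,nat_lit 3,nat_lit 6,nat_lit 3,nat_lit 4,nat_lit 5])
 (.leaf [nat_lit 0,nat_lit 14,nat_lit 6,nat_lit 0,nat_lit 2,nat_lit 0,nat_lit 4,nat_lit 2,nat_lit 4,nat_lit 1,nat_lit 3,nat_lit 2,nat_lit 3,nat_lit 1,nat_lit 2,nat_lit 0,nat_lit 0,nat_lit 2,nat_lit 4,nat_lit 2,nat_lit 1])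
)) (.node (.node (.leaf [nat_lit 0x1a300000000000000000000000000000000000000000000000000000000000000000000000000000000000000000000002,nat_lit 49,nat_lit 11,nat_lit 1,nat_lit 0,nat_lit 1,nat_lit 2,nat_lit 0,nat_lit 2,nat_lit 0,nat_lit 5,nat_lit 6,nat_lit 1,nat_lit 2,nat_lit 0,nat_lit 6,nat_lit 5])
 (.leaf [nat_lit 0,nat_lit 27,nat_lit 4,nat_lit 1,nat_lit 5,nat_lit 2,nat_lit 4,nat_lit 3,nat_lit 4,nat_lit 2,nat_lit 5,nat_lit 1,nat_lit 3,nat_lit 1,nat_lit 5,nat_lit 0,nat_lit 3,nat_lit 0])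
) (.node (.leaf [nat_lit 0xd1800000000000000000000000000000000000000000000000000000000000000000000000000000000000000000000000000000000000000000000000000000000000000002,nat_lit 58,nat_lit 7,nat_lit 1,nat_lit 4,nat_lit 5,nat_lit 0,nat_lit 3,nat_lit 5,nat_lit 6,nat_lit 5,nat_lit 3,nat_lit 1,nat_lit 5,nat_lit 4,nat_lit 0,nat_lit 5,nat_lit 6,nat_lit 5,nat_lit 1])
 (.leaf [nat_lit 0,nat_lit 17,nat_lit 1,nat_lit 0,nat_lit 1,nat_lit 2,nat_lit 0,nat_lit 2,nat_lit 0,nat_lit 3,nat_lit 0,nat_lit 2,nat_lit 1,nat_lit 2,nat_lit 3,nat_lit 4,nat_lit 0,nat_lit 2,nat_lit 1,nat_lit 1,nat_lit 3,nat_lit 0,nat_lit 0,nat_lit 4,nat_lit 0])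
))))) (.node (.node (.node (.node (.node (.node (.leaf [nat_lit 0,nat_lit 4,nat_lit 2,nat_lit 1,nat_lit 2,nat_lit 0,nat_lit 2,nat_lit 1,nat_lit 1,nat_lit 2,nat_lit 0,nat_lit 0,nat_lit 2,nat_lit 1,nat_lit 1,nat_lit 2,nat_lit 0])
 (.leaf [nat_lit 0x34600000000000000000000000000000000000000000000000000000000000000000000000000000000000000000000000000000000000000000000000000000002,nat_lit 56,nat_lit 11,nat_lit 1,nat_lit 0,nat_lit 4,nat_lit 3,nat_lit 2,nat_lit 1,nat_lit 5,nat_lit 6,nat_lit 5,nat_lit 0,nat_lit 2,nat_lit 3,nat_lit 4,nat_lit 0,nat_lit 3,nat_lit 6,nat_lit 3])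
) (.leaf [nat_lit 0,nat_lit 12,nat_lit 4,nat_lit 1,nat_lit 1,nat_lit 2,nat_lit 1,nat_lit 3,nat_lit 0,nat_lit 3,nat_lit 0,nat_lit 0,nat_lit 3,nat_lit 1,nat_lit 1,nat_lit 3,nat_lit 2,nat_lit 1,nat_lit 3])
) (.node (.leaf [nat_lit 0x1a30000000000000000002,nat_lit 33,nat_lit 6,nat_lit 1,nat_lit 3,nat_lit 2,nat_lit 3,nat_lit 6,nat_lit 3,nat_lit 2,nat_lit 3,nat_lit 6])
 (.leaf [nat_lit 0,nat_lit 24,nat_lit 7,nat_lit 0,nat_lit 0,nat_lit 3,nat_lit 0,nat_lit 5,nat_lit 1,nat_lit 3,nat_lit 0,nat_lit 2,nat_lit 1,nat_lit 3,nat_lit 0,nat_lit 2,nat_lit 5])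
)) (.node (.node (.leaf [nat_lit 0,nat_lit 11,nat_lit 3,nat_lit 1,nat_lit 3,nat_lit 0,nat_lit 3,nat_lit 2,nat_lit 0,nat_lit 0,nat_lit 0,nat_lit 2,nat_lit 1,nat_lit 1,nat_lit 1,nat_lit 2,nat_lit 3,nat_lit 1])
 (.leaf [nat_lit 0x8000000000000000000000000000000000000000000000000000000000000000000000000000000000000000000000000000000000000000000000000000000000000000000000000000000000000,nat_lit 62,nat_lit 5,nat_lit 0,nat_lit 4,nat_lit 6,nat_lit 5,nat_lit 4,nat_lit 5,nat_lit 6,nat_lit 4,nat_lit 6,nat_lit 4,nat_lit 5,nat_lit 4,nat_lit 5,nat_lit 6])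
) (.node (.leaf [nat_lit 0,nat_lit 4,nat_lit 10,nat_lit 1,nat_lit 2,nat_lit 1,nat_lit 1,nat_lit 2,nat_lit 0,nat_lit 2,nat_lit 0,nat_lit 2,nat_lit 1,nat_lit 1,nat_lit 2,nat_lit 0,nat_lit 0])
 (.leaf [nat_lit 0,nat_lit 16,nat_lit 1,nat_lit 1,nat_lit 4,nat_lit 1,nat_lit 4,nat_lit 0,nat_lit 4,nat_lit 0,nat_lit 0,nat_lit 4,nat_lit 1,nat_lit 2,nat_lit 0,nat_lit 0,nat_lit 2,nat_lit 3,nat_lit 0,nat_lit 3,nat_lit 1,nat_lit 1,nat_lit 1,nat_lit 3])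
))) (.node (.node (.node (.node (.leaf [nat_lit 0,nat_lit 9,nat_lit 4,nat_lit 1,nat_lit 2,nat_lit 1,nat_lit 3,nat_lit 2,nat_lit 3,nat_lit 0,nat_lit 2,nat_lit 1,nat_lit 3,nat_lit 2,nat_lit 3,nat_lit 0])
 (.leaf [nat_lit 0x1a3000000000000000000000000000000000000000000000000000000002,nat_lit 41,nat_lit 9,nat_lit 1,nat_lit 1,nat_lit 3,nat_lit 1,nat_lit 5,nat_lit 6,nat_lit 5,nat_lit 0,nat_lit 3,nat_lit 1,nat_lit 5,nat_lit 6,nat_lit 5])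
) (.leaf [nat_lit 0,nat_lit 27,nat_lit 0,nat_lit 1,nat_lit 5,nat_lit 0,nat_lit 3,nat_lit 0,nat_lit 5,nat_lit 2,nat_lit 4,nat_lit 3,nat_lit 4,nat_lit 2,nat_lit 5,nat_lit 1,nat_lit 3,nat_lit 1])
) (.node (.leaf [nat_lit 0,nat_lit 12,nat_lit 10,nat_lit 1,nat_lit 1,nat_lit 0,nat_lit 3,nat_lit 1,nat_lit 1,nat_lit 3,nat_lit 2,nat_lit 1,nat_lit 3,nat_lit 0,nat_lit 2,nat_lit 1,nat_lit 3,nat_lit 0,nat_lit 3])
 (.leaf [nat_lit 0x68c000000000000000000000000000000000000000000000000000000000000000000000000000000000000000000000000000000000000000000000000000000000000000000000000000000000000000000000000000000000002,nat_lit 67,nat_lit 2,nat_lit 1,nat_lit 1,nat_lit 4,nat_lit 1,nat_lit 1,nat_lit 4,nat_lit 2,nat_lit 5,nat_lit 6,nat_lit 5,nat_lit 2,nat_lit 4,nat_lit 0,nat_lit 0,nat_lit 4,nat_lit 1,nat_lit 1,nat_lit 6,nat_lit 0])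
)) (.node (.node (.leaf [nat_lit 0xd18000000000000000000000000000000000000000000000000000000000000000000000000000000000000000000000000000000000000000000000000000000000000000000000000000000000004,nat_lit 62,nat_lit 10,nat_lit 1,nat_lit 4,nat_lit 5,nat_lit 4,nat_lit 6,nat_lit 4,nat_lit 6,nat_lit 5,nat_lit 4,nat_lit 5,nat_lit 6,nat_lit 4,nat_lit 6,nat_lit 5])
 (.leaf [nat_lit 0x1a300000000000000000000000000000000000000000000000000000000000000000000000000000000000000000000002,nat_lit 49,nat_lit 1,nat_lit 1,nat_lit 1,nat_lit 2,nat_lit 0,nat_lit 5,nat_lit 6,nat_lit 1,nat_lit 2,nat_lit 0,nat_lit 6,nat_lit 5,nat_lit 1,nat_lit 1,nat_lit 2])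
) (.node (.leaf [nat_lit 0x1a300000000000000000000000000000000000000000000000000000000000000000000000000000000000000000000002,nat_lit 49,nat_lit 8,nat_lit 1,nat_lit 1,nat_lit 6,nat_lit 5,nat_lit 1,nat_lit 1,nat_lit 2,nat_lit 0,nat_lit 2,nat_lit 0,nat_lit 5,nat_lit 6,nat_lit 1,nat_lit 2])
 (.leaf [nat_lit 0x68c000000000000000000000000000000000000000000000000000000000000000000000000000000000000000000000000000000000000000000000000002,nat_lit 55,nat_lit 15,nat_lit 1,nat_lit 0,nat_lit 3,nat_lit 2,nat_lit 1,nat_lit 3,nat_lit 0,nat_lit 6,nat_lit 1,nat_lit 3,nat_lit 0,nat_lit 2,nat_lit 3,nat_lit 0,nat_lit 0,nat_lit 6,nat_lit 1])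
)))) (.node (.node (.node (.node (.node (.leaf [nat_lit 0,nat_lit 23,nat_lit 0,nat_lit 1,nat_lit 2,nat_lit 0,nat_lit 0,nat_lit 2,nat_lit 5,nat_lit 1,nat_lit 2,nat_lit 0,nat_lit 5,nat_lit 2,nat_lit 1,nat_lit 1])
 (.leaf [nat_lit 0x1000000000000000000000000000000000000000000000000000000000000000000000000000000000000000000000000000000000000000000,nat_lit 53,nat_lit 2,nat_lit 0,nat_lit 2,nat_lit 3,nat_lit 1,nat_lit 2,nat_lit 4,nat_lit 3,nat_lit 6,nat_lit 4,nat_lit 2,nat_lit 4,nat_lit 6,nat_lit 3,nat_lit 4,nat_lit 0,nat_lit 3])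
) (.leaf [nat_lit 0x68c00000000000000000000000000000000000000000000000000000000000000000000000000000000000000000000000000000000000000000000000000000000000000000000000000000000000000002,nat_lit 63,nat_lit 0,nat_lit 1,nat_lit 5,nat_lit 3,nat_lit 2,nat_lit 3,nat_lit 5,nat_lit 0,nat_lit 5,nat_lit 6,nat_lit 1,nat_lit 2,nat_lit 5,nat_lit 2,nat_lit 0,nat_lit 6,nat_lit 5,nat_lit 1])
) (.node (.leaf [nat_lit 0,nat_lit 18,nat_lit 12,nat_lit 1,nat_lit 3,nat_lit 1,nat_lit 2,nat_lit 1,nat_lit 1,nat_lit 2,nat_lit 1,nat_lit 2,nat_lit 1,nat_lit 1,nat_lit 1,nat_lit 2,nat_lit 1,nat_lit 4,nat_lit 2,nat_lit 4,nat_lit 0,nat_lit 2,nat_lit 0,nat_lit 4,nat_lit 1,nat_lit 3,nat_lit 2])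
 (.leaf [nat_lit 0,nat_lit 22,nat_lit 2,nat_lit 1,nat_lit 3,nat_lit 5,nat_lit 0,nat_lit 3,nat_lit 1,nat_lit 5,nat_lit 3,nat_lit 0,nat_lit 5,nat_lit 0,nat_lit 3,nat_lit 1,nat_lit 5,nat_lit 1])
)) (.node (.node (.leaf [nat_lit 0x68c000000000000000000000000000000000000000000000000000000000000000002,nat_lit 43,nat_lit 8,nat_lit 1,nat_lit 5,nat_lit 6,nat_lit 5,nat_lit 1,nat_lit 5,nat_lit 0,nat_lit 5,nat_lit 6,nat_lit 5,nat_lit 1,nat_lit 5,nat_lit 0])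
 (.leaf [nat_lit 0,nat_lit 14,nat_lit 7,nat_lit 1,nat_lit 2,nat_lit 4,nat_lit 1,nat_lit 2,nat_lit 0,nat_lit 2,nat_lit 4,nat_lit 2,nat_lit 1,nat_lit 1,nat_lit 2,nat_lit 0,nat_lit 3,nat_lit 2,nat_lit 3,nat_lit 0,nat_lit 4])
) (.node (.leaf [nat_lit 0,nat_lit 10,nat_lit 11,nat_lit 1,nat_lit 0,nat_lit 1,nat_lit 1,nat_lit 3,nat_lit 2,nat_lit 3,nat_lit 0,nat_lit 0,nat_lit 0,nat_lit 2,nat_lit 1,nat_lit 3,nat_lit 0,nat_lit 2])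
 (.leaf [nat_lit 0,nat_lit 26,nat_lit 7,nat_lit 1,nat_lit 2,nat_lit 0,nat_lit 0,nat_lit 5,nat_lit 1,nat_lit 1,nat_lit 5,nat_lit 4,nat_lit 5,nat_lit 2,nat_lit 5,nat_lit 4,nat_lit 5])
))) (.node (.node (.node (.leaf [nat_lit 0x100000000000000000000000000000000000000000000000000000000000000000000000000000000000000000000000,nat_lit 49,nat_lit 10,nat_lit 0,nat_lit 2,nat_lit 1,nat_lit 2,nat_lit 0,nat_lit 0,nat_lit 5,nat_lit 6,nat_lit 1,nat_lit 2,nat_lit 0,nat_lit 6,nat_lit 5,nat_lit 1])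
 (.leaf [nat_lit 0,nat_lit 14,nat_lit 8,nat_lit 0,nat_lit 4,nat_lit 2,nat_lit 4,nat_lit 1,nat_lit 3,nat_lit 2,nat_lit 3,nat_lit 1,nat_lit 2,nat_lit 0,nat_lit 0,nat_lit 2,nat_lit 4,nat_lit 2,nat_lit 1,nat_lit 2,nat_lit 0])
) (.node (.leaf [nat_lit 0xd18000000000000000000000000000000000000000000000000000000000000000000000000000000000000000000000000002,nat_lit 50,nat_lit 3,nat_lit 1,nat_lit 0,nat_lit 4,nat_lit 5,nat_lit 3,nat_lit 6,nat_lit 3,nat_lit 5,nat_lit 4,nat_lit 0,nat_lit 3,nat_lit 1,nat_lit 6,nat_lit 0,nat_lit 3])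
 (.leaf [nat_lit 0,nat_lit 17,nat_lit 6,nat_lit 1,nat_lit 2,nat_lit 1,nat_lit 4,nat_lit 3,nat_lit 2,nat_lit 0,nat_lit 2,nat_lit 1,nat_lit 3,nat_lit 1,nat_lit 2,nat_lit 1,nat_lit 2,nat_lit 1,nat_lit 1,nat_lit 4,nat_lit 1,nat_lit 1,nat_lit 3,nat_lit 0,nat_lit 0])
)) (.node (.node (.leaf [nat_lit 0,nat_lit 8,nat_lit 8,nat_lit 1,nat_lit 2,nat_lit 1,nat_lit 2,nat_lit 0,nat_lit 3,nat_lit 1,nat_lit 2,nat_lit 0,nat_lit 2,nat_lit 3])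
 (.leaf [nat_lit 0,nat_lit 26,nat_lit 4,nat_lit 1,nat_lit 5,nat_lit 4,nat_lit 5,nat_lit 2,nat_lit 0,nat_lit 0,nat_lit 5,nat_lit 1,nat_lit 1,nat_lit 5,nat_lit 4,nat_lit 5,nat_lit 2])
) (.node (.leaf [nat_lit 0,nat_lit 24,nat_lit 7,nat_lit 1,nat_lit 2,nat_lit 1,nat_lit 3,nat_lit 0,nat_lit 2,nat_lit 1,nat_lit 3,nat_lit 0,nat_lit 5,nat_lit 1,nat_lit 3,nat_lit 0,nat_lit 5])
 (.leaf [nat_lit 0,nat_lit 15,nat_lit 4,nat_lit 1,nat_lit 2,nat_lit 1,nat_lit 2,nat_lit 1,nat_lit 3,nat_lit 0,nat_lit 2,nat_lit 1,nat_lit 1,nat_lit 1,nat_lit 2,nat_lit 1,nat_lit 1,nat_lit 1,nat_lit 2,nat_lit 4,nat_lit 3,nat_lit 4])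
)))))) (.node (.node (.node (.node (.node (.node (.node (.leaf [nat_lit 0x68c00000000000000000000000000000000000000000000002,nat_lit 39,nat_lit 9,nat_lit 1,nat_lit 5,nat_lit 3,nat_lit 2,nat_lit 6,nat_lit 2,nat_lit 5,nat_lit 3,nat_lit 5,nat_lit 2,nat_lit 6,nat_lit 2,nat_lit 3])
 (.leaf [nat_lit 0x1a3000000000000000000000000000000000000000000000000000000000000000000000000000000000000000000000000000000000000000002,nat_lit 53,nat_lit 3,nat_lit 1,nat_lit 4,nat_lit 2,nat_lit 4,nat_lit 6,nat_lit 3,nat_lit 4,nat_lit 2,nat_lit 0,nat_lit 3,nat_lit 2,nat_lit 3,nat_lit 1,nat_lit 4,nat_lit 3,nat_lit 6])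
) (.leaf [nat_lit 0xd1800000000000000000000000000000000000000000000000000000000000000000000000000000004,nat_lit 46,nat_lit 5,nat_lit 1,nat_lit 2,nat_lit 6,nat_lit 4,nat_lit 6,nat_lit 2,nat_lit 5,nat_lit 2,nat_lit 6,nat_lit 4,nat_lit 6,nat_lit 2,nat_lit 5])
) (.node (.leaf [nat_lit 0,nat_lit 14,nat_lit 14,nat_lit 0,nat_lit 3,nat_lit 1,nat_lit 2,nat_lit 0,nat_lit 0,nat_lit 2,nat_lit 4,nat_lit 2,nat_lit 1,nat_lit 2,nat_lit 0,nat_lit 4,nat_lit 2,nat_lit 4,nat_lit 1,nat_lit 3,nat_lit 2])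
 (.leaf [nat_lit 0,nat_lit 18,nat_lit 10,nat_lit 1,nat_lit 3,nat_lit 2,nat_lit 3,nat_lit 1,nat_lit 2,nat_lit 1,nat_lit 1,nat_lit 2,nat_lit 1,nat_lit 2,nat_lit 1,nat_lit 1,nat_lit 1,nat_lit 2,nat_lit 1,nat_lit 4,nat_lit 2,nat_lit 4,nat_lit 0,nat_lit 2,nat_lit 0,nat_lit 4,nat_lit 1])
)) (.node (.node (.leaf [nat_lit 0x34600000000000000000000000000000000000000000000000000000000000000000000002,nat_lit 44,nat_lit 3,nat_lit 1,nat_lit 2,nat_lit 3,nat_lit 2,nat_lit 5,nat_lit 6,nat_lit 5,nat_lit 2,nat_lit 3,nat_lit 2,nat_lit 5,nat_lit 6,nat_lit 5])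
 (.leaf [nat_lit 0,nat_lit 18,nat_lit 16,nat_lit 1,nat_lit 0,nat_lit 2,nat_lit 1,nat_lit 2,nat_lit 1,nat_lit 1,nat_lit 1,nat_lit 2,nat_lit 1,nat_lit 4,nat_lit 2,nat_lit 4,nat_lit 0,nat_lit 2,nat_lit 0,nat_lit 4,nat_lit 1,nat_lit 3,nat_lit 2,nat_lit 3,nat_lit 1,nat_lit 2,nat_lit 1])
) (.node (.leaf [nat_lit 0x68c00000000000000000000000000000000000000000000000000000000000000000000000000000000000000000000000000000002,nat_lit 51,nat_lit 9,nat_lit 1,nat_lit 4,nat_lit 3,nat_lit 5,nat_lit 4,nat_lit 3,nat_lit 5,nat_lit 6,nat_lit 5,nat_lit 3,nat_lit 4,nat_lit 5,nat_lit 3,nat_lit 4,nat_lit 6])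
 (.leaf [nat_lit 0x1a300000000000000000000000000000000000002,nat_lit 37,nat_lit 3,nat_lit 1,nat_lit 5,nat_lit 2,nat_lit 5,nat_lit 2,nat_lit 5,nat_lit 4,nat_lit 6,nat_lit 4,nat_lit 2,nat_lit 4,nat_lit 6,nat_lit 4])
))) (.node (.node (.node (.node (.leaf [nat_lit 0x68c000000000000000000000000000000000000000000000000000000000000000000000000000000000000000000000000000000000000000000000000002,nat_lit 55,nat_lit 1,nat_lit 1,nat_lit 2,nat_lit 1,nat_lit 3,nat_lit 0,nat_lit 6,nat_lit 1,nat_lit 3,nat_lit 0,nat_lit 2,nat_lit 3,nat_lit 0,nat_lit 0,nat_lit 6,nat_lit 1,nat_lit 1,nat_lit 3])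
 (.leaf [nat_lit 0x68c00000000000000000000000000000000000000000000002,nat_lit 39,nat_lit 10,nat_lit 1,nat_lit 3,nat_lit 2,nat_lit 6,nat_lit 2,nat_lit 5,nat_lit 3,nat_lit 5,nat_lit 2,nat_lit 6,nat_lit 2,nat_lit 3,nat_lit 5])
) (.leaf [nat_lit 0xd1800000000000000000000000000000000000000000000000000000000000000000000000000000000000000000000000000000000000000000000000000000000000000002,nat_lit 58,nat_lit 1,nat_lit 1,nat_lit 4,nat_lit 0,nat_lit 5,nat_lit 6,nat_lit 5,nat_lit 1,nat_lit 4,nat_lit 5,nat_lit 0,nat_lit 3,nat_lit 5,nat_lit 6,nat_lit 5,nat_lit 3,nat_lit 1,nat_lit 5])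
) (.node (.leaf [nat_lit 0xd180000000000000000000000000000000000000000000000000000000000000000000000000000000000000000000000000000000000000000000000000000000000000000000000000000000000000000000000000000002,nat_lit 66,nat_lit 15,nat_lit 1,nat_lit 3,nat_lit 1,nat_lit 1,nat_lit 3,nat_lit 2,nat_lit 6,nat_lit 2,nat_lit 3,nat_lit 0,nat_lit 0,nat_lit 3,nat_lit 4,nat_lit 5,nat_lit 2,nat_lit 6,nat_lit 2,nat_lit 5,nat_lit 4])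
 (.leaf [nat_lit 0,nat_lit 18,nat_lit 13,nat_lit 0,nat_lit 1,nat_lit 4,nat_lit 1,nat_lit 2,nat_lit 1,nat_lit 4,nat_lit 2,nat_lit 4,nat_lit 0,nat_lit 2,nat_lit 0,nat_lit 0,nat_lit 0,nat_lit 2,nat_lit 0,nat_lit 2,nat_lit 0,nat_lit 0,nat_lit 2,nat_lit 0,nat_lit 3,nat_lit 2,nat_lit 3])
)) (.node (.node (.leaf [nat_lit 0x1a3000000000000000000000000000000000000000000000000000000002,nat_lit 41,nat_lit 8,nat_lit 1,nat_lit 5,nat_lit 0,nat_lit 3,nat_lit 1,nat_lit 5,nat_lit 6,nat_lit 5,nat_lit 0,nat_lit 3,nat_lit 1,nat_lit 5,nat_lit 6])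
 (.leaf [nat_lit 0,nat_lit 27,nat_lit 11,nat_lit 1,nat_lit 0,nat_lit 3,nat_lit 1,nat_lit 5,nat_lit 0,nat_lit 3,nat_lit 0,nat_lit 5,nat_lit 2,nat_lit 4,nat_lit 3,nat_lit 4,nat_lit 2,nat_lit 5])
) (.node (.leaf [nat_lit 0,nat_lit 11,nat_lit 9,nat_lit 1,nat_lit 1,nat_lit 2,nat_lit 1,nat_lit 1,nat_lit 1,nat_lit 2,nat_lit 3,nat_lit 1,nat_lit 3,nat_lit 0,nat_lit 3,nat_lit 2,nat_lit 0,nat_lit 0])
 (.leaf [nat_lit 0,nat_lit 5,nat_lit 0,nat_lit 0,nat_lit 1,nat_lit 0,nat_lit 2,nat_lit 0,nat_lit 0,nat_lit 2,nat_lit 0,nat_lit 2,nat_lit 0,nat_lit 0,nat_lit 2,nat_lit 0,nat_lit 0,nat_lit 2,nat_lit 0,nat_lit 2,nat_lit 0,nat_lit 0,nat_lit 2,nat_lit 0,nat_lit 0,nat_lit 2,nat_lit 0,nat_lit 2])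
)))) (.node (.node (.node (.node (.node (.leaf [nat_lit 0x346000000000000000000000000000000000000000000000000000000000000000000000000000000000000000002,nat_lit 48,nat_lit 5,nat_lit 1,nat_lit 3,nat_lit 4,nat_lit 5,nat_lit 6,nat_lit 5,nat_lit 4,nat_lit 3,nat_lit 4,nat_lit 5,nat_lit 6,nat_lit 5,nat_lit 4])
 (.leaf [nat_lit 0x3460000000000000000000000000000000000000000000000000002,nat_lit 40,nat_lit 0,nat_lit 1,nat_lit 4,nat_lit 6,nat_lit 4,nat_lit 0,nat_lit 2,nat_lit 1,nat_lit 4,nat_lit 6,nat_lit 4,nat_lit 0,nat_lit 2,nat_lit 1])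
) (.leaf [nat_lit 0,nat_lit 14,nat_lit 1,nat_lit 0,nat_lit 1,nat_lit 2,nat_lit 4,nat_lit 2,nat_lit 1,nat_lit 2,nat_lit 0,nat_lit 4,nat_lit 2,nat_lit 4,nat_lit 1,nat_lit 3,nat_lit 2,nat_lit 3,nat_lit 1,nat_lit 2,nat_lit 0])
) (.node (.leaf [nat_lit 0,nat_lit 14,nat_lit 3,nat_lit 0,nat_lit 4,nat_lit 2,nat_lit 1,nat_lit 2,nat_lit 0,nat_lit 4,nat_lit 2,nat_lit 4,nat_lit 1,nat_lit 3,nat_lit 2,nat_lit 3,nat_lit 1,nat_lit 2,nat_lit 0,nat_lit 0,nat_lit 2])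
 (.leaf [nat_lit 0x68c0000000000000000000000000000000000000000000000000000000000000000000000000000000000000000000000000000000000000000000000000000000000000000000002,nat_lit 59,nat_lit 7,nat_lit 1,nat_lit 0,nat_lit 2,nat_lit 5,nat_lit 2,nat_lit 0,nat_lit 3,nat_lit 6,nat_lit 3,nat_lit 1,nat_lit 5,nat_lit 2,nat_lit 5,nat_lit 0,nat_lit 3,nat_lit 6,nat_lit 3])
)) (.node (.node (.leaf [nat_lit 0xd18000000000000000000000000000000000000000000000000000000000000000000000000000000000000000000000000000000000000000000000000000000000000000000000000000000000004,nat_lit 62,nat_lit 12,nat_lit 1,nat_lit 4,nat_lit 6,nat_lit 4,nat_lit 6,nat_lit 5,nat_lit 4,nat_lit 5,nat_lit 6,nat_lit 4,nat_lit 6,nat_lit 5,nat_lit 4,nat_lit 5])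
 (.leaf [nat_lit 0,nat_lit 22,nat_lit 10,nat_lit 1,nat_lit 5,nat_lit 0,nat_lit 3,nat_lit 1,nat_lit 5,nat_lit 1,nat_lit 3,nat_lit 5,nat_lit 0,nat_lit 3,nat_lit 1,nat_lit 5,nat_lit 3,nat_lit 0])
) (.node (.leaf [nat_lit 0,nat_lit 28,nat_lit 0,nat_lit 1,nat_lit 4,nat_lit 5,nat_lit 4,nat_lit 2,nat_lit 0,nat_lit 2,nat_lit 1,nat_lit 4,nat_lit 5,nat_lit 4,nat_lit 2,nat_lit 0,nat_lit 2,nat_lit 1])
 (.leaf [nat_lit 0,nat_lit 27,nat_lit 5,nat_lit 1,nat_lit 2,nat_lit 4,nat_lit 3,nat_lit 4,nat_lit 2,nat_lit 5,nat_lit 1,nat_lit 3,nat_lit 1,nat_lit 5,nat_lit 0,nat_lit 3,nat_lit 0,nat_lit 5])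
))) (.node (.node (.node (.leaf [nat_lit 0x1a300000000000000000000000000000000000002,nat_lit 37,nat_lit 4,nat_lit 1,nat_lit 2,nat_lit 5,nat_lit 2,nat_lit 5,nat_lit 4,nat_lit 6,nat_lit 4,nat_lit 2,nat_lit 4,nat_lit 6,nat_lit 4,nat_lit 5])
 (.leaf [nat_lit 0,nat_lit 16,nat_lit 3,nat_lit 1,nat_lit 4,nat_lit 0,nat_lit 4,nat_lit 0,nat_lit 0,nat_lit 4,nat_lit 1,nat_lit 2,nat_lit 0,nat_lit 0,nat_lit 2,nat_lit 3,nat_lit 0,nat_lit 3,nat_lit 1,nat_lit 1,nat_lit 1,nat_lit 3,nat_lit 4,nat_lit 1])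
) (.node (.leaf [nat_lit 0x68c0000000000000000000000000002,nat_lit 35,nat_lit 6,nat_lit 1,nat_lit 4,nat_lit 2,nat_lit 4,nat_lit 6,nat_lit 4,nat_lit 2,nat_lit 4,nat_lit 6])
 (.leaf [nat_lit 0xd18000000000000000000000000000000000000000002,nat_lit 38,nat_lit 0,nat_lit 1,nat_lit 3,nat_lit 4,nat_lit 6,nat_lit 4,nat_lit 3,nat_lit 2,nat_lit 3,nat_lit 4,nat_lit 6,nat_lit 4,nat_lit 3,nat_lit 2])
)) (.node (.node (.leaf [nat_lit 0,nat_lit 26,nat_lit 2,nat_lit 0,nat_lit 5,nat_lit 1,nat_lit 1,nat_lit 2,nat_lit 5,nat_lit 4,nat_lit 5,nat_lit 2,nat_lit 5,nat_lit 4,nat_lit 5,nat_lit 0,nat_lit 0])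
 (.leaf [nat_lit 0,nat_lit 24,nat_lit 10,nat_lit 0,nat_lit 5,nat_lit 1,nat_lit 3,nat_lit 0,nat_lit 2,nat_lit 1,nat_lit 3,nat_lit 0,nat_lit 2,nat_lit 5,nat_lit 1,nat_lit 3,nat_lit 0])
) (.node (.leaf [nat_lit 0x1a300000000000000000000000000000000000002,nat_lit 37,nat_lit 10,nat_lit 1,nat_lit 4,nat_lit 2,nat_lit 4,nat_lit 6,nat_lit 4,nat_lit 5,nat_lit 2,nat_lit 5,nat_lit 2,nat_lit 5,nat_lit 4,nat_lit 6])
 (.leaf [nat_lit 0x1a30000000000000000000000000000000000000000000000000000000000000000000000000002,nat_lit 45,nat_lit 9,nat_lit 1,nat_lit 5,nat_lit 4,nat_lit 2,nat_lit 4,nat_lit 5,nat_lit 6,nat_lit 5,nat_lit 4,nat_lit 2,nat_lit 4,nat_lit 5,nat_lit 6])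
))))) (.node (.node (.node (.node (.node (.node (.leaf [nat_lit 0x3460000000000000000000000000000000000000000000000000002,nat_lit 40,nat_lit 10,nat_lit 1,nat_lit 2,nat_lit 1,nat_lit 4,nat_lit 6,nat_lit 4,nat_lit 0,nat_lit 2,nat_lit 1,nat_lit 4,nat_lit 6,nat_lit 4,nat_lit 0])
 (.leaf [nat_lit 0x3460000000000000000000000000000000000000000000000000000000000000000000000000000000000000000000000000000000000000000000000000000000000000000000000000000000000000000000004,nat_lit 64,nat_lit 9,nat_lit 1,nat_lit 5,nat_lit 4,nat_lit 6,nat_lit 5,nat_lit 0,nat_lit 2,nat_lit 1,nat_lit 5,nat_lit 6,nat_lit 4,nat_lit 5,nat_lit 6,nat_lit 5,nat_lit 2,nat_lit 5,nat_lit 6])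
) (.leaf [nat_lit 0,nat_lit 4,nat_lit 11,nat_lit 1,nat_lit 0,nat_lit 1,nat_lit 2,nat_lit 0,nat_lit 2,nat_lit 0,nat_lit 2,nat_lit 1,nat_lit 1,nat_lit 2,nat_lit 0,nat_lit 0,nat_lit 2])
) (.node (.leaf [nat_lit 0,nat_lit 18,nat_lit 2,nat_lit 1,nat_lit 4,nat_lit 2,nat_lit 4,nat_lit 0,nat_lit 2,nat_lit 0,nat_lit 4,nat_lit 1,nat_lit 3,nat_lit 2,nat_lit 3,nat_lit 1,nat_lit 2,nat_lit 1,nat_lit 1,nat_lit 2,nat_lit 1,nat_lit 2,nat_lit 1,nat_lit 1,nat_lit 1,nat_lit 2,nat_lit 1])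
 (.leaf [nat_lit 0,nat_lit 16,nat_lit 16,nat_lit 0,nat_lit 4,nat_lit 0,nat_lit 4,nat_lit 3,nat_lit 0,nat_lit 0,nat_lit 0,nat_lit 3,nat_lit 1,nat_lit 3,nat_lit 2,nat_lit 1,nat_lit 1,nat_lit 2,nat_lit 0,nat_lit 4,nat_lit 1,nat_lit 1,nat_lit 4,nat_lit 1])
)) (.node (.node (.leaf [nat_lit 0x68c00000000000000000000000000000000000000000000000000000000000000000000000000000000000000000000000000000000000000000000000000000000000000000000000000000000000000002,nat_lit 63,nat_lit 2,nat_lit 1,nat_lit 2,nat_lit 3,nat_lit 5,nat_lit 0,nat_lit 5,nat_lit 6,nat_lit 1,nat_lit 2,nat_lit 5,nat_lit 2,nat_lit 0,nat_lit 6,nat_lit 5,nat_lit 1,nat_lit 5,nat_lit 3])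
 (.leaf [nat_lit 0,nat_lit 10,nat_lit 0,nat_lit 1,nat_lit 3,nat_lit 2,nat_lit 3,nat_lit 0,nat_lit 0,nat_lit 0,nat_lit 2,nat_lit 1,nat_lit 3,nat_lit 0,nat_lit 2,nat_lit 1,nat_lit 1,nat_lit 1])
) (.node (.leaf [nat_lit 0x1a3000000000000000000000000000000000000000000000000000000000000000000000000000000000000000000000000000000000000000002,nat_lit 53,nat_lit 1,nat_lit 1,nat_lit 3,nat_lit 6,nat_lit 4,nat_lit 2,nat_lit 4,nat_lit 6,nat_lit 3,nat_lit 4,nat_lit 2,nat_lit 0,nat_lit 3,nat_lit 2,nat_lit 3,nat_lit 1,nat_lit 4])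
 (.leaf [nat_lit 0,nat_lit 15,nat_lit 15,nat_lit 0,nat_lit 3,nat_lit 4,nat_lit 2,nat_lit 0,nat_lit 0,nat_lit 0,nat_lit 2,nat_lit 0,nat_lit 0,nat_lit 0,nat_lit 2,nat_lit 1,nat_lit 3,nat_lit 0,nat_lit 2,nat_lit 0,nat_lit 2,nat_lit 4])
))) (.node (.node (.node (.node (.leaf [nat_lit 0,nat_lit 2,nat_lit 5,nat_lit 1,nat_lit 0,nat_lit 1,nat_lit 1,nat_lit 1,nat_lit 1,nat_lit 1,nat_lit 1])
 (.leaf [nat_lit 0x68c0000000000000000000000000000000000000000000000000000000000000000000000000000000000000000000000000000000000000000000000000000000000000000000002,nat_lit 59,nat_lit 8,nat_lit 1,nat_lit 2,nat_lit 5,nat_lit 2,nat_lit 0,nat_lit 3,nat_lit 6,nat_lit 3,nat_lit 1,nat_lit 5,nat_lit 2,nat_lit 5,nat_lit 0,nat_lit 3,nat_lit 6,nat_lit 3,nat_lit 1])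
) (.leaf [nat_lit 0,nat_lit 18,nat_lit 3,nat_lit 1,nat_lit 2,nat_lit 4,nat_lit 0,nat_lit 2,nat_lit 0,nat_lit 4,nat_lit 1,nat_lit 3,nat_lit 2,nat_lit 3,nat_lit 1,nat_lit 2,nat_lit 1,nat_lit 1,nat_lit 2,nat_lit 1,nat_lit 2,nat_lit 1,nat_lit 1,nat_lit 1,nat_lit 2,nat_lit 1,nat_lit 4])
) (.node (.leaf [nat_lit 0x1000000000000000000000000000000000000000000000000000000000000000000000000000000000000000000000000000000000000000000,nat_lit 53,nat_lit 5,nat_lit 0,nat_lit 2,nat_lit 4,nat_lit 3,nat_lit 6,nat_lit 4,nat_lit 2,nat_lit 4,nat_lit 6,nat_lit 3,nat_lit 4,nat_lit 0,nat_lit 3,nat_lit 2,nat_lit 3,nat_lit 1])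
 (.leaf [nat_lit 0,nat_lit 26,nat_lit 0,nat_lit 0,nat_lit 1,nat_lit 0,nat_lit 5,nat_lit 1,nat_lit 1,nat_lit 2,nat_lit 5,nat_lit 4,nat_lit 5,nat_lit 2,nat_lit 5,nat_lit 4,nat_lit 5])
)) (.node (.node (.leaf [nat_lit 0,nat_lit 15,nat_lit 1,nat_lit 1,nat_lit 4,nat_lit 3,nat_lit 4,nat_lit 2,nat_lit 1,nat_lit 2,nat_lit 1,nat_lit 3,nat_lit 0,nat_lit 2,nat_lit 1,nat_lit 1,nat_lit 1,nat_lit 2,nat_lit 1,nat_lit 1,nat_lit 1,nat_lit 2])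
 (.leaf [nat_lit 0x1000000000000000000000000000000000000000000000000000000000000000000000000000000000000000000000000000000000000000000,nat_lit 53,nat_lit 4,nat_lit 0,nat_lit 0,nat_lit 2,nat_lit 4,nat_lit 3,nat_lit 6,nat_lit 4,nat_lit 2,nat_lit 4,nat_lit 6,nat_lit 3,nat_lit 4,nat_lit 0,nat_lit 3,nat_lit 2,nat_lit 3])
) (.node (.leaf [nat_lit 0x3460000000000000000000000000000000000000000000000000002,nat_lit 40,nat_lit 8,nat_lit 1,nat_lit 4,nat_lit 0,nat_lit 2,nat_lit 1,nat_lit 4,nat_lit 6,nat_lit 4,nat_lit 0,nat_lit 2,nat_lit 1,nat_lit 4,nat_lit 6])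
 (.leaf [nat_lit 0x100000000000000000000000000000000000000000000000000000000000000000000000000000000000000000000000,nat_lit 49,nat_lit 0,nat_lit 0,nat_lit 1,nat_lit 0,nat_lit 5,nat_lit 6,nat_lit 1,nat_lit 2,nat_lit 0,nat_lit 6,nat_lit 5,nat_lit 1,nat_lit 2,nat_lit 1,nat_lit 2])
)))) (.node (.node (.node (.node (.node (.leaf [nat_lit 0,nat_lit 21,nat_lit 8,nat_lit 1,nat_lit 5,nat_lit 0,nat_lit 3,nat_lit 1,nat_lit 5,nat_lit 0,nat_lit 3,nat_lit 1,nat_lit 5,nat_lit 0,nat_lit 3,nat_lit 1])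
 (.leaf [nat_lit 0x68c00000000000000000000000000000000000000000000000000000000000000000000000000000000000000000000000000000002,nat_lit 51,nat_lit 0,nat_lit 1,nat_lit 5,nat_lit 6,nat_lit 5,nat_lit 3,nat_lit 4,nat_lit 5,nat_lit 3,nat_lit 4,nat_lit 6,nat_lit 4,nat_lit 3,nat_lit 5,nat_lit 4,nat_lit 3])
) (.leaf [nat_lit 0,nat_lit 11,nat_lit 8,nat_lit 1,nat_lit 1,nat_lit 0,nat_lit 2,nat_lit 1,nat_lit 1,nat_lit 1,nat_lit 2,nat_lit 3,nat_lit 1,nat_lit 3,nat_lit 0,nat_lit 3,nat_lit 2,nat_lit 0])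
) (.node (.leaf [nat_lit 0,nat_lit 15,nat_lit 14,nat_lit 0,nat_lit 4,nat_lit 3,nat_lit 4,nat_lit 2,nat_lit 0,nat_lit 0,nat_lit 0,nat_lit 2,nat_lit 0,nat_lit 0,nat_lit 0,nat_lit 2,nat_lit 1,nat_lit 3,nat_lit 0,nat_lit 2,nat_lit 0,nat_lit 2])
 (.leaf [nat_lit 0,nat_lit 23,nat_lit 3,nat_lit 1,nat_lit 2,nat_lit 5,nat_lit 1,nat_lit 2,nat_lit 0,nat_lit 5,nat_lit 2,nat_lit 1,nat_lit 1,nat_lit 2,nat_lit 0,nat_lit 0])
)) (.node (.node (.leaf [nat_lit 0,nat_lit 26,nat_lit 9,nat_lit 1,nat_lit 1,nat_lit 5,nat_lit 1,nat_lit 1,nat_lit 5,nat_lit 4,nat_lit 5,nat_lit 2,nat_lit 5,nat_lit 4,nat_lit 5,nat_lit 2,nat_lit 0])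
 (.leaf [nat_lit 0,nat_lit 14,nat_lit 4,nat_lit 0,nat_lit 2,nat_lit 1,nat_lit 2,nat_lit 0,nat_lit 4,nat_lit 2,nat_lit 4,nat_lit 1,nat_lit 3,nat_lit 2,nat_lit 3,nat_lit 1,nat_lit 2,nat_lit 0,nat_lit 0,nat_lit 2,nat_lit 4])
) (.node (.leaf [nat_lit 0,nat_lit 11,nat_lit 4,nat_lit 1,nat_lit 1,nat_lit 3,nat_lit 2,nat_lit 0,nat_lit 0,nat_lit 0,nat_lit 2,nat_lit 1,nat_lit 1,nat_lit 1,nat_lit 2,nat_lit 3,nat_lit 1,nat_lit 3])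
 (.leaf [nat_lit 0,nat_lit 25,nat_lit 6,nat_lit 1,nat_lit 5,nat_lit 1,nat_lit 3,nat_lit 5,nat_lit 3,nat_lit 0,nat_lit 5,nat_lit 1,nat_lit 5,nat_lit 2,nat_lit 3,nat_lit 2,nat_lit 5,nat_lit 0])
))) (.node (.node (.node (.leaf [nat_lit 0x346000000000000000000000000000000000000000000000000000000000000000000000000000000000000000002,nat_lit 48,nat_lit 3,nat_lit 1,nat_lit 5,nat_lit 4,nat_lit 3,nat_lit 4,nat_lit 5,nat_lit 6,nat_lit 5,nat_lit 4,nat_lit 3,nat_lit 4,nat_lit 5,nat_lit 6])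
 (.leaf [nat_lit 0,nat_lit 23,nat_lit 9,nat_lit 1,nat_lit 2,nat_lit 1,nat_lit 1,nat_lit 2,nat_lit 0,nat_lit 0,nat_lit 2,nat_lit 5,nat_lit 1,nat_lit 2,nat_lit 0,nat_lit 5])
) (.node (.leaf [nat_lit 0,nat_lit 26,nat_lit 12,nat_lit 1,nat_lit 0,nat_lit 5,nat_lit 4,nat_lit 5,nat_lit 2,nat_lit 5,nat_lit 4,nat_lit 5,nat_lit 2,nat_lit 0,nat_lit 0,nat_lit 5,nat_lit 1])
 (.leaf [nat_lit 0,nat_lit 12,nat_lit 7,nat_lit 0,nat_lit 3,nat_lit 0,nat_lit 2,nat_lit 1,nat_lit 3,nat_lit 0,nat_lit 2,nat_lit 3,nat_lit 0,nat_lit 0,nat_lit 3,nat_lit 1,nat_lit 1,nat_lit 3,nat_lit 1])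
)) (.node (.node (.leaf [nat_lit 0,nat_lit 24,nat_lit 1,nat_lit 1,nat_lit 1,nat_lit 5,nat_lit 1,nat_lit 3,nat_lit 0,nat_lit 5,nat_lit 2,nat_lit 1,nat_lit 3,nat_lit 0,nat_lit 2,nat_lit 1,nat_lit 3])
 (.leaf [nat_lit 0,nat_lit 16,nat_lit 4,nat_lit 1,nat_lit 1,nat_lit 4,nat_lit 0,nat_lit 0,nat_lit 4,nat_lit 1,nat_lit 2,nat_lit 0,nat_lit 0,nat_lit 2,nat_lit 3,nat_lit 0,nat_lit 3,nat_lit 1,nat_lit 1,nat_lit 1,nat_lit 3,nat_lit 4,nat_lit 1,nat_lit 4])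
) (.node (.leaf [nat_lit 0x3460000000000000000000000000000000000000000000000000000000000000000000000000000000000000000000000000000000000002,nat_lit 52,nat_lit 8,nat_lit 1,nat_lit 2,nat_lit 1,nat_lit 2,nat_lit 0,nat_lit 2,nat_lit 6,nat_lit 1,nat_lit 2,nat_lit 0,nat_lit 6])
 (.leaf [nat_lit 0,nat_lit 22,nat_lit 0,nat_lit 1,nat_lit 5,nat_lit 1,nat_lit 3,nat_lit 5,nat_lit 0,nat_lit 3,nat_lit 1,nat_lit 5,nat_lit 3,nat_lit 0,nat_lit 5,nat_lit 0,nat_lit 3,nat_lit 1])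
)))))))))

noncomputable def f42_L_R : LT :=
(.node (.node (.node (.node (.node (.node (.node (.leaf [nat_lit 49,nat_lit 0,nat_lit 0x10000000000000000000000000000000000000000000000000000000000000000000000000000000000000000d180000])
 (.leaf [nat_lit 64,nat_lit 25,nat_lit 0x3440000000d180000003460004400a700170000000004c000000085000000068c00c68000000022000140000000030004800638003c8018d000780000000220002000000000a000070006f0001a0052c000d80035000000002400d180107])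
) (.leaf [nat_lit 51,nat_lit 7,nat_lit 0x8000000000000000000000000000000000000000000000000000000000000000000000000000000000000000000000000000001a2])
) (.node (.leaf [nat_lit 19,nat_lit 33,nat_lit 0x688000000000000000000000000000000000000000000000000000000000000000002])
 (.leaf [nat_lit 47,nat_lit 115,nat_lit 0x6780000000000000000678000000164000000000000d18000000344000000000001a2000000000400bd001a2000000000000c200193000000000000000017a00002000a800000019c00000000000000000fe])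
)) (.node (.node (.leaf [nat_lit 53,nat_lit 0,nat_lit 0x10000000000000000000000000000000000000000000000000000000000000000000000000000000000068c0000000000000000000000000000])
 (.leaf [nat_lit 21,nat_lit 343,nat_lit 0x6840000001a1000000000000000000000000000000000000000000000000000000000000000000000000000000000000000000000000000000000000000000003420068400000000f])
) (.node (.leaf [nat_lit 55,nat_lit 0,nat_lit 0x80000000000000000000000000000000000000000000000000000000000000000000000000000000000000000000000000000000000000000000000001a2])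
 (.leaf [nat_lit 48,nat_lit 34,nat_lit 0x2006880000000000033400000000000000000000067c00000000400000000200000000000000000000000000004])
))) (.node (.node (.node (.node (.leaf [nat_lit 19,nat_lit 3,nat_lit 0x34400000000000002])
 (.leaf [nat_lit 17,nat_lit 468,nat_lit 0xc0000400d08000000318003f8001880130003400050800000002c0000200030004c0018d002040060c00038008d0008000464007a000d0001d60068c005c0000f0031a00358000d00113000a40034c00cb8018c0033e0055000ca800f8])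
) (.leaf [nat_lit 67,nat_lit 0,nat_lit 0x80000000000000000000000000000000000000000000000000000000000000000000000000000000000000000000000000000000000000000000000000000000000000000000000000000000000000000000000000000000001a2])
) (.node (.leaf [nat_lit 54,nat_lit 0,nat_lit 0x80000000000000000000000000000000000000000000000000000000000000000000000000000000000346000000000000000000000000000000000])
 (.leaf [nat_lit 46,nat_lit 154,nat_lit 0x1800d0001a30000000018000000040000000000000d080000000040000000000000200000000000005801a00000000000001000010000000000000018000e00006006640001801910000000000000000105])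
)) (.node (.node (.leaf [nat_lit 6,nat_lit 26,nat_lit 0x688000000004])
 (.leaf [nat_lit 21,nat_lit 95,nat_lit 0x19e00000000000000000000000000000000000000000000000000cf00000000000000000cd801a1000000000000000019e00000000180000000000000000000000000027])
) (.node (.leaf [nat_lit 19,nat_lit 97,nat_lit 0xd1000000000000000000000000000000000000000000000000000000000000000000000000000000004])
 (.leaf [nat_lit 64,nat_lit 0,nat_lit 0x200000000000000000000000000000000000000000000000000000000000000000000000000000000000000000000000000000000000000000000000000000000000000068c0000001a30000000000000000000])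
)))) (.node (.node (.node (.node (.node (.leaf [nat_lit 3,nat_lit 3,nat_lit 0xd100002])
 (.leaf [nat_lit 62,nat_lit 399,nat_lit 0x3300000000028000000026003fc00ba8007000008002780000800c70000000640004200016001ea0007c00cc000d7000d6002900029000c700206000040054000ac0003000190006680075001ec0011c00a8800f70000e00170000280018])
) (.leaf [nat_lit 56,nat_lit 0,nat_lit 0x4000000000000000000000000000000000000000000000000000000000000000000000000000000000000000000000000000000000000000000000000000001a2])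
) (.node (.leaf [nat_lit 3,nat_lit 36,nat_lit 0x1a20000000000000000000000000000000000000000000000000000000000000000000000000002])
 (.leaf [nat_lit 62,nat_lit 21,nat_lit 0xc000080000000000000c000000020000000000000d180000000020000000000000100000000000005001a30000000000000800008000000000000008000b000020066400000019f0000000000000000143])
)) (.node (.node (.leaf [nat_lit 19,nat_lit 19,nat_lit 0x68800000000000000000000000000000000000000000000002])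
 (.leaf [nat_lit 60,nat_lit 376,nat_lit 0x68800000000000000000000000000000000000000000000000000000068c000000004])
) (.node (.leaf [nat_lit 19,nat_lit 95,nat_lit 0xd100000000000000000000000000000000000000000000000000000000000004])
 (.leaf [nat_lit 44,nat_lit 21,nat_lit 0xcf001a2000000000000000019e000000000000d1000000000000000000000000000000068800c6001a20000200000000000000000000067c0001001860000000058000100192000000068800000006a])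
))) (.node (.node (.node (.node (.leaf [nat_lit 3,nat_lit 5,nat_lit 0x1a20000000000000000002])
 (.leaf [nat_lit 18,nat_lit 1229,nat_lit 0x1a2001a40000c004d00199002c80055c0089800d3002b600420000180179000460017c004c00075001e20033c00be000870022c004d800698014100238002cc004c0016d002380030800158001d0020a00508000d0013900328003800029000ab])
) (.leaf [nat_lit 37,nat_lit 298,nat_lit 0x1000000068c000000000003420000000d080006])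
) (.node (.leaf [nat_lit 50,nat_lit 0,nat_lit 0x100000000000000000000000000000000000000000000000000000000000000000000000000000000000000000000000001a2])
 (.leaf [nat_lit 64,nat_lit 6,nat_lit 0x20000000d100000000000000000000000000000000000000000000000000000000000000000000000000d1801a3000000000000000000000346000000000001a300000000040000000000000000000000000006])
)) (.node (.node (.leaf [nat_lit 9,nat_lit 6,nat_lit 0x3440000000d10000000000000000000000000000000000000000004])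
 (.leaf [nat_lit 4,nat_lit 976,nat_lit 0x67c000000000000000067c000000174000000000000000000000344000000000001a1000000000000c300000000000000000c6001980000000000000000186000000007800000019b000000000000cf800c5])
) (.node (.leaf [nat_lit 4,nat_lit 28,nat_lit 0x1a2000000000000d000000000000000000000000000344000000000001a0000000000c00000019e0000000000000000013])
 (.leaf [nat_lit 21,nat_lit 967,nat_lit 0x3000000000c000000000000000000000000000000000000000001800060000000000000f00000003420000000000019e000000003000cf000210000000630000180036000000000000000011a])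
))))) (.node (.node (.node (.node (.node (.node (.leaf [nat_lit 52,nat_lit 0,nat_lit 0x2000000000000000000000000000000000000000000000000000000000000000000000000000000000000000000000000000000d180000])
 (.leaf [nat_lit 4,nat_lit 76,nat_lit 0x580000000cd800000033c0038c00ad8013b00000005e800000010600000000e800960019a001c2005d8000580169001c4005600025000b10009c00000001f0017b0033e0001400b800056000e200554006b800f90033800644000d000ef])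
) (.leaf [nat_lit 61,nat_lit 0,nat_lit 0x2000000000000000000000000000000000000000000000000000000000000000000000000000000000000000000000000000000000000000000000000000000000000000000000000000001a2])
) (.node (.leaf [nat_lit 6,nat_lit 34,nat_lit 0x34400000000000000000000000000000000000000000000000000000000000000000000002])
 (.leaf [nat_lit 34,nat_lit 993,nat_lit 0x6840000000000000000684000000184000000000000000000000346000000000001a3000000000000c2001a1000000000000ca0019c0000000000000000185000000007400000019800000000000000000a1])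
)) (.node (.node (.leaf [nat_lit 3,nat_lit 6,nat_lit 0x6880000000000000000000000000002])
 (.leaf [nat_lit 4,nat_lit 113,nat_lit 0x1000000000000d100000000000000000000000000000000040000001a3000000000c00000000000000000000000801a3])
) (.node (.leaf [nat_lit 19,nat_lit 87,nat_lit 0x6880000000000000000000000000000000000000000000000000000000000000000000000000000000000000000000000000000000000000000000000000000000000000000000002])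
 (.leaf [nat_lit 33,nat_lit 163,nat_lit 0x280000000000000000000000000000000000000000000000000000000000000003400000000cf8019a0034400000000000000000000000000000019a000000067c00cf800010000000000000000023])
))) (.node (.node (.node (.node (.leaf [nat_lit 13,nat_lit 4,nat_lit 0xd1000000000000000000000002])
 (.leaf [nat_lit 22,nat_lit 179,nat_lit 0x801a300334004b000b4000ac00000004ec0000000000000000684008d00190002580062000d000016002240019400cd8008b000ba0066c00b40008800332005d000730000a0016a0016800988011a003460053000cf800f8])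
) (.leaf [nat_lit 65,nat_lit 0,nat_lit 0x20000000000000000000000000000000000000000000000000000000000000000000000000000000000000000000000000000000000000000000000000000000000000000000000000000000000000000000000001a2])
) (.node (.leaf [nat_lit 19,nat_lit 37,nat_lit 0x344000000000000000000000000000000004])
 (.leaf [nat_lit 36,nat_lit 950,nat_lit 0x34000000000000000000000068800000000000002000000000000000000000000000000004])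
)) (.node (.node (.leaf [nat_lit 3,nat_lit 27,nat_lit 0x3440000000000000000000000000000000000000000000000000002])
 (.leaf [nat_lit 21,nat_lit 19,nat_lit 0x19b00000000000000000000000000000000000000000000000000cf00000000000000000cc001a1000000066c00000019e00000000180000000000000000000000000039])
) (.node (.leaf [nat_lit 4,nat_lit 23,nat_lit 0xd000000000000000000000000000000000000000001a0000000001000000019f000000000000000000d])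
 (.leaf [nat_lit 38,nat_lit 355,nat_lit 0x3440000000000000000344000000001000020000000000000000000000000068800d10000000000000080000001a200344000080002000060034400000000000000000000068000008000c0034000680000000000000000000000d100000])
)))) (.node (.node (.node (.node (.node (.leaf [nat_lit 63,nat_lit 0,nat_lit 0x40000000000000000000000000000000000000000000000000000000000000000000000000000000000000000000000000000000000000000000000000000000000000000000000003460000000d100002])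
 (.leaf [nat_lit 18,nat_lit 2,nat_lit 0x34400004000080000000140003000a4800ee000000000800000003b000000068400b6001a100018005dc00ce8018c00266001e80055000ad002b800000000d0001c00338004d40001801530007200340000300029000000014400d18000b])
) (.leaf [nat_lit 58,nat_lit 157,nat_lit 0x10000000000000000000000000000000000000000000000000000000000000000000000000000000000000000000000000000000000000000000000000000000000000001a2])
) (.node (.leaf [nat_lit 6,nat_lit 36,nat_lit 0x344000000000000000000000000000000000000000000000000000000000000000000000000000000000000000002])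
 (.leaf [nat_lit 20,nat_lit 366,nat_lit 0x19e000000000000cf000000000000000000000000000000000000a680195000000000000cf001a100000000000000001530000c00144000000168000000000000000010e])
)) (.node (.node (.leaf [nat_lit 19,nat_lit 24,nat_lit 0x6880000000000000000000000000000000000000000000000000000000000000000000000000000000000002])
 (.leaf [nat_lit 60,nat_lit 87,nat_lit 0x68c000000000000000000000000000000000000000000000000000000000000000000000000068c000000000000000068800000000000000000000000000000000000008000000000])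
) (.node (.leaf [nat_lit 13,nat_lit 99,nat_lit 0xd10000000000000000000000000000000000000000000000000000000000000000000000000000000000000000000000000000000000000000000000000000000000000000000000000000000000004])
 (.leaf [nat_lit 47,nat_lit 29,nat_lit 0x20000200000000000000000000000000000000000000000000068c00000000000342000080000001a300346000000000000000000000000000000000000000068400d10000000000000000000001a3])
))) (.node (.node (.node (.leaf [nat_lit 37,nat_lit 6,nat_lit 0x1000000068c0000000000000000000000000000])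
 (.leaf [nat_lit 66,nat_lit 0,nat_lit 0x1000000000000000000000000000000000000000000000000000000000000000000000000000000000000000000000000000000000000000000000000000000000000000000000000000000000000000000000000000001a2])
) (.node (.leaf [nat_lit 6,nat_lit 57,nat_lit 0x1a20000000000000000000000000000000000000000000000000000000000000000000000000000000000000000000000000000000000000000000000000000000000002])
 (.leaf [nat_lit 44,nat_lit 363,nat_lit 0x68c000000000000000000000000000000000000000000001a2000000000000cb800000000200000000000000000000067c00010019500000000240000001920000000000000000037])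
)) (.node (.node (.leaf [nat_lit 6,nat_lit 32,nat_lit 0x1a2000000000000000000000000000000000000000000000000000000002])
 (.leaf [nat_lit 62,nat_lit 377,nat_lit 0x66c000080000000000066c000000144000000000000d00000000342000000000001a1000000000000b1801a1000000000000ba0018c000000000000000016500008000fc00d1001980000000000000000181])
) (.node (.leaf [nat_lit 60,nat_lit 0,nat_lit 0x40000000000000000000000000000000000000000000000000000000000000000000000000000000000000000000000000000000000000000000000000000000000000000000000001a2])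
 (.leaf [nat_lit 60,nat_lit 95,nat_lit 0x80003000948006b00002000b0000000068000000000000c100000000180068c0000000400001600588004a000b9001880000000150001a00008003bc00ab8016f00110001dc00580008900346000cc00000019d])
))))))

noncomputable def f42_C : LC :=
  ⟨⟨fun x c => Nat.rec (nat_lit 0) (fun j _ => Nat.shiftRight (chunk f42_L_t (nat_lit 3) x j) (Nat.mul (nat_lit 816) (Nat.land c (nat_lit 15)))) (Nat.add (Nat.shiftRight c (nat_lit 4)) (nat_lit 1)),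
  (nat_lit 11), (nat_lit 2047), (nat_lit 0xffffff), (nat_lit 24), (nat_lit 8191), (nat_lit 0xfff800), (nat_lit 0), (nat_lit 1671), (nat_lit 7), (nat_lit 6), (nat_lit 0), (nat_lit 7), f42_inv, f42_L_rules, .leaf []⟩,
  (nat_lit 37), (nat_lit 0x1ff003fe007fc00ff801ff003fe007fc00ff801ff003fe007fc00ff801ff003fe007fc00ff801ff003fe007fc00ff801ff003fe007fc00ff801ff003fe007fc00ff801ff003fe007fc00ff801ff003fe007fc00ff801ff003fe007fc00ff801ff), (nat_lit 0x3ff007fe00ffc01ff803ff007fe00ffc01ff803ff007fe00ffc01ff803ff007fe00ffc01ff803ff007fe00ffc01ff803ff007fe00ffc01ff803ff007fe00ffc01ff803ff007fe00ffc01ff803ff007fe00ffc01ff803ff007fe00ffc01ff803ff), (nat_lit 19), (nat_lit 41), (nat_lit 420), (nat_lit 29), (nat_lit 511), (nat_lit 1023), (nat_lit 35), f42_pi, f42_rels, f42_L_R⟩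

noncomputable def f42_U_t9 : BT :=
(.node (.node (.node (.node (.node (.node (.node (.node (.leaf (nat_lit 0)) (.leaf (nat_lit 0))) (.leaf (nat_lit 0))) (.node (.leaf (nat_lit 0)) (.leaf (nat_lit 0)))) (.node (.node (.leaf (nat_lit 0)) (.leaf (nat_lit 0))) (.node (.leaf (nat_lit 0)) (.leaf (nat_lit 0))))) (.node (.node (.node (.node (.leaf (nat_lit 0)) (.leaf (nat_lit 0))) (.leaf (nat_lit 0))) (.node (.leaf (nat_lit 0)) (.leaf (nat_lit 0)))) (.node (.node (.leaf (nat_lit 0)) (.leaf (nat_lit 0))) (.node (.leaf (nat_lit 0)) (.leaf (nat_lit 0)))))) (.node (.node (.node (.node (.node (.leaf (nat_lit 0)) (.leaf (nat_lit 0))) (.leaf (nat_lit 0))) (.node (.leaf (nat_lit 0)) (.leaf (nat_lit 0)))) (.node (.node (.leaf (nat_lit 0)) (.leaf (nat_lit 0))) (.node (.leaf (nat_lit 0)) (.leaf (nat_lit 0))))) (.node (.node (.node (.leaf (nat_lit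 0)) (.leaf (nat_lit 0))) (.node (.leaf (nat_lit 0)) (.leaf (nat_lit 0)))) (.node (.node (.leaf (nat_lit 0)) (.leaf (nat_lit 0))) (.node (.leaf (nat_lit 0)) (.leaf (nat_lit 0))))))) (.node (.node (.node (.node (.node (.node (.leaf (nat_lit 0)) (.leaf (nat_lit 0))) (.leaf (nat_lit 0))) (.node (.leaf (nat_lit 0)) (.leaf (nat_lit 0)))) (.node (.node (.leaf (nat_lit 0)) (.leaf (nat_lit 0))) (.node (.leaf (nat_lit 0)) (.leaf (nat_lit 0))))) (.node (.node (.node (.leaf (nat_lit 0)) (.leaf (nat_lit 0))) (.node (.leaf (nat_lit 0)) (.leaf (nat_lit 0)))) (.node (.node (.leaf (nat_lit 0)) (.leaf (nat_lit 0))) (.node (.leaf (nat_lit 0)) (.leaf (nat_lit 0)))))) (.node (.node (.node (.node (.node (.leaf (nat_lit 0)) (.leaf (nat_lit 0))) (.leaf (nat_lit 0))) (.node (.leaf (nat_lit 0)) (.leaf (nat_lit 0)))) (.node (.node (.leaf (nat_lit 0)) (.leaf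 (nat_lit 0))) (.node (.leaf (nat_lit 0)) (.leaf (nat_lit 0))))) (.node (.node (.node (.leaf (nat_lit 0)) (.leaf (nat_lit 0))) (.node (.leaf (nat_lit 0)) (.leaf (nat_lit 0)))) (.node (.node (.leaf (nat_lit 0)) (.leaf (nat_lit 0))) (.node (.leaf (nat_lit 0)) (.leaf (nat_lit 0)))))))) (.node (.node (.node (.node (.node (.node (.node (.leaf (nat_lit 0)) (.leaf (nat_lit 0))) (.leaf (nat_lit 0))) (.node (.leaf (nat_lit 0)) (.leaf (nat_lit 0)))) (.node (.node (.leaf (nat_lit 0)) (.leaf (nat_lit 0))) (.node (.leaf (nat_lit 0)) (.leaf (nat_lit 0))))) (.node (.node (.node (.leaf (nat_lit 0)) (.leaf (nat_lit 0))) (.node (.leaf (nat_lit 0)) (.leaf (nat_lit 0)))) (.node (.node (.leaf (nat_lit 0)) (.leaf (nat_lit 0))) (.node (.leaf (nat_lit 0)) (.leaf (nat_lit 0)))))) (.node (.node (.node (.node (.node (.leaf (nat_lit 0)) (.leaf (nat_lit 0)))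 (.leaf (nat_lit 0))) (.node (.leaf (nat_lit 0)) (.leaf (nat_lit 0)))) (.node (.node (.leaf (nat_lit 0)) (.leaf (nat_lit 0))) (.node (.leaf (nat_lit 0)) (.leaf (nat_lit 0))))) (.node (.node (.node (.leaf (nat_lit 0)) (.leaf (nat_lit 0))) (.node (.leaf (nat_lit 0)) (.leaf (nat_lit 0)))) (.node (.node (.leaf (nat_lit 0)) (.leaf (nat_lit 0))) (.node (.leaf (nat_lit 0)) (.leaf (nat_lit 0))))))) (.node (.node (.node (.node (.node (.node (.leaf (nat_lit 0)) (.leaf (nat_lit 0))) (.leaf (nat_lit 0))) (.node (.leaf (nat_lit 0)) (.leaf (nat_lit 0)))) (.node (.node (.leaf (nat_lit 0)) (.leaf (nat_lit 0))) (.node (.leaf (nat_lit 0)) (.leaf (nat_lit 0))))) (.node (.node (.node (.leaf (nat_lit 0)) (.leaf (nat_lit 0))) (.node (.leaf (nat_lit 0)) (.leaf (nat_lit 0)))) (.node (.node (.leaf (nat_lit 0)) (.leaf (nat_lit 0))) (.node (.leaf (nat_lit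 0)) (.leaf (nat_lit 0)))))) (.node (.node (.node (.node (.node (.leaf (nat_lit 0)) (.leaf (nat_lit 0))) (.leaf (nat_lit 0))) (.node (.leaf (nat_lit 0)) (.leaf (nat_lit 0)))) (.node (.node (.leaf (nat_lit 0)) (.leaf (nat_lit 0))) (.node (.leaf (nat_lit 0)) (.leaf (nat_lit 0))))) (.node (.node (.node (.leaf (nat_lit 0)) (.leaf (nat_lit 0))) (.node (.leaf (nat_lit 0)) (.leaf (nat_lit 0)))) (.node (.node (.leaf (nat_lit 0)) (.leaf (nat_lit 0))) (.node (.leaf (nat_lit 0)) (.leaf (nat_lit 0)))))))))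

noncomputable def f42_U_t10 : BT :=
(.node (.node (.node (.node (.node (.node (.node (.node (.leaf (nat_lit 0)) (.leaf (nat_lit 0))) (.leaf (nat_lit 0))) (.node (.leaf (nat_lit 0)) (.leaf (nat_lit 0)))) (.node (.node (.leaf (nat_lit 0)) (.leaf (nat_lit 0))) (.node (.leaf (nat_lit 0)) (.leaf (nat_lit 0))))) (.node (.node (.node (.node (.leaf (nat_lit 0)) (.leaf (nat_lit 0))) (.leaf (nat_lit 0))) (.node (.leaf (nat_lit 0)) (.leaf (nat_lit 0)))) (.node (.node (.leaf (nat_lit 0)) (.leaf (nat_lit 0))) (.node (.leaf (nat_lit 0)) (.leaf (nat_lit 0)))))) (.node (.node (.node (.node (.node (.leaf (nat_lit 0)) (.leaf (nat_lit 0))) (.leaf (nat_lit 0))) (.node (.leaf (nat_lit 0)) (.leaf (nat_lit 0)))) (.node (.node (.leaf (nat_lit 0)) (.leaf (nat_lit 0))) (.node (.leaf (nat_lit 0)) (.leaf (nat_lit 0))))) (.node (.node (.node (.leaf (nat_lit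 0)) (.leaf (nat_lit 0))) (.node (.leaf (nat_lit 0)) (.leaf (nat_lit 0)))) (.node (.node (.leaf (nat_lit 0)) (.leaf (nat_lit 0))) (.node (.leaf (nat_lit 0)) (.leaf (nat_lit 0))))))) (.node (.node (.node (.node (.node (.node (.leaf (nat_lit 0)) (.leaf (nat_lit 0))) (.leaf (nat_lit 0))) (.node (.leaf (nat_lit 0)) (.leaf (nat_lit 0)))) (.node (.node (.leaf (nat_lit 0)) (.leaf (nat_lit 0))) (.node (.leaf (nat_lit 0)) (.leaf (nat_lit 0))))) (.node (.node (.node (.leaf (nat_lit 0)) (.leaf (nat_lit 0))) (.node (.leaf (nat_lit 0)) (.leaf (nat_lit 0)))) (.node (.node (.leaf (nat_lit 0)) (.leaf (nat_lit 0))) (.node (.leaf (nat_lit 0)) (.leaf (nat_lit 0)))))) (.node (.node (.node (.node (.node (.leaf (nat_lit 0)) (.leaf (nat_lit 0))) (.leaf (nat_lit 0))) (.node (.leaf (nat_lit 0)) (.leaf (nat_lit 0)))) (.node (.node (.leaf (nat_lit 0)) (.leaf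 (nat_lit 0))) (.node (.leaf (nat_lit 0)) (.leaf (nat_lit 0))))) (.node (.node (.node (.leaf (nat_lit 0)) (.leaf (nat_lit 0))) (.node (.leaf (nat_lit 0)) (.leaf (nat_lit 0)))) (.node (.node (.leaf (nat_lit 0)) (.leaf (nat_lit 0))) (.node (.leaf (nat_lit 0)) (.leaf (nat_lit 0)))))))) (.node (.node (.node (.node (.node (.node (.node (.leaf (nat_lit 0)) (.leaf (nat_lit 0))) (.leaf (nat_lit 0))) (.node (.leaf (nat_lit 0)) (.leaf (nat_lit 0)))) (.node (.node (.leaf (nat_lit 0)) (.leaf (nat_lit 0))) (.node (.leaf (nat_lit 0)) (.leaf (nat_lit 0))))) (.node (.node (.node (.leaf (nat_lit 0)) (.leaf (nat_lit 0))) (.node (.leaf (nat_lit 0)) (.leaf (nat_lit 0)))) (.node (.node (.leaf (nat_lit 0)) (.leaf (nat_lit 0))) (.node (.leaf (nat_lit 0)) (.leaf (nat_lit 0)))))) (.node (.node (.node (.node (.node (.leaf (nat_lit 0)) (.leaf (nat_lit 0)))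 (.leaf (nat_lit 0))) (.node (.leaf (nat_lit 0)) (.leaf (nat_lit 0)))) (.node (.node (.leaf (nat_lit 0)) (.leaf (nat_lit 0))) (.node (.leaf (nat_lit 0)) (.leaf (nat_lit 0))))) (.node (.node (.node (.leaf (nat_lit 0)) (.leaf (nat_lit 0))) (.node (.leaf (nat_lit 0)) (.leaf (nat_lit 0)))) (.node (.node (.leaf (nat_lit 0)) (.leaf (nat_lit 0))) (.node (.leaf (nat_lit 0)) (.leaf (nat_lit 0))))))) (.node (.node (.node (.node (.node (.node (.leaf (nat_lit 0)) (.leaf (nat_lit 0))) (.leaf (nat_lit 0))) (.node (.leaf (nat_lit 0)) (.leaf (nat_lit 0)))) (.node (.node (.leaf (nat_lit 0)) (.leaf (nat_lit 0))) (.node (.leaf (nat_lit 0)) (.leaf (nat_lit 0))))) (.node (.node (.node (.leaf (nat_lit 0)) (.leaf (nat_lit 0))) (.node (.leaf (nat_lit 0)) (.leaf (nat_lit 0)))) (.node (.node (.leaf (nat_lit 0)) (.leaf (nat_lit 0))) (.node (.leaf (nat_lit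 0)) (.leaf (nat_lit 0)))))) (.node (.node (.node (.node (.node (.leaf (nat_lit 0)) (.leaf (nat_lit 0))) (.leaf (nat_lit 0))) (.node (.leaf (nat_lit 0)) (.leaf (nat_lit 0)))) (.node (.node (.leaf (nat_lit 0)) (.leaf (nat_lit 0))) (.node (.leaf (nat_lit 0)) (.leaf (nat_lit 0))))) (.node (.node (.node (.leaf (nat_lit 0)) (.leaf (nat_lit 0))) (.node (.leaf (nat_lit 0)) (.leaf (nat_lit 0)))) (.node (.node (.leaf (nat_lit 0)) (.leaf (nat_lit 0))) (.node (.leaf (nat_lit 0)) (.leaf (nat_lit 0)))))))))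

noncomputable def f42_U_t11 : BT :=
(.node (.node (.node (.node (.node (.node (.node (.node (.leaf (nat_lit 0)) (.leaf (nat_lit 0))) (.leaf (nat_lit 0))) (.node (.leaf (nat_lit 0)) (.leaf (nat_lit 0)))) (.node (.node (.leaf (nat_lit 0)) (.leaf (nat_lit 0))) (.node (.leaf (nat_lit 0)) (.leaf (nat_lit 0))))) (.node (.node (.node (.node (.leaf (nat_lit 0)) (.leaf (nat_lit 0))) (.leaf (nat_lit 0))) (.node (.leaf (nat_lit 0)) (.leaf (nat_lit 0)))) (.node (.node (.leaf (nat_lit 0)) (.leaf (nat_lit 0))) (.node (.leaf (nat_lit 0)) (.leaf (nat_lit 0)))))) (.node (.node (.node (.node (.node (.leaf (nat_lit 0)) (.leaf (nat_lit 0))) (.leaf (nat_lit 0))) (.node (.leaf (nat_lit 0)) (.leaf (nat_lit 0)))) (.node (.node (.leaf (nat_lit 0)) (.leaf (nat_lit 0))) (.node (.leaf (nat_lit 0)) (.leaf (nat_lit 0))))) (.node (.node (.node (.leaf (nat_lit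 0)) (.leaf (nat_lit 0))) (.node (.leaf (nat_lit 0)) (.leaf (nat_lit 0)))) (.node (.node (.leaf (nat_lit 0)) (.leaf (nat_lit 0))) (.node (.leaf (nat_lit 0)) (.leaf (nat_lit 0))))))) (.node (.node (.node (.node (.node (.node (.leaf (nat_lit 0)) (.leaf (nat_lit 0))) (.leaf (nat_lit 0))) (.node (.leaf (nat_lit 0)) (.leaf (nat_lit 0)))) (.node (.node (.leaf (nat_lit 0)) (.leaf (nat_lit 0))) (.node (.leaf (nat_lit 0)) (.leaf (nat_lit 0))))) (.node (.node (.node (.leaf (nat_lit 0)) (.leaf (nat_lit 0))) (.node (.leaf (nat_lit 0)) (.leaf (nat_lit 0)))) (.node (.node (.leaf (nat_lit 0)) (.leaf (nat_lit 0))) (.node (.leaf (nat_lit 0)) (.leaf (nat_lit 0)))))) (.node (.node (.node (.node (.node (.leaf (nat_lit 0)) (.leaf (nat_lit 0))) (.leaf (nat_lit 0))) (.node (.leaf (nat_lit 0)) (.leaf (nat_lit 0)))) (.node (.node (.leaf (nat_lit 0)) (.leaf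 (nat_lit 0))) (.node (.leaf (nat_lit 0)) (.leaf (nat_lit 0))))) (.node (.node (.node (.leaf (nat_lit 0)) (.leaf (nat_lit 0))) (.node (.leaf (nat_lit 0)) (.leaf (nat_lit 0)))) (.node (.node (.leaf (nat_lit 0)) (.leaf (nat_lit 0))) (.node (.leaf (nat_lit 0)) (.leaf (nat_lit 0)))))))) (.node (.node (.node (.node (.node (.node (.node (.leaf (nat_lit 0)) (.leaf (nat_lit 0))) (.leaf (nat_lit 0))) (.node (.leaf (nat_lit 0)) (.leaf (nat_lit 0)))) (.node (.node (.leaf (nat_lit 0)) (.leaf (nat_lit 0))) (.node (.leaf (nat_lit 0)) (.leaf (nat_lit 0))))) (.node (.node (.node (.leaf (nat_lit 0)) (.leaf (nat_lit 0))) (.node (.leaf (nat_lit 0)) (.leaf (nat_lit 0)))) (.node (.node (.leaf (nat_lit 0)) (.leaf (nat_lit 0))) (.node (.leaf (nat_lit 0)) (.leaf (nat_lit 0)))))) (.node (.node (.node (.node (.node (.leaf (nat_lit 0)) (.leaf (nat_lit 0)))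 (.leaf (nat_lit 0))) (.node (.leaf (nat_lit 0)) (.leaf (nat_lit 0)))) (.node (.node (.leaf (nat_lit 0)) (.leaf (nat_lit 0))) (.node (.leaf (nat_lit 0)) (.leaf (nat_lit 0))))) (.node (.node (.node (.leaf (nat_lit 0)) (.leaf (nat_lit 0))) (.node (.leaf (nat_lit 0)) (.leaf (nat_lit 0)))) (.node (.node (.leaf (nat_lit 0)) (.leaf (nat_lit 0))) (.node (.leaf (nat_lit 0)) (.leaf (nat_lit 0))))))) (.node (.node (.node (.node (.node (.node (.leaf (nat_lit 0)) (.leaf (nat_lit 0))) (.leaf (nat_lit 0))) (.node (.leaf (nat_lit 0)) (.leaf (nat_lit 0)))) (.node (.node (.leaf (nat_lit 0)) (.leaf (nat_lit 0))) (.node (.leaf (nat_lit 0)) (.leaf (nat_lit 0))))) (.node (.node (.node (.leaf (nat_lit 0)) (.leaf (nat_lit 0))) (.node (.leaf (nat_lit 0)) (.leaf (nat_lit 0)))) (.node (.node (.leaf (nat_lit 0)) (.leaf (nat_lit 0))) (.node (.leaf (nat_lit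 0)) (.leaf (nat_lit 0)))))) (.node (.node (.node (.node (.node (.leaf (nat_lit 0)) (.leaf (nat_lit 0))) (.leaf (nat_lit 0))) (.node (.leaf (nat_lit 0)) (.leaf (nat_lit 0)))) (.node (.node (.leaf (nat_lit 0)) (.leaf (nat_lit 0))) (.node (.leaf (nat_lit 0)) (.leaf (nat_lit 0))))) (.node (.node (.node (.leaf (nat_lit 0)) (.leaf (nat_lit 0))) (.node (.leaf (nat_lit 0)) (.leaf (nat_lit 0)))) (.node (.node (.leaf (nat_lit 0)) (.leaf (nat_lit 0))) (.node (.leaf (nat_lit 0)) (.leaf (nat_lit 0)))))))))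

noncomputable def f42_U_t12 : BT :=
(.node (.node (.node (.node (.node (.node (.node (.node (.leaf (nat_lit 0)) (.leaf (nat_lit 0))) (.leaf (nat_lit 0))) (.node (.leaf (nat_lit 0)) (.leaf (nat_lit 0)))) (.node (.node (.leaf (nat_lit 0)) (.leaf (nat_lit 0))) (.node (.leaf (nat_lit 0)) (.leaf (nat_lit 0))))) (.node (.node (.node (.node (.leaf (nat_lit 0)) (.leaf (nat_lit 0))) (.leaf (nat_lit 0))) (.node (.leaf (nat_lit 0)) (.leaf (nat_lit 0)))) (.node (.node (.leaf (nat_lit 0)) (.leaf (nat_lit 0))) (.node (.leaf (nat_lit 0)) (.leaf (nat_lit 0)))))) (.node (.node (.node (.node (.node (.leaf (nat_lit 0)) (.leaf (nat_lit 0))) (.leaf (nat_lit 0))) (.node (.leaf (nat_lit 0)) (.leaf (nat_lit 0)))) (.node (.node (.leaf (nat_lit 0)) (.leaf (nat_lit 0))) (.node (.leaf (nat_lit 0)) (.leaf (nat_lit 0))))) (.node (.node (.node (.leaf (nat_lit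 0)) (.leaf (nat_lit 0))) (.node (.leaf (nat_lit 0)) (.leaf (nat_lit 0)))) (.node (.node (.leaf (nat_lit 0)) (.leaf (nat_lit 0))) (.node (.leaf (nat_lit 0)) (.leaf (nat_lit 0))))))) (.node (.node (.node (.node (.node (.node (.leaf (nat_lit 0)) (.leaf (nat_lit 0))) (.leaf (nat_lit 0))) (.node (.leaf (nat_lit 0)) (.leaf (nat_lit 0)))) (.node (.node (.leaf (nat_lit 0)) (.leaf (nat_lit 0))) (.node (.leaf (nat_lit 0)) (.leaf (nat_lit 0))))) (.node (.node (.node (.leaf (nat_lit 0)) (.leaf (nat_lit 0))) (.node (.leaf (nat_lit 0)) (.leaf (nat_lit 0)))) (.node (.node (.leaf (nat_lit 0)) (.leaf (nat_lit 0))) (.node (.leaf (nat_lit 0)) (.leaf (nat_lit 0)))))) (.node (.node (.node (.node (.node (.leaf (nat_lit 0)) (.leaf (nat_lit 0))) (.leaf (nat_lit 0))) (.node (.leaf (nat_lit 0)) (.leaf (nat_lit 0)))) (.node (.node (.leaf (nat_lit 0)) (.leaf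 (nat_lit 0))) (.node (.leaf (nat_lit 0)) (.leaf (nat_lit 0))))) (.node (.node (.node (.leaf (nat_lit 0)) (.leaf (nat_lit 0))) (.node (.leaf (nat_lit 0)) (.leaf (nat_lit 0)))) (.node (.node (.leaf (nat_lit 0)) (.leaf (nat_lit 0))) (.node (.leaf (nat_lit 0)) (.leaf (nat_lit 0)))))))) (.node (.node (.node (.node (.node (.node (.node (.leaf (nat_lit 0)) (.leaf (nat_lit 0))) (.leaf (nat_lit 0))) (.node (.leaf (nat_lit 0)) (.leaf (nat_lit 0)))) (.node (.node (.leaf (nat_lit 0)) (.leaf (nat_lit 0))) (.node (.leaf (nat_lit 0)) (.leaf (nat_lit 0))))) (.node (.node (.node (.leaf (nat_lit 0)) (.leaf (nat_lit 0))) (.node (.leaf (nat_lit 0)) (.leaf (nat_lit 0)))) (.node (.node (.leaf (nat_lit 0)) (.leaf (nat_lit 0))) (.node (.leaf (nat_lit 0)) (.leaf (nat_lit 0)))))) (.node (.node (.node (.node (.node (.leaf (nat_lit 0)) (.leaf (nat_lit 0)))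 (.leaf (nat_lit 0))) (.node (.leaf (nat_lit 0)) (.leaf (nat_lit 0)))) (.node (.node (.leaf (nat_lit 0)) (.leaf (nat_lit 0))) (.node (.leaf (nat_lit 0)) (.leaf (nat_lit 0))))) (.node (.node (.node (.leaf (nat_lit 0)) (.leaf (nat_lit 0))) (.node (.leaf (nat_lit 0)) (.leaf (nat_lit 0)))) (.node (.node (.leaf (nat_lit 0)) (.leaf (nat_lit 0))) (.node (.leaf (nat_lit 0)) (.leaf (nat_lit 0))))))) (.node (.node (.node (.node (.node (.node (.leaf (nat_lit 0)) (.leaf (nat_lit 0))) (.leaf (nat_lit 0))) (.node (.leaf (nat_lit 0)) (.leaf (nat_lit 0)))) (.node (.node (.leaf (nat_lit 0)) (.leaf (nat_lit 0))) (.node (.leaf (nat_lit 0)) (.leaf (nat_lit 0))))) (.node (.node (.node (.leaf (nat_lit 0)) (.leaf (nat_lit 0))) (.node (.leaf (nat_lit 0)) (.leaf (nat_lit 0)))) (.node (.node (.leaf (nat_lit 0)) (.leaf (nat_lit 0))) (.node (.leaf (nat_lit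 0)) (.leaf (nat_lit 0)))))) (.node (.node (.node (.node (.node (.leaf (nat_lit 0)) (.leaf (nat_lit 0))) (.leaf (nat_lit 0))) (.node (.leaf (nat_lit 0)) (.leaf (nat_lit 0)))) (.node (.node (.leaf (nat_lit 0)) (.leaf (nat_lit 0))) (.node (.leaf (nat_lit 0)) (.leaf (nat_lit 0))))) (.node (.node (.node (.leaf (nat_lit 0)) (.leaf (nat_lit 0))) (.node (.leaf (nat_lit 0)) (.leaf (nat_lit 0)))) (.node (.node (.leaf (nat_lit 0)) (.leaf (nat_lit 0))) (.node (.leaf (nat_lit 0)) (.leaf (nat_lit 0)))))))))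

noncomputable def f42_U_t13 : BT :=
(.node (.node (.node (.node (.node (.node (.node (.node (.leaf (nat_lit 0)) (.leaf (nat_lit 0))) (.leaf (nat_lit 0))) (.node (.leaf (nat_lit 0)) (.leaf (nat_lit 0)))) (.node (.node (.leaf (nat_lit 0)) (.leaf (nat_lit 0))) (.node (.leaf (nat_lit 0)) (.leaf (nat_lit 0))))) (.node (.node (.node (.node (.leaf (nat_lit 0)) (.leaf (nat_lit 0))) (.leaf (nat_lit 0))) (.node (.leaf (nat_lit 0)) (.leaf (nat_lit 0)))) (.node (.node (.leaf (nat_lit 0)) (.leaf (nat_lit 0))) (.node (.leaf (nat_lit 0)) (.leaf (nat_lit 0)))))) (.node (.node (.node (.node (.node (.leaf (nat_lit 0)) (.leaf (nat_lit 0))) (.leaf (nat_lit 0))) (.node (.leaf (nat_lit 0)) (.leaf (nat_lit 0)))) (.node (.node (.leaf (nat_lit 0)) (.leaf (nat_lit 0))) (.node (.leaf (nat_lit 0)) (.leaf (nat_lit 0))))) (.node (.node (.node (.leaf (nat_lit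 0)) (.leaf (nat_lit 0))) (.node (.leaf (nat_lit 0)) (.leaf (nat_lit 0)))) (.node (.node (.leaf (nat_lit 0)) (.leaf (nat_lit 0))) (.node (.leaf (nat_lit 0)) (.leaf (nat_lit 0))))))) (.node (.node (.node (.node (.node (.node (.leaf (nat_lit 0)) (.leaf (nat_lit 0))) (.leaf (nat_lit 0))) (.node (.leaf (nat_lit 0)) (.leaf (nat_lit 0)))) (.node (.node (.leaf (nat_lit 0)) (.leaf (nat_lit 0))) (.node (.leaf (nat_lit 0)) (.leaf (nat_lit 0))))) (.node (.node (.node (.leaf (nat_lit 0)) (.leaf (nat_lit 0))) (.node (.leaf (nat_lit 0)) (.leaf (nat_lit 0)))) (.node (.node (.leaf (nat_lit 0)) (.leaf (nat_lit 0))) (.node (.leaf (nat_lit 0)) (.leaf (nat_lit 0)))))) (.node (.node (.node (.node (.node (.leaf (nat_lit 0)) (.leaf (nat_lit 0))) (.leaf (nat_lit 0))) (.node (.leaf (nat_lit 0)) (.leaf (nat_lit 0)))) (.node (.node (.leaf (nat_lit 0)) (.leaf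 (nat_lit 0))) (.node (.leaf (nat_lit 0)) (.leaf (nat_lit 0))))) (.node (.node (.node (.leaf (nat_lit 0)) (.leaf (nat_lit 0))) (.node (.leaf (nat_lit 0)) (.leaf (nat_lit 0)))) (.node (.node (.leaf (nat_lit 0)) (.leaf (nat_lit 0))) (.node (.leaf (nat_lit 0)) (.leaf (nat_lit 0)))))))) (.node (.node (.node (.node (.node (.node (.node (.leaf (nat_lit 0)) (.leaf (nat_lit 0))) (.leaf (nat_lit 0))) (.node (.leaf (nat_lit 0)) (.leaf (nat_lit 0)))) (.node (.node (.leaf (nat_lit 0)) (.leaf (nat_lit 0))) (.node (.leaf (nat_lit 0)) (.leaf (nat_lit 0))))) (.node (.node (.node (.leaf (nat_lit 0)) (.leaf (nat_lit 0))) (.node (.leaf (nat_lit 0)) (.leaf (nat_lit 0)))) (.node (.node (.leaf (nat_lit 0)) (.leaf (nat_lit 0))) (.node (.leaf (nat_lit 0)) (.leaf (nat_lit 0)))))) (.node (.node (.node (.node (.node (.leaf (nat_lit 0)) (.leaf (nat_lit 0)))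 (.leaf (nat_lit 0))) (.node (.leaf (nat_lit 0)) (.leaf (nat_lit 0)))) (.node (.node (.leaf (nat_lit 0)) (.leaf (nat_lit 0))) (.node (.leaf (nat_lit 0)) (.leaf (nat_lit 0))))) (.node (.node (.node (.leaf (nat_lit 0)) (.leaf (nat_lit 0))) (.node (.leaf (nat_lit 0)) (.leaf (nat_lit 0)))) (.node (.node (.leaf (nat_lit 0)) (.leaf (nat_lit 0))) (.node (.leaf (nat_lit 0)) (.leaf (nat_lit 0))))))) (.node (.node (.node (.node (.node (.node (.leaf (nat_lit 0)) (.leaf (nat_lit 0))) (.leaf (nat_lit 0))) (.node (.leaf (nat_lit 0)) (.leaf (nat_lit 0)))) (.node (.node (.leaf (nat_lit 0)) (.leaf (nat_lit 0))) (.node (.leaf (nat_lit 0)) (.leaf (nat_lit 0))))) (.node (.node (.node (.leaf (nat_lit 0)) (.leaf (nat_lit 0))) (.node (.leaf (nat_lit 0)) (.leaf (nat_lit 0)))) (.node (.node (.leaf (nat_lit 0)) (.leaf (nat_lit 0))) (.node (.leaf (nat_lit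 0)) (.leaf (nat_lit 0)))))) (.node (.node (.node (.node (.node (.leaf (nat_lit 0)) (.leaf (nat_lit 0))) (.leaf (nat_lit 0))) (.node (.leaf (nat_lit 0)) (.leaf (nat_lit 0)))) (.node (.node (.leaf (nat_lit 0)) (.leaf (nat_lit 0))) (.node (.leaf (nat_lit 0)) (.leaf (nat_lit 0))))) (.node (.node (.node (.leaf (nat_lit 0)) (.leaf (nat_lit 0))) (.node (.leaf (nat_lit 0)) (.leaf (nat_lit 0)))) (.node (.node (.leaf (nat_lit 0)) (.leaf (nat_lit 0))) (.node (.leaf (nat_lit 0)) (.leaf (nat_lit 0)))))))))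

noncomputable def f42_U_t14 : BT :=
(.node (.node (.node (.node (.node (.node (.node (.node (.leaf (nat_lit 0)) (.leaf (nat_lit 0))) (.leaf (nat_lit 0))) (.node (.leaf (nat_lit 0)) (.leaf (nat_lit 0)))) (.node (.node (.leaf (nat_lit 0)) (.leaf (nat_lit 0))) (.node (.leaf (nat_lit 0)) (.leaf (nat_lit 0))))) (.node (.node (.node (.node (.leaf (nat_lit 0)) (.leaf (nat_lit 0))) (.leaf (nat_lit 0))) (.node (.leaf (nat_lit 0)) (.leaf (nat_lit 0)))) (.node (.node (.leaf (nat_lit 0)) (.leaf (nat_lit 0))) (.node (.leaf (nat_lit 0)) (.leaf (nat_lit 0)))))) (.node (.node (.node (.node (.node (.leaf (nat_lit 0)) (.leaf (nat_lit 0))) (.leaf (nat_lit 0))) (.node (.leaf (nat_lit 0)) (.leaf (nat_lit 0)))) (.node (.node (.leaf (nat_lit 0)) (.leaf (nat_lit 0))) (.node (.leaf (nat_lit 0)) (.leaf (nat_lit 0))))) (.node (.node (.node (.leaf (nat_lit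 0)) (.leaf (nat_lit 0))) (.node (.leaf (nat_lit 0)) (.leaf (nat_lit 0)))) (.node (.node (.leaf (nat_lit 0)) (.leaf (nat_lit 0))) (.node (.leaf (nat_lit 0)) (.leaf (nat_lit 0))))))) (.node (.node (.node (.node (.node (.node (.leaf (nat_lit 0)) (.leaf (nat_lit 0))) (.leaf (nat_lit 0))) (.node (.leaf (nat_lit 0)) (.leaf (nat_lit 0)))) (.node (.node (.leaf (nat_lit 0)) (.leaf (nat_lit 0))) (.node (.leaf (nat_lit 0)) (.leaf (nat_lit 0))))) (.node (.node (.node (.leaf (nat_lit 0)) (.leaf (nat_lit 0))) (.node (.leaf (nat_lit 0)) (.leaf (nat_lit 0)))) (.node (.node (.leaf (nat_lit 0)) (.leaf (nat_lit 0))) (.node (.leaf (nat_lit 0)) (.leaf (nat_lit 0)))))) (.node (.node (.node (.node (.node (.leaf (nat_lit 0)) (.leaf (nat_lit 0))) (.leaf (nat_lit 0))) (.node (.leaf (nat_lit 0)) (.leaf (nat_lit 0)))) (.node (.node (.leaf (nat_lit 0)) (.leaf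 (nat_lit 0))) (.node (.leaf (nat_lit 0)) (.leaf (nat_lit 0))))) (.node (.node (.node (.leaf (nat_lit 0)) (.leaf (nat_lit 0))) (.node (.leaf (nat_lit 0)) (.leaf (nat_lit 0)))) (.node (.node (.leaf (nat_lit 0)) (.leaf (nat_lit 0))) (.node (.leaf (nat_lit 0)) (.leaf (nat_lit 0)))))))) (.node (.node (.node (.node (.node (.node (.node (.leaf (nat_lit 0)) (.leaf (nat_lit 0))) (.leaf (nat_lit 0))) (.node (.leaf (nat_lit 0)) (.leaf (nat_lit 0)))) (.node (.node (.leaf (nat_lit 0)) (.leaf (nat_lit 0))) (.node (.leaf (nat_lit 0)) (.leaf (nat_lit 0))))) (.node (.node (.node (.leaf (nat_lit 0)) (.leaf (nat_lit 0))) (.node (.leaf (nat_lit 0)) (.leaf (nat_lit 0)))) (.node (.node (.leaf (nat_lit 0)) (.leaf (nat_lit 0))) (.node (.leaf (nat_lit 0)) (.leaf (nat_lit 0)))))) (.node (.node (.node (.node (.node (.leaf (nat_lit 0)) (.leaf (nat_lit 0)))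 (.leaf (nat_lit 0))) (.node (.leaf (nat_lit 0)) (.leaf (nat_lit 0)))) (.node (.node (.leaf (nat_lit 0)) (.leaf (nat_lit 0))) (.node (.leaf (nat_lit 0)) (.leaf (nat_lit 0))))) (.node (.node (.node (.leaf (nat_lit 0)) (.leaf (nat_lit 0))) (.node (.leaf (nat_lit 0)) (.leaf (nat_lit 0)))) (.node (.node (.leaf (nat_lit 0)) (.leaf (nat_lit 0))) (.node (.leaf (nat_lit 0)) (.leaf (nat_lit 0))))))) (.node (.node (.node (.node (.node (.node (.leaf (nat_lit 0)) (.leaf (nat_lit 0))) (.leaf (nat_lit 0))) (.node (.leaf (nat_lit 0)) (.leaf (nat_lit 0)))) (.node (.node (.leaf (nat_lit 0)) (.leaf (nat_lit 0))) (.node (.leaf (nat_lit 0)) (.leaf (nat_lit 0))))) (.node (.node (.node (.leaf (nat_lit 0)) (.leaf (nat_lit 0))) (.node (.leaf (nat_lit 0)) (.leaf (nat_lit 0)))) (.node (.node (.leaf (nat_lit 0)) (.leaf (nat_lit 0))) (.node (.leaf (nat_lit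 0)) (.leaf (nat_lit 0)))))) (.node (.node (.node (.node (.node (.leaf (nat_lit 0)) (.leaf (nat_lit 0))) (.leaf (nat_lit 0))) (.node (.leaf (nat_lit 0)) (.leaf (nat_lit 0)))) (.node (.node (.leaf (nat_lit 0)) (.leaf (nat_lit 0))) (.node (.leaf (nat_lit 0)) (.leaf (nat_lit 0))))) (.node (.node (.node (.leaf (nat_lit 0)) (.leaf (nat_lit 0))) (.node (.leaf (nat_lit 0)) (.leaf (nat_lit 0)))) (.node (.node (.leaf (nat_lit 0)) (.leaf (nat_lit 0))) (.node (.leaf (nat_lit 0)) (.leaf (nat_lit 0)))))))))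

noncomputable def f42_U_t15 : BT :=
(.node (.node (.node (.node (.node (.node (.node (.node (.leaf (nat_lit 0)) (.leaf (nat_lit 0))) (.leaf (nat_lit 0))) (.node (.leaf (nat_lit 0)) (.leaf (nat_lit 0)))) (.node (.node (.leaf (nat_lit 0)) (.leaf (nat_lit 0))) (.node (.leaf (nat_lit 0)) (.leaf (nat_lit 0))))) (.node (.node (.node (.node (.leaf (nat_lit 0)) (.leaf (nat_lit 0))) (.leaf (nat_lit 0))) (.node (.leaf (nat_lit 0)) (.leaf (nat_lit 0)))) (.node (.node (.leaf (nat_lit 0)) (.leaf (nat_lit 0))) (.node (.leaf (nat_lit 0)) (.leaf (nat_lit 0)))))) (.node (.node (.node (.node (.node (.leaf (nat_lit 0)) (.leaf (nat_lit 0))) (.leaf (nat_lit 0))) (.node (.leaf (nat_lit 0)) (.leaf (nat_lit 0)))) (.node (.node (.leaf (nat_lit 0)) (.leaf (nat_lit 0))) (.node (.leaf (nat_lit 0)) (.leaf (nat_lit 0))))) (.node (.node (.node (.leaf (nat_lit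 0)) (.leaf (nat_lit 0))) (.node (.leaf (nat_lit 0)) (.leaf (nat_lit 0)))) (.node (.node (.leaf (nat_lit 0)) (.leaf (nat_lit 0))) (.node (.leaf (nat_lit 0)) (.leaf (nat_lit 0))))))) (.node (.node (.node (.node (.node (.node (.leaf (nat_lit 0)) (.leaf (nat_lit 0))) (.leaf (nat_lit 0))) (.node (.leaf (nat_lit 0)) (.leaf (nat_lit 0)))) (.node (.node (.leaf (nat_lit 0)) (.leaf (nat_lit 0))) (.node (.leaf (nat_lit 0)) (.leaf (nat_lit 0))))) (.node (.node (.node (.leaf (nat_lit 0)) (.leaf (nat_lit 0))) (.node (.leaf (nat_lit 0)) (.leaf (nat_lit 0)))) (.node (.node (.leaf (nat_lit 0)) (.leaf (nat_lit 0))) (.node (.leaf (nat_lit 0)) (.leaf (nat_lit 0)))))) (.node (.node (.node (.node (.node (.leaf (nat_lit 0)) (.leaf (nat_lit 0))) (.leaf (nat_lit 0))) (.node (.leaf (nat_lit 0)) (.leaf (nat_lit 0)))) (.node (.node (.leaf (nat_lit 0)) (.leaf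 (nat_lit 0))) (.node (.leaf (nat_lit 0)) (.leaf (nat_lit 0))))) (.node (.node (.node (.leaf (nat_lit 0)) (.leaf (nat_lit 0))) (.node (.leaf (nat_lit 0)) (.leaf (nat_lit 0)))) (.node (.node (.leaf (nat_lit 0)) (.leaf (nat_lit 0))) (.node (.leaf (nat_lit 0)) (.leaf (nat_lit 0)))))))) (.node (.node (.node (.node (.node (.node (.node (.leaf (nat_lit 0)) (.leaf (nat_lit 0))) (.leaf (nat_lit 0))) (.node (.leaf (nat_lit 0)) (.leaf (nat_lit 0)))) (.node (.node (.leaf (nat_lit 0)) (.leaf (nat_lit 0))) (.node (.leaf (nat_lit 0)) (.leaf (nat_lit 0))))) (.node (.node (.node (.leaf (nat_lit 0)) (.leaf (nat_lit 0))) (.node (.leaf (nat_lit 0)) (.leaf (nat_lit 0)))) (.node (.node (.leaf (nat_lit 0)) (.leaf (nat_lit 0))) (.node (.leaf (nat_lit 0)) (.leaf (nat_lit 0)))))) (.node (.node (.node (.node (.node (.leaf (nat_lit 0)) (.leaf (nat_lit 0)))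 (.leaf (nat_lit 0))) (.node (.leaf (nat_lit 0)) (.leaf (nat_lit 0)))) (.node (.node (.leaf (nat_lit 0)) (.leaf (nat_lit 0))) (.node (.leaf (nat_lit 0)) (.leaf (nat_lit 0))))) (.node (.node (.node (.leaf (nat_lit 0)) (.leaf (nat_lit 0))) (.node (.leaf (nat_lit 0)) (.leaf (nat_lit 0)))) (.node (.node (.leaf (nat_lit 0)) (.leaf (nat_lit 0))) (.node (.leaf (nat_lit 0)) (.leaf (nat_lit 0))))))) (.node (.node (.node (.node (.node (.node (.leaf (nat_lit 0)) (.leaf (nat_lit 0))) (.leaf (nat_lit 0))) (.node (.leaf (nat_lit 0)) (.leaf (nat_lit 0)))) (.node (.node (.leaf (nat_lit 0)) (.leaf (nat_lit 0))) (.node (.leaf (nat_lit 0)) (.leaf (nat_lit 0))))) (.node (.node (.node (.leaf (nat_lit 0)) (.leaf (nat_lit 0))) (.node (.leaf (nat_lit 0)) (.leaf (nat_lit 0)))) (.node (.node (.leaf (nat_lit 0)) (.leaf (nat_lit 0))) (.node (.leaf (nat_lit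 0)) (.leaf (nat_lit 0)))))) (.node (.node (.node (.node (.node (.leaf (nat_lit 0)) (.leaf (nat_lit 0))) (.leaf (nat_lit 0))) (.node (.leaf (nat_lit 0)) (.leaf (nat_lit 0)))) (.node (.node (.leaf (nat_lit 0)) (.leaf (nat_lit 0))) (.node (.leaf (nat_lit 0)) (.leaf (nat_lit 0))))) (.node (.node (.node (.leaf (nat_lit 0)) (.leaf (nat_lit 0))) (.node (.leaf (nat_lit 0)) (.leaf (nat_lit 0)))) (.node (.node (.leaf (nat_lit 0)) (.leaf (nat_lit 0))) (.node (.leaf (nat_lit 0)) (.leaf (nat_lit 0)))))))))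

noncomputable def f42_U_t25 : BT :=
(.node (.node (.node (.node (.node (.node (.node (.node (.leaf (nat_lit 0)) (.leaf (nat_lit 0))) (.leaf (nat_lit 0))) (.node (.leaf (nat_lit 0)) (.leaf (nat_lit 0)))) (.node (.node (.leaf (nat_lit 0)) (.leaf (nat_lit 0))) (.node (.leaf (nat_lit 0)) (.leaf (nat_lit 0))))) (.node (.node (.node (.leaf (nat_lit 0)) (.leaf (nat_lit 0))) (.node (.leaf (nat_lit 0)) (.leaf (nat_lit 0)))) (.node (.node (.leaf (nat_lit 0)) (.leaf (nat_lit 0))) (.node (.leaf (nat_lit 0)) (.leaf (nat_lit 0)))))) (.node (.node (.node (.node (.node (.leaf (nat_lit 0)) (.leaf (nat_lit 0))) (.leaf (nat_lit 0))) (.node (.leaf (nat_lit 0)) (.leaf (nat_lit 0)))) (.node (.node (.leaf (nat_lit 0)) (.leaf (nat_lit 0))) (.node (.leaf (nat_lit 0)) (.leaf (nat_lit 0))))) (.node (.node (.node (.leaf (nat_lit 0)) (.leaf (nat_lit 0)))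 (.node (.leaf (nat_lit 0)) (.leaf (nat_lit 0)))) (.node (.node (.leaf (nat_lit 0)) (.leaf (nat_lit 0))) (.node (.leaf (nat_lit 0)) (.leaf (nat_lit 0))))))) (.node (.node (.node (.node (.node (.node (.leaf (nat_lit 0)) (.leaf (nat_lit 0))) (.leaf (nat_lit 0))) (.node (.leaf (nat_lit 0)) (.leaf (nat_lit 0)))) (.node (.node (.leaf (nat_lit 0)) (.leaf (nat_lit 0))) (.node (.leaf (nat_lit 0)) (.leaf (nat_lit 0))))) (.node (.node (.node (.leaf (nat_lit 0)) (.leaf (nat_lit 0))) (.node (.leaf (nat_lit 0)) (.leaf (nat_lit 0)))) (.node (.node (.leaf (nat_lit 0)) (.leaf (nat_lit 0))) (.node (.leaf (nat_lit 0)) (.leaf (nat_lit 0)))))) (.node (.node (.node (.node (.node (.leaf (nat_lit 0)) (.leaf (nat_lit 0))) (.leaf (nat_lit 0))) (.node (.leaf (nat_lit 0)) (.leaf (nat_lit 0)))) (.node (.node (.leaf (nat_lit 0)) (.leaf (nat_lit 0))) (.node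 (.leaf (nat_lit 0)) (.leaf (nat_lit 0))))) (.node (.node (.node (.leaf (nat_lit 0)) (.leaf (nat_lit 0))) (.node (.leaf (nat_lit 0)) (.leaf (nat_lit 0)))) (.node (.node (.leaf (nat_lit 0)) (.leaf (nat_lit 0))) (.node (.leaf (nat_lit 0)) (.leaf (nat_lit 0)))))))) (.node (.node (.node (.node (.node (.node (.node (.leaf (nat_lit 0)) (.leaf (nat_lit 0))) (.leaf (nat_lit 0))) (.node (.leaf (nat_lit 0)) (.leaf (nat_lit 0)))) (.node (.node (.leaf (nat_lit 0)) (.leaf (nat_lit 0))) (.node (.leaf (nat_lit 0)) (.leaf (nat_lit 0))))) (.node (.node (.node (.leaf (nat_lit 0)) (.leaf (nat_lit 0))) (.node (.leaf (nat_lit 0)) (.leaf (nat_lit 0)))) (.node (.node (.leaf (nat_lit 0)) (.leaf (nat_lit 0))) (.node (.leaf (nat_lit 0)) (.leaf (nat_lit 0)))))) (.node (.node (.node (.node (.node (.leaf (nat_lit 0)) (.leaf (nat_lit 0))) (.leaf (nat_lit 0)))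 (.node (.leaf (nat_lit 0)) (.leaf (nat_lit 0)))) (.node (.node (.leaf (nat_lit 0)) (.leaf (nat_lit 0))) (.node (.leaf (nat_lit 0)) (.leaf (nat_lit 0))))) (.node (.node (.node (.leaf (nat_lit 0)) (.leaf (nat_lit 0))) (.node (.leaf (nat_lit 0)) (.leaf (nat_lit 0)))) (.node (.node (.leaf (nat_lit 0)) (.leaf (nat_lit 0))) (.node (.leaf (nat_lit 0)) (.leaf (nat_lit 0))))))) (.node (.node (.node (.node (.node (.node (.leaf (nat_lit 0)) (.leaf (nat_lit 0))) (.leaf (nat_lit 0))) (.node (.leaf (nat_lit 0)) (.leaf (nat_lit 0)))) (.node (.node (.leaf (nat_lit 0)) (.leaf (nat_lit 0))) (.node (.leaf (nat_lit 0)) (.leaf (nat_lit 0))))) (.node (.node (.node (.leaf (nat_lit 0)) (.leaf (nat_lit 0))) (.node (.leaf (nat_lit 0)) (.leaf (nat_lit 0)))) (.node (.node (.leaf (nat_lit 0)) (.leaf (nat_lit 0))) (.node (.leaf (nat_lit 0)) (.leaf (nat_lit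 0)))))) (.node (.node (.node (.node (.node (.leaf (nat_lit 0)) (.leaf (nat_lit 0))) (.leaf (nat_lit 0))) (.node (.leaf (nat_lit 0)) (.leaf (nat_lit 0)))) (.node (.node (.leaf (nat_lit 0)) (.leaf (nat_lit 0))) (.node (.leaf (nat_lit 0)) (.leaf (nat_lit 0))))) (.node (.node (.node (.leaf (nat_lit 0)) (.leaf (nat_lit 0))) (.node (.leaf (nat_lit 0)) (.leaf (nat_lit 0)))) (.node (.node (.leaf (nat_lit 0)) (.leaf (nat_lit 0))) (.node (.leaf (nat_lit 0)) (.leaf (nat_lit 0)))))))))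

noncomputable def f42_U_t26 : BT :=
(.node (.node (.node (.node (.node (.node (.node (.node (.leaf (nat_lit 0)) (.leaf (nat_lit 0))) (.leaf (nat_lit 0))) (.node (.leaf (nat_lit 0)) (.leaf (nat_lit 0)))) (.node (.node (.leaf (nat_lit 0)) (.leaf (nat_lit 0))) (.node (.leaf (nat_lit 0)) (.leaf (nat_lit 0))))) (.node (.node (.node (.leaf (nat_lit 0)) (.leaf (nat_lit 0))) (.node (.leaf (nat_lit 0)) (.leaf (nat_lit 0)))) (.node (.node (.leaf (nat_lit 0)) (.leaf (nat_lit 0))) (.node (.leaf (nat_lit 0)) (.leaf (nat_lit 0)))))) (.node (.node (.node (.node (.node (.leaf (nat_lit 0)) (.leaf (nat_lit 0))) (.leaf (nat_lit 0))) (.node (.leaf (nat_lit 0)) (.leaf (nat_lit 0)))) (.node (.node (.leaf (nat_lit 0)) (.leaf (nat_lit 0))) (.node (.leaf (nat_lit 0)) (.leaf (nat_lit 0))))) (.node (.node (.node (.leaf (nat_lit 0)) (.leaf (nat_lit 0)))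 (.node (.leaf (nat_lit 0)) (.leaf (nat_lit 0)))) (.node (.node (.leaf (nat_lit 0)) (.leaf (nat_lit 0))) (.node (.leaf (nat_lit 0)) (.leaf (nat_lit 0))))))) (.node (.node (.node (.node (.node (.node (.leaf (nat_lit 0)) (.leaf (nat_lit 0))) (.leaf (nat_lit 0))) (.node (.leaf (nat_lit 0)) (.leaf (nat_lit 0)))) (.node (.node (.leaf (nat_lit 0)) (.leaf (nat_lit 0))) (.node (.leaf (nat_lit 0)) (.leaf (nat_lit 0))))) (.node (.node (.node (.leaf (nat_lit 0)) (.leaf (nat_lit 0))) (.node (.leaf (nat_lit 0)) (.leaf (nat_lit 0)))) (.node (.node (.leaf (nat_lit 0)) (.leaf (nat_lit 0))) (.node (.leaf (nat_lit 0)) (.leaf (nat_lit 0)))))) (.node (.node (.node (.node (.node (.leaf (nat_lit 0)) (.leaf (nat_lit 0))) (.leaf (nat_lit 0))) (.node (.leaf (nat_lit 0)) (.leaf (nat_lit 0)))) (.node (.node (.leaf (nat_lit 0)) (.leaf (nat_lit 0))) (.node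 (.leaf (nat_lit 0)) (.leaf (nat_lit 0))))) (.node (.node (.node (.leaf (nat_lit 0)) (.leaf (nat_lit 0))) (.node (.leaf (nat_lit 0)) (.leaf (nat_lit 0)))) (.node (.node (.leaf (nat_lit 0)) (.leaf (nat_lit 0))) (.node (.leaf (nat_lit 0)) (.leaf (nat_lit 0)))))))) (.node (.node (.node (.node (.node (.node (.node (.leaf (nat_lit 0)) (.leaf (nat_lit 0))) (.leaf (nat_lit 0))) (.node (.leaf (nat_lit 0)) (.leaf (nat_lit 0)))) (.node (.node (.leaf (nat_lit 0)) (.leaf (nat_lit 0))) (.node (.leaf (nat_lit 0)) (.leaf (nat_lit 0))))) (.node (.node (.node (.leaf (nat_lit 0)) (.leaf (nat_lit 0))) (.node (.leaf (nat_lit 0)) (.leaf (nat_lit 0)))) (.node (.node (.leaf (nat_lit 0)) (.leaf (nat_lit 0))) (.node (.leaf (nat_lit 0)) (.leaf (nat_lit 0)))))) (.node (.node (.node (.node (.node (.leaf (nat_lit 0)) (.leaf (nat_lit 0))) (.leaf (nat_lit 0)))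 (.node (.leaf (nat_lit 0)) (.leaf (nat_lit 0)))) (.node (.node (.leaf (nat_lit 0)) (.leaf (nat_lit 0))) (.node (.leaf (nat_lit 0)) (.leaf (nat_lit 0))))) (.node (.node (.node (.leaf (nat_lit 0)) (.leaf (nat_lit 0))) (.node (.leaf (nat_lit 0)) (.leaf (nat_lit 0)))) (.node (.node (.leaf (nat_lit 0)) (.leaf (nat_lit 0))) (.node (.leaf (nat_lit 0)) (.leaf (nat_lit 0))))))) (.node (.node (.node (.node (.node (.node (.leaf (nat_lit 0)) (.leaf (nat_lit 0))) (.leaf (nat_lit 0))) (.node (.leaf (nat_lit 0)) (.leaf (nat_lit 0)))) (.node (.node (.leaf (nat_lit 0)) (.leaf (nat_lit 0))) (.node (.leaf (nat_lit 0)) (.leaf (nat_lit 0))))) (.node (.node (.node (.leaf (nat_lit 0)) (.leaf (nat_lit 0))) (.node (.leaf (nat_lit 0)) (.leaf (nat_lit 0)))) (.node (.node (.leaf (nat_lit 0)) (.leaf (nat_lit 0))) (.node (.leaf (nat_lit 0)) (.leaf (nat_lit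 0)))))) (.node (.node (.node (.node (.node (.leaf (nat_lit 0)) (.leaf (nat_lit 0))) (.leaf (nat_lit 0))) (.node (.leaf (nat_lit 0)) (.leaf (nat_lit 0)))) (.node (.node (.leaf (nat_lit 0)) (.leaf (nat_lit 0))) (.node (.leaf (nat_lit 0)) (.leaf (nat_lit 0))))) (.node (.node (.node (.leaf (nat_lit 0)) (.leaf (nat_lit 0))) (.node (.leaf (nat_lit 0)) (.leaf (nat_lit 0)))) (.node (.node (.leaf (nat_lit 0)) (.leaf (nat_lit 0))) (.node (.leaf (nat_lit 0)) (.leaf (nat_lit 0)))))))))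

noncomputable def f42_U_t27 : BT :=
(.node (.node (.node (.node (.node (.node (.node (.node (.leaf (nat_lit 0)) (.leaf (nat_lit 0))) (.leaf (nat_lit 0))) (.node (.leaf (nat_lit 0)) (.leaf (nat_lit 0)))) (.node (.node (.leaf (nat_lit 0)) (.leaf (nat_lit 0))) (.node (.leaf (nat_lit 0)) (.leaf (nat_lit 0))))) (.node (.node (.node (.leaf (nat_lit 0)) (.leaf (nat_lit 0))) (.node (.leaf (nat_lit 0)) (.leaf (nat_lit 0)))) (.node (.node (.leaf (nat_lit 0)) (.leaf (nat_lit 0))) (.node (.leaf (nat_lit 0)) (.leaf (nat_lit 0)))))) (.node (.node (.node (.node (.node (.leaf (nat_lit 0)) (.leaf (nat_lit 0))) (.leaf (nat_lit 0))) (.node (.leaf (nat_lit 0)) (.leaf (nat_lit 0)))) (.node (.node (.leaf (nat_lit 0)) (.leaf (nat_lit 0))) (.node (.leaf (nat_lit 0)) (.leaf (nat_lit 0))))) (.node (.node (.node (.leaf (nat_lit 0)) (.leaf (nat_lit 0)))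 (.node (.leaf (nat_lit 0)) (.leaf (nat_lit 0)))) (.node (.node (.leaf (nat_lit 0)) (.leaf (nat_lit 0))) (.node (.leaf (nat_lit 0)) (.leaf (nat_lit 0))))))) (.node (.node (.node (.node (.node (.node (.leaf (nat_lit 0)) (.leaf (nat_lit 0))) (.leaf (nat_lit 0))) (.node (.leaf (nat_lit 0)) (.leaf (nat_lit 0)))) (.node (.node (.leaf (nat_lit 0)) (.leaf (nat_lit 0))) (.node (.leaf (nat_lit 0)) (.leaf (nat_lit 0))))) (.node (.node (.node (.leaf (nat_lit 0)) (.leaf (nat_lit 0))) (.node (.leaf (nat_lit 0)) (.leaf (nat_lit 0)))) (.node (.node (.leaf (nat_lit 0)) (.leaf (nat_lit 0))) (.node (.leaf (nat_lit 0)) (.leaf (nat_lit 0)))))) (.node (.node (.node (.node (.node (.leaf (nat_lit 0)) (.leaf (nat_lit 0))) (.leaf (nat_lit 0))) (.node (.leaf (nat_lit 0)) (.leaf (nat_lit 0)))) (.node (.node (.leaf (nat_lit 0)) (.leaf (nat_lit 0))) (.node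 (.leaf (nat_lit 0)) (.leaf (nat_lit 0))))) (.node (.node (.node (.leaf (nat_lit 0)) (.leaf (nat_lit 0))) (.node (.leaf (nat_lit 0)) (.leaf (nat_lit 0)))) (.node (.node (.leaf (nat_lit 0)) (.leaf (nat_lit 0))) (.node (.leaf (nat_lit 0)) (.leaf (nat_lit 0)))))))) (.node (.node (.node (.node (.node (.node (.node (.leaf (nat_lit 0)) (.leaf (nat_lit 0))) (.leaf (nat_lit 0))) (.node (.leaf (nat_lit 0)) (.leaf (nat_lit 0)))) (.node (.node (.leaf (nat_lit 0)) (.leaf (nat_lit 0))) (.node (.leaf (nat_lit 0)) (.leaf (nat_lit 0))))) (.node (.node (.node (.leaf (nat_lit 0)) (.leaf (nat_lit 0))) (.node (.leaf (nat_lit 0)) (.leaf (nat_lit 0)))) (.node (.node (.leaf (nat_lit 0)) (.leaf (nat_lit 0))) (.node (.leaf (nat_lit 0)) (.leaf (nat_lit 0)))))) (.node (.node (.node (.node (.node (.leaf (nat_lit 0)) (.leaf (nat_lit 0))) (.leaf (nat_lit 0)))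 (.node (.leaf (nat_lit 0)) (.leaf (nat_lit 0)))) (.node (.node (.leaf (nat_lit 0)) (.leaf (nat_lit 0))) (.node (.leaf (nat_lit 0)) (.leaf (nat_lit 0))))) (.node (.node (.node (.leaf (nat_lit 0)) (.leaf (nat_lit 0))) (.node (.leaf (nat_lit 0)) (.leaf (nat_lit 0)))) (.node (.node (.leaf (nat_lit 0)) (.leaf (nat_lit 0))) (.node (.leaf (nat_lit 0)) (.leaf (nat_lit 0))))))) (.node (.node (.node (.node (.node (.node (.leaf (nat_lit 0)) (.leaf (nat_lit 0))) (.leaf (nat_lit 0))) (.node (.leaf (nat_lit 0)) (.leaf (nat_lit 0)))) (.node (.node (.leaf (nat_lit 0)) (.leaf (nat_lit 0))) (.node (.leaf (nat_lit 0)) (.leaf (nat_lit 0))))) (.node (.node (.node (.leaf (nat_lit 0)) (.leaf (nat_lit 0))) (.node (.leaf (nat_lit 0)) (.leaf (nat_lit 0)))) (.node (.node (.leaf (nat_lit 0)) (.leaf (nat_lit 0))) (.node (.leaf (nat_lit 0)) (.leaf (nat_lit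 0)))))) (.node (.node (.node (.node (.node (.leaf (nat_lit 0)) (.leaf (nat_lit 0))) (.leaf (nat_lit 0))) (.node (.leaf (nat_lit 0)) (.leaf (nat_lit 0)))) (.node (.node (.leaf (nat_lit 0)) (.leaf (nat_lit 0))) (.node (.leaf (nat_lit 0)) (.leaf (nat_lit 0))))) (.node (.node (.node (.leaf (nat_lit 0)) (.leaf (nat_lit 0))) (.node (.leaf (nat_lit 0)) (.leaf (nat_lit 0)))) (.node (.node (.leaf (nat_lit 0)) (.leaf (nat_lit 0))) (.node (.leaf (nat_lit 0)) (.leaf (nat_lit 0)))))))))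

noncomputable def f42_U_t28 : BT :=
(.node (.node (.node (.node (.node (.node (.node (.node (.leaf (nat_lit 0)) (.leaf (nat_lit 0))) (.leaf (nat_lit 0))) (.node (.leaf (nat_lit 0)) (.leaf (nat_lit 0)))) (.node (.node (.leaf (nat_lit 0)) (.leaf (nat_lit 0))) (.node (.leaf (nat_lit 0)) (.leaf (nat_lit 0))))) (.node (.node (.node (.leaf (nat_lit 0)) (.leaf (nat_lit 0))) (.node (.leaf (nat_lit 0)) (.leaf (nat_lit 0)))) (.node (.node (.leaf (nat_lit 0)) (.leaf (nat_lit 0))) (.node (.leaf (nat_lit 0)) (.leaf (nat_lit 0)))))) (.node (.node (.node (.node (.node (.leaf (nat_lit 0)) (.leaf (nat_lit 0))) (.leaf (nat_lit 0))) (.node (.leaf (nat_lit 0)) (.leaf (nat_lit 0)))) (.node (.node (.leaf (nat_lit 0)) (.leaf (nat_lit 0))) (.node (.leaf (nat_lit 0)) (.leaf (nat_lit 0))))) (.node (.node (.node (.leaf (nat_lit 0)) (.leaf (nat_lit 0)))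 (.node (.leaf (nat_lit 0)) (.leaf (nat_lit 0)))) (.node (.node (.leaf (nat_lit 0)) (.leaf (nat_lit 0))) (.node (.leaf (nat_lit 0)) (.leaf (nat_lit 0))))))) (.node (.node (.node (.node (.node (.node (.leaf (nat_lit 0)) (.leaf (nat_lit 0))) (.leaf (nat_lit 0))) (.node (.leaf (nat_lit 0)) (.leaf (nat_lit 0)))) (.node (.node (.leaf (nat_lit 0)) (.leaf (nat_lit 0))) (.node (.leaf (nat_lit 0)) (.leaf (nat_lit 0))))) (.node (.node (.node (.leaf (nat_lit 0)) (.leaf (nat_lit 0))) (.node (.leaf (nat_lit 0)) (.leaf (nat_lit 0)))) (.node (.node (.leaf (nat_lit 0)) (.leaf (nat_lit 0))) (.node (.leaf (nat_lit 0)) (.leaf (nat_lit 0)))))) (.node (.node (.node (.node (.node (.leaf (nat_lit 0)) (.leaf (nat_lit 0))) (.leaf (nat_lit 0))) (.node (.leaf (nat_lit 0)) (.leaf (nat_lit 0)))) (.node (.node (.leaf (nat_lit 0)) (.leaf (nat_lit 0))) (.node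 (.leaf (nat_lit 0)) (.leaf (nat_lit 0))))) (.node (.node (.node (.leaf (nat_lit 0)) (.leaf (nat_lit 0))) (.node (.leaf (nat_lit 0)) (.leaf (nat_lit 0)))) (.node (.node (.leaf (nat_lit 0)) (.leaf (nat_lit 0))) (.node (.leaf (nat_lit 0)) (.leaf (nat_lit 0)))))))) (.node (.node (.node (.node (.node (.node (.node (.leaf (nat_lit 0)) (.leaf (nat_lit 0))) (.leaf (nat_lit 0))) (.node (.leaf (nat_lit 0)) (.leaf (nat_lit 0)))) (.node (.node (.leaf (nat_lit 0)) (.leaf (nat_lit 0))) (.node (.leaf (nat_lit 0)) (.leaf (nat_lit 0))))) (.node (.node (.node (.leaf (nat_lit 0)) (.leaf (nat_lit 0))) (.node (.leaf (nat_lit 0)) (.leaf (nat_lit 0)))) (.node (.node (.leaf (nat_lit 0)) (.leaf (nat_lit 0))) (.node (.leaf (nat_lit 0)) (.leaf (nat_lit 0)))))) (.node (.node (.node (.node (.node (.leaf (nat_lit 0)) (.leaf (nat_lit 0))) (.leaf (nat_lit 0)))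 (.node (.leaf (nat_lit 0)) (.leaf (nat_lit 0)))) (.node (.node (.leaf (nat_lit 0)) (.leaf (nat_lit 0))) (.node (.leaf (nat_lit 0)) (.leaf (nat_lit 0))))) (.node (.node (.node (.leaf (nat_lit 0)) (.leaf (nat_lit 0))) (.node (.leaf (nat_lit 0)) (.leaf (nat_lit 0)))) (.node (.node (.leaf (nat_lit 0)) (.leaf (nat_lit 0))) (.node (.leaf (nat_lit 0)) (.leaf (nat_lit 0))))))) (.node (.node (.node (.node (.node (.node (.leaf (nat_lit 0)) (.leaf (nat_lit 0))) (.leaf (nat_lit 0))) (.node (.leaf (nat_lit 0)) (.leaf (nat_lit 0)))) (.node (.node (.leaf (nat_lit 0)) (.leaf (nat_lit 0))) (.node (.leaf (nat_lit 0)) (.leaf (nat_lit 0))))) (.node (.node (.node (.leaf (nat_lit 0)) (.leaf (nat_lit 0))) (.node (.leaf (nat_lit 0)) (.leaf (nat_lit 0)))) (.node (.node (.leaf (nat_lit 0)) (.leaf (nat_lit 0))) (.node (.leaf (nat_lit 0)) (.leaf (nat_lit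 0)))))) (.node (.node (.node (.node (.node (.leaf (nat_lit 0)) (.leaf (nat_lit 0))) (.leaf (nat_lit 0))) (.node (.leaf (nat_lit 0)) (.leaf (nat_lit 0)))) (.node (.node (.leaf (nat_lit 0)) (.leaf (nat_lit 0))) (.node (.leaf (nat_lit 0)) (.leaf (nat_lit 0))))) (.node (.node (.node (.leaf (nat_lit 0)) (.leaf (nat_lit 0))) (.node (.leaf (nat_lit 0)) (.leaf (nat_lit 0)))) (.node (.node (.leaf (nat_lit 0)) (.leaf (nat_lit 0))) (.node (.leaf (nat_lit 0)) (.leaf (nat_lit 0)))))))))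

noncomputable def f42_U_t29 : BT :=
(.node (.node (.node (.node (.node (.node (.node (.node (.leaf (nat_lit 0)) (.leaf (nat_lit 0))) (.leaf (nat_lit 0))) (.node (.leaf (nat_lit 0)) (.leaf (nat_lit 0)))) (.node (.node (.leaf (nat_lit 0)) (.leaf (nat_lit 0))) (.node (.leaf (nat_lit 0)) (.leaf (nat_lit 0))))) (.node (.node (.node (.leaf (nat_lit 0)) (.leaf (nat_lit 0))) (.node (.leaf (nat_lit 0)) (.leaf (nat_lit 0)))) (.node (.node (.leaf (nat_lit 0)) (.leaf (nat_lit 0))) (.node (.leaf (nat_lit 0)) (.leaf (nat_lit 0)))))) (.node (.node (.node (.node (.node (.leaf (nat_lit 0)) (.leaf (nat_lit 0))) (.leaf (nat_lit 0))) (.node (.leaf (nat_lit 0)) (.leaf (nat_lit 0)))) (.node (.node (.leaf (nat_lit 0)) (.leaf (nat_lit 0))) (.node (.leaf (nat_lit 0)) (.leaf (nat_lit 0))))) (.node (.node (.node (.leaf (nat_lit 0)) (.leaf (nat_lit 0)))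 (.node (.leaf (nat_lit 0)) (.leaf (nat_lit 0)))) (.node (.node (.leaf (nat_lit 0)) (.leaf (nat_lit 0))) (.node (.leaf (nat_lit 0)) (.leaf (nat_lit 0))))))) (.node (.node (.node (.node (.node (.node (.leaf (nat_lit 0)) (.leaf (nat_lit 0))) (.leaf (nat_lit 0))) (.node (.leaf (nat_lit 0)) (.leaf (nat_lit 0)))) (.node (.node (.leaf (nat_lit 0)) (.leaf (nat_lit 0))) (.node (.leaf (nat_lit 0)) (.leaf (nat_lit 0))))) (.node (.node (.node (.leaf (nat_lit 0)) (.leaf (nat_lit 0))) (.node (.leaf (nat_lit 0)) (.leaf (nat_lit 0)))) (.node (.node (.leaf (nat_lit 0)) (.leaf (nat_lit 0))) (.node (.leaf (nat_lit 0)) (.leaf (nat_lit 0)))))) (.node (.node (.node (.node (.node (.leaf (nat_lit 0)) (.leaf (nat_lit 0))) (.leaf (nat_lit 0))) (.node (.leaf (nat_lit 0)) (.leaf (nat_lit 0)))) (.node (.node (.leaf (nat_lit 0)) (.leaf (nat_lit 0))) (.node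 (.leaf (nat_lit 0)) (.leaf (nat_lit 0))))) (.node (.node (.node (.leaf (nat_lit 0)) (.leaf (nat_lit 0))) (.node (.leaf (nat_lit 0)) (.leaf (nat_lit 0)))) (.node (.node (.leaf (nat_lit 0)) (.leaf (nat_lit 0))) (.node (.leaf (nat_lit 0)) (.leaf (nat_lit 0)))))))) (.node (.node (.node (.node (.node (.node (.node (.leaf (nat_lit 0)) (.leaf (nat_lit 0))) (.leaf (nat_lit 0))) (.node (.leaf (nat_lit 0)) (.leaf (nat_lit 0)))) (.node (.node (.leaf (nat_lit 0)) (.leaf (nat_lit 0))) (.node (.leaf (nat_lit 0)) (.leaf (nat_lit 0))))) (.node (.node (.node (.leaf (nat_lit 0)) (.leaf (nat_lit 0))) (.node (.leaf (nat_lit 0)) (.leaf (nat_lit 0)))) (.node (.node (.leaf (nat_lit 0)) (.leaf (nat_lit 0))) (.node (.leaf (nat_lit 0)) (.leaf (nat_lit 0)))))) (.node (.node (.node (.node (.node (.leaf (nat_lit 0)) (.leaf (nat_lit 0))) (.leaf (nat_lit 0)))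 (.node (.leaf (nat_lit 0)) (.leaf (nat_lit 0)))) (.node (.node (.leaf (nat_lit 0)) (.leaf (nat_lit 0))) (.node (.leaf (nat_lit 0)) (.leaf (nat_lit 0))))) (.node (.node (.node (.leaf (nat_lit 0)) (.leaf (nat_lit 0))) (.node (.leaf (nat_lit 0)) (.leaf (nat_lit 0)))) (.node (.node (.leaf (nat_lit 0)) (.leaf (nat_lit 0))) (.node (.leaf (nat_lit 0)) (.leaf (nat_lit 0))))))) (.node (.node (.node (.node (.node (.node (.leaf (nat_lit 0)) (.leaf (nat_lit 0))) (.leaf (nat_lit 0))) (.node (.leaf (nat_lit 0)) (.leaf (nat_lit 0)))) (.node (.node (.leaf (nat_lit 0)) (.leaf (nat_lit 0))) (.node (.leaf (nat_lit 0)) (.leaf (nat_lit 0))))) (.node (.node (.node (.leaf (nat_lit 0)) (.leaf (nat_lit 0))) (.node (.leaf (nat_lit 0)) (.leaf (nat_lit 0)))) (.node (.node (.leaf (nat_lit 0)) (.leaf (nat_lit 0))) (.node (.leaf (nat_lit 0)) (.leaf (nat_lit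 0)))))) (.node (.node (.node (.node (.node (.leaf (nat_lit 0)) (.leaf (nat_lit 0))) (.leaf (nat_lit 0))) (.node (.leaf (nat_lit 0)) (.leaf (nat_lit 0)))) (.node (.node (.leaf (nat_lit 0)) (.leaf (nat_lit 0))) (.node (.leaf (nat_lit 0)) (.leaf (nat_lit 0))))) (.node (.node (.node (.leaf (nat_lit 0)) (.leaf (nat_lit 0))) (.node (.leaf (nat_lit 0)) (.leaf (nat_lit 0)))) (.node (.node (.leaf (nat_lit 0)) (.leaf (nat_lit 0))) (.node (.leaf (nat_lit 0)) (.leaf (nat_lit 0)))))))))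

noncomputable def f42_U_t30 : BT :=
(.node (.node (.node (.node (.node (.node (.node (.node (.leaf (nat_lit 0)) (.leaf (nat_lit 0))) (.leaf (nat_lit 0))) (.node (.leaf (nat_lit 0)) (.leaf (nat_lit 0)))) (.node (.node (.leaf (nat_lit 0)) (.leaf (nat_lit 0))) (.node (.leaf (nat_lit 0)) (.leaf (nat_lit 0))))) (.node (.node (.node (.leaf (nat_lit 0)) (.leaf (nat_lit 0))) (.node (.leaf (nat_lit 0)) (.leaf (nat_lit 0)))) (.node (.node (.leaf (nat_lit 0)) (.leaf (nat_lit 0))) (.node (.leaf (nat_lit 0)) (.leaf (nat_lit 0)))))) (.node (.node (.node (.node (.node (.leaf (nat_lit 0)) (.leaf (nat_lit 0))) (.leaf (nat_lit 0))) (.node (.leaf (nat_lit 0)) (.leaf (nat_lit 0)))) (.node (.node (.leaf (nat_lit 0)) (.leaf (nat_lit 0))) (.node (.leaf (nat_lit 0)) (.leaf (nat_lit 0))))) (.node (.node (.node (.leaf (nat_lit 0)) (.leaf (nat_lit 0)))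 (.node (.leaf (nat_lit 0)) (.leaf (nat_lit 0)))) (.node (.node (.leaf (nat_lit 0)) (.leaf (nat_lit 0))) (.node (.leaf (nat_lit 0)) (.leaf (nat_lit 0))))))) (.node (.node (.node (.node (.node (.node (.leaf (nat_lit 0)) (.leaf (nat_lit 0))) (.leaf (nat_lit 0))) (.node (.leaf (nat_lit 0)) (.leaf (nat_lit 0)))) (.node (.node (.leaf (nat_lit 0)) (.leaf (nat_lit 0))) (.node (.leaf (nat_lit 0)) (.leaf (nat_lit 0))))) (.node (.node (.node (.leaf (nat_lit 0)) (.leaf (nat_lit 0))) (.node (.leaf (nat_lit 0)) (.leaf (nat_lit 0)))) (.node (.node (.leaf (nat_lit 0)) (.leaf (nat_lit 0))) (.node (.leaf (nat_lit 0)) (.leaf (nat_lit 0)))))) (.node (.node (.node (.node (.node (.leaf (nat_lit 0)) (.leaf (nat_lit 0))) (.leaf (nat_lit 0))) (.node (.leaf (nat_lit 0)) (.leaf (nat_lit 0)))) (.node (.node (.leaf (nat_lit 0)) (.leaf (nat_lit 0))) (.node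 (.leaf (nat_lit 0)) (.leaf (nat_lit 0))))) (.node (.node (.node (.leaf (nat_lit 0)) (.leaf (nat_lit 0))) (.node (.leaf (nat_lit 0)) (.leaf (nat_lit 0)))) (.node (.node (.leaf (nat_lit 0)) (.leaf (nat_lit 0))) (.node (.leaf (nat_lit 0)) (.leaf (nat_lit 0)))))))) (.node (.node (.node (.node (.node (.node (.node (.leaf (nat_lit 0)) (.leaf (nat_lit 0))) (.leaf (nat_lit 0))) (.node (.leaf (nat_lit 0)) (.leaf (nat_lit 0)))) (.node (.node (.leaf (nat_lit 0)) (.leaf (nat_lit 0))) (.node (.leaf (nat_lit 0)) (.leaf (nat_lit 0))))) (.node (.node (.node (.leaf (nat_lit 0)) (.leaf (nat_lit 0))) (.node (.leaf (nat_lit 0)) (.leaf (nat_lit 0)))) (.node (.node (.leaf (nat_lit 0)) (.leaf (nat_lit 0))) (.node (.leaf (nat_lit 0)) (.leaf (nat_lit 0)))))) (.node (.node (.node (.node (.node (.leaf (nat_lit 0)) (.leaf (nat_lit 0))) (.leaf (nat_lit 0)))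 (.node (.leaf (nat_lit 0)) (.leaf (nat_lit 0)))) (.node (.node (.leaf (nat_lit 0)) (.leaf (nat_lit 0))) (.node (.leaf (nat_lit 0)) (.leaf (nat_lit 0))))) (.node (.node (.node (.leaf (nat_lit 0)) (.leaf (nat_lit 0))) (.node (.leaf (nat_lit 0)) (.leaf (nat_lit 0)))) (.node (.node (.leaf (nat_lit 0)) (.leaf (nat_lit 0))) (.node (.leaf (nat_lit 0)) (.leaf (nat_lit 0))))))) (.node (.node (.node (.node (.node (.node (.leaf (nat_lit 0)) (.leaf (nat_lit 0))) (.leaf (nat_lit 0))) (.node (.leaf (nat_lit 0)) (.leaf (nat_lit 0)))) (.node (.node (.leaf (nat_lit 0)) (.leaf (nat_lit 0))) (.node (.leaf (nat_lit 0)) (.leaf (nat_lit 0))))) (.node (.node (.node (.leaf (nat_lit 0)) (.leaf (nat_lit 0))) (.node (.leaf (nat_lit 0)) (.leaf (nat_lit 0)))) (.node (.node (.leaf (nat_lit 0)) (.leaf (nat_lit 0))) (.node (.leaf (nat_lit 0)) (.leaf (nat_lit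 0)))))) (.node (.node (.node (.node (.node (.leaf (nat_lit 0)) (.leaf (nat_lit 0))) (.leaf (nat_lit 0))) (.node (.leaf (nat_lit 0)) (.leaf (nat_lit 0)))) (.node (.node (.leaf (nat_lit 0)) (.leaf (nat_lit 0))) (.node (.leaf (nat_lit 0)) (.leaf (nat_lit 0))))) (.node (.node (.node (.leaf (nat_lit 0)) (.leaf (nat_lit 0))) (.node (.leaf (nat_lit 0)) (.leaf (nat_lit 0)))) (.node (.node (.leaf (nat_lit 0)) (.leaf (nat_lit 0))) (.node (.leaf (nat_lit 0)) (.leaf (nat_lit 0)))))))))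

noncomputable def f42_U_t31 : BT :=
(.node (.node (.node (.node (.node (.node (.node (.node (.leaf (nat_lit 0)) (.leaf (nat_lit 0))) (.leaf (nat_lit 0))) (.node (.leaf (nat_lit 0)) (.leaf (nat_lit 0)))) (.node (.node (.leaf (nat_lit 0)) (.leaf (nat_lit 0))) (.node (.leaf (nat_lit 0)) (.leaf (nat_lit 0))))) (.node (.node (.node (.leaf (nat_lit 0)) (.leaf (nat_lit 0))) (.node (.leaf (nat_lit 0)) (.leaf (nat_lit 0)))) (.node (.node (.leaf (nat_lit 0)) (.leaf (nat_lit 0))) (.node (.leaf (nat_lit 0)) (.leaf (nat_lit 0)))))) (.node (.node (.node (.node (.node (.leaf (nat_lit 0)) (.leaf (nat_lit 0))) (.leaf (nat_lit 0))) (.node (.leaf (nat_lit 0)) (.leaf (nat_lit 0)))) (.node (.node (.leaf (nat_lit 0)) (.leaf (nat_lit 0))) (.node (.leaf (nat_lit 0)) (.leaf (nat_lit 0))))) (.node (.node (.node (.leaf (nat_lit 0)) (.leaf (nat_lit 0)))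 (.node (.leaf (nat_lit 0)) (.leaf (nat_lit 0)))) (.node (.node (.leaf (nat_lit 0)) (.leaf (nat_lit 0))) (.node (.leaf (nat_lit 0)) (.leaf (nat_lit 0))))))) (.node (.node (.node (.node (.node (.node (.leaf (nat_lit 0)) (.leaf (nat_lit 0))) (.leaf (nat_lit 0))) (.node (.leaf (nat_lit 0)) (.leaf (nat_lit 0)))) (.node (.node (.leaf (nat_lit 0)) (.leaf (nat_lit 0))) (.node (.leaf (nat_lit 0)) (.leaf (nat_lit 0))))) (.node (.node (.node (.leaf (nat_lit 0)) (.leaf (nat_lit 0))) (.node (.leaf (nat_lit 0)) (.leaf (nat_lit 0)))) (.node (.node (.leaf (nat_lit 0)) (.leaf (nat_lit 0))) (.node (.leaf (nat_lit 0)) (.leaf (nat_lit 0)))))) (.node (.node (.node (.node (.node (.leaf (nat_lit 0)) (.leaf (nat_lit 0))) (.leaf (nat_lit 0))) (.node (.leaf (nat_lit 0)) (.leaf (nat_lit 0)))) (.node (.node (.leaf (nat_lit 0)) (.leaf (nat_lit 0))) (.node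 (.leaf (nat_lit 0)) (.leaf (nat_lit 0))))) (.node (.node (.node (.leaf (nat_lit 0)) (.leaf (nat_lit 0))) (.node (.leaf (nat_lit 0)) (.leaf (nat_lit 0)))) (.node (.node (.leaf (nat_lit 0)) (.leaf (nat_lit 0))) (.node (.leaf (nat_lit 0)) (.leaf (nat_lit 0)))))))) (.node (.node (.node (.node (.node (.node (.node (.leaf (nat_lit 0)) (.leaf (nat_lit 0))) (.leaf (nat_lit 0))) (.node (.leaf (nat_lit 0)) (.leaf (nat_lit 0)))) (.node (.node (.leaf (nat_lit 0)) (.leaf (nat_lit 0))) (.node (.leaf (nat_lit 0)) (.leaf (nat_lit 0))))) (.node (.node (.node (.leaf (nat_lit 0)) (.leaf (nat_lit 0))) (.node (.leaf (nat_lit 0)) (.leaf (nat_lit 0)))) (.node (.node (.leaf (nat_lit 0)) (.leaf (nat_lit 0))) (.node (.leaf (nat_lit 0)) (.leaf (nat_lit 0)))))) (.node (.node (.node (.node (.node (.leaf (nat_lit 0)) (.leaf (nat_lit 0))) (.leaf (nat_lit 0)))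 (.node (.leaf (nat_lit 0)) (.leaf (nat_lit 0)))) (.node (.node (.leaf (nat_lit 0)) (.leaf (nat_lit 0))) (.node (.leaf (nat_lit 0)) (.leaf (nat_lit 0))))) (.node (.node (.node (.leaf (nat_lit 0)) (.leaf (nat_lit 0))) (.node (.leaf (nat_lit 0)) (.leaf (nat_lit 0)))) (.node (.node (.leaf (nat_lit 0)) (.leaf (nat_lit 0))) (.node (.leaf (nat_lit 0)) (.leaf (nat_lit 0))))))) (.node (.node (.node (.node (.node (.node (.leaf (nat_lit 0)) (.leaf (nat_lit 0))) (.leaf (nat_lit 0))) (.node (.leaf (nat_lit 0)) (.leaf (nat_lit 0)))) (.node (.node (.leaf (nat_lit 0)) (.leaf (nat_lit 0))) (.node (.leaf (nat_lit 0)) (.leaf (nat_lit 0))))) (.node (.node (.node (.leaf (nat_lit 0)) (.leaf (nat_lit 0))) (.node (.leaf (nat_lit 0)) (.leaf (nat_lit 0)))) (.node (.node (.leaf (nat_lit 0)) (.leaf (nat_lit 0))) (.node (.leaf (nat_lit 0)) (.leaf (nat_lit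 0)))))) (.node (.node (.node (.node (.node (.leaf (nat_lit 0)) (.leaf (nat_lit 0))) (.leaf (nat_lit 0))) (.node (.leaf (nat_lit 0)) (.leaf (nat_lit 0)))) (.node (.node (.leaf (nat_lit 0)) (.leaf (nat_lit 0))) (.node (.leaf (nat_lit 0)) (.leaf (nat_lit 0))))) (.node (.node (.node (.leaf (nat_lit 0)) (.leaf (nat_lit 0))) (.node (.leaf (nat_lit 0)) (.leaf (nat_lit 0)))) (.node (.node (.leaf (nat_lit 0)) (.leaf (nat_lit 0))) (.node (.leaf (nat_lit 0)) (.leaf (nat_lit 0)))))))))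

noncomputable def f42_U_t : BT :=
(.node (.node (.node (.node (.node f42_U_t0 f42_U_t16) (.node f42_U_t8 f42_U_t24)) (.node (.node f42_U_t4 f42_U_t20) (.node f42_U_t12 f42_U_t28))) (.node (.node (.node f42_U_t2 f42_U_t18) (.node f42_U_t10 f42_U_t26)) (.node (.node f42_U_t6 f42_U_t22) (.node f42_U_t14 f42_U_t30)))) (.node (.node (.node (.node f42_U_t1 f42_U_t17) (.node f42_U_t9 f42_U_t25)) (.node (.node f42_U_t5 f42_U_t21) (.node f42_U_t13 f42_U_t29))) (.node (.node (.node f42_U_t3 f42_U_t19) (.node f42_U_t11 f42_U_t27)) (.node (.node f42_U_t7 f42_U_t23) (.node f42_U_t15 f42_U_t31)))))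

noncomputable def f42_U_rules : LT :=
(.node (.node (.node (.node (.node (.node (.node (.node (.node (.node (.leaf [nat_lit 30,nat_lit 4,nat_lit 1,nat_lit 2,nat_lit 0,nat_lit 6,nat_lit 1,nat_lit 2,nat_lit 0,nat_lit 6,nat_lit 1])
 (.leaf [nat_lit 59,nat_lit 0,nat_lit 1,nat_lit 5,nat_lit 2,nat_lit 5,nat_lit 0,nat_lit 3,nat_lit 6,nat_lit 3,nat_lit 1,nat_lit 2,nat_lit 5,nat_lit 2,nat_lit 0,nat_lit 3,nat_lit 6,nat_lit 3,nat_lit 1])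
) (.node (.leaf [nat_lit 66,nat_lit 12,nat_lit 1,nat_lit 2,nat_lit 5,nat_lit 4,nat_lit 3,nat_lit 1,nat_lit 1,nat_lit 3,nat_lit 2,nat_lit 6,nat_lit 2,nat_lit 3,nat_lit 0,nat_lit 0,nat_lit 3,nat_lit 4,nat_lit 5,nat_lit 2,nat_lit 6])
 (.leaf [nat_lit 62,nat_lit 8,nat_lit 0,nat_lit 4,nat_lit 5,nat_lit 6,nat_lit 4,nat_lit 6,nat_lit 4,nat_lit 5,nat_lit 4,nat_lit 5,nat_lit 6,nat_lit 4,nat_lit 6,nat_lit 5])
)) (.node (.node (.leaf [nat_lit 30,nat_lit 5,nat_lit 1,nat_lit 1,nat_lit 6,nat_lit 1,nat_lit 2,nat_lit 0,nat_lit 6,nat_lit 1,nat_lit 2])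
 (.leaf [nat_lit 24,nat_lit 1,nat_lit 0,nat_lit 2,nat_lit 1,nat_lit 3,nat_lit 0,nat_lit 2,nat_lit 5,nat_lit 1,nat_lit 3,nat_lit 0,nat_lit 5,nat_lit 1,nat_lit 3,nat_lit 0])
) (.node (.leaf [nat_lit 43,nat_lit 3,nat_lit 1,nat_lit 6,nat_lit 5,nat_lit 1,nat_lit 5,nat_lit 0,nat_lit 5,nat_lit 6,nat_lit 5,nat_lit 1,nat_lit 5,nat_lit 0,nat_lit 5])
 (.leaf [nat_lit 58,nat_lit 12,nat_lit 1,nat_lit 6,nat_lit 5,nat_lit 3,nat_lit 1,nat_lit 5,nat_lit 4,nat_lit 0,nat_lit 5,nat_lit 6,nat_lit 5,nat_lit 1,nat_lit 4,nat_lit 5,nat_lit 0,nat_lit 3,nat_lit 5])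
))) (.node (.node (.node (.leaf [nat_lit 39,nat_lit 0,nat_lit 1,nat_lit 6,nat_lit 2,nat_lit 5,nat_lit 3,nat_lit 5,nat_lit 2,nat_lit 6,nat_lit 2,nat_lit 3,nat_lit 5,nat_lit 3,nat_lit 2])
 (.leaf [nat_lit 51,nat_lit 3,nat_lit 1,nat_lit 3,nat_lit 4,nat_lit 5,nat_lit 3,nat_lit 4,nat_lit 6,nat_lit 4,nat_lit 3,nat_lit 5,nat_lit 4,nat_lit 3,nat_lit 5,nat_lit 6,nat_lit 5])
) (.node (.leaf [nat_lit 49,nat_lit 12,nat_lit 1,nat_lit 0,nat_lit 2,nat_lit 0,nat_lit 2,nat_lit 0,nat_lit 5,nat_lit 6,nat_lit 1,nat_lit 2,nat_lit 0,nat_lit 6,nat_lit 5,nat_lit 1])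
 (.leaf [nat_lit 12,nat_lit 4,nat_lit 0,nat_lit 0,nat_lit 3,nat_lit 1,nat_lit 3,nat_lit 0,nat_lit 2,nat_lit 1,nat_lit 3,nat_lit 0,nat_lit 2,nat_lit 3,nat_lit 0,nat_lit 0,nat_lit 3,nat_lit 1])
)) (.node (.node (.leaf [nat_lit 61,nat_lit 4,nat_lit 1,nat_lit 5,nat_lit 2,nat_lit 4,nat_lit 2,nat_lit 5,nat_lit 2,nat_lit 6,nat_lit 2,nat_lit 5,nat_lit 2,nat_lit 4,nat_lit 2,nat_lit 5,nat_lit 4,nat_lit 6,nat_lit 4])
 (.leaf [nat_lit 69,nat_lit 22,nat_lit 0,nat_lit 4,nat_lit 0,nat_lit 4,nat_lit 2,nat_lit 0,nat_lit 3,nat_lit 0,nat_lit 2,nat_lit 1,nat_lit 1,nat_lit 2,nat_lit 1,nat_lit 2,nat_lit 0,nat_lit 0,nat_lit 0,nat_lit 2,nat_lit 1,nat_lit 6,nat_lit 4,nat_lit 1,nat_lit 3,nat_lit 4,nat_lit 6,nat_lit 0,nat_lit 0,nat_lit 5,nat_lit 3,nat_lit 1,nat_lit 6,nat_lit 2,nat_lit 5,nat_lit 2,nat_lit 0,nat_lit 0])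
) (.node (.leaf [nat_lit 47,nat_lit 0,nat_lit 1,nat_lit 6,nat_lit 3,nat_lit 4,nat_lit 5,nat_lit 4,nat_lit 3,nat_lit 6,nat_lit 3,nat_lit 4,nat_lit 5,nat_lit 4,nat_lit 3])
 (.leaf [nat_lit 68,nat_lit 7,nat_lit 0,nat_lit 0,nat_lit 2,nat_lit 1,nat_lit 1,nat_lit 6,nat_lit 4,nat_lit 6,nat_lit 5,nat_lit 1,nat_lit 1,nat_lit 3,nat_lit 6,nat_lit 3,nat_lit 0,nat_lit 0,nat_lit 5,nat_lit 4,nat_lit 0,nat_lit 0,nat_lit 0,nat_lit 2,nat_lit 1,nat_lit 1,nat_lit 3,nat_lit 0,nat_lit 2,nat_lit 0,nat_lit 0,nat_lit 0,nat_lit 2,nat_lit 1,nat_lit 1,nat_lit 2])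
)))) (.node (.node (.node (.node (.leaf [nat_lit 23,nat_lit 0,nat_lit 1,nat_lit 2,nat_lit 0,nat_lit 0,nat_lit 2,nat_lit 5,nat_lit 1,nat_lit 2,nat_lit 0,nat_lit 5,nat_lit 2,nat_lit 1,nat_lit 1])
 (.leaf [nat_lit 5,nat_lit 9,nat_lit 0,nat_lit 1,nat_lit 2,nat_lit 0,nat_lit 0,nat_lit 2,nat_lit 0,nat_lit 2,nat_lit 0,nat_lit 0,nat_lit 2,nat_lit 0,nat_lit 0,nat_lit 2,nat_lit 0,nat_lit 2,nat_lit 0,nat_lit 0,nat_lit 2,nat_lit 0,nat_lit 0,nat_lit 2,nat_lit 0,nat_lit 2,nat_lit 0])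
) (.node (.leaf [nat_lit 68,nat_lit 20,nat_lit 1,nat_lit 4,nat_lit 6,nat_lit 0,nat_lit 0,nat_lit 2,nat_lit 0,nat_lit 2,nat_lit 0,nat_lit 0,nat_lit 2,nat_lit 1,nat_lit 1,nat_lit 1,nat_lit 2,nat_lit 1,nat_lit 3,nat_lit 0,nat_lit 0,nat_lit 2,nat_lit 1,nat_lit 1,nat_lit 1,nat_lit 4,nat_lit 5,nat_lit 1,nat_lit 1,nat_lit 3,nat_lit 6,nat_lit 3,nat_lit 0,nat_lit 0,nat_lit 5,nat_lit 6])
 (.leaf [nat_lit 15,nat_lit 12,nat_lit 1,nat_lit 0,nat_lit 1,nat_lit 2,nat_lit 1,nat_lit 1,nat_lit 1,nat_lit 2,nat_lit 4,nat_lit 3,nat_lit 4,nat_lit 2,nat_lit 1,nat_lit 2,nat_lit 1,nat_lit 3,nat_lit 0,nat_lit 2,nat_lit 1])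
)) (.node (.node (.leaf [nat_lit 8,nat_lit 8,nat_lit 1,nat_lit 2,nat_lit 1,nat_lit 2,nat_lit 0,nat_lit 3,nat_lit 1,nat_lit 2,nat_lit 0,nat_lit 2,nat_lit 3])
 (.leaf [nat_lit 66,nat_lit 17,nat_lit 1,nat_lit 0,nat_lit 3,nat_lit 2,nat_lit 6,nat_lit 2,nat_lit 3,nat_lit 0,nat_lit 0,nat_lit 3,nat_lit 4,nat_lit 5,nat_lit 2,nat_lit 6,nat_lit 2,nat_lit 5,nat_lit 4,nat_lit 3,nat_lit 1])
) (.node (.leaf [nat_lit 28,nat_lit 9,nat_lit 1,nat_lit 4,nat_lit 2,nat_lit 0,nat_lit 2,nat_lit 1,nat_lit 4,nat_lit 5,nat_lit 4,nat_lit 2,nat_lit 0,nat_lit 2,nat_lit 1,nat_lit 4,nat_lit 5])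
 (.leaf [nat_lit 64,nat_lit 7,nat_lit 1,nat_lit 5,nat_lit 6,nat_lit 5,nat_lit 4,nat_lit 6,nat_lit 5,nat_lit 0,nat_lit 2,nat_lit 1,nat_lit 5,nat_lit 6,nat_lit 4,nat_lit 5,nat_lit 6,nat_lit 5,nat_lit 2])
))) (.node (.node (.node (.leaf [nat_lit 11,nat_lit 3,nat_lit 1,nat_lit 3,nat_lit 0,nat_lit 3,nat_lit 2,nat_lit 0,nat_lit 0,nat_lit 0,nat_lit 2,nat_lit 1,nat_lit 1,nat_lit 1,nat_lit 2,nat_lit 3,nat_lit 1])
 (.leaf [nat_lit 12,nat_lit 6,nat_lit 1,nat_lit 0,nat_lit 3,nat_lit 0,nat_lit 3,nat_lit 0,nat_lit 0,nat_lit 3,nat_lit 1,nat_lit 1,nat_lit 3,nat_lit 2,nat_lit 1,nat_lit 3,nat_lit 0,nat_lit 2])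
) (.node (.leaf [nat_lit 16,nat_lit 4,nat_lit 0,nat_lit 0,nat_lit 3,nat_lit 2,nat_lit 1,nat_lit 1,nat_lit 2,nat_lit 0,nat_lit 4,nat_lit 1,nat_lit 1,nat_lit 4,nat_lit 1,nat_lit 4,nat_lit 0,nat_lit 4,nat_lit 3,nat_lit 0,nat_lit 0,nat_lit 0,nat_lit 3])
 (.leaf [nat_lit 57,nat_lit 15,nat_lit 1,nat_lit 0,nat_lit 5,nat_lit 1,nat_lit 6,nat_lit 3,nat_lit 5,nat_lit 0,nat_lit 3,nat_lit 1,nat_lit 5,nat_lit 3,nat_lit 6,nat_lit 0,nat_lit 5,nat_lit 0,nat_lit 3])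
)) (.node (.node (.leaf [nat_lit 53,nat_lit 7,nat_lit 0,nat_lit 3,nat_lit 6,nat_lit 4,nat_lit 2,nat_lit 4,nat_lit 6,nat_lit 3,nat_lit 4,nat_lit 0,nat_lit 3,nat_lit 2,nat_lit 3,nat_lit 1,nat_lit 2,nat_lit 4])
 (.leaf [nat_lit 24,nat_lit 9,nat_lit 0,nat_lit 1,nat_lit 5,nat_lit 1,nat_lit 3,nat_lit 0,nat_lit 2,nat_lit 1,nat_lit 3,nat_lit 0,nat_lit 2,nat_lit 5,nat_lit 1,nat_lit 3])
) (.leaf [nat_lit 62,nat_lit 5,nat_lit 0,nat_lit 4,nat_lit 6,nat_lit 5,nat_lit 4,nat_lit 5,nat_lit 6,nat_lit 4,nat_lit 6,nat_lit 4,nat_lit 5,nat_lit 4,nat_lit 5,nat_lit 6])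
)))) (.node (.node (.node (.node (.node (.leaf [nat_lit 4,nat_lit 2,nat_lit 1,nat_lit 2,nat_lit 0,nat_lit 2,nat_lit 1,nat_lit 1,nat_lit 2,nat_lit 0,nat_lit 0,nat_lit 2,nat_lit 1,nat_lit 1,nat_lit 2,nat_lit 0])
 (.leaf [nat_lit 11,nat_lit 7,nat_lit 1,nat_lit 1,nat_lit 0,nat_lit 0,nat_lit 2,nat_lit 1,nat_lit 1,nat_lit 1,nat_lit 2,nat_lit 3,nat_lit 1,nat_lit 3,nat_lit 0,nat_lit 3,nat_lit 2])
) (.node (.leaf [nat_lit 14,nat_lit 5,nat_lit 1,nat_lit 1,nat_lit 4,nat_lit 2,nat_lit 4,nat_lit 1,nat_lit 2,nat_lit 0,nat_lit 2,nat_lit 4,nat_lit 2,nat_lit 1,nat_lit 1,nat_lit 2,nat_lit 0,nat_lit 3,nat_lit 2,nat_lit 3])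
 (.leaf [nat_lit 63,nat_lit 9,nat_lit 1,nat_lit 2,nat_lit 5,nat_lit 2,nat_lit 0,nat_lit 6,nat_lit 5,nat_lit 1,nat_lit 5,nat_lit 3,nat_lit 2,nat_lit 3,nat_lit 5,nat_lit 0,nat_lit 5,nat_lit 6,nat_lit 1])
)) (.node (.node (.leaf [nat_lit 23,nat_lit 6,nat_lit 1,nat_lit 2,nat_lit 0,nat_lit 5,nat_lit 2,nat_lit 1,nat_lit 1,nat_lit 2,nat_lit 0,nat_lit 0,nat_lit 2,nat_lit 5,nat_lit 1])
 (.leaf [nat_lit 59,nat_lit 8,nat_lit 1,nat_lit 2,nat_lit 5,nat_lit 2,nat_lit 0,nat_lit 3,nat_lit 6,nat_lit 3,nat_lit 1,nat_lit 5,nat_lit 2,nat_lit 5,nat_lit 0,nat_lit 3,nat_lit 6,nat_lit 3,nat_lit 1])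
) (.node (.leaf [nat_lit 46,nat_lit 5,nat_lit 1,nat_lit 2,nat_lit 6,nat_lit 4,nat_lit 6,nat_lit 2,nat_lit 5,nat_lit 2,nat_lit 6,nat_lit 4,nat_lit 6,nat_lit 2,nat_lit 5])
 (.leaf [nat_lit 53,nat_lit 8,nat_lit 0,nat_lit 6,nat_lit 4,nat_lit 2,nat_lit 4,nat_lit 6,nat_lit 3,nat_lit 4,nat_lit 0,nat_lit 3,nat_lit 2,nat_lit 3,nat_lit 1,nat_lit 2,nat_lit 4,nat_lit 3])
))) (.node (.node (.node (.leaf [nat_lit 51,nat_lit 6,nat_lit 1,nat_lit 3,nat_lit 4,nat_lit 6,nat_lit 4,nat_lit 3,nat_lit 5,nat_lit 4,nat_lit 3,nat_lit 5,nat_lit 6,nat_lit 5,nat_lit 3,nat_lit 4,nat_lit 5])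
 (.leaf [nat_lit 53,nat_lit 11,nat_lit 0,nat_lit 4,nat_lit 6,nat_lit 3,nat_lit 4,nat_lit 0,nat_lit 3,nat_lit 2,nat_lit 3,nat_lit 1,nat_lit 2,nat_lit 4,nat_lit 3,nat_lit 6,nat_lit 4,nat_lit 2])
) (.node (.leaf [nat_lit 10,nat_lit 11,nat_lit 1,nat_lit 0,nat_lit 1,nat_lit 1,nat_lit 3,nat_lit 2,nat_lit 3,nat_lit 0,nat_lit 0,nat_lit 0,nat_lit 2,nat_lit 1,nat_lit 3,nat_lit 0,nat_lit 2])
 (.leaf [nat_lit 18,nat_lit 18,nat_lit 1,nat_lit 0,nat_lit 2,nat_lit 1,nat_lit 1,nat_lit 1,nat_lit 2,nat_lit 1,nat_lit 4,nat_lit 2,nat_lit 4,nat_lit 0,nat_lit 2,nat_lit 0,nat_lit 4,nat_lit 1,nat_lit 3,nat_lit 2,nat_lit 3,nat_lit 1,nat_lit 2,nat_lit 1,nat_lit 1,nat_lit 2])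
)) (.node (.node (.leaf [nat_lit 17,nat_lit 20,nat_lit 0,nat_lit 4,nat_lit 0,nat_lit 0,nat_lit 2,nat_lit 0,nat_lit 2,nat_lit 0,nat_lit 3,nat_lit 0,nat_lit 2,nat_lit 1,nat_lit 2,nat_lit 3,nat_lit 4,nat_lit 0,nat_lit 2,nat_lit 1,nat_lit 1,nat_lit 3,nat_lit 0,nat_lit 0])
 (.leaf [nat_lit 49,nat_lit 2,nat_lit 1,nat_lit 2,nat_lit 0,nat_lit 5,nat_lit 6,nat_lit 1,nat_lit 2,nat_lit 0,nat_lit 6,nat_lit 5,nat_lit 1,nat_lit 1,nat_lit 2,nat_lit 0])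
) (.node (.leaf [nat_lit 14,nat_lit 8,nat_lit 0,nat_lit 4,nat_lit 2,nat_lit 4,nat_lit 1,nat_lit 3,nat_lit 2,nat_lit 3,nat_lit 1,nat_lit 2,nat_lit 0,nat_lit 0,nat_lit 2,nat_lit 4,nat_lit 2,nat_lit 1,nat_lit 2,nat_lit 0])
 (.leaf [nat_lit 69,nat_lit 4,nat_lit 0,nat_lit 0,nat_lit 6,nat_lit 4,nat_lit 1,nat_lit 3,nat_lit 4,nat_lit 6,nat_lit 0,nat_lit 0,nat_lit 5,nat_lit 3,nat_lit 1,nat_lit 6,nat_lit 2,nat_lit 5,nat_lit 2,nat_lit 0,nat_lit 0,nat_lit 4,nat_lit 0,nat_lit 4,nat_lit 2,nat_lit 0,nat_lit 3,nat_lit 0,nat_lit 2,nat_lit 1,nat_lit 1,nat_lit 2,nat_lit 1,nat_lit 2,nat_lit 0,nat_lit 0,nat_lit 0,nat_lit 2])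
)))) (.node (.node (.node (.node (.leaf [nat_lit 55,nat_lit 1,nat_lit 1,nat_lit 2,nat_lit 1,nat_lit 3,nat_lit 0,nat_lit 6,nat_lit 1,nat_lit 3,nat_lit 0,nat_lit 2,nat_lit 3,nat_lit 0,nat_lit 0,nat_lit 6,nat_lit 1,nat_lit 1,nat_lit 3])
 (.leaf [nat_lit 58,nat_lit 0,nat_lit 1,nat_lit 5,nat_lit 4,nat_lit 0,nat_lit 5,nat_lit 6,nat_lit 5,nat_lit 1,nat_lit 4,nat_lit 5,nat_lit 0,nat_lit 3,nat_lit 5,nat_lit 6,nat_lit 5,nat_lit 3,nat_lit 1])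
) (.node (.leaf [nat_lit 10,nat_lit 3,nat_lit 1,nat_lit 1,nat_lit 0,nat_lit 0,nat_lit 2,nat_lit 1,nat_lit 3,nat_lit 0,nat_lit 2,nat_lit 1,nat_lit 1,nat_lit 1,nat_lit 3,nat_lit 2,nat_lit 3])
 (.leaf [nat_lit 40,nat_lit 3,nat_lit 1,nat_lit 1,nat_lit 2,nat_lit 1,nat_lit 4,nat_lit 6,nat_lit 4,nat_lit 0,nat_lit 2,nat_lit 1,nat_lit 4,nat_lit 6,nat_lit 4])
)) (.node (.node (.leaf [nat_lit 56,nat_lit 3,nat_lit 1,nat_lit 1,nat_lit 2,nat_lit 3,nat_lit 4,nat_lit 0,nat_lit 3,nat_lit 6,nat_lit 3,nat_lit 1,nat_lit 4,nat_lit 3,nat_lit 2,nat_lit 1,nat_lit 5,nat_lit 6,nat_lit 5])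
 (.leaf [nat_lit 12,nat_lit 14,nat_lit 0,nat_lit 3,nat_lit 0,nat_lit 0,nat_lit 3,nat_lit 1,nat_lit 1,nat_lit 3,nat_lit 1,nat_lit 3,nat_lit 0,nat_lit 2,nat_lit 1,nat_lit 3,nat_lit 0,nat_lit 2])
) (.node (.leaf [nat_lit 66,nat_lit 5,nat_lit 1,nat_lit 1,nat_lit 0,nat_lit 3,nat_lit 4,nat_lit 5,nat_lit 2,nat_lit 6,nat_lit 2,nat_lit 5,nat_lit 4,nat_lit 3,nat_lit 1,nat_lit 1,nat_lit 3,nat_lit 2,nat_lit 6,nat_lit 2,nat_lit 3])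
 (.leaf [nat_lit 69,nat_lit 13,nat_lit 1,nat_lit 0,nat_lit 1,nat_lit 2,nat_lit 5,nat_lit 2,nat_lit 6,nat_lit 0,nat_lit 3,nat_lit 5,nat_lit 1,nat_lit 1,nat_lit 6,nat_lit 4,nat_lit 3,nat_lit 0,nat_lit 4,nat_lit 6,nat_lit 0,nat_lit 2,nat_lit 1,nat_lit 1,nat_lit 1,nat_lit 2,nat_lit 0,nat_lit 2,nat_lit 0,nat_lit 0,nat_lit 2,nat_lit 1,nat_lit 3,nat_lit 1,nat_lit 2,nat_lit 4,nat_lit 1,nat_lit 4])
))) (.node (.node (.node (.leaf [nat_lit 43,nat_lit 8,nat_lit 1,nat_lit 5,nat_lit 6,nat_lit 5,nat_lit 1,nat_lit 5,nat_lit 0,nat_lit 5,nat_lit 6,nat_lit 5,nat_lit 1,nat_lit 5,nat_lit 0])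
 (.leaf [nat_lit 54,nat_lit 7,nat_lit 1,nat_lit 2,nat_lit 5,nat_lit 2,nat_lit 5,nat_lit 2,nat_lit 6,nat_lit 5,nat_lit 6,nat_lit 5,nat_lit 6,nat_lit 5,nat_lit 6])
) (.node (.leaf [nat_lit 18,nat_lit 9,nat_lit 1,nat_lit 0,nat_lit 3,nat_lit 2,nat_lit 3,nat_lit 1,nat_lit 2,nat_lit 1,nat_lit 1,nat_lit 2,nat_lit 1,nat_lit 2,nat_lit 1,nat_lit 1,nat_lit 1,nat_lit 2,nat_lit 1,nat_lit 4,nat_lit 2,nat_lit 4,nat_lit 0,nat_lit 2,nat_lit 0,nat_lit 4])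
 (.leaf [nat_lit 18,nat_lit 0,nat_lit 1,nat_lit 2,nat_lit 1,nat_lit 4,nat_lit 2,nat_lit 4,nat_lit 0,nat_lit 2,nat_lit 0,nat_lit 4,nat_lit 1,nat_lit 3,nat_lit 2,nat_lit 3,nat_lit 1,nat_lit 2,nat_lit 1,nat_lit 1,nat_lit 2,nat_lit 1,nat_lit 2,nat_lit 1,nat_lit 1,nat_lit 1])
)) (.node (.node (.leaf [nat_lit 22,nat_lit 6,nat_lit 1,nat_lit 0,nat_lit 5,nat_lit 3,nat_lit 0,nat_lit 5,nat_lit 0,nat_lit 3,nat_lit 1,nat_lit 5,nat_lit 1,nat_lit 3,nat_lit 5,nat_lit 0,nat_lit 3])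
 (.leaf [nat_lit 68,nat_lit 14,nat_lit 1,nat_lit 6,nat_lit 3,nat_lit 0,nat_lit 0,nat_lit 5,nat_lit 6,nat_lit 4,nat_lit 6,nat_lit 0,nat_lit 0,nat_lit 2,nat_lit 0,nat_lit 2,nat_lit 0,nat_lit 0,nat_lit 2,nat_lit 1,nat_lit 1,nat_lit 1,nat_lit 2,nat_lit 1,nat_lit 3,nat_lit 0,nat_lit 0,nat_lit 2,nat_lit 1,nat_lit 1,nat_lit 1,nat_lit 4,nat_lit 5,nat_lit 1,nat_lit 1,nat_lit 3])
) (.leaf [nat_lit 49,nat_lit 5,nat_lit 0,nat_lit 2,nat_lit 0,nat_lit 6,nat_lit 5,nat_lit 1,nat_lit 2,nat_lit 1,nat_lit 2,nat_lit 0,nat_lit 0,nat_lit 5,nat_lit 6,nat_lit 1])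
))))) (.node (.node (.node (.node (.node (.node (.leaf [nat_lit 11,nat_lit 13,nat_lit 1,nat_lit 0,nat_lit 2,nat_lit 3,nat_lit 1,nat_lit 3,nat_lit 0,nat_lit 3,nat_lit 2,nat_lit 0,nat_lit 0,nat_lit 0,nat_lit 2,nat_lit 1,nat_lit 1])
 (.leaf [nat_lit 49,nat_lit 1,nat_lit 1,nat_lit 1,nat_lit 2,nat_lit 0,nat_lit 5,nat_lit 6,nat_lit 1,nat_lit 2,nat_lit 0,nat_lit 6,nat_lit 5,nat_lit 1,nat_lit 1,nat_lit 2])
) (.node (.leaf [nat_lit 66,nat_lit 15,nat_lit 1,nat_lit 3,nat_lit 1,nat_lit 1,nat_lit 3,nat_lit 2,nat_lit 6,nat_lit 2,nat_lit 3,nat_lit 0,nat_lit 0,nat_lit 3,nat_lit 4,nat_lit 5,nat_lit 2,nat_lit 6,nat_lit 2,nat_lit 5,nat_lit 4])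
 (.leaf [nat_lit 18,nat_lit 3,nat_lit 0,nat_lit 2,nat_lit 0,nat_lit 2,nat_lit 0,nat_lit 0,nat_lit 2,nat_lit 0,nat_lit 3,nat_lit 2,nat_lit 3,nat_lit 0,nat_lit 4,nat_lit 1,nat_lit 2,nat_lit 1,nat_lit 4,nat_lit 2,nat_lit 4,nat_lit 0,nat_lit 2,nat_lit 0,nat_lit 0,nat_lit 0])
)) (.node (.node (.leaf [nat_lit 8,nat_lit 5,nat_lit 1,nat_lit 1,nat_lit 2,nat_lit 3,nat_lit 2,nat_lit 1,nat_lit 2,nat_lit 0,nat_lit 3,nat_lit 1,nat_lit 2])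
 (.leaf [nat_lit 22,nat_lit 8,nat_lit 1,nat_lit 3,nat_lit 0,nat_lit 5,nat_lit 0,nat_lit 3,nat_lit 1,nat_lit 5,nat_lit 1,nat_lit 3,nat_lit 5,nat_lit 0,nat_lit 3,nat_lit 1,nat_lit 5])
) (.node (.leaf [nat_lit 38,nat_lit 10,nat_lit 1,nat_lit 3,nat_lit 2,nat_lit 3,nat_lit 4,nat_lit 6,nat_lit 4,nat_lit 3,nat_lit 2,nat_lit 3,nat_lit 4,nat_lit 6,nat_lit 4])
 (.leaf [nat_lit 64,nat_lit 12,nat_lit 1,nat_lit 5,nat_lit 0,nat_lit 2,nat_lit 1,nat_lit 5,nat_lit 6,nat_lit 4,nat_lit 5,nat_lit 6,nat_lit 5,nat_lit 2,nat_lit 5,nat_lit 6,nat_lit 5,nat_lit 4,nat_lit 6])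
))) (.node (.node (.node (.leaf [nat_lit 42,nat_lit 10,nat_lit 1,nat_lit 5,nat_lit 1,nat_lit 6,nat_lit 2,nat_lit 6,nat_lit 0,nat_lit 5,nat_lit 1,nat_lit 6,nat_lit 2,nat_lit 6,nat_lit 0])
 (.leaf [nat_lit 50,nat_lit 9,nat_lit 1,nat_lit 5,nat_lit 4,nat_lit 0,nat_lit 3,nat_lit 1,nat_lit 6,nat_lit 0,nat_lit 3,nat_lit 1,nat_lit 4,nat_lit 5,nat_lit 3,nat_lit 6,nat_lit 3])
) (.node (.leaf [nat_lit 60,nat_lit 5,nat_lit 1,nat_lit 3,nat_lit 5,nat_lit 1,nat_lit 5,nat_lit 0,nat_lit 5,nat_lit 2,nat_lit 6,nat_lit 2,nat_lit 5,nat_lit 1,nat_lit 5,nat_lit 0,nat_lit 5,nat_lit 3,nat_lit 6])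
 (.leaf [nat_lit 67,nat_lit 0,nat_lit 1,nat_lit 6,nat_lit 0,nat_lit 0,nat_lit 4,nat_lit 1,nat_lit 1,nat_lit 4,nat_lit 2,nat_lit 5,nat_lit 6,nat_lit 5,nat_lit 2,nat_lit 4,nat_lit 0,nat_lit 0,nat_lit 4,nat_lit 1,nat_lit 1])
)) (.node (.node (.leaf [nat_lit 59,nat_lit 4,nat_lit 1,nat_lit 3,nat_lit 6,nat_lit 3,nat_lit 1,nat_lit 2,nat_lit 5,nat_lit 2,nat_lit 0,nat_lit 3,nat_lit 6,nat_lit 3,nat_lit 1,nat_lit 5,nat_lit 2,nat_lit 5,nat_lit 0])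
 (.leaf [nat_lit 66,nat_lit 13,nat_lit 1,nat_lit 5,nat_lit 4,nat_lit 3,nat_lit 1,nat_lit 1,nat_lit 3,nat_lit 2,nat_lit 6,nat_lit 2,nat_lit 3,nat_lit 0,nat_lit 0,nat_lit 3,nat_lit 4,nat_lit 5,nat_lit 2,nat_lit 6,nat_lit 2])
) (.node (.leaf [nat_lit 23,nat_lit 9,nat_lit 1,nat_lit 2,nat_lit 1,nat_lit 1,nat_lit 2,nat_lit 0,nat_lit 0,nat_lit 2,nat_lit 5,nat_lit 1,nat_lit 2,nat_lit 0,nat_lit 5])
 (.leaf [nat_lit 68,nat_lit 0,nat_lit 0,nat_lit 1,nat_lit 0,nat_lit 0,nat_lit 2,nat_lit 1,nat_lit 1,nat_lit 2,nat_lit 1,nat_lit 2,nat_lit 1,nat_lit 1,nat_lit 6,nat_lit 4,nat_lit 6,nat_lit 5,nat_lit 1,nat_lit 1,nat_lit 3,nat_lit 6,nat_lit 3,nat_lit 0,nat_lit 0,nat_lit 5,nat_lit 4,nat_lit 0,nat_lit 0,nat_lit 0,nat_lit 2,nat_lit 1,nat_lit 1,nat_lit 3,nat_lit 0,nat_lit 2])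
)))) (.node (.node (.node (.node (.leaf [nat_lit 57,nat_lit 14,nat_lit 1,nat_lit 3,nat_lit 1,nat_lit 5,nat_lit 1,nat_lit 6,nat_lit 3,nat_lit 5,nat_lit 0,nat_lit 3,nat_lit 1,nat_lit 5,nat_lit 3,nat_lit 6,nat_lit 0,nat_lit 5,nat_lit 0])
 (.leaf [nat_lit 27,nat_lit 12,nat_lit 1,nat_lit 3,nat_lit 1,nat_lit 5,nat_lit 0,nat_lit 3,nat_lit 0,nat_lit 5,nat_lit 2,nat_lit 4,nat_lit 3,nat_lit 4,nat_lit 2,nat_lit 5,nat_lit 1])
) (.node (.leaf [nat_lit 48,nat_lit 10,nat_lit 1,nat_lit 4,nat_lit 3,nat_lit 4,nat_lit 5,nat_lit 6,nat_lit 5,nat_lit 4,nat_lit 3,nat_lit 4,nat_lit 5,nat_lit 6,nat_lit 5])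
 (.leaf [nat_lit 15,nat_lit 10,nat_lit 1,nat_lit 2,nat_lit 1,nat_lit 1,nat_lit 1,nat_lit 2,nat_lit 1,nat_lit 1,nat_lit 1,nat_lit 2,nat_lit 4,nat_lit 3,nat_lit 4,nat_lit 2,nat_lit 1,nat_lit 2,nat_lit 1,nat_lit 3,nat_lit 0])
)) (.node (.node (.leaf [nat_lit 16,nat_lit 2,nat_lit 1,nat_lit 0,nat_lit 4,nat_lit 0,nat_lit 4,nat_lit 0,nat_lit 0,nat_lit 4,nat_lit 1,nat_lit 2,nat_lit 0,nat_lit 0,nat_lit 2,nat_lit 3,nat_lit 0,nat_lit 3,nat_lit 1,nat_lit 1,nat_lit 1,nat_lit 3,nat_lit 4])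
 (.leaf [nat_lit 15,nat_lit 5,nat_lit 0,nat_lit 1,nat_lit 0,nat_lit 2,nat_lit 1,nat_lit 3,nat_lit 0,nat_lit 2,nat_lit 0,nat_lit 2,nat_lit 4,nat_lit 3,nat_lit 4,nat_lit 2,nat_lit 0,nat_lit 0,nat_lit 0,nat_lit 2,nat_lit 0])
) (.node (.leaf [nat_lit 23,nat_lit 10,nat_lit 1,nat_lit 0,nat_lit 1,nat_lit 2,nat_lit 0,nat_lit 0,nat_lit 2,nat_lit 5,nat_lit 1,nat_lit 2,nat_lit 0,nat_lit 5,nat_lit 2])
 (.leaf [nat_lit 49,nat_lit 3,nat_lit 0,nat_lit 6,nat_lit 1,nat_lit 2,nat_lit 0,nat_lit 6,nat_lit 5,nat_lit 1,nat_lit 2,nat_lit 1,nat_lit 2,nat_lit 0,nat_lit 0,nat_lit 5])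
))) (.node (.node (.node (.leaf [nat_lit 58,nat_lit 8,nat_lit 1,nat_lit 5,nat_lit 0,nat_lit 3,nat_lit 5,nat_lit 6,nat_lit 5,nat_lit 3,nat_lit 1,nat_lit 5,nat_lit 4,nat_lit 0,nat_lit 5,nat_lit 6,nat_lit 5,nat_lit 1,nat_lit 4])
 (.leaf [nat_lit 53,nat_lit 14,nat_lit 0,nat_lit 4,nat_lit 0,nat_lit 3,nat_lit 2,nat_lit 3,nat_lit 1,nat_lit 2,nat_lit 4,nat_lit 3,nat_lit 6,nat_lit 4,nat_lit 2,nat_lit 4,nat_lit 6,nat_lit 3])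
) (.node (.leaf [nat_lit 24,nat_lit 6,nat_lit 0,nat_lit 5,nat_lit 1,nat_lit 3,nat_lit 0,nat_lit 5,nat_lit 1,nat_lit 3,nat_lit 0,nat_lit 2,nat_lit 1,nat_lit 3,nat_lit 0,nat_lit 2])
 (.leaf [nat_lit 62,nat_lit 10,nat_lit 0,nat_lit 6,nat_lit 4,nat_lit 6,nat_lit 4,nat_lit 5,nat_lit 4,nat_lit 5,nat_lit 6,nat_lit 4,nat_lit 6,nat_lit 5,nat_lit 4,nat_lit 5])
)) (.node (.node (.leaf [nat_lit 55,nat_lit 7,nat_lit 1,nat_lit 3,nat_lit 0,nat_lit 2,nat_lit 3,nat_lit 0,nat_lit 0,nat_lit 6,nat_lit 1,nat_lit 1,nat_lit 3,nat_lit 2,nat_lit 1,nat_lit 3,nat_lit 0,nat_lit 6,nat_lit 1])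
 (.leaf [nat_lit 60,nat_lit 2,nat_lit 1,nat_lit 5,nat_lit 3,nat_lit 6,nat_lit 3,nat_lit 5,nat_lit 1,nat_lit 5,nat_lit 0,nat_lit 5,nat_lit 2,nat_lit 6,nat_lit 2,nat_lit 5,nat_lit 1,nat_lit 5,nat_lit 0])
) (.leaf [nat_lit 5,nat_lit 7,nat_lit 0,nat_lit 2,nat_lit 0,nat_lit 0,nat_lit 2,nat_lit 0,nat_lit 0,nat_lit 2,nat_lit 0,nat_lit 2,nat_lit 0,nat_lit 0,nat_lit 2,nat_lit 0,nat_lit 0,nat_lit 2,nat_lit 0,nat_lit 2,nat_lit 0,nat_lit 0,nat_lit 2,nat_lit 0,nat_lit 0,nat_lit 2,nat_lit 0])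
)))) (.node (.node (.node (.node (.node (.leaf [nat_lit 41,nat_lit 10,nat_lit 1,nat_lit 3,nat_lit 1,nat_lit 5,nat_lit 6,nat_lit 5,nat_lit 0,nat_lit 3,nat_lit 1,nat_lit 5,nat_lit 6,nat_lit 5,nat_lit 0])
 (.leaf [nat_lit 53,nat_lit 4,nat_lit 0,nat_lit 0,nat_lit 2,nat_lit 4,nat_lit 3,nat_lit 6,nat_lit 4,nat_lit 2,nat_lit 4,nat_lit 6,nat_lit 3,nat_lit 4,nat_lit 0,nat_lit 3,nat_lit 2,nat_lit 3])
) (.node (.leaf [nat_lit 10,nat_lit 7,nat_lit 1,nat_lit 0,nat_lit 3,nat_lit 0,nat_lit 2,nat_lit 1,nat_lit 1,nat_lit 1,nat_lit 3,nat_lit 2,nat_lit 3,nat_lit 0,nat_lit 0,nat_lit 0,nat_lit 2])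
 (.leaf [nat_lit 60,nat_lit 4,nat_lit 1,nat_lit 6,nat_lit 3,nat_lit 5,nat_lit 1,nat_lit 5,nat_lit 0,nat_lit 5,nat_lit 2,nat_lit 6,nat_lit 2,nat_lit 5,nat_lit 1,nat_lit 5,nat_lit 0,nat_lit 5,nat_lit 3])
)) (.node (.node (.leaf [nat_lit 39,nat_lit 4,nat_lit 1,nat_lit 5,nat_lit 2,nat_lit 6,nat_lit 2,nat_lit 3,nat_lit 5,nat_lit 3,nat_lit 2,nat_lit 6,nat_lit 2,nat_lit 5,nat_lit 3])
 (.leaf [nat_lit 55,nat_lit 4,nat_lit 1,nat_lit 1,nat_lit 6,nat_lit 1,nat_lit 3,nat_lit 0,nat_lit 2,nat_lit 3,nat_lit 0,nat_lit 0,nat_lit 6,nat_lit 1,nat_lit 1,nat_lit 3,nat_lit 2,nat_lit 1,nat_lit 3])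
) (.node (.leaf [nat_lit 17,nat_lit 10,nat_lit 1,nat_lit 2,nat_lit 0,nat_lit 2,nat_lit 1,nat_lit 3,nat_lit 1,nat_lit 2,nat_lit 1,nat_lit 2,nat_lit 1,nat_lit 1,nat_lit 4,nat_lit 1,nat_lit 1,nat_lit 3,nat_lit 0,nat_lit 0,nat_lit 2,nat_lit 1,nat_lit 4,nat_lit 3])
 (.leaf [nat_lit 15,nat_lit 9,nat_lit 1,nat_lit 1,nat_lit 2,nat_lit 1,nat_lit 1,nat_lit 1,nat_lit 2,nat_lit 1,nat_lit 1,nat_lit 1,nat_lit 2,nat_lit 4,nat_lit 3,nat_lit 4,nat_lit 2,nat_lit 1,nat_lit 2,nat_lit 1,nat_lit 3])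
))) (.node (.node (.node (.leaf [nat_lit 32,nat_lit 5,nat_lit 1,nat_lit 1,nat_lit 6,nat_lit 1,nat_lit 5,nat_lit 0,nat_lit 6,nat_lit 1,nat_lit 5])
 (.leaf [nat_lit 16,nat_lit 1,nat_lit 0,nat_lit 1,nat_lit 0,nat_lit 3,nat_lit 1,nat_lit 3,nat_lit 2,nat_lit 1,nat_lit 1,nat_lit 2,nat_lit 0,nat_lit 4,nat_lit 1,nat_lit 1,nat_lit 4,nat_lit 1,nat_lit 4,nat_lit 0,nat_lit 4,nat_lit 3,nat_lit 0])
) (.node (.leaf [nat_lit 11,nat_lit 2,nat_lit 1,nat_lit 0,nat_lit 3,nat_lit 0,nat_lit 3,nat_lit 2,nat_lit 0,nat_lit 0,nat_lit 0,nat_lit 2,nat_lit 1,nat_lit 1,nat_lit 1,nat_lit 2,nat_lit 3])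
 (.leaf [nat_lit 65,nat_lit 6,nat_lit 1,nat_lit 5,nat_lit 0,nat_lit 3,nat_lit 6,nat_lit 3,nat_lit 1,nat_lit 5,nat_lit 3,nat_lit 4,nat_lit 5,nat_lit 2,nat_lit 1,nat_lit 6,nat_lit 0,nat_lit 2,nat_lit 5,nat_lit 4,nat_lit 3])
)) (.node (.node (.leaf [nat_lit 56,nat_lit 10,nat_lit 1,nat_lit 3,nat_lit 1,nat_lit 4,nat_lit 3,nat_lit 2,nat_lit 1,nat_lit 5,nat_lit 6,nat_lit 5,nat_lit 0,nat_lit 2,nat_lit 3,nat_lit 4,nat_lit 0,nat_lit 3,nat_lit 6])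
 (.leaf [nat_lit 18,nat_lit 1,nat_lit 0,nat_lit 1,nat_lit 0,nat_lit 2,nat_lit 0,nat_lit 2,nat_lit 0,nat_lit 0,nat_lit 2,nat_lit 0,nat_lit 3,nat_lit 2,nat_lit 3,nat_lit 0,nat_lit 4,nat_lit 1,nat_lit 2,nat_lit 1,nat_lit 4,nat_lit 2,nat_lit 4,nat_lit 0,nat_lit 2,nat_lit 0])
) (.leaf [nat_lit 63,nat_lit 12,nat_lit 1,nat_lit 1,nat_lit 6,nat_lit 5,nat_lit 1,nat_lit 5,nat_lit 3,nat_lit 2,nat_lit 3,nat_lit 5,nat_lit 0,nat_lit 5,nat_lit 6,nat_lit 1,nat_lit 2,nat_lit 5,nat_lit 2])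
))) (.node (.node (.node (.node (.leaf [nat_lit 23,nat_lit 7,nat_lit 1,nat_lit 1,nat_lit 5,nat_lit 2,nat_lit 1,nat_lit 1,nat_lit 2,nat_lit 0,nat_lit 0,nat_lit 2,nat_lit 5,nat_lit 1,nat_lit 2])
 (.leaf [nat_lit 60,nat_lit 14,nat_lit 1,nat_lit 5,nat_lit 1,nat_lit 5,nat_lit 0,nat_lit 5,nat_lit 3,nat_lit 6,nat_lit 3,nat_lit 5,nat_lit 1,nat_lit 5,nat_lit 0,nat_lit 5,nat_lit 2,nat_lit 6,nat_lit 2])
) (.node (.leaf [nat_lit 4,nat_lit 10,nat_lit 1,nat_lit 2,nat_lit 1,nat_lit 1,nat_lit 2,nat_lit 0,nat_lit 2,nat_lit 0,nat_lit 2,nat_lit 1,nat_lit 1,nat_lit 2,nat_lit 0,nat_lit 0])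
 (.leaf [nat_lit 68,nat_lit 11,nat_lit 1,nat_lit 0,nat_lit 1,nat_lit 3,nat_lit 6,nat_lit 3,nat_lit 0,nat_lit 0,nat_lit 5,nat_lit 6,nat_lit 4,nat_lit 6,nat_lit 0,nat_lit 0,nat_lit 2,nat_lit 0,nat_lit 2,nat_lit 0,nat_lit 0,nat_lit 2,nat_lit 1,nat_lit 1,nat_lit 1,nat_lit 2,nat_lit 1,nat_lit 3,nat_lit 0,nat_lit 0,nat_lit 2,nat_lit 1,nat_lit 1,nat_lit 1,nat_lit 4,nat_lit 5])
)) (.node (.node (.leaf [nat_lit 45,nat_lit 10,nat_lit 1,nat_lit 4,nat_lit 2,nat_lit 4,nat_lit 5,nat_lit 6,nat_lit 5,nat_lit 4,nat_lit 2,nat_lit 4,nat_lit 5,nat_lit 6,nat_lit 5])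
 (.leaf [nat_lit 4,nat_lit 1,nat_lit 1,nat_lit 1,nat_lit 2,nat_lit 0,nat_lit 2,nat_lit 1,nat_lit 1,nat_lit 2,nat_lit 0,nat_lit 0,nat_lit 2,nat_lit 1,nat_lit 1,nat_lit 2])
) (.node (.leaf [nat_lit 59,nat_lit 2,nat_lit 1,nat_lit 5,nat_lit 0,nat_lit 3,nat_lit 6,nat_lit 3,nat_lit 1,nat_lit 2,nat_lit 5,nat_lit 2,nat_lit 0,nat_lit 3,nat_lit 6,nat_lit 3,nat_lit 1,nat_lit 5,nat_lit 2])
 (.leaf [nat_lit 18,nat_lit 5,nat_lit 0,nat_lit 2,nat_lit 0,nat_lit 0,nat_lit 2,nat_lit 0,nat_lit 3,nat_lit 2,nat_lit 3,nat_lit 0,nat_lit 4,nat_lit 1,nat_lit 2,nat_lit 1,nat_lit 4,nat_lit 2,nat_lit 4,nat_lit 0,nat_lit 2,nat_lit 0,nat_lit 0,nat_lit 0,nat_lit 2,nat_lit 0])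
))) (.node (.node (.node (.leaf [nat_lit 17,nat_lit 2,nat_lit 1,nat_lit 0,nat_lit 3,nat_lit 0,nat_lit 0,nat_lit 2,nat_lit 1,nat_lit 4,nat_lit 3,nat_lit 2,nat_lit 0,nat_lit 2,nat_lit 1,nat_lit 3,nat_lit 1,nat_lit 2,nat_lit 1,nat_lit 2,nat_lit 1,nat_lit 1,nat_lit 4,nat_lit 1])
 (.leaf [nat_lit 18,nat_lit 16,nat_lit 0,nat_lit 2,nat_lit 1,nat_lit 4,nat_lit 2,nat_lit 4,nat_lit 0,nat_lit 2,nat_lit 0,nat_lit 0,nat_lit 0,nat_lit 2,nat_lit 0,nat_lit 2,nat_lit 0,nat_lit 0,nat_lit 2,nat_lit 0,nat_lit 3,nat_lit 2,nat_lit 3,nat_lit 0,nat_lit 4,nat_lit 1])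
) (.node (.leaf [nat_lit 66,nat_lit 3,nat_lit 1,nat_lit 2,nat_lit 3,nat_lit 0,nat_lit 0,nat_lit 3,nat_lit 4,nat_lit 5,nat_lit 2,nat_lit 6,nat_lit 2,nat_lit 5,nat_lit 4,nat_lit 3,nat_lit 1,nat_lit 1,nat_lit 3,nat_lit 2,nat_lit 6])
 (.leaf [nat_lit 63,nat_lit 14,nat_lit 1,nat_lit 5,nat_lit 1,nat_lit 5,nat_lit 3,nat_lit 2,nat_lit 3,nat_lit 5,nat_lit 0,nat_lit 5,nat_lit 6,nat_lit 1,nat_lit 2,nat_lit 5,nat_lit 2,nat_lit 0,nat_lit 6])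
)) (.node (.node (.leaf [nat_lit 15,nat_lit 14,nat_lit 0,nat_lit 4,nat_lit 3,nat_lit 4,nat_lit 2,nat_lit 0,nat_lit 0,nat_lit 0,nat_lit 2,nat_lit 0,nat_lit 0,nat_lit 0,nat_lit 2,nat_lit 1,nat_lit 3,nat_lit 0,nat_lit 2,nat_lit 0,nat_lit 2])
 (.leaf [nat_lit 58,nat_lit 2,nat_lit 1,nat_lit 1,nat_lit 5,nat_lit 6,nat_lit 5,nat_lit 1,nat_lit 4,nat_lit 5,nat_lit 0,nat_lit 3,nat_lit 5,nat_lit 6,nat_lit 5,nat_lit 3,nat_lit 1,nat_lit 5,nat_lit 4])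
) (.leaf [nat_lit 66,nat_lit 2,nat_lit 1,nat_lit 6,nat_lit 2,nat_lit 3,nat_lit 0,nat_lit 0,nat_lit 3,nat_lit 4,nat_lit 5,nat_lit 2,nat_lit 6,nat_lit 2,nat_lit 5,nat_lit 4,nat_lit 3,nat_lit 1,nat_lit 1,nat_lit 3,nat_lit 2])
)))))) (.node (.node (.node (.node (.node (.node (.node (.leaf [nat_lit 35,nat_lit 3,nat_lit 1,nat_lit 2,nat_lit 4,nat_lit 6,nat_lit 4,nat_lit 2,nat_lit 4,nat_lit 6,nat_lit 4])
 (.leaf [nat_lit 10,nat_lit 5,nat_lit 1,nat_lit 1,nat_lit 2,nat_lit 1,nat_lit 3,nat_lit 0,nat_lit 2,nat_lit 1,nat_lit 1,nat_lit 1,nat_lit 3,nat_lit 2,nat_lit 3,nat_lit 0,nat_lit 0])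
) (.node (.leaf [nat_lit 39,nat_lit 1,nat_lit 1,nat_lit 2,nat_lit 5,nat_lit 3,nat_lit 5,nat_lit 2,nat_lit 6,nat_lit 2,nat_lit 3,nat_lit 5,nat_lit 3,nat_lit 2,nat_lit 6])
 (.leaf [nat_lit 69,nat_lit 26,nat_lit 1,nat_lit 3,nat_lit 0,nat_lit 4,nat_lit 6,nat_lit 0,nat_lit 2,nat_lit 1,nat_lit 1,nat_lit 1,nat_lit 2,nat_lit 0,nat_lit 2,nat_lit 0,nat_lit 0,nat_lit 2,nat_lit 1,nat_lit 3,nat_lit 1,nat_lit 2,nat_lit 4,nat_lit 1,nat_lit 4,nat_lit 1,nat_lit 1,nat_lit 2,nat_lit 5,nat_lit 2,nat_lit 6,nat_lit 0,nat_lit 3,nat_lit 5,nat_lit 1,nat_lit 1,nat_lit 6,nat_lit 4])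
)) (.node (.node (.leaf [nat_lit 53,nat_lit 4,nat_lit 1,nat_lit 2,nat_lit 4,nat_lit 6,nat_lit 3,nat_lit 4,nat_lit 2,nat_lit 0,nat_lit 3,nat_lit 2,nat_lit 3,nat_lit 1,nat_lit 4,nat_lit 3,nat_lit 6,nat_lit 4])
 (.leaf [nat_lit 62,nat_lit 9,nat_lit 0,nat_lit 5,nat_lit 6,nat_lit 4,nat_lit 6,nat_lit 4,nat_lit 5,nat_lit 4,nat_lit 5,nat_lit 6,nat_lit 4,nat_lit 6,nat_lit 5,nat_lit 4])
) (.node (.leaf [nat_lit 18,nat_lit 0,nat_lit 0,nat_lit 1,nat_lit 0,nat_lit 0,nat_lit 2,nat_lit 0,nat_lit 2,nat_lit 0,nat_lit 0,nat_lit 2,nat_lit 0,nat_lit 3,nat_lit 2,nat_lit 3,nat_lit 0,nat_lit 4,nat_lit 1,nat_lit 2,nat_lit 1,nat_lit 4,nat_lit 2,nat_lit 4,nat_lit 0,nat_lit 2])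
 (.leaf [nat_lit 68,nat_lit 18,nat_lit 1,nat_lit 5,nat_lit 6,nat_lit 4,nat_lit 6,nat_lit 0,nat_lit 0,nat_lit 2,nat_lit 0,nat_lit 2,nat_lit 0,nat_lit 0,nat_lit 2,nat_lit 1,nat_lit 1,nat_lit 1,nat_lit 2,nat_lit 1,nat_lit 3,nat_lit 0,nat_lit 0,nat_lit 2,nat_lit 1,nat_lit 1,nat_lit 1,nat_lit 4,nat_lit 5,nat_lit 1,nat_lit 1,nat_lit 3,nat_lit 6,nat_lit 3,nat_lit 0,nat_lit 0])
))) (.node (.node (.node (.leaf [nat_lit 54,nat_lit 8,nat_lit 1,nat_lit 5,nat_lit 2,nat_lit 5,nat_lit 2,nat_lit 6,nat_lit 5,nat_lit 6,nat_lit 5,nat_lit 6,nat_lit 5,nat_lit 6,nat_lit 2])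
 (.leaf [nat_lit 15,nat_lit 8,nat_lit 0,nat_lit 0,nat_lit 3,nat_lit 0,nat_lit 2,nat_lit 0,nat_lit 2,nat_lit 4,nat_lit 3,nat_lit 4,nat_lit 2,nat_lit 0,nat_lit 0,nat_lit 0,nat_lit 2,nat_lit 0,nat_lit 0,nat_lit 0,nat_lit 2])
) (.node (.leaf [nat_lit 26,nat_lit 1,nat_lit 0,nat_lit 1,nat_lit 5,nat_lit 1,nat_lit 1,nat_lit 2,nat_lit 5,nat_lit 4,nat_lit 5,nat_lit 2,nat_lit 5,nat_lit 4,nat_lit 5,nat_lit 0])
 (.leaf [nat_lit 68,nat_lit 32,nat_lit 1,nat_lit 0,nat_lit 2,nat_lit 1,nat_lit 3,nat_lit 0,nat_lit 0,nat_lit 2,nat_lit 1,nat_lit 1,nat_lit 1,nat_lit 4,nat_lit 5,nat_lit 1,nat_lit 1,nat_lit 3,nat_lit 6,nat_lit 3,nat_lit 0,nat_lit 0,nat_lit 5,nat_lit 6,nat_lit 4,nat_lit 6,nat_lit 0,nat_lit 0,nat_lit 2,nat_lit 0,nat_lit 2,nat_lit 0,nat_lit 0,nat_lit 2,nat_lit 1,nat_lit 1])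
)) (.node (.node (.leaf [nat_lit 33,nat_lit 6,nat_lit 1,nat_lit 3,nat_lit 2,nat_lit 3,nat_lit 6,nat_lit 3,nat_lit 2,nat_lit 3,nat_lit 6])
 (.leaf [nat_lit 55,nat_lit 2,nat_lit 1,nat_lit 0,nat_lit 3,nat_lit 0,nat_lit 6,nat_lit 1,nat_lit 3,nat_lit 0,nat_lit 2,nat_lit 3,nat_lit 0,nat_lit 0,nat_lit 6,nat_lit 1,nat_lit 1,nat_lit 3,nat_lit 2])
) (.node (.leaf [nat_lit 68,nat_lit 21,nat_lit 1,nat_lit 6,nat_lit 0,nat_lit 0,nat_lit 2,nat_lit 0,nat_lit 2,nat_lit 0,nat_lit 0,nat_lit 2,nat_lit 1,nat_lit 1,nat_lit 1,nat_lit 2,nat_lit 1,nat_lit 3,nat_lit 0,nat_lit 0,nat_lit 2,nat_lit 1,nat_lit 1,nat_lit 1,nat_lit 4,nat_lit 5,nat_lit 1,nat_lit 1,nat_lit 3,nat_lit 6,nat_lit 3,nat_lit 0,nat_lit 0,nat_lit 5,nat_lit 6,nat_lit 4])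
 (.leaf [nat_lit 68,nat_lit 8,nat_lit 0,nat_lit 2,nat_lit 1,nat_lit 1,nat_lit 6,nat_lit 4,nat_lit 6,nat_lit 5,nat_lit 1,nat_lit 1,nat_lit 3,nat_lit 6,nat_lit 3,nat_lit 0,nat_lit 0,nat_lit 5,nat_lit 4,nat_lit 0,nat_lit 0,nat_lit 0,nat_lit 2,nat_lit 1,nat_lit 1,nat_lit 3,nat_lit 0,nat_lit 2,nat_lit 0,nat_lit 0,nat_lit 0,nat_lit 2,nat_lit 1,nat_lit 1,nat_lit 2,nat_lit 1])
)))) (.node (.node (.node (.node (.leaf [nat_lit 21,nat_lit 8,nat_lit 1,nat_lit 5,nat_lit 0,nat_lit 3,nat_lit 1,nat_lit 5,nat_lit 0,nat_lit 3,nat_lit 1,nat_lit 5,nat_lit 0,nat_lit 3,nat_lit 1])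
 (.leaf [nat_lit 18,nat_lit 20,nat_lit 0,nat_lit 4,nat_lit 0,nat_lit 2,nat_lit 0,nat_lit 0,nat_lit 0,nat_lit 2,nat_lit 0,nat_lit 2,nat_lit 0,nat_lit 0,nat_lit 2,nat_lit 0,nat_lit 3,nat_lit 2,nat_lit 3,nat_lit 0,nat_lit 4,nat_lit 1,nat_lit 2,nat_lit 1,nat_lit 4,nat_lit 2])
) (.node (.leaf [nat_lit 27,nat_lit 6,nat_lit 1,nat_lit 4,nat_lit 3,nat_lit 4,nat_lit 2,nat_lit 5,nat_lit 1,nat_lit 3,nat_lit 1,nat_lit 5,nat_lit 0,nat_lit 3,nat_lit 0,nat_lit 5,nat_lit 2])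
 (.leaf [nat_lit 49,nat_lit 5,nat_lit 1,nat_lit 6,nat_lit 1,nat_lit 2,nat_lit 0,nat_lit 6,nat_lit 5,nat_lit 1,nat_lit 1,nat_lit 2,nat_lit 0,nat_lit 2,nat_lit 0,nat_lit 5])
)) (.node (.node (.leaf [nat_lit 24,nat_lit 1,nat_lit 1,nat_lit 1,nat_lit 5,nat_lit 1,nat_lit 3,nat_lit 0,nat_lit 5,nat_lit 2,nat_lit 1,nat_lit 3,nat_lit 0,nat_lit 2,nat_lit 1,nat_lit 3])
 (.leaf [nat_lit 65,nat_lit 16,nat_lit 1,nat_lit 2,nat_lit 1,nat_lit 6,nat_lit 0,nat_lit 2,nat_lit 5,nat_lit 4,nat_lit 3,nat_lit 5,nat_lit 0,nat_lit 3,nat_lit 6,nat_lit 3,nat_lit 1,nat_lit 5,nat_lit 3,nat_lit 4,nat_lit 5])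
) (.node (.leaf [nat_lit 31,nat_lit 6,nat_lit 1,nat_lit 6,nat_lit 3,nat_lit 6,nat_lit 3,nat_lit 6,nat_lit 3,nat_lit 6,nat_lit 3])
 (.leaf [nat_lit 18,nat_lit 22,nat_lit 0,nat_lit 2,nat_lit 0,nat_lit 0,nat_lit 0,nat_lit 2,nat_lit 0,nat_lit 2,nat_lit 0,nat_lit 0,nat_lit 2,nat_lit 0,nat_lit 3,nat_lit 2,nat_lit 3,nat_lit 0,nat_lit 4,nat_lit 1,nat_lit 2,nat_lit 1,nat_lit 4,nat_lit 2,nat_lit 4,nat_lit 0])
))) (.node (.node (.node (.leaf [nat_lit 63,nat_lit 2,nat_lit 1,nat_lit 2,nat_lit 3,nat_lit 5,nat_lit 0,nat_lit 5,nat_lit 6,nat_lit 1,nat_lit 2,nat_lit 5,nat_lit 2,nat_lit 0,nat_lit 6,nat_lit 5,nat_lit 1,nat_lit 5,nat_lit 3])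
 (.leaf [nat_lit 16,nat_lit 19,nat_lit 1,nat_lit 0,nat_lit 3,nat_lit 4,nat_lit 1,nat_lit 4,nat_lit 0,nat_lit 4,nat_lit 0,nat_lit 0,nat_lit 4,nat_lit 1,nat_lit 2,nat_lit 0,nat_lit 0,nat_lit 2,nat_lit 3,nat_lit 0,nat_lit 3,nat_lit 1,nat_lit 1])
) (.node (.leaf [nat_lit 49,nat_lit 2,nat_lit 0,nat_lit 5,nat_lit 6,nat_lit 1,nat_lit 2,nat_lit 0,nat_lit 6,nat_lit 5,nat_lit 1,nat_lit 2,nat_lit 1,nat_lit 2,nat_lit 0,nat_lit 0])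
 (.leaf [nat_lit 69,nat_lit 9,nat_lit 0,nat_lit 4,nat_lit 6,nat_lit 0,nat_lit 0,nat_lit 5,nat_lit 3,nat_lit 1,nat_lit 6,nat_lit 2,nat_lit 5,nat_lit 2,nat_lit 0,nat_lit 0,nat_lit 4,nat_lit 0,nat_lit 4,nat_lit 2,nat_lit 0,nat_lit 3,nat_lit 0,nat_lit 2,nat_lit 1,nat_lit 1,nat_lit 2,nat_lit 1,nat_lit 2,nat_lit 0,nat_lit 0,nat_lit 0,nat_lit 2,nat_lit 1,nat_lit 6,nat_lit 4,nat_lit 1,nat_lit 3])
)) (.node (.node (.leaf [nat_lit 25,nat_lit 6,nat_lit 1,nat_lit 5,nat_lit 1,nat_lit 3,nat_lit 5,nat_lit 3,nat_lit 0,nat_lit 5,nat_lit 1,nat_lit 5,nat_lit 2,nat_lit 3,nat_lit 2,nat_lit 5,nat_lit 0])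
 (.leaf [nat_lit 27,nat_lit 3,nat_lit 1,nat_lit 1,nat_lit 5,nat_lit 2,nat_lit 4,nat_lit 3,nat_lit 4,nat_lit 2,nat_lit 5,nat_lit 1,nat_lit 3,nat_lit 1,nat_lit 5,nat_lit 0,nat_lit 3])
) (.leaf [nat_lit 65,nat_lit 9,nat_lit 1,nat_lit 6,nat_lit 3,nat_lit 1,nat_lit 5,nat_lit 3,nat_lit 4,nat_lit 5,nat_lit 2,nat_lit 1,nat_lit 6,nat_lit 0,nat_lit 2,nat_lit 5,nat_lit 4,nat_lit 3,nat_lit 5,nat_lit 0,nat_lit 3])
)))) (.node (.node (.node (.node (.node (.leaf [nat_lit 40,nat_lit 10,nat_lit 1,nat_lit 2,nat_lit 1,nat_lit 4,nat_lit 6,nat_lit 4,nat_lit 0,nat_lit 2,nat_lit 1,nat_lit 4,nat_lit 6,nat_lit 4,nat_lit 0])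
 (.leaf [nat_lit 63,nat_lit 10,nat_lit 1,nat_lit 5,nat_lit 2,nat_lit 0,nat_lit 6,nat_lit 5,nat_lit 1,nat_lit 5,nat_lit 3,nat_lit 2,nat_lit 3,nat_lit 5,nat_lit 0,nat_lit 5,nat_lit 6,nat_lit 1,nat_lit 2])
) (.node (.leaf [nat_lit 16,nat_lit 8,nat_lit 1,nat_lit 4,nat_lit 1,nat_lit 2,nat_lit 0,nat_lit 0,nat_lit 2,nat_lit 3,nat_lit 0,nat_lit 3,nat_lit 1,nat_lit 1,nat_lit 1,nat_lit 3,nat_lit 4,nat_lit 1,nat_lit 4,nat_lit 0,nat_lit 4,nat_lit 0,nat_lit 0])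
 (.leaf [nat_lit 60,nat_lit 15,nat_lit 1,nat_lit 0,nat_lit 5,nat_lit 0,nat_lit 5,nat_lit 3,nat_lit 6,nat_lit 3,nat_lit 5,nat_lit 1,nat_lit 5,nat_lit 0,nat_lit 5,nat_lit 2,nat_lit 6,nat_lit 2,nat_lit 5])
)) (.node (.node (.leaf [nat_lit 65,nat_lit 13,nat_lit 1,nat_lit 3,nat_lit 4,nat_lit 5,nat_lit 2,nat_lit 1,nat_lit 6,nat_lit 0,nat_lit 2,nat_lit 5,nat_lit 4,nat_lit 3,nat_lit 5,nat_lit 0,nat_lit 3,nat_lit 6,nat_lit 3,nat_lit 1,nat_lit 5])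
 (.leaf [nat_lit 50,nat_lit 6,nat_lit 1,nat_lit 3,nat_lit 6,nat_lit 3,nat_lit 5,nat_lit 4,nat_lit 0,nat_lit 3,nat_lit 1,nat_lit 6,nat_lit 0,nat_lit 3,nat_lit 1,nat_lit 4,nat_lit 5])
) (.node (.leaf [nat_lit 18,nat_lit 10,nat_lit 1,nat_lit 3,nat_lit 2,nat_lit 3,nat_lit 1,nat_lit 2,nat_lit 1,nat_lit 1,nat_lit 2,nat_lit 1,nat_lit 2,nat_lit 1,nat_lit 1,nat_lit 1,nat_lit 2,nat_lit 1,nat_lit 4,nat_lit 2,nat_lit 4,nat_lit 0,nat_lit 2,nat_lit 0,nat_lit 4,nat_lit 1])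
 (.leaf [nat_lit 69,nat_lit 19,nat_lit 1,nat_lit 1,nat_lit 3,nat_lit 5,nat_lit 1,nat_lit 1,nat_lit 6,nat_lit 4,nat_lit 3,nat_lit 0,nat_lit 4,nat_lit 6,nat_lit 0,nat_lit 2,nat_lit 1,nat_lit 1,nat_lit 1,nat_lit 2,nat_lit 0,nat_lit 2,nat_lit 0,nat_lit 0,nat_lit 2,nat_lit 1,nat_lit 3,nat_lit 1,nat_lit 2,nat_lit 4,nat_lit 1,nat_lit 4,nat_lit 1,nat_lit 1,nat_lit 2,nat_lit 5,nat_lit 2,nat_lit 6])
))) (.node (.node (.node (.leaf [nat_lit 33,nat_lit 4,nat_lit 1,nat_lit 3,nat_lit 6,nat_lit 3,nat_lit 2,nat_lit 3,nat_lit 6,nat_lit 3,nat_lit 2])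
 (.leaf [nat_lit 12,nat_lit 12,nat_lit 0,nat_lit 1,nat_lit 2,nat_lit 3,nat_lit 0,nat_lit 0,nat_lit 3,nat_lit 1,nat_lit 1,nat_lit 3,nat_lit 1,nat_lit 3,nat_lit 0,nat_lit 2,nat_lit 1,nat_lit 3])
) (.node (.leaf [nat_lit 10,nat_lit 0,nat_lit 1,nat_lit 3,nat_lit 2,nat_lit 3,nat_lit 0,nat_lit 0,nat_lit 0,nat_lit 2,nat_lit 1,nat_lit 3,nat_lit 0,nat_lit 2,nat_lit 1,nat_lit 1,nat_lit 1])
 (.leaf [nat_lit 49,nat_lit 4,nat_lit 0,nat_lit 0,nat_lit 2,nat_lit 0,nat_lit 6,nat_lit 5,nat_lit 1,nat_lit 2,nat_lit 1,nat_lit 2,nat_lit 0,nat_lit 0,nat_lit 5,nat_lit 6])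
)) (.node (.node (.leaf [nat_lit 30,nat_lit 2,nat_lit 1,nat_lit 6,nat_lit 1,nat_lit 2,nat_lit 0,nat_lit 6,nat_lit 1,nat_lit 2,nat_lit 0])
 (.leaf [nat_lit 64,nat_lit 1,nat_lit 1,nat_lit 6,nat_lit 4,nat_lit 5,nat_lit 6,nat_lit 5,nat_lit 2,nat_lit 5,nat_lit 6,nat_lit 5,nat_lit 4,nat_lit 6,nat_lit 5,nat_lit 0,nat_lit 2,nat_lit 1,nat_lit 5])
) (.node (.leaf [nat_lit 67,nat_lit 15,nat_lit 1,nat_lit 4,nat_lit 1,nat_lit 1,nat_lit 6,nat_lit 0,nat_lit 0,nat_lit 4,nat_lit 1,nat_lit 1,nat_lit 4,nat_lit 2,nat_lit 5,nat_lit 6,nat_lit 5,nat_lit 2,nat_lit 4,nat_lit 0,nat_lit 0])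
 (.leaf [nat_lit 68,nat_lit 10,nat_lit 1,nat_lit 5,nat_lit 1,nat_lit 1,nat_lit 3,nat_lit 6,nat_lit 3,nat_lit 0,nat_lit 0,nat_lit 5,nat_lit 6,nat_lit 4,nat_lit 6,nat_lit 0,nat_lit 0,nat_lit 2,nat_lit 0,nat_lit 2,nat_lit 0,nat_lit 0,nat_lit 2,nat_lit 1,nat_lit 1,nat_lit 1,nat_lit 2,nat_lit 1,nat_lit 3,nat_lit 0,nat_lit 0,nat_lit 2,nat_lit 1,nat_lit 1,nat_lit 1,nat_lit 4])
)))) (.node (.node (.node (.node (.leaf [nat_lit 37,nat_lit 4,nat_lit 1,nat_lit 2,nat_lit 5,nat_lit 2,nat_lit 5,nat_lit 4,nat_lit 6,nat_lit 4,nat_lit 2,nat_lit 4,nat_lit 6,nat_lit 4,nat_lit 5])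
 (.leaf [nat_lit 26,nat_lit 2,nat_lit 1,nat_lit 5,nat_lit 2,nat_lit 5,nat_lit 4,nat_lit 5,nat_lit 2,nat_lit 0,nat_lit 0,nat_lit 5,nat_lit 1,nat_lit 1,nat_lit 5,nat_lit 4])
) (.node (.leaf [nat_lit 18,nat_lit 10,nat_lit 0,nat_lit 3,nat_lit 2,nat_lit 3,nat_lit 0,nat_lit 4,nat_lit 1,nat_lit 2,nat_lit 1,nat_lit 4,nat_lit 2,nat_lit 4,nat_lit 0,nat_lit 2,nat_lit 0,nat_lit 0,nat_lit 0,nat_lit 2,nat_lit 0,nat_lit 2,nat_lit 0,nat_lit 0,nat_lit 2,nat_lit 0])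
 (.leaf [nat_lit 69,nat_lit 5,nat_lit 0,nat_lit 6,nat_lit 4,nat_lit 1,nat_lit 3,nat_lit 4,nat_lit 6,nat_lit 0,nat_lit 0,nat_lit 5,nat_lit 3,nat_lit 1,nat_lit 6,nat_lit 2,nat_lit 5,nat_lit 2,nat_lit 0,nat_lit 0,nat_lit 4,nat_lit 0,nat_lit 4,nat_lit 2,nat_lit 0,nat_lit 3,nat_lit 0,nat_lit 2,nat_lit 1,nat_lit 1,nat_lit 2,nat_lit 1,nat_lit 2,nat_lit 0,nat_lit 0,nat_lit 0,nat_lit 2,nat_lit 1])
)) (.node (.node (.leaf [nat_lit 65,nat_lit 3,nat_lit 1,nat_lit 5,nat_lit 4,nat_lit 3,nat_lit 5,nat_lit 0,nat_lit 3,nat_lit 6,nat_lit 3,nat_lit 1,nat_lit 5,nat_lit 3,nat_lit 4,nat_lit 5,nat_lit 2,nat_lit 1,nat_lit 6,nat_lit 0,nat_lit 2])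
 (.leaf [nat_lit 23,nat_lit 3,nat_lit 1,nat_lit 2,nat_lit 5,nat_lit 1,nat_lit 2,nat_lit 0,nat_lit 5,nat_lit 2,nat_lit 1,nat_lit 1,nat_lit 2,nat_lit 0,nat_lit 0])
) (.node (.leaf [nat_lit 17,nat_lit 20,nat_lit 1,nat_lit 0,nat_lit 4,nat_lit 1,nat_lit 1,nat_lit 3,nat_lit 0,nat_lit 0,nat_lit 2,nat_lit 1,nat_lit 4,nat_lit 3,nat_lit 2,nat_lit 0,nat_lit 2,nat_lit 1,nat_lit 3,nat_lit 1,nat_lit 2,nat_lit 1,nat_lit 2,nat_lit 1])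
 (.leaf [nat_lit 69,nat_lit 29,nat_lit 1,nat_lit 6,nat_lit 0,nat_lit 2,nat_lit 1,nat_lit 1,nat_lit 1,nat_lit 2,nat_lit 0,nat_lit 2,nat_lit 0,nat_lit 0,nat_lit 2,nat_lit 1,nat_lit 3,nat_lit 1,nat_lit 2,nat_lit 4,nat_lit 1,nat_lit 4,nat_lit 1,nat_lit 1,nat_lit 2,nat_lit 5,nat_lit 2,nat_lit 6,nat_lit 0,nat_lit 3,nat_lit 5,nat_lit 1,nat_lit 1,nat_lit 6,nat_lit 4,nat_lit 3,nat_lit 0,nat_lit 4])
))) (.node (.node (.node (.leaf [nat_lit 60,nat_lit 3,nat_lit 1,nat_lit 3,nat_lit 6,nat_lit 3,nat_lit 5,nat_lit 1,nat_lit 5,nat_lit 0,nat_lit 5,nat_lit 2,nat_lit 6,nat_lit 2,nat_lit 5,nat_lit 1,nat_lit 5,nat_lit 0,nat_lit 5])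
 (.leaf [nat_lit 68,nat_lit 16,nat_lit 0,nat_lit 0,nat_lit 3,nat_lit 6,nat_lit 3,nat_lit 0,nat_lit 0,nat_lit 5,nat_lit 4,nat_lit 0,nat_lit 0,nat_lit 0,nat_lit 2,nat_lit 1,nat_lit 1,nat_lit 3,nat_lit 0,nat_lit 2,nat_lit 0,nat_lit 0,nat_lit 0,nat_lit 2,nat_lit 1,nat_lit 1,nat_lit 2,nat_lit 1,nat_lit 2,nat_lit 1,nat_lit 1,nat_lit 6,nat_lit 4,nat_lit 6,nat_lit 5,nat_lit 1])
) (.node (.leaf [nat_lit 62,nat_lit 3,nat_lit 0,nat_lit 5,nat_lit 6,nat_lit 4,nat_lit 6,nat_lit 5,nat_lit 4,nat_lit 5,nat_lit 6,nat_lit 4,nat_lit 6,nat_lit 4,nat_lit 5,nat_lit 4])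
 (.leaf [nat_lit 68,nat_lit 12,nat_lit 1,nat_lit 0,nat_lit 3,nat_lit 6,nat_lit 3,nat_lit 0,nat_lit 0,nat_lit 5,nat_lit 6,nat_lit 4,nat_lit 6,nat_lit 0,nat_lit 0,nat_lit 2,nat_lit 0,nat_lit 2,nat_lit 0,nat_lit 0,nat_lit 2,nat_lit 1,nat_lit 1,nat_lit 1,nat_lit 2,nat_lit 1,nat_lit 3,nat_lit 0,nat_lit 0,nat_lit 2,nat_lit 1,nat_lit 1,nat_lit 1,nat_lit 4,nat_lit 5,nat_lit 1])
)) (.node (.node (.leaf [nat_lit 14,nat_lit 0,nat_lit 1,nat_lit 2,nat_lit 0,nat_lit 3,nat_lit 2,nat_lit 3,nat_lit 0,nat_lit 4,nat_lit 2,nat_lit 4,nat_lit 1,nat_lit 2,nat_lit 0,nat_lit 2,nat_lit 4,nat_lit 2,nat_lit 1,nat_lit 1])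
 (.leaf [nat_lit 69,nat_lit 12,nat_lit 0,nat_lit 1,nat_lit 5,nat_lit 3,nat_lit 1,nat_lit 6,nat_lit 2,nat_lit 5,nat_lit 2,nat_lit 0,nat_lit 0,nat_lit 4,nat_lit 0,nat_lit 4,nat_lit 2,nat_lit 0,nat_lit 3,nat_lit 0,nat_lit 2,nat_lit 1,nat_lit 1,nat_lit 2,nat_lit 1,nat_lit 2,nat_lit 0,nat_lit 0,nat_lit 0,nat_lit 2,nat_lit 1,nat_lit 6,nat_lit 4,nat_lit 1,nat_lit 3,nat_lit 4,nat_lit 6,nat_lit 0])
) (.leaf [nat_lit 68,nat_lit 19,nat_lit 1,nat_lit 6,nat_lit 4,nat_lit 6,nat_lit 0,nat_lit 0,nat_lit 2,nat_lit 0,nat_lit 2,nat_lit 0,nat_lit 0,nat_lit 2,nat_lit 1,nat_lit 1,nat_lit 1,nat_lit 2,nat_lit 1,nat_lit 3,nat_lit 0,nat_lit 0,nat_lit 2,nat_lit 1,nat_lit 1,nat_lit 1,nat_lit 4,nat_lit 5,nat_lit 1,nat_lit 1,nat_lit 3,nat_lit 6,nat_lit 3,nat_lit 0,nat_lit 0,nat_lit 5])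
))))) (.node (.node (.node (.node (.node (.node (.leaf [nat_lit 39,nat_lit 9,nat_lit 1,nat_lit 5,nat_lit 3,nat_lit 2,nat_lit 6,nat_lit 2,nat_lit 5,nat_lit 3,nat_lit 5,nat_lit 2,nat_lit 6,nat_lit 2,nat_lit 3])
 (.leaf [nat_lit 28,nat_lit 10,nat_lit 0,nat_lit 2,nat_lit 4,nat_lit 5,nat_lit 4,nat_lit 0,nat_lit 2,nat_lit 1,nat_lit 2,nat_lit 4,nat_lit 5,nat_lit 4,nat_lit 0,nat_lit 2,nat_lit 1])
) (.node (.leaf [nat_lit 17,nat_lit 3,nat_lit 1,nat_lit 3,nat_lit 0,nat_lit 0,nat_lit 2,nat_lit 1,nat_lit 4,nat_lit 3,nat_lit 2,nat_lit 0,nat_lit 2,nat_lit 1,nat_lit 3,nat_lit 1,nat_lit 2,nat_lit 1,nat_lit 2,nat_lit 1,nat_lit 1,nat_lit 4,nat_lit 1,nat_lit 1])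
 (.leaf [nat_lit 4,nat_lit 6,nat_lit 0,nat_lit 1,nat_lit 0,nat_lit 2,nat_lit 1,nat_lit 2,nat_lit 1,nat_lit 2,nat_lit 0,nat_lit 0,nat_lit 2,nat_lit 1,nat_lit 1,nat_lit 2])
)) (.node (.node (.leaf [nat_lit 22,nat_lit 1,nat_lit 1,nat_lit 0,nat_lit 3,nat_lit 5,nat_lit 0,nat_lit 3,nat_lit 1,nat_lit 5,nat_lit 3,nat_lit 0,nat_lit 5,nat_lit 0,nat_lit 3,nat_lit 1,nat_lit 5])
 (.leaf [nat_lit 60,nat_lit 12,nat_lit 1,nat_lit 6,nat_lit 2,nat_lit 5,nat_lit 1,nat_lit 5,nat_lit 0,nat_lit 5,nat_lit 3,nat_lit 6,nat_lit 3,nat_lit 5,nat_lit 1,nat_lit 5,nat_lit 0,nat_lit 5,nat_lit 2])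
) (.node (.leaf [nat_lit 28,nat_lit 11,nat_lit 1,nat_lit 1,nat_lit 2,nat_lit 1,nat_lit 4,nat_lit 5,nat_lit 4,nat_lit 2,nat_lit 0,nat_lit 2,nat_lit 1,nat_lit 4,nat_lit 5,nat_lit 4,nat_lit 2])
 (.leaf [nat_lit 65,nat_lit 10,nat_lit 1,nat_lit 3,nat_lit 1,nat_lit 5,nat_lit 3,nat_lit 4,nat_lit 5,nat_lit 2,nat_lit 1,nat_lit 6,nat_lit 0,nat_lit 2,nat_lit 5,nat_lit 4,nat_lit 3,nat_lit 5,nat_lit 0,nat_lit 3,nat_lit 6])
))) (.node (.node (.node (.leaf [nat_lit 49,nat_lit 10,nat_lit 0,nat_lit 2,nat_lit 1,nat_lit 2,nat_lit 0,nat_lit 0,nat_lit 5,nat_lit 6,nat_lit 1,nat_lit 2,nat_lit 0,nat_lit 6,nat_lit 5,nat_lit 1])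
 (.leaf [nat_lit 17,nat_lit 9,nat_lit 0,nat_lit 0,nat_lit 2,nat_lit 3,nat_lit 4,nat_lit 0,nat_lit 2,nat_lit 1,nat_lit 1,nat_lit 3,nat_lit 0,nat_lit 0,nat_lit 4,nat_lit 0,nat_lit 0,nat_lit 2,nat_lit 0,nat_lit 2,nat_lit 0,nat_lit 3,nat_lit 0,nat_lit 2])
) (.node (.leaf [nat_lit 28,nat_lit 0,nat_lit 1,nat_lit 4,nat_lit 5,nat_lit 4,nat_lit 2,nat_lit 0,nat_lit 2,nat_lit 1,nat_lit 4,nat_lit 5,nat_lit 4,nat_lit 2,nat_lit 0,nat_lit 2,nat_lit 1])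
 (.leaf [nat_lit 54,nat_lit 2,nat_lit 1,nat_lit 6,nat_lit 5,nat_lit 6,nat_lit 5,nat_lit 6,nat_lit 2,nat_lit 5,nat_lit 2,nat_lit 5,nat_lit 2,nat_lit 6,nat_lit 5])
)) (.node (.node (.leaf [nat_lit 15,nat_lit 1,nat_lit 0,nat_lit 1,nat_lit 0,nat_lit 2,nat_lit 0,nat_lit 0,nat_lit 0,nat_lit 2,nat_lit 1,nat_lit 3,nat_lit 0,nat_lit 2,nat_lit 0,nat_lit 2,nat_lit 4,nat_lit 3,nat_lit 4,nat_lit 2,nat_lit 0])
 (.leaf [nat_lit 59,nat_lit 15,nat_lit 1,nat_lit 0,nat_lit 5,nat_lit 2,nat_lit 5,nat_lit 0,nat_lit 3,nat_lit 6,nat_lit 3,nat_lit 1,nat_lit 2,nat_lit 5,nat_lit 2,nat_lit 0,nat_lit 3,nat_lit 6,nat_lit 3])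
) (.node (.leaf [nat_lit 18,nat_lit 18,nat_lit 0,nat_lit 4,nat_lit 2,nat_lit 4,nat_lit 0,nat_lit 2,nat_lit 0,nat_lit 0,nat_lit 0,nat_lit 2,nat_lit 0,nat_lit 2,nat_lit 0,nat_lit 0,nat_lit 2,nat_lit 0,nat_lit 3,nat_lit 2,nat_lit 3,nat_lit 0,nat_lit 4,nat_lit 1,nat_lit 2,nat_lit 1])
 (.leaf [nat_lit 68,nat_lit 27,nat_lit 0,nat_lit 2,nat_lit 1,nat_lit 1,nat_lit 3,nat_lit 0,nat_lit 2,nat_lit 0,nat_lit 0,nat_lit 0,nat_lit 2,nat_lit 1,nat_lit 1,nat_lit 2,nat_lit 1,nat_lit 2,nat_lit 1,nat_lit 1,nat_lit 6,nat_lit 4,nat_lit 6,nat_lit 5,nat_lit 1,nat_lit 1,nat_lit 3,nat_lit 6,nat_lit 3,nat_lit 0,nat_lit 0,nat_lit 5,nat_lit 4,nat_lit 0,nat_lit 0,nat_lit 0])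
)))) (.node (.node (.node (.node (.leaf [nat_lit 27,nat_lit 13,nat_lit 1,nat_lit 0,nat_lit 5,nat_lit 0,nat_lit 3,nat_lit 0,nat_lit 5,nat_lit 2,nat_lit 4,nat_lit 3,nat_lit 4,nat_lit 2,nat_lit 5,nat_lit 1,nat_lit 3])
 (.leaf [nat_lit 69,nat_lit 23,nat_lit 1,nat_lit 0,nat_lit 6,nat_lit 4,nat_lit 3,nat_lit 0,nat_lit 4,nat_lit 6,nat_lit 0,nat_lit 2,nat_lit 1,nat_lit 1,nat_lit 1,nat_lit 2,nat_lit 0,nat_lit 2,nat_lit 0,nat_lit 0,nat_lit 2,nat_lit 1,nat_lit 3,nat_lit 1,nat_lit 2,nat_lit 4,nat_lit 1,nat_lit 4,nat_lit 1,nat_lit 1,nat_lit 2,nat_lit 5,nat_lit 2,nat_lit 6,nat_lit 0,nat_lit 3,nat_lit 5,nat_lit 1])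
) (.node (.leaf [nat_lit 26,nat_lit 4,nat_lit 0,nat_lit 0,nat_lit 2,nat_lit 5,nat_lit 4,nat_lit 5,nat_lit 2,nat_lit 5,nat_lit 4,nat_lit 5,nat_lit 0,nat_lit 0,nat_lit 5,nat_lit 1])
 (.leaf [nat_lit 58,nat_lit 6,nat_lit 1,nat_lit 0,nat_lit 4,nat_lit 5,nat_lit 0,nat_lit 3,nat_lit 5,nat_lit 6,nat_lit 5,nat_lit 3,nat_lit 1,nat_lit 5,nat_lit 4,nat_lit 0,nat_lit 5,nat_lit 6,nat_lit 5])
)) (.node (.node (.leaf [nat_lit 26,nat_lit 0,nat_lit 1,nat_lit 5,nat_lit 4,nat_lit 5,nat_lit 2,nat_lit 5,nat_lit 4,nat_lit 5,nat_lit 2,nat_lit 0,nat_lit 0,nat_lit 5,nat_lit 1,nat_lit 1])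
 (.leaf [nat_lit 64,nat_lit 4,nat_lit 1,nat_lit 6,nat_lit 5,nat_lit 2,nat_lit 5,nat_lit 6,nat_lit 5,nat_lit 4,nat_lit 6,nat_lit 5,nat_lit 0,nat_lit 2,nat_lit 1,nat_lit 5,nat_lit 6,nat_lit 4,nat_lit 5])
) (.node (.leaf [nat_lit 44,nat_lit 7,nat_lit 1,nat_lit 6,nat_lit 5,nat_lit 2,nat_lit 3,nat_lit 2,nat_lit 5,nat_lit 6,nat_lit 5,nat_lit 2,nat_lit 3,nat_lit 2,nat_lit 5])
 (.leaf [nat_lit 16,nat_lit 11,nat_lit 1,nat_lit 1,nat_lit 0,nat_lit 2,nat_lit 3,nat_lit 0,nat_lit 3,nat_lit 1,nat_lit 1,nat_lit 1,nat_lit 3,nat_lit 4,nat_lit 1,nat_lit 4,nat_lit 0,nat_lit 4,nat_lit 0,nat_lit 0,nat_lit 4,nat_lit 1,nat_lit 2])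
))) (.node (.node (.node (.leaf [nat_lit 62,nat_lit 12,nat_lit 1,nat_lit 4,nat_lit 6,nat_lit 4,nat_lit 6,nat_lit 5,nat_lit 4,nat_lit 5,nat_lit 6,nat_lit 4,nat_lit 6,nat_lit 5,nat_lit 4,nat_lit 5])
 (.leaf [nat_lit 15,nat_lit 11,nat_lit 0,nat_lit 2,nat_lit 0,nat_lit 2,nat_lit 4,nat_lit 3,nat_lit 4,nat_lit 2,nat_lit 0,nat_lit 0,nat_lit 0,nat_lit 2,nat_lit 0,nat_lit 0,nat_lit 0,nat_lit 2,nat_lit 1,nat_lit 3,nat_lit 0])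
) (.node (.leaf [nat_lit 39,nat_lit 5,nat_lit 1,nat_lit 2,nat_lit 6,nat_lit 2,nat_lit 3,nat_lit 5,nat_lit 3,nat_lit 2,nat_lit 6,nat_lit 2,nat_lit 5,nat_lit 3,nat_lit 5])
 (.leaf [nat_lit 69,nat_lit 20,nat_lit 1,nat_lit 3,nat_lit 5,nat_lit 1,nat_lit 1,nat_lit 6,nat_lit 4,nat_lit 3,nat_lit 0,nat_lit 4,nat_lit 6,nat_lit 0,nat_lit 2,nat_lit 1,nat_lit 1,nat_lit 1,nat_lit 2,nat_lit 0,nat_lit 2,nat_lit 0,nat_lit 0,nat_lit 2,nat_lit 1,nat_lit 3,nat_lit 1,nat_lit 2,nat_lit 4,nat_lit 1,nat_lit 4,nat_lit 1,nat_lit 1,nat_lit 2,nat_lit 5,nat_lit 2,nat_lit 6,nat_lit 0])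
)) (.node (.node (.leaf [nat_lit 51,nat_lit 12,nat_lit 1,nat_lit 4,nat_lit 3,nat_lit 5,nat_lit 6,nat_lit 5,nat_lit 3,nat_lit 4,nat_lit 5,nat_lit 3,nat_lit 4,nat_lit 6,nat_lit 4,nat_lit 3,nat_lit 5])
 (.leaf [nat_lit 46,nat_lit 6,nat_lit 1,nat_lit 6,nat_lit 4,nat_lit 6,nat_lit 2,nat_lit 5,nat_lit 2,nat_lit 6,nat_lit 4,nat_lit 6,nat_lit 2,nat_lit 5,nat_lit 2])
) (.leaf [nat_lit 65,nat_lit 14,nat_lit 1,nat_lit 4,nat_lit 5,nat_lit 2,nat_lit 1,nat_lit 6,nat_lit 0,nat_lit 2,nat_lit 5,nat_lit 4,nat_lit 3,nat_lit 5,nat_lit 0,nat_lit 3,nat_lit 6,nat_lit 3,nat_lit 1,nat_lit 5,nat_lit 3])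
)))) (.node (.node (.node (.node (.node (.leaf [nat_lit 48,nat_lit 5,nat_lit 1,nat_lit 3,nat_lit 4,nat_lit 5,nat_lit 6,nat_lit 5,nat_lit 4,nat_lit 3,nat_lit 4,nat_lit 5,nat_lit 6,nat_lit 5,nat_lit 4])
 (.leaf [nat_lit 27,nat_lit 4,nat_lit 1,nat_lit 5,nat_lit 2,nat_lit 4,nat_lit 3,nat_lit 4,nat_lit 2,nat_lit 5,nat_lit 1,nat_lit 3,nat_lit 1,nat_lit 5,nat_lit 0,nat_lit 3,nat_lit 0])
) (.node (.leaf [nat_lit 61,nat_lit 2,nat_lit 1,nat_lit 6,nat_lit 4,nat_lit 5,nat_lit 2,nat_lit 4,nat_lit 2,nat_lit 5,nat_lit 2,nat_lit 6,nat_lit 2,nat_lit 5,nat_lit 2,nat_lit 4,nat_lit 2,nat_lit 5,nat_lit 4])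
 (.leaf [nat_lit 24,nat_lit 11,nat_lit 0,nat_lit 0,nat_lit 3,nat_lit 0,nat_lit 2,nat_lit 1,nat_lit 3,nat_lit 0,nat_lit 2,nat_lit 5,nat_lit 1,nat_lit 3,nat_lit 0,nat_lit 5])
)) (.node (.node (.leaf [nat_lit 63,nat_lit 5,nat_lit 1,nat_lit 1,nat_lit 5,nat_lit 6,nat_lit 1,nat_lit 2,nat_lit 5,nat_lit 2,nat_lit 0,nat_lit 6,nat_lit 5,nat_lit 1,nat_lit 5,nat_lit 3,nat_lit 2,nat_lit 3,nat_lit 5])
 (.leaf [nat_lit 4,nat_lit 8,nat_lit 0,nat_lit 2,nat_lit 1,nat_lit 2,nat_lit 1,nat_lit 2,nat_lit 0,nat_lit 0,nat_lit 2,nat_lit 1,nat_lit 1,nat_lit 2,nat_lit 0,nat_lit 0])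
) (.node (.leaf [nat_lit 16,nat_lit 18,nat_lit 0,nat_lit 4,nat_lit 3,nat_lit 0,nat_lit 0,nat_lit 0,nat_lit 3,nat_lit 1,nat_lit 3,nat_lit 2,nat_lit 1,nat_lit 1,nat_lit 2,nat_lit 0,nat_lit 4,nat_lit 1,nat_lit 1,nat_lit 4,nat_lit 1,nat_lit 4,nat_lit 0])
 (.leaf [nat_lit 68,nat_lit 2,nat_lit 0,nat_lit 1,nat_lit 2,nat_lit 1,nat_lit 1,nat_lit 2,nat_lit 1,nat_lit 2,nat_lit 1,nat_lit 1,nat_lit 6,nat_lit 4,nat_lit 6,nat_lit 5,nat_lit 1,nat_lit 1,nat_lit 3,nat_lit 6,nat_lit 3,nat_lit 0,nat_lit 0,nat_lit 5,nat_lit 4,nat_lit 0,nat_lit 0,nat_lit 0,nat_lit 2,nat_lit 1,nat_lit 1,nat_lit 3,nat_lit 0,nat_lit 2,nat_lit 0,nat_lit 0])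
))) (.node (.node (.node (.leaf [nat_lit 61,nat_lit 14,nat_lit 1,nat_lit 4,nat_lit 2,nat_lit 5,nat_lit 4,nat_lit 6,nat_lit 4,nat_lit 5,nat_lit 2,nat_lit 4,nat_lit 2,nat_lit 5,nat_lit 2,nat_lit 6,nat_lit 2,nat_lit 5,nat_lit 2])
 (.leaf [nat_lit 56,nat_lit 6,nat_lit 1,nat_lit 4,nat_lit 0,nat_lit 3,nat_lit 6,nat_lit 3,nat_lit 1,nat_lit 4,nat_lit 3,nat_lit 2,nat_lit 1,nat_lit 5,nat_lit 6,nat_lit 5,nat_lit 0,nat_lit 2,nat_lit 3])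
) (.node (.leaf [nat_lit 46,nat_lit 2,nat_lit 1,nat_lit 6,nat_lit 2,nat_lit 5,nat_lit 2,nat_lit 6,nat_lit 4,nat_lit 6,nat_lit 2,nat_lit 5,nat_lit 2,nat_lit 6,nat_lit 4])
 (.leaf [nat_lit 16,nat_lit 10,nat_lit 1,nat_lit 2,nat_lit 0,nat_lit 0,nat_lit 2,nat_lit 3,nat_lit 0,nat_lit 3,nat_lit 1,nat_lit 1,nat_lit 1,nat_lit 3,nat_lit 4,nat_lit 1,nat_lit 4,nat_lit 0,nat_lit 4,nat_lit 0,nat_lit 0,nat_lit 4,nat_lit 1])
)) (.node (.node (.leaf [nat_lit 16,nat_lit 3,nat_lit 1,nat_lit 4,nat_lit 0,nat_lit 4,nat_lit 0,nat_lit 0,nat_lit 4,nat_lit 1,nat_lit 2,nat_lit 0,nat_lit 0,nat_lit 2,nat_lit 3,nat_lit 0,nat_lit 3,nat_lit 1,nat_lit 1,nat_lit 1,nat_lit 3,nat_lit 4,nat_lit 1])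
 (.leaf [nat_lit 4,nat_lit 1,nat_lit 0,nat_lit 1,nat_lit 2,nat_lit 1,nat_lit 1,nat_lit 2,nat_lit 0,nat_lit 0,nat_lit 2,nat_lit 1,nat_lit 2,nat_lit 1,nat_lit 2,nat_lit 0])
) (.leaf [nat_lit 25,nat_lit 8,nat_lit 1,nat_lit 3,nat_lit 5,nat_lit 3,nat_lit 0,nat_lit 5,nat_lit 1,nat_lit 5,nat_lit 2,nat_lit 3,nat_lit 2,nat_lit 5,nat_lit 0,nat_lit 5,nat_lit 1])
))) (.node (.node (.node (.node (.leaf [nat_lit 24,nat_lit 8,nat_lit 1,nat_lit 0,nat_lit 3,nat_lit 0,nat_lit 2,nat_lit 1,nat_lit 3,nat_lit 0,nat_lit 5,nat_lit 1,nat_lit 3,nat_lit 0,nat_lit 5,nat_lit 2])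
 (.leaf [nat_lit 17,nat_lit 18,nat_lit 0,nat_lit 1,nat_lit 0,nat_lit 4,nat_lit 0,nat_lit 0,nat_lit 2,nat_lit 0,nat_lit 2,nat_lit 0,nat_lit 3,nat_lit 0,nat_lit 2,nat_lit 1,nat_lit 2,nat_lit 3,nat_lit 4,nat_lit 0,nat_lit 2,nat_lit 1,nat_lit 1,nat_lit 3])
) (.node (.leaf [nat_lit 24,nat_lit 5,nat_lit 0,nat_lit 2,nat_lit 5,nat_lit 1,nat_lit 3,nat_lit 0,nat_lit 5,nat_lit 1,nat_lit 3,nat_lit 0,nat_lit 2,nat_lit 1,nat_lit 3,nat_lit 0])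
 (.leaf [nat_lit 18,nat_lit 19,nat_lit 1,nat_lit 2,nat_lit 1,nat_lit 1,nat_lit 1,nat_lit 2,nat_lit 1,nat_lit 4,nat_lit 2,nat_lit 4,nat_lit 0,nat_lit 2,nat_lit 0,nat_lit 4,nat_lit 1,nat_lit 3,nat_lit 2,nat_lit 3,nat_lit 1,nat_lit 2,nat_lit 1,nat_lit 1,nat_lit 2,nat_lit 1])
)) (.node (.node (.leaf [nat_lit 59,nat_lit 7,nat_lit 1,nat_lit 0,nat_lit 2,nat_lit 5,nat_lit 2,nat_lit 0,nat_lit 3,nat_lit 6,nat_lit 3,nat_lit 1,nat_lit 5,nat_lit 2,nat_lit 5,nat_lit 0,nat_lit 3,nat_lit 6,nat_lit 3])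
 (.leaf [nat_lit 25,nat_lit 5,nat_lit 1,nat_lit 1,nat_lit 5,nat_lit 1,nat_lit 3,nat_lit 5,nat_lit 3,nat_lit 0,nat_lit 5,nat_lit 1,nat_lit 5,nat_lit 2,nat_lit 3,nat_lit 2,nat_lit 5])
) (.node (.leaf [nat_lit 10,nat_lit 10,nat_lit 1,nat_lit 2,nat_lit 1,nat_lit 1,nat_lit 1,nat_lit 3,nat_lit 2,nat_lit 3,nat_lit 0,nat_lit 0,nat_lit 0,nat_lit 2,nat_lit 1,nat_lit 3,nat_lit 0])
 (.leaf [nat_lit 68,nat_lit 30,nat_lit 0,nat_lit 3,nat_lit 0,nat_lit 2,nat_lit 0,nat_lit 0,nat_lit 0,nat_lit 2,nat_lit 1,nat_lit 1,nat_lit 2,nat_lit 1,nat_lit 2,nat_lit 1,nat_lit 1,nat_lit 6,nat_lit 4,nat_lit 6,nat_lit 5,nat_lit 1,nat_lit 1,nat_lit 3,nat_lit 6,nat_lit 3,nat_lit 0,nat_lit 0,nat_lit 5,nat_lit 4,nat_lit 0,nat_lit 0,nat_lit 0,nat_lit 2,nat_lit 1,nat_lit 1])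
))) (.node (.node (.node (.leaf [nat_lit 25,nat_lit 12,nat_lit 1,nat_lit 5,nat_lit 1,nat_lit 5,nat_lit 2,nat_lit 3,nat_lit 2,nat_lit 5,nat_lit 0,nat_lit 5,nat_lit 1,nat_lit 3,nat_lit 5,nat_lit 3,nat_lit 0])
 (.leaf [nat_lit 5,nat_lit 19,nat_lit 1,nat_lit 0,nat_lit 1,nat_lit 2,nat_lit 1,nat_lit 1,nat_lit 2,nat_lit 1,nat_lit 2,nat_lit 1,nat_lit 1,nat_lit 2,nat_lit 1,nat_lit 1,nat_lit 2,nat_lit 1,nat_lit 2,nat_lit 1,nat_lit 1,nat_lit 2,nat_lit 1,nat_lit 1,nat_lit 2,nat_lit 1,nat_lit 2])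
) (.node (.leaf [nat_lit 59,nat_lit 6,nat_lit 1,nat_lit 3,nat_lit 1,nat_lit 2,nat_lit 5,nat_lit 2,nat_lit 0,nat_lit 3,nat_lit 6,nat_lit 3,nat_lit 1,nat_lit 5,nat_lit 2,nat_lit 5,nat_lit 0,nat_lit 3,nat_lit 6])
 (.leaf [nat_lit 69,nat_lit 14,nat_lit 0,nat_lit 3,nat_lit 1,nat_lit 6,nat_lit 2,nat_lit 5,nat_lit 2,nat_lit 0,nat_lit 0,nat_lit 4,nat_lit 0,nat_lit 4,nat_lit 2,nat_lit 0,nat_lit 3,nat_lit 0,nat_lit 2,nat_lit 1,nat_lit 1,nat_lit 2,nat_lit 1,nat_lit 2,nat_lit 0,nat_lit 0,nat_lit 0,nat_lit 2,nat_lit 1,nat_lit 6,nat_lit 4,nat_lit 1,nat_lit 3,nat_lit 4,nat_lit 6,nat_lit 0,nat_lit 0,nat_lit 5])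
)) (.node (.node (.leaf [nat_lit 16,nat_lit 8,nat_lit 0,nat_lit 0,nat_lit 2,nat_lit 0,nat_lit 4,nat_lit 1,nat_lit 1,nat_lit 4,nat_lit 1,nat_lit 4,nat_lit 0,nat_lit 4,nat_lit 3,nat_lit 0,nat_lit 0,nat_lit 0,nat_lit 3,nat_lit 1,nat_lit 3,nat_lit 2,nat_lit 1])
 (.leaf [nat_lit 42,nat_lit 2,nat_lit 1,nat_lit 6,nat_lit 0,nat_lit 5,nat_lit 1,nat_lit 6,nat_lit 2,nat_lit 6,nat_lit 0,nat_lit 5,nat_lit 1,nat_lit 6,nat_lit 2])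
) (.leaf [nat_lit 4,nat_lit 9,nat_lit 1,nat_lit 1,nat_lit 2,nat_lit 1,nat_lit 1,nat_lit 2,nat_lit 0,nat_lit 2,nat_lit 0,nat_lit 2,nat_lit 1,nat_lit 1,nat_lit 2,nat_lit 0])
))))))) (.node (.node (.node (.node (.node (.node (.node (.node (.leaf [nat_lit 34,nat_lit 6,nat_lit 1,nat_lit 4,nat_lit 2,nat_lit 6,nat_lit 2,nat_lit 4,nat_lit 2,nat_lit 6,nat_lit 2])
 (.leaf [nat_lit 17,nat_lit 15,nat_lit 1,nat_lit 0,nat_lit 2,nat_lit 1,nat_lit 2,nat_lit 1,nat_lit 1,nat_lit 4,nat_lit 1,nat_lit 1,nat_lit 3,nat_lit 0,nat_lit 0,nat_lit 2,nat_lit 1,nat_lit 4,nat_lit 3,nat_lit 2,nat_lit 0,nat_lit 2,nat_lit 1,nat_lit 3])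
) (.node (.leaf [nat_lit 39,nat_lit 2,nat_lit 1,nat_lit 5,nat_lit 3,nat_lit 5,nat_lit 2,nat_lit 6,nat_lit 2,nat_lit 3,nat_lit 5,nat_lit 3,nat_lit 2,nat_lit 6,nat_lit 2])
 (.leaf [nat_lit 65,nat_lit 12,nat_lit 1,nat_lit 5,nat_lit 3,nat_lit 4,nat_lit 5,nat_lit 2,nat_lit 1,nat_lit 6,nat_lit 0,nat_lit 2,nat_lit 5,nat_lit 4,nat_lit 3,nat_lit 5,nat_lit 0,nat_lit 3,nat_lit 6,nat_lit 3,nat_lit 1])
)) (.node (.node (.leaf [nat_lit 18,nat_lit 14,nat_lit 0,nat_lit 4,nat_lit 1,nat_lit 2,nat_lit 1,nat_lit 4,nat_lit 2,nat_lit 4,nat_lit 0,nat_lit 2,nat_lit 0,nat_lit 0,nat_lit 0,nat_lit 2,nat_lit 0,nat_lit 2,nat_lit 0,nat_lit 0,nat_lit 2,nat_lit 0,nat_lit 3,nat_lit 2,nat_lit 3,nat_lit 0])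
 (.leaf [nat_lit 22,nat_lit 11,nat_lit 1,nat_lit 1,nat_lit 3,nat_lit 1,nat_lit 5,nat_lit 1,nat_lit 3,nat_lit 5,nat_lit 0,nat_lit 3,nat_lit 1,nat_lit 5,nat_lit 3,nat_lit 0,nat_lit 5])
) (.node (.leaf [nat_lit 56,nat_lit 7,nat_lit 1,nat_lit 1,nat_lit 3,nat_lit 6,nat_lit 3,nat_lit 1,nat_lit 4,nat_lit 3,nat_lit 2,nat_lit 1,nat_lit 5,nat_lit 6,nat_lit 5,nat_lit 0,nat_lit 2,nat_lit 3,nat_lit 4])
 (.leaf [nat_lit 15,nat_lit 11,nat_lit 1,nat_lit 0,nat_lit 1,nat_lit 1,nat_lit 2,nat_lit 1,nat_lit 1,nat_lit 1,nat_lit 2,nat_lit 4,nat_lit 3,nat_lit 4,nat_lit 2,nat_lit 1,nat_lit 2,nat_lit 1,nat_lit 3,nat_lit 0,nat_lit 2])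
))) (.node (.node (.node (.leaf [nat_lit 2,nat_lit 5,nat_lit 1,nat_lit 0,nat_lit 1,nat_lit 1,nat_lit 1,nat_lit 1,nat_lit 1,nat_lit 1])
 (.leaf [nat_lit 51,nat_lit 11,nat_lit 1,nat_lit 5,nat_lit 4,nat_lit 3,nat_lit 5,nat_lit 6,nat_lit 5,nat_lit 3,nat_lit 4,nat_lit 5,nat_lit 3,nat_lit 4,nat_lit 6,nat_lit 4,nat_lit 3])
) (.node (.leaf [nat_lit 16,nat_lit 7,nat_lit 1,nat_lit 1,nat_lit 4,nat_lit 1,nat_lit 2,nat_lit 0,nat_lit 0,nat_lit 2,nat_lit 3,nat_lit 0,nat_lit 3,nat_lit 1,nat_lit 1,nat_lit 1,nat_lit 3,nat_lit 4,nat_lit 1,nat_lit 4,nat_lit 0,nat_lit 4,nat_lit 0])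
 (.leaf [nat_lit 18,nat_lit 21,nat_lit 0,nat_lit 1,nat_lit 2,nat_lit 0,nat_lit 0,nat_lit 0,nat_lit 2,nat_lit 0,nat_lit 2,nat_lit 0,nat_lit 0,nat_lit 2,nat_lit 0,nat_lit 3,nat_lit 2,nat_lit 3,nat_lit 0,nat_lit 4,nat_lit 1,nat_lit 2,nat_lit 1,nat_lit 4,nat_lit 2,nat_lit 4])
)) (.node (.node (.leaf [nat_lit 5,nat_lit 22,nat_lit 1,nat_lit 0,nat_lit 1,nat_lit 2,nat_lit 1,nat_lit 2,nat_lit 1,nat_lit 1,nat_lit 2,nat_lit 1,nat_lit 1,nat_lit 2,nat_lit 1,nat_lit 2,nat_lit 1,nat_lit 1,nat_lit 2,nat_lit 1,nat_lit 1,nat_lit 2,nat_lit 1,nat_lit 2,nat_lit 1,nat_lit 1,nat_lit 2])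
 (.leaf [nat_lit 69,nat_lit 7,nat_lit 0,nat_lit 0,nat_lit 3,nat_lit 4,nat_lit 6,nat_lit 0,nat_lit 0,nat_lit 5,nat_lit 3,nat_lit 1,nat_lit 6,nat_lit 2,nat_lit 5,nat_lit 2,nat_lit 0,nat_lit 0,nat_lit 4,nat_lit 0,nat_lit 4,nat_lit 2,nat_lit 0,nat_lit 3,nat_lit 0,nat_lit 2,nat_lit 1,nat_lit 1,nat_lit 2,nat_lit 1,nat_lit 2,nat_lit 0,nat_lit 0,nat_lit 0,nat_lit 2,nat_lit 1,nat_lit 6,nat_lit 4])
) (.node (.leaf [nat_lit 51,nat_lit 10,nat_lit 1,nat_lit 3,nat_lit 5,nat_lit 4,nat_lit 3,nat_lit 5,nat_lit 6,nat_lit 5,nat_lit 3,nat_lit 4,nat_lit 5,nat_lit 3,nat_lit 4,nat_lit 6,nat_lit 4])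
 (.leaf [nat_lit 69,nat_lit 16,nat_lit 1,nat_lit 5,nat_lit 2,nat_lit 6,nat_lit 0,nat_lit 3,nat_lit 5,nat_lit 1,nat_lit 1,nat_lit 6,nat_lit 4,nat_lit 3,nat_lit 0,nat_lit 4,nat_lit 6,nat_lit 0,nat_lit 2,nat_lit 1,nat_lit 1,nat_lit 1,nat_lit 2,nat_lit 0,nat_lit 2,nat_lit 0,nat_lit 0,nat_lit 2,nat_lit 1,nat_lit 3,nat_lit 1,nat_lit 2,nat_lit 4,nat_lit 1,nat_lit 4,nat_lit 1,nat_lit 1,nat_lit 2])
)))) (.node (.node (.node (.node (.leaf [nat_lit 12,nat_lit 7,nat_lit 1,nat_lit 3,nat_lit 0,nat_lit 3,nat_lit 0,nat_lit 0,nat_lit 3,nat_lit 1,nat_lit 1,nat_lit 3,nat_lit 2,nat_lit 1,nat_lit 3,nat_lit 0,nat_lit 2,nat_lit 1])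
 (.leaf [nat_lit 67,nat_lit 11,nat_lit 1,nat_lit 2,nat_lit 4,nat_lit 0,nat_lit 0,nat_lit 4,nat_lit 1,nat_lit 1,nat_lit 6,nat_lit 0,nat_lit 0,nat_lit 4,nat_lit 1,nat_lit 1,nat_lit 4,nat_lit 2,nat_lit 5,nat_lit 6,nat_lit 5])
) (.node (.leaf [nat_lit 17,nat_lit 0,nat_lit 0,nat_lit 1,nat_lit 0,nat_lit 2,nat_lit 0,nat_lit 2,nat_lit 0,nat_lit 3,nat_lit 0,nat_lit 2,nat_lit 1,nat_lit 2,nat_lit 3,nat_lit 4,nat_lit 0,nat_lit 2,nat_lit 1,nat_lit 1,nat_lit 3,nat_lit 0,nat_lit 0,nat_lit 4])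
 (.leaf [nat_lit 24,nat_lit 4,nat_lit 0,nat_lit 1,nat_lit 2,nat_lit 5,nat_lit 1,nat_lit 3,nat_lit 0,nat_lit 5,nat_lit 1,nat_lit 3,nat_lit 0,nat_lit 2,nat_lit 1,nat_lit 3])
)) (.node (.node (.leaf [nat_lit 8,nat_lit 9,nat_lit 1,nat_lit 0,nat_lit 2,nat_lit 0,nat_lit 3,nat_lit 1,nat_lit 2,nat_lit 0,nat_lit 2,nat_lit 3,nat_lit 2])
 (.leaf [nat_lit 16,nat_lit 0,nat_lit 0,nat_lit 1,nat_lit 0,nat_lit 0,nat_lit 3,nat_lit 1,nat_lit 3,nat_lit 2,nat_lit 1,nat_lit 1,nat_lit 2,nat_lit 0,nat_lit 4,nat_lit 1,nat_lit 1,nat_lit 4,nat_lit 1,nat_lit 4,nat_lit 0,nat_lit 4,nat_lit 3])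
) (.node (.leaf [nat_lit 12,nat_lit 3,nat_lit 0,nat_lit 0,nat_lit 1,nat_lit 3,nat_lit 1,nat_lit 3,nat_lit 0,nat_lit 2,nat_lit 1,nat_lit 3,nat_lit 0,nat_lit 2,nat_lit 3,nat_lit 0,nat_lit 0,nat_lit 3])
 (.leaf [nat_lit 68,nat_lit 20,nat_lit 0,nat_lit 1,nat_lit 0,nat_lit 5,nat_lit 4,nat_lit 0,nat_lit 0,nat_lit 0,nat_lit 2,nat_lit 1,nat_lit 1,nat_lit 3,nat_lit 0,nat_lit 2,nat_lit 0,nat_lit 0,nat_lit 0,nat_lit 2,nat_lit 1,nat_lit 1,nat_lit 2,nat_lit 1,nat_lit 2,nat_lit 1,nat_lit 1,nat_lit 6,nat_lit 4,nat_lit 6,nat_lit 5,nat_lit 1,nat_lit 1,nat_lit 3,nat_lit 6,nat_lit 3])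
))) (.node (.node (.node (.leaf [nat_lit 56,nat_lit 13,nat_lit 1,nat_lit 3,nat_lit 2,nat_lit 1,nat_lit 5,nat_lit 6,nat_lit 5,nat_lit 0,nat_lit 2,nat_lit 3,nat_lit 4,nat_lit 0,nat_lit 3,nat_lit 6,nat_lit 3,nat_lit 1,nat_lit 4])
 (.leaf [nat_lit 27,nat_lit 5,nat_lit 1,nat_lit 2,nat_lit 4,nat_lit 3,nat_lit 4,nat_lit 2,nat_lit 5,nat_lit 1,nat_lit 3,nat_lit 1,nat_lit 5,nat_lit 0,nat_lit 3,nat_lit 0,nat_lit 5])
) (.node (.leaf [nat_lit 14,nat_lit 1,nat_lit 1,nat_lit 1,nat_lit 3,nat_lit 2,nat_lit 3,nat_lit 0,nat_lit 4,nat_lit 2,nat_lit 4,nat_lit 1,nat_lit 2,nat_lit 0,nat_lit 2,nat_lit 4,nat_lit 2,nat_lit 1,nat_lit 1,nat_lit 2])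
 (.leaf [nat_lit 15,nat_lit 13,nat_lit 0,nat_lit 2,nat_lit 4,nat_lit 3,nat_lit 4,nat_lit 2,nat_lit 0,nat_lit 0,nat_lit 0,nat_lit 2,nat_lit 0,nat_lit 0,nat_lit 0,nat_lit 2,nat_lit 1,nat_lit 3,nat_lit 0,nat_lit 2,nat_lit 0])
)) (.node (.node (.leaf [nat_lit 14,nat_lit 5,nat_lit 0,nat_lit 0,nat_lit 2,nat_lit 0,nat_lit 4,nat_lit 2,nat_lit 4,nat_lit 1,nat_lit 3,nat_lit 2,nat_lit 3,nat_lit 1,nat_lit 2,nat_lit 0,nat_lit 0,nat_lit 2,nat_lit 4,nat_lit 2])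
 (.leaf [nat_lit 12,nat_lit 11,nat_lit 0,nat_lit 3,nat_lit 0,nat_lit 2,nat_lit 3,nat_lit 0,nat_lit 0,nat_lit 3,nat_lit 1,nat_lit 1,nat_lit 3,nat_lit 1,nat_lit 3,nat_lit 0,nat_lit 2,nat_lit 1])
) (.leaf [nat_lit 53,nat_lit 12,nat_lit 1,nat_lit 2,nat_lit 3,nat_lit 1,nat_lit 4,nat_lit 3,nat_lit 6,nat_lit 4,nat_lit 2,nat_lit 4,nat_lit 6,nat_lit 3,nat_lit 4,nat_lit 2,nat_lit 0,nat_lit 3])
)))) (.node (.node (.node (.node (.node (.leaf [nat_lit 47,nat_lit 9,nat_lit 1,nat_lit 5,nat_lit 4,nat_lit 3,nat_lit 6,nat_lit 3,nat_lit 4,nat_lit 5,nat_lit 4,nat_lit 3,nat_lit 6,nat_lit 3,nat_lit 4])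
 (.leaf [nat_lit 22,nat_lit 13,nat_lit 1,nat_lit 0,nat_lit 5,nat_lit 1,nat_lit 3,nat_lit 5,nat_lit 0,nat_lit 3,nat_lit 1,nat_lit 5,nat_lit 3,nat_lit 0,nat_lit 5,nat_lit 0,nat_lit 3])
) (.node (.leaf [nat_lit 41,nat_lit 1,nat_lit 1,nat_lit 6,nat_lit 5,nat_lit 0,nat_lit 3,nat_lit 1,nat_lit 5,nat_lit 6,nat_lit 5,nat_lit 0,nat_lit 3,nat_lit 1,nat_lit 5])
 (.leaf [nat_lit 57,nat_lit 4,nat_lit 1,nat_lit 5,nat_lit 0,nat_lit 3,nat_lit 1,nat_lit 5,nat_lit 3,nat_lit 6,nat_lit 0,nat_lit 5,nat_lit 0,nat_lit 3,nat_lit 1,nat_lit 5,nat_lit 1,nat_lit 6,nat_lit 3])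
)) (.node (.node (.leaf [nat_lit 25,nat_lit 9,nat_lit 1,nat_lit 5,nat_lit 3,nat_lit 0,nat_lit 5,nat_lit 1,nat_lit 5,nat_lit 2,nat_lit 3,nat_lit 2,nat_lit 5,nat_lit 0,nat_lit 5,nat_lit 1,nat_lit 3])
 (.leaf [nat_lit 59,nat_lit 5,nat_lit 1,nat_lit 6,nat_lit 3,nat_lit 1,nat_lit 2,nat_lit 5,nat_lit 2,nat_lit 0,nat_lit 3,nat_lit 6,nat_lit 3,nat_lit 1,nat_lit 5,nat_lit 2,nat_lit 5,nat_lit 0,nat_lit 3])
) (.node (.leaf [nat_lit 38,nat_lit 1,nat_lit 1,nat_lit 4,nat_lit 6,nat_lit 4,nat_lit 3,nat_lit 2,nat_lit 3,nat_lit 4,nat_lit 6,nat_lit 4,nat_lit 3,nat_lit 2,nat_lit 3])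
 (.leaf [nat_lit 58,nat_lit 3,nat_lit 1,nat_lit 5,nat_lit 6,nat_lit 5,nat_lit 1,nat_lit 4,nat_lit 5,nat_lit 0,nat_lit 3,nat_lit 5,nat_lit 6,nat_lit 5,nat_lit 3,nat_lit 1,nat_lit 5,nat_lit 4,nat_lit 0])
))) (.node (.node (.node (.leaf [nat_lit 22,nat_lit 5,nat_lit 1,nat_lit 3,nat_lit 1,nat_lit 5,nat_lit 3,nat_lit 0,nat_lit 5,nat_lit 0,nat_lit 3,nat_lit 1,nat_lit 5,nat_lit 1,nat_lit 3,nat_lit 5,nat_lit 0])
 (.leaf [nat_lit 17,nat_lit 16,nat_lit 1,nat_lit 2,nat_lit 1,nat_lit 2,nat_lit 1,nat_lit 1,nat_lit 4,nat_lit 1,nat_lit 1,nat_lit 3,nat_lit 0,nat_lit 0,nat_lit 2,nat_lit 1,nat_lit 4,nat_lit 3,nat_lit 2,nat_lit 0,nat_lit 2,nat_lit 1,nat_lit 3,nat_lit 1])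
) (.node (.leaf [nat_lit 16,nat_lit 17,nat_lit 0,nat_lit 1,nat_lit 4,nat_lit 3,nat_lit 0,nat_lit 0,nat_lit 0,nat_lit 3,nat_lit 1,nat_lit 3,nat_lit 2,nat_lit 1,nat_lit 1,nat_lit 2,nat_lit 0,nat_lit 4,nat_lit 1,nat_lit 1,nat_lit 4,nat_lit 1,nat_lit 4])
 (.leaf [nat_lit 17,nat_lit 14,nat_lit 1,nat_lit 3,nat_lit 1,nat_lit 2,nat_lit 1,nat_lit 2,nat_lit 1,nat_lit 1,nat_lit 4,nat_lit 1,nat_lit 1,nat_lit 3,nat_lit 0,nat_lit 0,nat_lit 2,nat_lit 1,nat_lit 4,nat_lit 3,nat_lit 2,nat_lit 0,nat_lit 2,nat_lit 1])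
)) (.node (.node (.leaf [nat_lit 18,nat_lit 4,nat_lit 0,nat_lit 1,nat_lit 2,nat_lit 0,nat_lit 0,nat_lit 2,nat_lit 0,nat_lit 3,nat_lit 2,nat_lit 3,nat_lit 0,nat_lit 4,nat_lit 1,nat_lit 2,nat_lit 1,nat_lit 4,nat_lit 2,nat_lit 4,nat_lit 0,nat_lit 2,nat_lit 0,nat_lit 0,nat_lit 0,nat_lit 2])
 (.leaf [nat_lit 53,nat_lit 2,nat_lit 0,nat_lit 2,nat_lit 3,nat_lit 1,nat_lit 2,nat_lit 4,nat_lit 3,nat_lit 6,nat_lit 4,nat_lit 2,nat_lit 4,nat_lit 6,nat_lit 3,nat_lit 4,nat_lit 0,nat_lit 3])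
) (.node (.leaf [nat_lit 17,nat_lit 19,nat_lit 1,nat_lit 0,nat_lit 1,nat_lit 4,nat_lit 1,nat_lit 1,nat_lit 3,nat_lit 0,nat_lit 0,nat_lit 2,nat_lit 1,nat_lit 4,nat_lit 3,nat_lit 2,nat_lit 0,nat_lit 2,nat_lit 1,nat_lit 3,nat_lit 1,nat_lit 2,nat_lit 1,nat_lit 2])
 (.leaf [nat_lit 68,nat_lit 22,nat_lit 1,nat_lit 1,nat_lit 0,nat_lit 2,nat_lit 0,nat_lit 2,nat_lit 0,nat_lit 0,nat_lit 2,nat_lit 1,nat_lit 1,nat_lit 1,nat_lit 2,nat_lit 1,nat_lit 3,nat_lit 0,nat_lit 0,nat_lit 2,nat_lit 1,nat_lit 1,nat_lit 1,nat_lit 4,nat_lit 5,nat_lit 1,nat_lit 1,nat_lit 3,nat_lit 6,nat_lit 3,nat_lit 0,nat_lit 0,nat_lit 5,nat_lit 6,nat_lit 4,nat_lit 6])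
)))) (.node (.node (.node (.node (.leaf [nat_lit 8,nat_lit 4,nat_lit 1,nat_lit 2,nat_lit 0,nat_lit 2,nat_lit 3,nat_lit 2,nat_lit 1,nat_lit 2,nat_lit 0,nat_lit 3,nat_lit 1])
 (.leaf [nat_lit 66,nat_lit 6,nat_lit 1,nat_lit 1,nat_lit 3,nat_lit 4,nat_lit 5,nat_lit 2,nat_lit 6,nat_lit 2,nat_lit 5,nat_lit 4,nat_lit 3,nat_lit 1,nat_lit 1,nat_lit 3,nat_lit 2,nat_lit 6,nat_lit 2,nat_lit 3,nat_lit 0])
) (.node (.leaf [nat_lit 18,nat_lit 3,nat_lit 1,nat_lit 2,nat_lit 4,nat_lit 0,nat_lit 2,nat_lit 0,nat_lit 4,nat_lit 1,nat_lit 3,nat_lit 2,nat_lit 3,nat_lit 1,nat_lit 2,nat_lit 1,nat_lit 1,nat_lit 2,nat_lit 1,nat_lit 2,nat_lit 1,nat_lit 1,nat_lit 1,nat_lit 2,nat_lit 1,nat_lit 4])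
 (.leaf [nat_lit 17,nat_lit 10,nat_lit 0,nat_lit 2,nat_lit 3,nat_lit 4,nat_lit 0,nat_lit 2,nat_lit 1,nat_lit 1,nat_lit 3,nat_lit 0,nat_lit 0,nat_lit 4,nat_lit 0,nat_lit 0,nat_lit 2,nat_lit 0,nat_lit 2,nat_lit 0,nat_lit 3,nat_lit 0,nat_lit 2,nat_lit 1])
)) (.node (.node (.leaf [nat_lit 39,nat_lit 10,nat_lit 1,nat_lit 3,nat_lit 2,nat_lit 6,nat_lit 2,nat_lit 5,nat_lit 3,nat_lit 5,nat_lit 2,nat_lit 6,nat_lit 2,nat_lit 3,nat_lit 5])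
 (.leaf [nat_lit 25,nat_lit 11,nat_lit 1,nat_lit 1,nat_lit 5,nat_lit 1,nat_lit 5,nat_lit 2,nat_lit 3,nat_lit 2,nat_lit 5,nat_lit 0,nat_lit 5,nat_lit 1,nat_lit 3,nat_lit 5,nat_lit 3])
) (.node (.leaf [nat_lit 39,nat_lit 6,nat_lit 1,nat_lit 6,nat_lit 2,nat_lit 3,nat_lit 5,nat_lit 3,nat_lit 2,nat_lit 6,nat_lit 2,nat_lit 5,nat_lit 3,nat_lit 5,nat_lit 2])
 (.leaf [nat_lit 68,nat_lit 19,nat_lit 0,nat_lit 3,nat_lit 0,nat_lit 0,nat_lit 5,nat_lit 4,nat_lit 0,nat_lit 0,nat_lit 0,nat_lit 2,nat_lit 1,nat_lit 1,nat_lit 3,nat_lit 0,nat_lit 2,nat_lit 0,nat_lit 0,nat_lit 0,nat_lit 2,nat_lit 1,nat_lit 1,nat_lit 2,nat_lit 1,nat_lit 2,nat_lit 1,nat_lit 1,nat_lit 6,nat_lit 4,nat_lit 6,nat_lit 5,nat_lit 1,nat_lit 1,nat_lit 3,nat_lit 6])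
))) (.node (.node (.node (.leaf [nat_lit 25,nat_lit 0,nat_lit 1,nat_lit 5,nat_lit 2,nat_lit 3,nat_lit 2,nat_lit 5,nat_lit 0,nat_lit 5,nat_lit 1,nat_lit 3,nat_lit 5,nat_lit 3,nat_lit 0,nat_lit 5,nat_lit 1])
 (.leaf [nat_lit 17,nat_lit 17,nat_lit 1,nat_lit 0,nat_lit 2,nat_lit 1,nat_lit 1,nat_lit 4,nat_lit 1,nat_lit 1,nat_lit 3,nat_lit 0,nat_lit 0,nat_lit 2,nat_lit 1,nat_lit 4,nat_lit 3,nat_lit 2,nat_lit 0,nat_lit 2,nat_lit 1,nat_lit 3,nat_lit 1,nat_lit 2])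
) (.node (.leaf [nat_lit 14,nat_lit 12,nat_lit 1,nat_lit 2,nat_lit 4,nat_lit 2,nat_lit 1,nat_lit 1,nat_lit 2,nat_lit 0,nat_lit 3,nat_lit 2,nat_lit 3,nat_lit 0,nat_lit 4,nat_lit 2,nat_lit 4,nat_lit 1,nat_lit 2,nat_lit 0])
 (.leaf [nat_lit 12,nat_lit 8,nat_lit 0,nat_lit 1,nat_lit 2,nat_lit 1,nat_lit 3,nat_lit 0,nat_lit 2,nat_lit 3,nat_lit 0,nat_lit 0,nat_lit 3,nat_lit 1,nat_lit 1,nat_lit 3,nat_lit 1,nat_lit 3])
)) (.node (.node (.leaf [nat_lit 50,nat_lit 1,nat_lit 1,nat_lit 1,nat_lit 3,nat_lit 1,nat_lit 4,nat_lit 5,nat_lit 3,nat_lit 6,nat_lit 3,nat_lit 5,nat_lit 4,nat_lit 0,nat_lit 3,nat_lit 1,nat_lit 6])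
 (.leaf [nat_lit 53,nat_lit 10,nat_lit 1,nat_lit 1,nat_lit 3,nat_lit 2,nat_lit 3,nat_lit 1,nat_lit 4,nat_lit 3,nat_lit 6,nat_lit 4,nat_lit 2,nat_lit 4,nat_lit 6,nat_lit 3,nat_lit 4,nat_lit 2])
) (.leaf [nat_lit 50,nat_lit 5,nat_lit 1,nat_lit 5,nat_lit 3,nat_lit 6,nat_lit 3,nat_lit 5,nat_lit 4,nat_lit 0,nat_lit 3,nat_lit 1,nat_lit 6,nat_lit 0,nat_lit 3,nat_lit 1,nat_lit 4])
))))) (.node (.node (.node (.node (.node (.node (.leaf [nat_lit 52,nat_lit 0,nat_lit 1,nat_lit 2,nat_lit 0,nat_lit 2,nat_lit 6,nat_lit 1,nat_lit 2,nat_lit 0,nat_lit 6,nat_lit 2,nat_lit 1])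
 (.leaf [nat_lit 67,nat_lit 16,nat_lit 1,nat_lit 0,nat_lit 1,nat_lit 6,nat_lit 0,nat_lit 0,nat_lit 4,nat_lit 1,nat_lit 1,nat_lit 4,nat_lit 2,nat_lit 5,nat_lit 6,nat_lit 5,nat_lit 2,nat_lit 4,nat_lit 0,nat_lit 0,nat_lit 4])
) (.node (.leaf [nat_lit 66,nat_lit 1,nat_lit 1,nat_lit 2,nat_lit 6,nat_lit 2,nat_lit 3,nat_lit 0,nat_lit 0,nat_lit 3,nat_lit 4,nat_lit 5,nat_lit 2,nat_lit 6,nat_lit 2,nat_lit 5,nat_lit 4,nat_lit 3,nat_lit 1,nat_lit 1,nat_lit 3])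
 (.leaf [nat_lit 18,nat_lit 17,nat_lit 1,nat_lit 2,nat_lit 1,nat_lit 2,nat_lit 1,nat_lit 1,nat_lit 1,nat_lit 2,nat_lit 1,nat_lit 4,nat_lit 2,nat_lit 4,nat_lit 0,nat_lit 2,nat_lit 0,nat_lit 4,nat_lit 1,nat_lit 3,nat_lit 2,nat_lit 3,nat_lit 1,nat_lit 2,nat_lit 1,nat_lit 1])
)) (.node (.node (.leaf [nat_lit 63,nat_lit 4,nat_lit 1,nat_lit 5,nat_lit 0,nat_lit 5,nat_lit 6,nat_lit 1,nat_lit 2,nat_lit 5,nat_lit 2,nat_lit 0,nat_lit 6,nat_lit 5,nat_lit 1,nat_lit 5,nat_lit 3,nat_lit 2,nat_lit 3])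
 (.leaf [nat_lit 62,nat_lit 12,nat_lit 0,nat_lit 6,nat_lit 4,nat_lit 5,nat_lit 4,nat_lit 5,nat_lit 6,nat_lit 4,nat_lit 6,nat_lit 5,nat_lit 4,nat_lit 5,nat_lit 6,nat_lit 4])
) (.node (.leaf [nat_lit 69,nat_lit 24,nat_lit 1,nat_lit 6,nat_lit 4,nat_lit 3,nat_lit 0,nat_lit 4,nat_lit 6,nat_lit 0,nat_lit 2,nat_lit 1,nat_lit 1,nat_lit 1,nat_lit 2,nat_lit 0,nat_lit 2,nat_lit 0,nat_lit 0,nat_lit 2,nat_lit 1,nat_lit 3,nat_lit 1,nat_lit 2,nat_lit 4,nat_lit 1,nat_lit 4,nat_lit 1,nat_lit 1,nat_lit 2,nat_lit 5,nat_lit 2,nat_lit 6,nat_lit 0,nat_lit 3,nat_lit 5,nat_lit 1,nat_lit 1])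
 (.leaf [nat_lit 54,nat_lit 0,nat_lit 1,nat_lit 6,nat_lit 5,nat_lit 6,nat_lit 5,nat_lit 6,nat_lit 5,nat_lit 6,nat_lit 2,nat_lit 5,nat_lit 2,nat_lit 5,nat_lit 2])
))) (.node (.node (.node (.leaf [nat_lit 68,nat_lit 14,nat_lit 0,nat_lit 5,nat_lit 1,nat_lit 1,nat_lit 3,nat_lit 6,nat_lit 3,nat_lit 0,nat_lit 0,nat_lit 5,nat_lit 4,nat_lit 0,nat_lit 0,nat_lit 0,nat_lit 2,nat_lit 1,nat_lit 1,nat_lit 3,nat_lit 0,nat_lit 2,nat_lit 0,nat_lit 0,nat_lit 0,nat_lit 2,nat_lit 1,nat_lit 1,nat_lit 2,nat_lit 1,nat_lit 2,nat_lit 1,nat_lit 1,nat_lit 6,nat_lit 4,nat_lit 6])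
 (.leaf [nat_lit 15,nat_lit 4,nat_lit 1,nat_lit 2,nat_lit 1,nat_lit 2,nat_lit 1,nat_lit 3,nat_lit 0,nat_lit 2,nat_lit 1,nat_lit 1,nat_lit 1,nat_lit 2,nat_lit 1,nat_lit 1,nat_lit 1,nat_lit 2,nat_lit 4,nat_lit 3,nat_lit 4])
) (.node (.leaf [nat_lit 51,nat_lit 7,nat_lit 1,nat_lit 4,nat_lit 6,nat_lit 4,nat_lit 3,nat_lit 5,nat_lit 4,nat_lit 3,nat_lit 5,nat_lit 6,nat_lit 5,nat_lit 3,nat_lit 4,nat_lit 5,nat_lit 3])
 (.leaf [nat_lit 55,nat_lit 10,nat_lit 1,nat_lit 3,nat_lit 0,nat_lit 0,nat_lit 6,nat_lit 1,nat_lit 1,nat_lit 3,nat_lit 2,nat_lit 1,nat_lit 3,nat_lit 0,nat_lit 6,nat_lit 1,nat_lit 3,nat_lit 0,nat_lit 2])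
)) (.node (.node (.leaf [nat_lit 12,nat_lit 5,nat_lit 1,nat_lit 2,nat_lit 1,nat_lit 3,nat_lit 0,nat_lit 3,nat_lit 0,nat_lit 0,nat_lit 3,nat_lit 1,nat_lit 1,nat_lit 3,nat_lit 2,nat_lit 1,nat_lit 3,nat_lit 0])
 (.leaf [nat_lit 61,nat_lit 7,nat_lit 1,nat_lit 2,nat_lit 5,nat_lit 2,nat_lit 6,nat_lit 2,nat_lit 5,nat_lit 2,nat_lit 4,nat_lit 2,nat_lit 5,nat_lit 4,nat_lit 6,nat_lit 4,nat_lit 5,nat_lit 2,nat_lit 4])
) (.node (.leaf [nat_lit 10,nat_lit 8,nat_lit 1,nat_lit 3,nat_lit 0,nat_lit 2,nat_lit 1,nat_lit 1,nat_lit 1,nat_lit 3,nat_lit 2,nat_lit 3,nat_lit 0,nat_lit 0,nat_lit 0,nat_lit 2,nat_lit 1])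
 (.leaf [nat_lit 68,nat_lit 25,nat_lit 1,nat_lit 1,nat_lit 2,nat_lit 0,nat_lit 0,nat_lit 2,nat_lit 1,nat_lit 1,nat_lit 1,nat_lit 2,nat_lit 1,nat_lit 3,nat_lit 0,nat_lit 0,nat_lit 2,nat_lit 1,nat_lit 1,nat_lit 1,nat_lit 4,nat_lit 5,nat_lit 1,nat_lit 1,nat_lit 3,nat_lit 6,nat_lit 3,nat_lit 0,nat_lit 0,nat_lit 5,nat_lit 6,nat_lit 4,nat_lit 6,nat_lit 0,nat_lit 0,nat_lit 2])
)))) (.node (.node (.node (.node (.leaf [nat_lit 26,nat_lit 1,nat_lit 1,nat_lit 4,nat_lit 5,nat_lit 2,nat_lit 5,nat_lit 4,nat_lit 5,nat_lit 2,nat_lit 0,nat_lit 0,nat_lit 5,nat_lit 1,nat_lit 1,nat_lit 5])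
 (.leaf [nat_lit 14,nat_lit 10,nat_lit 0,nat_lit 4,nat_lit 1,nat_lit 3,nat_lit 2,nat_lit 3,nat_lit 1,nat_lit 2,nat_lit 0,nat_lit 0,nat_lit 2,nat_lit 4,nat_lit 2,nat_lit 1,nat_lit 2,nat_lit 0,nat_lit 4,nat_lit 2])
) (.node (.leaf [nat_lit 62,nat_lit 1,nat_lit 1,nat_lit 4,nat_lit 6,nat_lit 5,nat_lit 4,nat_lit 5,nat_lit 6,nat_lit 4,nat_lit 6,nat_lit 5,nat_lit 4,nat_lit 5,nat_lit 4,nat_lit 6])
 (.leaf [nat_lit 68,nat_lit 21,nat_lit 0,nat_lit 1,nat_lit 5,nat_lit 4,nat_lit 0,nat_lit 0,nat_lit 0,nat_lit 2,nat_lit 1,nat_lit 1,nat_lit 3,nat_lit 0,nat_lit 2,nat_lit 0,nat_lit 0,nat_lit 0,nat_lit 2,nat_lit 1,nat_lit 1,nat_lit 2,nat_lit 1,nat_lit 2,nat_lit 1,nat_lit 1,nat_lit 6,nat_lit 4,nat_lit 6,nat_lit 5,nat_lit 1,nat_lit 1,nat_lit 3,nat_lit 6,nat_lit 3,nat_lit 0])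
)) (.node (.node (.leaf [nat_lit 58,nat_lit 1,nat_lit 1,nat_lit 4,nat_lit 0,nat_lit 5,nat_lit 6,nat_lit 5,nat_lit 1,nat_lit 4,nat_lit 5,nat_lit 0,nat_lit 3,nat_lit 5,nat_lit 6,nat_lit 5,nat_lit 3,nat_lit 1,nat_lit 5])
 (.leaf [nat_lit 57,nat_lit 8,nat_lit 1,nat_lit 5,nat_lit 3,nat_lit 6,nat_lit 0,nat_lit 5,nat_lit 0,nat_lit 3,nat_lit 1,nat_lit 5,nat_lit 1,nat_lit 6,nat_lit 3,nat_lit 5,nat_lit 0,nat_lit 3,nat_lit 1])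
) (.node (.leaf [nat_lit 68,nat_lit 18,nat_lit 0,nat_lit 6,nat_lit 3,nat_lit 0,nat_lit 0,nat_lit 5,nat_lit 4,nat_lit 0,nat_lit 0,nat_lit 0,nat_lit 2,nat_lit 1,nat_lit 1,nat_lit 3,nat_lit 0,nat_lit 2,nat_lit 0,nat_lit 0,nat_lit 0,nat_lit 2,nat_lit 1,nat_lit 1,nat_lit 2,nat_lit 1,nat_lit 2,nat_lit 1,nat_lit 1,nat_lit 6,nat_lit 4,nat_lit 6,nat_lit 5,nat_lit 1,nat_lit 1,nat_lit 3])
 (.leaf [nat_lit 68,nat_lit 11,nat_lit 0,nat_lit 6,nat_lit 4,nat_lit 6,nat_lit 5,nat_lit 1,nat_lit 1,nat_lit 3,nat_lit 6,nat_lit 3,nat_lit 0,nat_lit 0,nat_lit 5,nat_lit 4,nat_lit 0,nat_lit 0,nat_lit 0,nat_lit 2,nat_lit 1,nat_lit 1,nat_lit 3,nat_lit 0,nat_lit 2,nat_lit 0,nat_lit 0,nat_lit 0,nat_lit 2,nat_lit 1,nat_lit 1,nat_lit 2,nat_lit 1,nat_lit 2,nat_lit 1,nat_lit 1])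
))) (.node (.node (.node (.leaf [nat_lit 28,nat_lit 12,nat_lit 1,nat_lit 2,nat_lit 1,nat_lit 4,nat_lit 5,nat_lit 4,nat_lit 2,nat_lit 0,nat_lit 2,nat_lit 1,nat_lit 4,nat_lit 5,nat_lit 4,nat_lit 2,nat_lit 0])
 (.leaf [nat_lit 16,nat_lit 7,nat_lit 0,nat_lit 0,nat_lit 1,nat_lit 2,nat_lit 0,nat_lit 4,nat_lit 1,nat_lit 1,nat_lit 4,nat_lit 1,nat_lit 4,nat_lit 0,nat_lit 4,nat_lit 3,nat_lit 0,nat_lit 0,nat_lit 0,nat_lit 3,nat_lit 1,nat_lit 3,nat_lit 2])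
) (.node (.leaf [nat_lit 10,nat_lit 6,nat_lit 1,nat_lit 2,nat_lit 1,nat_lit 3,nat_lit 0,nat_lit 2,nat_lit 1,nat_lit 1,nat_lit 1,nat_lit 3,nat_lit 2,nat_lit 3,nat_lit 0,nat_lit 0,nat_lit 0])
 (.leaf [nat_lit 17,nat_lit 2,nat_lit 0,nat_lit 2,nat_lit 0,nat_lit 2,nat_lit 0,nat_lit 3,nat_lit 0,nat_lit 2,nat_lit 1,nat_lit 2,nat_lit 3,nat_lit 4,nat_lit 0,nat_lit 2,nat_lit 1,nat_lit 1,nat_lit 3,nat_lit 0,nat_lit 0,nat_lit 4,nat_lit 0,nat_lit 0])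
)) (.node (.node (.leaf [nat_lit 47,nat_lit 8,nat_lit 1,nat_lit 4,nat_lit 5,nat_lit 4,nat_lit 3,nat_lit 6,nat_lit 3,nat_lit 4,nat_lit 5,nat_lit 4,nat_lit 3,nat_lit 6,nat_lit 3])
 (.leaf [nat_lit 50,nat_lit 13,nat_lit 1,nat_lit 0,nat_lit 6,nat_lit 0,nat_lit 3,nat_lit 1,nat_lit 4,nat_lit 5,nat_lit 3,nat_lit 6,nat_lit 3,nat_lit 5,nat_lit 4,nat_lit 0,nat_lit 3])
) (.leaf [nat_lit 68,nat_lit 2,nat_lit 1,nat_lit 3,nat_lit 0,nat_lit 0,nat_lit 2,nat_lit 1,nat_lit 1,nat_lit 1,nat_lit 4,nat_lit 5,nat_lit 1,nat_lit 1,nat_lit 3,nat_lit 6,nat_lit 3,nat_lit 0,nat_lit 0,nat_lit 5,nat_lit 6,nat_lit 4,nat_lit 6,nat_lit 0,nat_lit 0,nat_lit 2,nat_lit 0,nat_lit 2,nat_lit 0,nat_lit 0,nat_lit 2,nat_lit 1,nat_lit 1,nat_lit 1,nat_lit 2,nat_lit 1])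
)))) (.node (.node (.node (.node (.node (.leaf [nat_lit 44,nat_lit 10,nat_lit 1,nat_lit 3,nat_lit 2,nat_lit 5,nat_lit 6,nat_lit 5,nat_lit 2,nat_lit 3,nat_lit 2,nat_lit 5,nat_lit 6,nat_lit 5,nat_lit 2])
 (.leaf [nat_lit 65,nat_lit 1,nat_lit 1,nat_lit 1,nat_lit 2,nat_lit 5,nat_lit 4,nat_lit 3,nat_lit 5,nat_lit 0,nat_lit 3,nat_lit 6,nat_lit 3,nat_lit 1,nat_lit 5,nat_lit 3,nat_lit 4,nat_lit 5,nat_lit 2,nat_lit 1,nat_lit 6])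
) (.node (.leaf [nat_lit 56,nat_lit 12,nat_lit 1,nat_lit 4,nat_lit 3,nat_lit 2,nat_lit 1,nat_lit 5,nat_lit 6,nat_lit 5,nat_lit 0,nat_lit 2,nat_lit 3,nat_lit 4,nat_lit 0,nat_lit 3,nat_lit 6,nat_lit 3,nat_lit 1])
 (.leaf [nat_lit 17,nat_lit 5,nat_lit 1,nat_lit 1,nat_lit 2,nat_lit 1,nat_lit 4,nat_lit 3,nat_lit 2,nat_lit 0,nat_lit 2,nat_lit 1,nat_lit 3,nat_lit 1,nat_lit 2,nat_lit 1,nat_lit 2,nat_lit 1,nat_lit 1,nat_lit 4,nat_lit 1,nat_lit 1,nat_lit 3,nat_lit 0])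
)) (.node (.node (.leaf [nat_lit 56,nat_lit 8,nat_lit 1,nat_lit 3,nat_lit 6,nat_lit 3,nat_lit 1,nat_lit 4,nat_lit 3,nat_lit 2,nat_lit 1,nat_lit 5,nat_lit 6,nat_lit 5,nat_lit 0,nat_lit 2,nat_lit 3,nat_lit 4,nat_lit 0])
 (.leaf [nat_lit 59,nat_lit 14,nat_lit 1,nat_lit 3,nat_lit 1,nat_lit 5,nat_lit 2,nat_lit 5,nat_lit 0,nat_lit 3,nat_lit 6,nat_lit 3,nat_lit 1,nat_lit 2,nat_lit 5,nat_lit 2,nat_lit 0,nat_lit 3,nat_lit 6])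
) (.node (.leaf [nat_lit 41,nat_lit 5,nat_lit 1,nat_lit 0,nat_lit 5,nat_lit 6,nat_lit 5,nat_lit 0,nat_lit 3,nat_lit 1,nat_lit 5,nat_lit 6,nat_lit 5,nat_lit 0,nat_lit 3])
 (.leaf [nat_lit 68,nat_lit 28,nat_lit 1,nat_lit 1,nat_lit 2,nat_lit 1,nat_lit 1,nat_lit 1,nat_lit 2,nat_lit 1,nat_lit 3,nat_lit 0,nat_lit 0,nat_lit 2,nat_lit 1,nat_lit 1,nat_lit 1,nat_lit 4,nat_lit 5,nat_lit 1,nat_lit 1,nat_lit 3,nat_lit 6,nat_lit 3,nat_lit 0,nat_lit 0,nat_lit 5,nat_lit 6,nat_lit 4,nat_lit 6,nat_lit 0,nat_lit 0,nat_lit 2,nat_lit 0,nat_lit 2,nat_lit 0])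
))) (.node (.node (.node (.leaf [nat_lit 51,nat_lit 4,nat_lit 1,nat_lit 4,nat_lit 5,nat_lit 3,nat_lit 4,nat_lit 6,nat_lit 4,nat_lit 3,nat_lit 5,nat_lit 4,nat_lit 3,nat_lit 5,nat_lit 6,nat_lit 5,nat_lit 3])
 (.leaf [nat_lit 25,nat_lit 13,nat_lit 1,nat_lit 0,nat_lit 5,nat_lit 2,nat_lit 3,nat_lit 2,nat_lit 5,nat_lit 0,nat_lit 5,nat_lit 1,nat_lit 3,nat_lit 5,nat_lit 3,nat_lit 0,nat_lit 5])
) (.node (.leaf [nat_lit 54,nat_lit 9,nat_lit 1,nat_lit 2,nat_lit 5,nat_lit 2,nat_lit 6,nat_lit 5,nat_lit 6,nat_lit 5,nat_lit 6,nat_lit 5,nat_lit 6,nat_lit 2,nat_lit 5])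
 (.leaf [nat_lit 53,nat_lit 12,nat_lit 0,nat_lit 6,nat_lit 3,nat_lit 4,nat_lit 0,nat_lit 3,nat_lit 2,nat_lit 3,nat_lit 1,nat_lit 2,nat_lit 4,nat_lit 3,nat_lit 6,nat_lit 4,nat_lit 2,nat_lit 4])
)) (.node (.node (.leaf [nat_lit 4,nat_lit 5,nat_lit 1,nat_lit 0,nat_lit 1,nat_lit 2,nat_lit 0,nat_lit 0,nat_lit 2,nat_lit 1,nat_lit 1,nat_lit 2,nat_lit 0,nat_lit 2,nat_lit 0,nat_lit 2])
 (.leaf [nat_lit 41,nat_lit 9,nat_lit 1,nat_lit 1,nat_lit 3,nat_lit 1,nat_lit 5,nat_lit 6,nat_lit 5,nat_lit 0,nat_lit 3,nat_lit 1,nat_lit 5,nat_lit 6,nat_lit 5])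
) (.leaf [nat_lit 23,nat_lit 1,nat_lit 1,nat_lit 1,nat_lit 0,nat_lit 2,nat_lit 5,nat_lit 1,nat_lit 2,nat_lit 0,nat_lit 5,nat_lit 2,nat_lit 1,nat_lit 1,nat_lit 2])
))) (.node (.node (.node (.node (.leaf [nat_lit 60,nat_lit 1,nat_lit 1,nat_lit 1,nat_lit 5,nat_lit 3,nat_lit 6,nat_lit 3,nat_lit 5,nat_lit 1,nat_lit 5,nat_lit 0,nat_lit 5,nat_lit 2,nat_lit 6,nat_lit 2,nat_lit 5,nat_lit 1,nat_lit 5])
 (.leaf [nat_lit 65,nat_lit 15,nat_lit 1,nat_lit 5,nat_lit 2,nat_lit 1,nat_lit 6,nat_lit 0,nat_lit 2,nat_lit 5,nat_lit 4,nat_lit 3,nat_lit 5,nat_lit 0,nat_lit 3,nat_lit 6,nat_lit 3,nat_lit 1,nat_lit 5,nat_lit 3,nat_lit 4])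
) (.node (.leaf [nat_lit 14,nat_lit 13,nat_lit 0,nat_lit 2,nat_lit 3,nat_lit 1,nat_lit 2,nat_lit 0,nat_lit 0,nat_lit 2,nat_lit 4,nat_lit 2,nat_lit 1,nat_lit 2,nat_lit 0,nat_lit 4,nat_lit 2,nat_lit 4,nat_lit 1,nat_lit 3])
 (.leaf [nat_lit 12,nat_lit 10,nat_lit 0,nat_lit 0,nat_lit 3,nat_lit 0,nat_lit 2,nat_lit 3,nat_lit 0,nat_lit 0,nat_lit 3,nat_lit 1,nat_lit 1,nat_lit 3,nat_lit 1,nat_lit 3,nat_lit 0,nat_lit 2])
)) (.node (.node (.leaf [nat_lit 14,nat_lit 7,nat_lit 1,nat_lit 2,nat_lit 4,nat_lit 1,nat_lit 2,nat_lit 0,nat_lit 2,nat_lit 4,nat_lit 2,nat_lit 1,nat_lit 1,nat_lit 2,nat_lit 0,nat_lit 3,nat_lit 2,nat_lit 3,nat_lit 0,nat_lit 4])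
 (.leaf [nat_lit 51,nat_lit 0,nat_lit 1,nat_lit 5,nat_lit 6,nat_lit 5,nat_lit 3,nat_lit 4,nat_lit 5,nat_lit 3,nat_lit 4,nat_lit 6,nat_lit 4,nat_lit 3,nat_lit 5,nat_lit 4,nat_lit 3])
) (.node (.leaf [nat_lit 16,nat_lit 16,nat_lit 0,nat_lit 4,nat_lit 0,nat_lit 4,nat_lit 3,nat_lit 0,nat_lit 0,nat_lit 0,nat_lit 3,nat_lit 1,nat_lit 3,nat_lit 2,nat_lit 1,nat_lit 1,nat_lit 2,nat_lit 0,nat_lit 4,nat_lit 1,nat_lit 1,nat_lit 4,nat_lit 1])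
 (.leaf [nat_lit 68,nat_lit 30,nat_lit 1,nat_lit 0,nat_lit 1,nat_lit 1,nat_lit 2,nat_lit 1,nat_lit 3,nat_lit 0,nat_lit 0,nat_lit 2,nat_lit 1,nat_lit 1,nat_lit 1,nat_lit 4,nat_lit 5,nat_lit 1,nat_lit 1,nat_lit 3,nat_lit 6,nat_lit 3,nat_lit 0,nat_lit 0,nat_lit 5,nat_lit 6,nat_lit 4,nat_lit 6,nat_lit 0,nat_lit 0,nat_lit 2,nat_lit 0,nat_lit 2,nat_lit 0,nat_lit 0,nat_lit 2])
))) (.node (.node (.node (.leaf [nat_lit 12,nat_lit 12,nat_lit 1,nat_lit 3,nat_lit 1,nat_lit 1,nat_lit 3,nat_lit 2,nat_lit 1,nat_lit 3,nat_lit 0,nat_lit 2,nat_lit 1,nat_lit 3,nat_lit 0,nat_lit 3,nat_lit 0,nat_lit 0])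
 (.leaf [nat_lit 18,nat_lit 11,nat_lit 1,nat_lit 2,nat_lit 3,nat_lit 1,nat_lit 2,nat_lit 1,nat_lit 1,nat_lit 2,nat_lit 1,nat_lit 2,nat_lit 1,nat_lit 1,nat_lit 1,nat_lit 2,nat_lit 1,nat_lit 4,nat_lit 2,nat_lit 4,nat_lit 0,nat_lit 2,nat_lit 0,nat_lit 4,nat_lit 1,nat_lit 3])
) (.node (.leaf [nat_lit 14,nat_lit 7,nat_lit 0,nat_lit 1,nat_lit 4,nat_lit 2,nat_lit 4,nat_lit 1,nat_lit 3,nat_lit 2,nat_lit 3,nat_lit 1,nat_lit 2,nat_lit 0,nat_lit 0,nat_lit 2,nat_lit 4,nat_lit 2,nat_lit 1,nat_lit 2])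
 (.leaf [nat_lit 17,nat_lit 3,nat_lit 0,nat_lit 1,nat_lit 2,nat_lit 0,nat_lit 3,nat_lit 0,nat_lit 2,nat_lit 1,nat_lit 2,nat_lit 3,nat_lit 4,nat_lit 0,nat_lit 2,nat_lit 1,nat_lit 1,nat_lit 3,nat_lit 0,nat_lit 0,nat_lit 4,nat_lit 0,nat_lit 0,nat_lit 2])
)) (.node (.node (.leaf [nat_lit 61,nat_lit 6,nat_lit 1,nat_lit 4,nat_lit 2,nat_lit 5,nat_lit 2,nat_lit 6,nat_lit 2,nat_lit 5,nat_lit 2,nat_lit 4,nat_lit 2,nat_lit 5,nat_lit 4,nat_lit 6,nat_lit 4,nat_lit 5,nat_lit 2])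
 (.leaf [nat_lit 17,nat_lit 6,nat_lit 1,nat_lit 2,nat_lit 1,nat_lit 4,nat_lit 3,nat_lit 2,nat_lit 0,nat_lit 2,nat_lit 1,nat_lit 3,nat_lit 1,nat_lit 2,nat_lit 1,nat_lit 2,nat_lit 1,nat_lit 1,nat_lit 4,nat_lit 1,nat_lit 1,nat_lit 3,nat_lit 0,nat_lit 0])
) (.leaf [nat_lit 49,nat_lit 10,nat_lit 1,nat_lit 5,nat_lit 1,nat_lit 1,nat_lit 2,nat_lit 0,nat_lit 2,nat_lit 0,nat_lit 5,nat_lit 6,nat_lit 1,nat_lit 2,nat_lit 0,nat_lit 6])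
)))))) (.node (.node (.node (.node (.node (.node (.node (.leaf [nat_lit 32,nat_lit 3,nat_lit 1,nat_lit 0,nat_lit 5,nat_lit 0,nat_lit 6,nat_lit 1,nat_lit 5,nat_lit 0,nat_lit 6])
 (.leaf [nat_lit 16,nat_lit 9,nat_lit 1,nat_lit 0,nat_lit 2,nat_lit 0,nat_lit 0,nat_lit 2,nat_lit 3,nat_lit 0,nat_lit 3,nat_lit 1,nat_lit 1,nat_lit 1,nat_lit 3,nat_lit 4,nat_lit 1,nat_lit 4,nat_lit 0,nat_lit 4,nat_lit 0,nat_lit 0,nat_lit 4])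
) (.node (.leaf [nat_lit 47,nat_lit 10,nat_lit 1,nat_lit 4,nat_lit 3,nat_lit 6,nat_lit 3,nat_lit 4,nat_lit 5,nat_lit 4,nat_lit 3,nat_lit 6,nat_lit 3,nat_lit 4,nat_lit 5])
 (.leaf [nat_lit 50,nat_lit 7,nat_lit 1,nat_lit 6,nat_lit 3,nat_lit 5,nat_lit 4,nat_lit 0,nat_lit 3,nat_lit 1,nat_lit 6,nat_lit 0,nat_lit 3,nat_lit 1,nat_lit 4,nat_lit 5,nat_lit 3])
)) (.node (.node (.leaf [nat_lit 41,nat_lit 8,nat_lit 1,nat_lit 5,nat_lit 0,nat_lit 3,nat_lit 1,nat_lit 5,nat_lit 6,nat_lit 5,nat_lit 0,nat_lit 3,nat_lit 1,nat_lit 5,nat_lit 6])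
 (.leaf [nat_lit 56,nat_lit 5,nat_lit 1,nat_lit 3,nat_lit 4,nat_lit 0,nat_lit 3,nat_lit 6,nat_lit 3,nat_lit 1,nat_lit 4,nat_lit 3,nat_lit 2,nat_lit 1,nat_lit 5,nat_lit 6,nat_lit 5,nat_lit 0,nat_lit 2])
) (.node (.leaf [nat_lit 52,nat_lit 8,nat_lit 1,nat_lit 2,nat_lit 1,nat_lit 2,nat_lit 0,nat_lit 2,nat_lit 6,nat_lit 1,nat_lit 2,nat_lit 0,nat_lit 6])
 (.leaf [nat_lit 67,nat_lit 7,nat_lit 1,nat_lit 2,nat_lit 5,nat_lit 6,nat_lit 5,nat_lit 2,nat_lit 4,nat_lit 0,nat_lit 0,nat_lit 4,nat_lit 1,nat_lit 1,nat_lit 6,nat_lit 0,nat_lit 0,nat_lit 4,nat_lit 1,nat_lit 1,nat_lit 4])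
))) (.node (.node (.node (.leaf [nat_lit 21,nat_lit 10,nat_lit 1,nat_lit 3,nat_lit 1,nat_lit 5,nat_lit 0,nat_lit 3,nat_lit 1,nat_lit 5,nat_lit 0,nat_lit 3,nat_lit 1,nat_lit 5,nat_lit 0])
 (.leaf [nat_lit 15,nat_lit 7,nat_lit 1,nat_lit 0,nat_lit 3,nat_lit 0,nat_lit 2,nat_lit 1,nat_lit 1,nat_lit 1,nat_lit 2,nat_lit 1,nat_lit 1,nat_lit 1,nat_lit 2,nat_lit 4,nat_lit 3,nat_lit 4,nat_lit 2,nat_lit 1,nat_lit 2])
) (.node (.leaf [nat_lit 53,nat_lit 13,nat_lit 1,nat_lit 3,nat_lit 1,nat_lit 4,nat_lit 3,nat_lit 6,nat_lit 4,nat_lit 2,nat_lit 4,nat_lit 6,nat_lit 3,nat_lit 4,nat_lit 2,nat_lit 0,nat_lit 3,nat_lit 2])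
 (.leaf [nat_lit 53,nat_lit 3,nat_lit 1,nat_lit 4,nat_lit 2,nat_lit 4,nat_lit 6,nat_lit 3,nat_lit 4,nat_lit 2,nat_lit 0,nat_lit 3,nat_lit 2,nat_lit 3,nat_lit 1,nat_lit 4,nat_lit 3,nat_lit 6])
)) (.node (.node (.leaf [nat_lit 10,nat_lit 12,nat_lit 1,nat_lit 0,nat_lit 1,nat_lit 3,nat_lit 2,nat_lit 3,nat_lit 0,nat_lit 0,nat_lit 0,nat_lit 2,nat_lit 1,nat_lit 3,nat_lit 0,nat_lit 2,nat_lit 1])
 (.leaf [nat_lit 5,nat_lit 5,nat_lit 0,nat_lit 2,nat_lit 0,nat_lit 2,nat_lit 0,nat_lit 0,nat_lit 2,nat_lit 0,nat_lit 0,nat_lit 2,nat_lit 0,nat_lit 2,nat_lit 0,nat_lit 0,nat_lit 2,nat_lit 0,nat_lit 0,nat_lit 2,nat_lit 0,nat_lit 2,nat_lit 0,nat_lit 0,nat_lit 2,nat_lit 0,nat_lit 0])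
) (.node (.leaf [nat_lit 65,nat_lit 2,nat_lit 1,nat_lit 2,nat_lit 5,nat_lit 4,nat_lit 3,nat_lit 5,nat_lit 0,nat_lit 3,nat_lit 6,nat_lit 3,nat_lit 1,nat_lit 5,nat_lit 3,nat_lit 4,nat_lit 5,nat_lit 2,nat_lit 1,nat_lit 6,nat_lit 0])
 (.leaf [nat_lit 68,nat_lit 8,nat_lit 1,nat_lit 0,nat_lit 4,nat_lit 5,nat_lit 1,nat_lit 1,nat_lit 3,nat_lit 6,nat_lit 3,nat_lit 0,nat_lit 0,nat_lit 5,nat_lit 6,nat_lit 4,nat_lit 6,nat_lit 0,nat_lit 0,nat_lit 2,nat_lit 0,nat_lit 2,nat_lit 0,nat_lit 0,nat_lit 2,nat_lit 1,nat_lit 1,nat_lit 1,nat_lit 2,nat_lit 1,nat_lit 3,nat_lit 0,nat_lit 0,nat_lit 2,nat_lit 1,nat_lit 1])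
)))) (.node (.node (.node (.node (.leaf [nat_lit 20,nat_lit 4,nat_lit 1,nat_lit 5,nat_lit 3,nat_lit 5,nat_lit 3,nat_lit 5,nat_lit 3])
 (.leaf [nat_lit 63,nat_lit 15,nat_lit 1,nat_lit 0,nat_lit 5,nat_lit 3,nat_lit 2,nat_lit 3,nat_lit 5,nat_lit 0,nat_lit 5,nat_lit 6,nat_lit 1,nat_lit 2,nat_lit 5,nat_lit 2,nat_lit 0,nat_lit 6,nat_lit 5])
) (.node (.leaf [nat_lit 60,nat_lit 8,nat_lit 1,nat_lit 5,nat_lit 0,nat_lit 5,nat_lit 2,nat_lit 6,nat_lit 2,nat_lit 5,nat_lit 1,nat_lit 5,nat_lit 0,nat_lit 5,nat_lit 3,nat_lit 6,nat_lit 3,nat_lit 5,nat_lit 1])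
 (.leaf [nat_lit 57,nat_lit 5,nat_lit 1,nat_lit 1,nat_lit 3,nat_lit 1,nat_lit 5,nat_lit 3,nat_lit 6,nat_lit 0,nat_lit 5,nat_lit 0,nat_lit 3,nat_lit 1,nat_lit 5,nat_lit 1,nat_lit 6,nat_lit 3,nat_lit 5])
)) (.node (.node (.leaf [nat_lit 17,nat_lit 8,nat_lit 0,nat_lit 2,nat_lit 1,nat_lit 2,nat_lit 3,nat_lit 4,nat_lit 0,nat_lit 2,nat_lit 1,nat_lit 1,nat_lit 3,nat_lit 0,nat_lit 0,nat_lit 4,nat_lit 0,nat_lit 0,nat_lit 2,nat_lit 0,nat_lit 2,nat_lit 0,nat_lit 3,nat_lit 0])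
 (.leaf [nat_lit 55,nat_lit 3,nat_lit 1,nat_lit 3,nat_lit 0,nat_lit 6,nat_lit 1,nat_lit 3,nat_lit 0,nat_lit 2,nat_lit 3,nat_lit 0,nat_lit 0,nat_lit 6,nat_lit 1,nat_lit 1,nat_lit 3,nat_lit 2,nat_lit 1])
) (.node (.leaf [nat_lit 14,nat_lit 11,nat_lit 0,nat_lit 0,nat_lit 3,nat_lit 2,nat_lit 3,nat_lit 1,nat_lit 2,nat_lit 0,nat_lit 0,nat_lit 2,nat_lit 4,nat_lit 2,nat_lit 1,nat_lit 2,nat_lit 0,nat_lit 4,nat_lit 2,nat_lit 4])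
 (.leaf [nat_lit 4,nat_lit 3,nat_lit 0,nat_lit 0,nat_lit 1,nat_lit 2,nat_lit 0,nat_lit 0,nat_lit 2,nat_lit 1,nat_lit 2,nat_lit 1,nat_lit 2,nat_lit 0,nat_lit 0,nat_lit 2])
))) (.node (.node (.node (.leaf [nat_lit 62,nat_lit 7,nat_lit 0,nat_lit 5,nat_lit 4,nat_lit 5,nat_lit 6,nat_lit 4,nat_lit 6,nat_lit 4,nat_lit 5,nat_lit 4,nat_lit 5,nat_lit 6,nat_lit 4,nat_lit 6])
 (.leaf [nat_lit 62,nat_lit 8,nat_lit 1,nat_lit 6,nat_lit 5,nat_lit 4,nat_lit 5,nat_lit 4,nat_lit 6,nat_lit 4,nat_lit 6,nat_lit 5,nat_lit 4,nat_lit 5,nat_lit 6,nat_lit 4])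
) (.node (.leaf [nat_lit 18,nat_lit 22,nat_lit 1,nat_lit 0,nat_lit 2,nat_lit 1,nat_lit 4,nat_lit 2,nat_lit 4,nat_lit 0,nat_lit 2,nat_lit 0,nat_lit 4,nat_lit 1,nat_lit 3,nat_lit 2,nat_lit 3,nat_lit 1,nat_lit 2,nat_lit 1,nat_lit 1,nat_lit 2,nat_lit 1,nat_lit 2,nat_lit 1,nat_lit 1])
 (.leaf [nat_lit 14,nat_lit 16,nat_lit 0,nat_lit 2,nat_lit 0,nat_lit 0,nat_lit 2,nat_lit 4,nat_lit 2,nat_lit 1,nat_lit 2,nat_lit 0,nat_lit 4,nat_lit 2,nat_lit 4,nat_lit 1,nat_lit 3,nat_lit 2,nat_lit 3,nat_lit 1])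
)) (.node (.node (.leaf [nat_lit 9,nat_lit 3,nat_lit 1,nat_lit 1,nat_lit 2,nat_lit 1,nat_lit 3,nat_lit 2,nat_lit 3,nat_lit 0,nat_lit 2,nat_lit 1,nat_lit 3,nat_lit 2,nat_lit 3])
 (.leaf [nat_lit 14,nat_lit 6,nat_lit 0,nat_lit 2,nat_lit 0,nat_lit 4,nat_lit 2,nat_lit 4,nat_lit 1,nat_lit 3,nat_lit 2,nat_lit 3,nat_lit 1,nat_lit 2,nat_lit 0,nat_lit 0,nat_lit 2,nat_lit 4,nat_lit 2,nat_lit 1])
) (.leaf [nat_lit 60,nat_lit 9,nat_lit 1,nat_lit 1,nat_lit 5,nat_lit 2,nat_lit 6,nat_lit 2,nat_lit 5,nat_lit 1,nat_lit 5,nat_lit 0,nat_lit 5,nat_lit 3,nat_lit 6,nat_lit 3,nat_lit 5,nat_lit 1,nat_lit 5])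
)))) (.node (.node (.node (.node (.node (.leaf [nat_lit 38,nat_lit 5,nat_lit 1,nat_lit 2,nat_lit 3,nat_lit 4,nat_lit 6,nat_lit 4,nat_lit 3,nat_lit 2,nat_lit 3,nat_lit 4,nat_lit 6,nat_lit 4,nat_lit 3])
 (.leaf [nat_lit 17,nat_lit 9,nat_lit 1,nat_lit 3,nat_lit 2,nat_lit 0,nat_lit 2,nat_lit 1,nat_lit 3,nat_lit 1,nat_lit 2,nat_lit 1,nat_lit 2,nat_lit 1,nat_lit 1,nat_lit 4,nat_lit 1,nat_lit 1,nat_lit 3,nat_lit 0,nat_lit 0,nat_lit 2,nat_lit 1,nat_lit 4])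
) (.node (.leaf [nat_lit 10,nat_lit 13,nat_lit 1,nat_lit 0,nat_lit 3,nat_lit 2,nat_lit 3,nat_lit 0,nat_lit 0,nat_lit 0,nat_lit 2,nat_lit 1,nat_lit 3,nat_lit 0,nat_lit 2,nat_lit 1,nat_lit 1])
 (.leaf [nat_lit 16,nat_lit 10,nat_lit 0,nat_lit 1,nat_lit 4,nat_lit 1,nat_lit 1,nat_lit 4,nat_lit 1,nat_lit 4,nat_lit 0,nat_lit 4,nat_lit 3,nat_lit 0,nat_lit 0,nat_lit 0,nat_lit 3,nat_lit 1,nat_lit 3,nat_lit 2,nat_lit 1,nat_lit 1,nat_lit 2])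
)) (.node (.node (.leaf [nat_lit 11,nat_lit 10,nat_lit 1,nat_lit 2,nat_lit 1,nat_lit 1,nat_lit 1,nat_lit 2,nat_lit 3,nat_lit 1,nat_lit 3,nat_lit 0,nat_lit 3,nat_lit 2,nat_lit 0,nat_lit 0,nat_lit 0])
 (.leaf [nat_lit 53,nat_lit 3,nat_lit 0,nat_lit 3,nat_lit 1,nat_lit 2,nat_lit 4,nat_lit 3,nat_lit 6,nat_lit 4,nat_lit 2,nat_lit 4,nat_lit 6,nat_lit 3,nat_lit 4,nat_lit 0,nat_lit 3,nat_lit 2])
) (.node (.leaf [nat_lit 25,nat_lit 4,nat_lit 1,nat_lit 5,nat_lit 0,nat_lit 5,nat_lit 1,nat_lit 3,nat_lit 5,nat_lit 3,nat_lit 0,nat_lit 5,nat_lit 1,nat_lit 5,nat_lit 2,nat_lit 3,nat_lit 2])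
 (.leaf [nat_lit 37,nat_lit 0,nat_lit 1,nat_lit 4,nat_lit 6,nat_lit 4,nat_lit 5,nat_lit 2,nat_lit 5,nat_lit 2,nat_lit 5,nat_lit 4,nat_lit 6,nat_lit 4,nat_lit 2])
))) (.node (.node (.node (.leaf [nat_lit 8,nat_lit 1,nat_lit 1,nat_lit 1,nat_lit 3,nat_lit 1,nat_lit 2,nat_lit 0,nat_lit 2,nat_lit 3,nat_lit 2,nat_lit 1,nat_lit 2])
 (.leaf [nat_lit 52,nat_lit 5,nat_lit 1,nat_lit 2,nat_lit 0,nat_lit 6,nat_lit 2,nat_lit 1,nat_lit 2,nat_lit 0,nat_lit 2,nat_lit 6,nat_lit 1])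
) (.node (.leaf [nat_lit 49,nat_lit 12,nat_lit 0,nat_lit 2,nat_lit 0,nat_lit 0,nat_lit 5,nat_lit 6,nat_lit 1,nat_lit 2,nat_lit 0,nat_lit 6,nat_lit 5,nat_lit 1,nat_lit 2,nat_lit 1])
 (.leaf [nat_lit 15,nat_lit 6,nat_lit 1,nat_lit 2,nat_lit 1,nat_lit 3,nat_lit 0,nat_lit 2,nat_lit 1,nat_lit 1,nat_lit 1,nat_lit 2,nat_lit 1,nat_lit 1,nat_lit 1,nat_lit 2,nat_lit 4,nat_lit 3,nat_lit 4,nat_lit 2,nat_lit 1])
)) (.node (.node (.leaf [nat_lit 11,nat_lit 9,nat_lit 1,nat_lit 1,nat_lit 2,nat_lit 1,nat_lit 1,nat_lit 1,nat_lit 2,nat_lit 3,nat_lit 1,nat_lit 3,nat_lit 0,nat_lit 3,nat_lit 2,nat_lit 0,nat_lit 0])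
 (.leaf [nat_lit 57,nat_lit 3,nat_lit 1,nat_lit 3,nat_lit 5,nat_lit 0,nat_lit 3,nat_lit 1,nat_lit 5,nat_lit 3,nat_lit 6,nat_lit 0,nat_lit 5,nat_lit 0,nat_lit 3,nat_lit 1,nat_lit 5,nat_lit 1,nat_lit 6])
) (.leaf [nat_lit 5,nat_lit 2,nat_lit 1,nat_lit 2,nat_lit 1,nat_lit 1,nat_lit 2,nat_lit 1,nat_lit 1,nat_lit 2,nat_lit 1,nat_lit 2,nat_lit 1,nat_lit 1,nat_lit 2,nat_lit 1,nat_lit 1,nat_lit 2,nat_lit 1,nat_lit 2,nat_lit 1,nat_lit 1,nat_lit 2,nat_lit 1,nat_lit 1,nat_lit 2,nat_lit 1])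
))) (.node (.node (.node (.node (.leaf [nat_lit 27,nat_lit 1,nat_lit 1,nat_lit 1,nat_lit 3,nat_lit 0,nat_lit 5,nat_lit 2,nat_lit 4,nat_lit 3,nat_lit 4,nat_lit 2,nat_lit 5,nat_lit 1,nat_lit 3,nat_lit 1,nat_lit 5])
 (.leaf [nat_lit 69,nat_lit 10,nat_lit 0,nat_lit 6,nat_lit 0,nat_lit 0,nat_lit 5,nat_lit 3,nat_lit 1,nat_lit 6,nat_lit 2,nat_lit 5,nat_lit 2,nat_lit 0,nat_lit 0,nat_lit 4,nat_lit 0,nat_lit 4,nat_lit 2,nat_lit 0,nat_lit 3,nat_lit 0,nat_lit 2,nat_lit 1,nat_lit 1,nat_lit 2,nat_lit 1,nat_lit 2,nat_lit 0,nat_lit 0,nat_lit 0,nat_lit 2,nat_lit 1,nat_lit 6,nat_lit 4,nat_lit 1,nat_lit 3,nat_lit 4])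
) (.node (.leaf [nat_lit 27,nat_lit 9,nat_lit 1,nat_lit 2,nat_lit 5,nat_lit 1,nat_lit 3,nat_lit 1,nat_lit 5,nat_lit 0,nat_lit 3,nat_lit 0,nat_lit 5,nat_lit 2,nat_lit 4,nat_lit 3,nat_lit 4])
 (.leaf [nat_lit 62,nat_lit 6,nat_lit 1,nat_lit 6,nat_lit 4,nat_lit 6,nat_lit 5,nat_lit 4,nat_lit 5,nat_lit 4,nat_lit 6,nat_lit 4,nat_lit 6,nat_lit 5,nat_lit 4,nat_lit 5])
)) (.node (.node (.leaf [nat_lit 22,nat_lit 0,nat_lit 1,nat_lit 5,nat_lit 1,nat_lit 3,nat_lit 5,nat_lit 0,nat_lit 3,nat_lit 1,nat_lit 5,nat_lit 3,nat_lit 0,nat_lit 5,nat_lit 0,nat_lit 3,nat_lit 1])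
 (.leaf [nat_lit 4,nat_lit 5,nat_lit 0,nat_lit 2,nat_lit 0,nat_lit 0,nat_lit 2,nat_lit 1,nat_lit 2,nat_lit 1,nat_lit 2,nat_lit 0,nat_lit 0,nat_lit 2,nat_lit 1,nat_lit 1])
) (.node (.leaf [nat_lit 18,nat_lit 8,nat_lit 0,nat_lit 2,nat_lit 0,nat_lit 3,nat_lit 2,nat_lit 3,nat_lit 0,nat_lit 4,nat_lit 1,nat_lit 2,nat_lit 1,nat_lit 4,nat_lit 2,nat_lit 4,nat_lit 0,nat_lit 2,nat_lit 0,nat_lit 0,nat_lit 0,nat_lit 2,nat_lit 0,nat_lit 2,nat_lit 0,nat_lit 0])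
 (.leaf [nat_lit 68,nat_lit 6,nat_lit 1,nat_lit 0,nat_lit 1,nat_lit 1,nat_lit 4,nat_lit 5,nat_lit 1,nat_lit 1,nat_lit 3,nat_lit 6,nat_lit 3,nat_lit 0,nat_lit 0,nat_lit 5,nat_lit 6,nat_lit 4,nat_lit 6,nat_lit 0,nat_lit 0,nat_lit 2,nat_lit 0,nat_lit 2,nat_lit 0,nat_lit 0,nat_lit 2,nat_lit 1,nat_lit 1,nat_lit 1,nat_lit 2,nat_lit 1,nat_lit 3,nat_lit 0,nat_lit 0,nat_lit 2])
))) (.node (.node (.node (.leaf [nat_lit 54,nat_lit 3,nat_lit 1,nat_lit 5,nat_lit 6,nat_lit 5,nat_lit 6,nat_lit 2,nat_lit 5,nat_lit 2,nat_lit 5,nat_lit 2,nat_lit 6,nat_lit 5,nat_lit 6])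
 (.leaf [nat_lit 53,nat_lit 6,nat_lit 0,nat_lit 4,nat_lit 3,nat_lit 6,nat_lit 4,nat_lit 2,nat_lit 4,nat_lit 6,nat_lit 3,nat_lit 4,nat_lit 0,nat_lit 3,nat_lit 2,nat_lit 3,nat_lit 1,nat_lit 2])
) (.node (.leaf [nat_lit 51,nat_lit 13,nat_lit 1,nat_lit 3,nat_lit 5,nat_lit 6,nat_lit 5,nat_lit 3,nat_lit 4,nat_lit 5,nat_lit 3,nat_lit 4,nat_lit 6,nat_lit 4,nat_lit 3,nat_lit 5,nat_lit 4])
 (.leaf [nat_lit 58,nat_lit 13,nat_lit 1,nat_lit 5,nat_lit 3,nat_lit 1,nat_lit 5,nat_lit 4,nat_lit 0,nat_lit 5,nat_lit 6,nat_lit 5,nat_lit 1,nat_lit 4,nat_lit 5,nat_lit 0,nat_lit 3,nat_lit 5,nat_lit 6])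
)) (.node (.node (.leaf [nat_lit 15,nat_lit 0,nat_lit 1,nat_lit 2,nat_lit 4,nat_lit 3,nat_lit 4,nat_lit 2,nat_lit 1,nat_lit 2,nat_lit 1,nat_lit 3,nat_lit 0,nat_lit 2,nat_lit 1,nat_lit 1,nat_lit 1,nat_lit 2,nat_lit 1,nat_lit 1,nat_lit 1])
 (.leaf [nat_lit 17,nat_lit 15,nat_lit 0,nat_lit 0,nat_lit 1,nat_lit 3,nat_lit 0,nat_lit 0,nat_lit 4,nat_lit 0,nat_lit 0,nat_lit 2,nat_lit 0,nat_lit 2,nat_lit 0,nat_lit 3,nat_lit 0,nat_lit 2,nat_lit 1,nat_lit 2,nat_lit 3,nat_lit 4,nat_lit 0,nat_lit 2])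
) (.leaf [nat_lit 24,nat_lit 8,nat_lit 0,nat_lit 3,nat_lit 0,nat_lit 5,nat_lit 1,nat_lit 3,nat_lit 0,nat_lit 2,nat_lit 1,nat_lit 3,nat_lit 0,nat_lit 2,nat_lit 5,nat_lit 1])
))))) (.node (.node (.node (.node (.node (.node (.leaf [nat_lit 34,nat_lit 7,nat_lit 1,nat_lit 2,nat_lit 6,nat_lit 2,nat_lit 4,nat_lit 2,nat_lit 6,nat_lit 2,nat_lit 4])
 (.leaf [nat_lit 21,nat_lit 1,nat_lit 1,nat_lit 1,nat_lit 3,nat_lit 1,nat_lit 5,nat_lit 0,nat_lit 3,nat_lit 1,nat_lit 5,nat_lit 0,nat_lit 3,nat_lit 1,nat_lit 5])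
) (.node (.leaf [nat_lit 50,nat_lit 4,nat_lit 1,nat_lit 4,nat_lit 5,nat_lit 3,nat_lit 6,nat_lit 3,nat_lit 5,nat_lit 4,nat_lit 0,nat_lit 3,nat_lit 1,nat_lit 6,nat_lit 0,nat_lit 3,nat_lit 1])
 (.leaf [nat_lit 17,nat_lit 12,nat_lit 1,nat_lit 2,nat_lit 1,nat_lit 3,nat_lit 1,nat_lit 2,nat_lit 1,nat_lit 2,nat_lit 1,nat_lit 1,nat_lit 4,nat_lit 1,nat_lit 1,nat_lit 3,nat_lit 0,nat_lit 0,nat_lit 2,nat_lit 1,nat_lit 4,nat_lit 3,nat_lit 2,nat_lit 0])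
)) (.node (.node (.leaf [nat_lit 62,nat_lit 10,nat_lit 1,nat_lit 4,nat_lit 5,nat_lit 4,nat_lit 6,nat_lit 4,nat_lit 6,nat_lit 5,nat_lit 4,nat_lit 5,nat_lit 6,nat_lit 4,nat_lit 6,nat_lit 5])
 (.leaf [nat_lit 67,nat_lit 14,nat_lit 1,nat_lit 1,nat_lit 4,nat_lit 1,nat_lit 1,nat_lit 6,nat_lit 0,nat_lit 0,nat_lit 4,nat_lit 1,nat_lit 1,nat_lit 4,nat_lit 2,nat_lit 5,nat_lit 6,nat_lit 5,nat_lit 2,nat_lit 4,nat_lit 0])
) (.node (.leaf [nat_lit 12,nat_lit 3,nat_lit 1,nat_lit 3,nat_lit 0,nat_lit 2,nat_lit 1,nat_lit 3,nat_lit 0,nat_lit 3,nat_lit 0,nat_lit 0,nat_lit 3,nat_lit 1,nat_lit 1,nat_lit 3,nat_lit 2,nat_lit 1])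
 (.leaf [nat_lit 61,nat_lit 10,nat_lit 1,nat_lit 6,nat_lit 2,nat_lit 5,nat_lit 2,nat_lit 4,nat_lit 2,nat_lit 5,nat_lit 4,nat_lit 6,nat_lit 4,nat_lit 5,nat_lit 2,nat_lit 4,nat_lit 2,nat_lit 5,nat_lit 2])
))) (.node (.node (.node (.leaf [nat_lit 59,nat_lit 1,nat_lit 1,nat_lit 2,nat_lit 5,nat_lit 0,nat_lit 3,nat_lit 6,nat_lit 3,nat_lit 1,nat_lit 2,nat_lit 5,nat_lit 2,nat_lit 0,nat_lit 3,nat_lit 6,nat_lit 3,nat_lit 1,nat_lit 5])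
 (.leaf [nat_lit 15,nat_lit 17,nat_lit 0,nat_lit 2,nat_lit 0,nat_lit 0,nat_lit 0,nat_lit 2,nat_lit 0,nat_lit 0,nat_lit 0,nat_lit 2,nat_lit 1,nat_lit 3,nat_lit 0,nat_lit 2,nat_lit 0,nat_lit 2,nat_lit 4,nat_lit 3,nat_lit 4])
) (.node (.leaf [nat_lit 59,nat_lit 13,nat_lit 1,nat_lit 6,nat_lit 3,nat_lit 1,nat_lit 5,nat_lit 2,nat_lit 5,nat_lit 0,nat_lit 3,nat_lit 6,nat_lit 3,nat_lit 1,nat_lit 2,nat_lit 5,nat_lit 2,nat_lit 0,nat_lit 3])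
 (.leaf [nat_lit 61,nat_lit 13,nat_lit 1,nat_lit 2,nat_lit 4,nat_lit 2,nat_lit 5,nat_lit 4,nat_lit 6,nat_lit 4,nat_lit 5,nat_lit 2,nat_lit 4,nat_lit 2,nat_lit 5,nat_lit 2,nat_lit 6,nat_lit 2,nat_lit 5])
)) (.node (.node (.leaf [nat_lit 28,nat_lit 10,nat_lit 1,nat_lit 2,nat_lit 0,nat_lit 2,nat_lit 1,nat_lit 4,nat_lit 5,nat_lit 4,nat_lit 2,nat_lit 0,nat_lit 2,nat_lit 1,nat_lit 4,nat_lit 5,nat_lit 4])
 (.leaf [nat_lit 56,nat_lit 0,nat_lit 1,nat_lit 5,nat_lit 6,nat_lit 5,nat_lit 0,nat_lit 2,nat_lit 3,nat_lit 4,nat_lit 0,nat_lit 3,nat_lit 6,nat_lit 3,nat_lit 1,nat_lit 4,nat_lit 3,nat_lit 2,nat_lit 1])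
) (.node (.leaf [nat_lit 12,nat_lit 14,nat_lit 1,nat_lit 0,nat_lit 3,nat_lit 2,nat_lit 1,nat_lit 3,nat_lit 0,nat_lit 2,nat_lit 1,nat_lit 3,nat_lit 0,nat_lit 3,nat_lit 0,nat_lit 0,nat_lit 3,nat_lit 1])
 (.leaf [nat_lit 68,nat_lit 10,nat_lit 0,nat_lit 0,nat_lit 6,nat_lit 4,nat_lit 6,nat_lit 5,nat_lit 1,nat_lit 1,nat_lit 3,nat_lit 6,nat_lit 3,nat_lit 0,nat_lit 0,nat_lit 5,nat_lit 4,nat_lit 0,nat_lit 0,nat_lit 0,nat_lit 2,nat_lit 1,nat_lit 1,nat_lit 3,nat_lit 0,nat_lit 2,nat_lit 0,nat_lit 0,nat_lit 0,nat_lit 2,nat_lit 1,nat_lit 1,nat_lit 2,nat_lit 1,nat_lit 2,nat_lit 1])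
)))) (.node (.node (.node (.node (.leaf [nat_lit 64,nat_lit 9,nat_lit 1,nat_lit 5,nat_lit 4,nat_lit 6,nat_lit 5,nat_lit 0,nat_lit 2,nat_lit 1,nat_lit 5,nat_lit 6,nat_lit 4,nat_lit 5,nat_lit 6,nat_lit 5,nat_lit 2,nat_lit 5,nat_lit 6])
 (.leaf [nat_lit 68,nat_lit 4,nat_lit 1,nat_lit 1,nat_lit 2,nat_lit 1,nat_lit 1,nat_lit 1,nat_lit 4,nat_lit 5,nat_lit 1,nat_lit 1,nat_lit 3,nat_lit 6,nat_lit 3,nat_lit 0,nat_lit 0,nat_lit 5,nat_lit 6,nat_lit 4,nat_lit 6,nat_lit 0,nat_lit 0,nat_lit 2,nat_lit 0,nat_lit 2,nat_lit 0,nat_lit 0,nat_lit 2,nat_lit 1,nat_lit 1,nat_lit 1,nat_lit 2,nat_lit 1,nat_lit 3,nat_lit 0])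
) (.node (.leaf [nat_lit 24,nat_lit 11,nat_lit 1,nat_lit 2,nat_lit 1,nat_lit 3,nat_lit 0,nat_lit 5,nat_lit 1,nat_lit 3,nat_lit 0,nat_lit 5,nat_lit 2,nat_lit 1,nat_lit 3,nat_lit 0])
 (.leaf [nat_lit 5,nat_lit 12,nat_lit 1,nat_lit 0,nat_lit 2,nat_lit 1,nat_lit 1,nat_lit 2,nat_lit 1,nat_lit 2,nat_lit 1,nat_lit 1,nat_lit 2,nat_lit 1,nat_lit 1,nat_lit 2,nat_lit 1,nat_lit 2,nat_lit 1,nat_lit 1,nat_lit 2,nat_lit 1,nat_lit 1,nat_lit 2,nat_lit 1,nat_lit 2,nat_lit 1])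
)) (.node (.node (.leaf [nat_lit 8,nat_lit 0,nat_lit 1,nat_lit 2,nat_lit 0,nat_lit 3,nat_lit 1,nat_lit 2,nat_lit 0,nat_lit 2,nat_lit 3,nat_lit 2,nat_lit 1])
 (.leaf [nat_lit 61,nat_lit 15,nat_lit 1,nat_lit 2,nat_lit 5,nat_lit 4,nat_lit 6,nat_lit 4,nat_lit 5,nat_lit 2,nat_lit 4,nat_lit 2,nat_lit 5,nat_lit 2,nat_lit 6,nat_lit 2,nat_lit 5,nat_lit 2,nat_lit 4])
) (.node (.leaf [nat_lit 17,nat_lit 11,nat_lit 0,nat_lit 3,nat_lit 4,nat_lit 0,nat_lit 2,nat_lit 1,nat_lit 1,nat_lit 3,nat_lit 0,nat_lit 0,nat_lit 4,nat_lit 0,nat_lit 0,nat_lit 2,nat_lit 0,nat_lit 2,nat_lit 0,nat_lit 3,nat_lit 0,nat_lit 2,nat_lit 1,nat_lit 2])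
 (.leaf [nat_lit 69,nat_lit 21,nat_lit 0,nat_lit 1,nat_lit 4,nat_lit 0,nat_lit 4,nat_lit 2,nat_lit 0,nat_lit 3,nat_lit 0,nat_lit 2,nat_lit 1,nat_lit 1,nat_lit 2,nat_lit 1,nat_lit 2,nat_lit 0,nat_lit 0,nat_lit 0,nat_lit 2,nat_lit 1,nat_lit 6,nat_lit 4,nat_lit 1,nat_lit 3,nat_lit 4,nat_lit 6,nat_lit 0,nat_lit 0,nat_lit 5,nat_lit 3,nat_lit 1,nat_lit 6,nat_lit 2,nat_lit 5,nat_lit 2,nat_lit 0])
))) (.node (.node (.node (.leaf [nat_lit 61,nat_lit 1,nat_lit 1,nat_lit 4,nat_lit 6,nat_lit 4,nat_lit 5,nat_lit 2,nat_lit 4,nat_lit 2,nat_lit 5,nat_lit 2,nat_lit 6,nat_lit 2,nat_lit 5,nat_lit 2,nat_lit 4,nat_lit 2,nat_lit 5])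
 (.leaf [nat_lit 11,nat_lit 6,nat_lit 1,nat_lit 2,nat_lit 0,nat_lit 0,nat_lit 0,nat_lit 2,nat_lit 1,nat_lit 1,nat_lit 1,nat_lit 2,nat_lit 3,nat_lit 1,nat_lit 3,nat_lit 0,nat_lit 3])
) (.node (.leaf [nat_lit 50,nat_lit 8,nat_lit 1,nat_lit 3,nat_lit 5,nat_lit 4,nat_lit 0,nat_lit 3,nat_lit 1,nat_lit 6,nat_lit 0,nat_lit 3,nat_lit 1,nat_lit 4,nat_lit 5,nat_lit 3,nat_lit 6])
 (.leaf [nat_lit 37,nat_lit 9,nat_lit 1,nat_lit 6,nat_lit 4,nat_lit 2,nat_lit 4,nat_lit 6,nat_lit 4,nat_lit 5,nat_lit 2,nat_lit 5,nat_lit 2,nat_lit 5,nat_lit 4])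
)) (.node (.node (.leaf [nat_lit 24,nat_lit 10,nat_lit 1,nat_lit 1,nat_lit 2,nat_lit 1,nat_lit 3,nat_lit 0,nat_lit 5,nat_lit 1,nat_lit 3,nat_lit 0,nat_lit 5,nat_lit 2,nat_lit 1,nat_lit 3])
 (.leaf [nat_lit 61,nat_lit 5,nat_lit 1,nat_lit 2,nat_lit 4,nat_lit 2,nat_lit 5,nat_lit 2,nat_lit 6,nat_lit 2,nat_lit 5,nat_lit 2,nat_lit 4,nat_lit 2,nat_lit 5,nat_lit 4,nat_lit 6,nat_lit 4,nat_lit 5])
) (.leaf [nat_lit 22,nat_lit 10,nat_lit 1,nat_lit 5,nat_lit 0,nat_lit 3,nat_lit 1,nat_lit 5,nat_lit 1,nat_lit 3,nat_lit 5,nat_lit 0,nat_lit 3,nat_lit 1,nat_lit 5,nat_lit 3,nat_lit 0])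
)))) (.node (.node (.node (.node (.node (.leaf [nat_lit 36,nat_lit 5,nat_lit 1,nat_lit 5,nat_lit 6,nat_lit 5,nat_lit 6,nat_lit 5,nat_lit 6,nat_lit 5,nat_lit 6])
 (.leaf [nat_lit 16,nat_lit 12,nat_lit 1,nat_lit 1,nat_lit 2,nat_lit 3,nat_lit 0,nat_lit 3,nat_lit 1,nat_lit 1,nat_lit 1,nat_lit 3,nat_lit 4,nat_lit 1,nat_lit 4,nat_lit 0,nat_lit 4,nat_lit 0,nat_lit 0,nat_lit 4,nat_lit 1,nat_lit 2,nat_lit 0])
) (.node (.leaf [nat_lit 50,nat_lit 3,nat_lit 1,nat_lit 0,nat_lit 4,nat_lit 5,nat_lit 3,nat_lit 6,nat_lit 3,nat_lit 5,nat_lit 4,nat_lit 0,nat_lit 3,nat_lit 1,nat_lit 6,nat_lit 0,nat_lit 3])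
 (.leaf [nat_lit 51,nat_lit 2,nat_lit 1,nat_lit 5,nat_lit 3,nat_lit 4,nat_lit 5,nat_lit 3,nat_lit 4,nat_lit 6,nat_lit 4,nat_lit 3,nat_lit 5,nat_lit 4,nat_lit 3,nat_lit 5,nat_lit 6])
)) (.node (.node (.leaf [nat_lit 52,nat_lit 2,nat_lit 1,nat_lit 2,nat_lit 6,nat_lit 1,nat_lit 2,nat_lit 0,nat_lit 6,nat_lit 2,nat_lit 1,nat_lit 2,nat_lit 0])
 (.leaf [nat_lit 18,nat_lit 7,nat_lit 0,nat_lit 1,nat_lit 2,nat_lit 0,nat_lit 3,nat_lit 2,nat_lit 3,nat_lit 0,nat_lit 4,nat_lit 1,nat_lit 2,nat_lit 1,nat_lit 4,nat_lit 2,nat_lit 4,nat_lit 0,nat_lit 2,nat_lit 0,nat_lit 0,nat_lit 0,nat_lit 2,nat_lit 0,nat_lit 2,nat_lit 0])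
) (.node (.leaf [nat_lit 40,nat_lit 5,nat_lit 1,nat_lit 0,nat_lit 4,nat_lit 6,nat_lit 4,nat_lit 0,nat_lit 2,nat_lit 1,nat_lit 4,nat_lit 6,nat_lit 4,nat_lit 0,nat_lit 2])
 (.leaf [nat_lit 18,nat_lit 6,nat_lit 0,nat_lit 1,nat_lit 0,nat_lit 2,nat_lit 0,nat_lit 3,nat_lit 2,nat_lit 3,nat_lit 0,nat_lit 4,nat_lit 1,nat_lit 2,nat_lit 1,nat_lit 4,nat_lit 2,nat_lit 4,nat_lit 0,nat_lit 2,nat_lit 0,nat_lit 0,nat_lit 0,nat_lit 2,nat_lit 0,nat_lit 2])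
))) (.node (.node (.node (.leaf [nat_lit 32,nat_lit 6,nat_lit 1,nat_lit 6,nat_lit 1,nat_lit 5,nat_lit 0,nat_lit 6,nat_lit 1,nat_lit 5,nat_lit 0])
 (.leaf [nat_lit 37,nat_lit 11,nat_lit 1,nat_lit 2,nat_lit 4,nat_lit 6,nat_lit 4,nat_lit 5,nat_lit 2,nat_lit 5,nat_lit 2,nat_lit 5,nat_lit 4,nat_lit 6,nat_lit 4])
) (.node (.leaf [nat_lit 47,nat_lit 5,nat_lit 1,nat_lit 3,nat_lit 6,nat_lit 3,nat_lit 4,nat_lit 5,nat_lit 4,nat_lit 3,nat_lit 6,nat_lit 3,nat_lit 4,nat_lit 5,nat_lit 4])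
 (.leaf [nat_lit 69,nat_lit 11,nat_lit 0,nat_lit 1,nat_lit 0,nat_lit 5,nat_lit 3,nat_lit 1,nat_lit 6,nat_lit 2,nat_lit 5,nat_lit 2,nat_lit 0,nat_lit 0,nat_lit 4,nat_lit 0,nat_lit 4,nat_lit 2,nat_lit 0,nat_lit 3,nat_lit 0,nat_lit 2,nat_lit 1,nat_lit 1,nat_lit 2,nat_lit 1,nat_lit 2,nat_lit 0,nat_lit 0,nat_lit 0,nat_lit 2,nat_lit 1,nat_lit 6,nat_lit 4,nat_lit 1,nat_lit 3,nat_lit 4,nat_lit 6])
)) (.node (.node (.leaf [nat_lit 49,nat_lit 8,nat_lit 0,nat_lit 5,nat_lit 1,nat_lit 2,nat_lit 1,nat_lit 2,nat_lit 0,nat_lit 0,nat_lit 5,nat_lit 6,nat_lit 1,nat_lit 2,nat_lit 0,nat_lit 6])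
 (.leaf [nat_lit 59,nat_lit 12,nat_lit 1,nat_lit 3,nat_lit 6,nat_lit 3,nat_lit 1,nat_lit 5,nat_lit 2,nat_lit 5,nat_lit 0,nat_lit 3,nat_lit 6,nat_lit 3,nat_lit 1,nat_lit 2,nat_lit 5,nat_lit 2,nat_lit 0])
) (.leaf [nat_lit 66,nat_lit 8,nat_lit 1,nat_lit 4,nat_lit 5,nat_lit 2,nat_lit 6,nat_lit 2,nat_lit 5,nat_lit 4,nat_lit 3,nat_lit 1,nat_lit 1,nat_lit 3,nat_lit 2,nat_lit 6,nat_lit 2,nat_lit 3,nat_lit 0,nat_lit 0,nat_lit 3])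
))) (.node (.node (.node (.node (.leaf [nat_lit 57,nat_lit 6,nat_lit 1,nat_lit 3,nat_lit 1,nat_lit 5,nat_lit 3,nat_lit 6,nat_lit 0,nat_lit 5,nat_lit 0,nat_lit 3,nat_lit 1,nat_lit 5,nat_lit 1,nat_lit 6,nat_lit 3,nat_lit 5,nat_lit 0])
 (.leaf [nat_lit 42,nat_lit 9,nat_lit 1,nat_lit 1,nat_lit 5,nat_lit 1,nat_lit 6,nat_lit 2,nat_lit 6,nat_lit 0,nat_lit 5,nat_lit 1,nat_lit 6,nat_lit 2,nat_lit 6])
) (.node (.leaf [nat_lit 68,nat_lit 16,nat_lit 1,nat_lit 1,nat_lit 0,nat_lit 5,nat_lit 6,nat_lit 4,nat_lit 6,nat_lit 0,nat_lit 0,nat_lit 2,nat_lit 0,nat_lit 2,nat_lit 0,nat_lit 0,nat_lit 2,nat_lit 1,nat_lit 1,nat_lit 1,nat_lit 2,nat_lit 1,nat_lit 3,nat_lit 0,nat_lit 0,nat_lit 2,nat_lit 1,nat_lit 1,nat_lit 1,nat_lit 4,nat_lit 5,nat_lit 1,nat_lit 1,nat_lit 3,nat_lit 6,nat_lit 3])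
 (.leaf [nat_lit 67,nat_lit 8,nat_lit 1,nat_lit 5,nat_lit 6,nat_lit 5,nat_lit 2,nat_lit 4,nat_lit 0,nat_lit 0,nat_lit 4,nat_lit 1,nat_lit 1,nat_lit 6,nat_lit 0,nat_lit 0,nat_lit 4,nat_lit 1,nat_lit 1,nat_lit 4,nat_lit 2])
)) (.node (.node (.leaf [nat_lit 14,nat_lit 14,nat_lit 0,nat_lit 3,nat_lit 1,nat_lit 2,nat_lit 0,nat_lit 0,nat_lit 2,nat_lit 4,nat_lit 2,nat_lit 1,nat_lit 2,nat_lit 0,nat_lit 4,nat_lit 2,nat_lit 4,nat_lit 1,nat_lit 3,nat_lit 2])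
 (.leaf [nat_lit 67,nat_lit 12,nat_lit 1,nat_lit 4,nat_lit 0,nat_lit 0,nat_lit 4,nat_lit 1,nat_lit 1,nat_lit 6,nat_lit 0,nat_lit 0,nat_lit 4,nat_lit 1,nat_lit 1,nat_lit 4,nat_lit 2,nat_lit 5,nat_lit 6,nat_lit 5,nat_lit 2])
) (.node (.leaf [nat_lit 28,nat_lit 4,nat_lit 0,nat_lit 4,nat_lit 5,nat_lit 4,nat_lit 0,nat_lit 2,nat_lit 1,nat_lit 2,nat_lit 4,nat_lit 5,nat_lit 4,nat_lit 0,nat_lit 2,nat_lit 1,nat_lit 2])
 (.leaf [nat_lit 69,nat_lit 18,nat_lit 1,nat_lit 6,nat_lit 0,nat_lit 3,nat_lit 5,nat_lit 1,nat_lit 1,nat_lit 6,nat_lit 4,nat_lit 3,nat_lit 0,nat_lit 4,nat_lit 6,nat_lit 0,nat_lit 2,nat_lit 1,nat_lit 1,nat_lit 1,nat_lit 2,nat_lit 0,nat_lit 2,nat_lit 0,nat_lit 0,nat_lit 2,nat_lit 1,nat_lit 3,nat_lit 1,nat_lit 2,nat_lit 4,nat_lit 1,nat_lit 4,nat_lit 1,nat_lit 1,nat_lit 2,nat_lit 5,nat_lit 2])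
))) (.node (.node (.node (.leaf [nat_lit 12,nat_lit 2,nat_lit 1,nat_lit 0,nat_lit 3,nat_lit 0,nat_lit 2,nat_lit 1,nat_lit 3,nat_lit 0,nat_lit 3,nat_lit 0,nat_lit 0,nat_lit 3,nat_lit 1,nat_lit 1,nat_lit 3,nat_lit 2])
 (.leaf [nat_lit 68,nat_lit 28,nat_lit 0,nat_lit 0,nat_lit 1,nat_lit 3,nat_lit 0,nat_lit 2,nat_lit 0,nat_lit 0,nat_lit 0,nat_lit 2,nat_lit 1,nat_lit 1,nat_lit 2,nat_lit 1,nat_lit 2,nat_lit 1,nat_lit 1,nat_lit 6,nat_lit 4,nat_lit 6,nat_lit 5,nat_lit 1,nat_lit 1,nat_lit 3,nat_lit 6,nat_lit 3,nat_lit 0,nat_lit 0,nat_lit 5,nat_lit 4,nat_lit 0,nat_lit 0,nat_lit 0,nat_lit 2])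
) (.node (.leaf [nat_lit 26,nat_lit 12,nat_lit 0,nat_lit 5,nat_lit 0,nat_lit 0,nat_lit 5,nat_lit 1,nat_lit 1,nat_lit 2,nat_lit 5,nat_lit 4,nat_lit 5,nat_lit 2,nat_lit 5,nat_lit 4])
 (.leaf [nat_lit 64,nat_lit 11,nat_lit 1,nat_lit 6,nat_lit 5,nat_lit 0,nat_lit 2,nat_lit 1,nat_lit 5,nat_lit 6,nat_lit 4,nat_lit 5,nat_lit 6,nat_lit 5,nat_lit 2,nat_lit 5,nat_lit 6,nat_lit 5,nat_lit 4])
)) (.node (.node (.leaf [nat_lit 12,nat_lit 9,nat_lit 1,nat_lit 3,nat_lit 0,nat_lit 0,nat_lit 3,nat_lit 1,nat_lit 1,nat_lit 3,nat_lit 2,nat_lit 1,nat_lit 3,nat_lit 0,nat_lit 2,nat_lit 1,nat_lit 3,nat_lit 0])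
 (.leaf [nat_lit 64,nat_lit 15,nat_lit 1,nat_lit 0,nat_lit 5,nat_lit 6,nat_lit 4,nat_lit 5,nat_lit 6,nat_lit 5,nat_lit 2,nat_lit 5,nat_lit 6,nat_lit 5,nat_lit 4,nat_lit 6,nat_lit 5,nat_lit 0,nat_lit 2])
) (.leaf [nat_lit 4,nat_lit 6,nat_lit 1,nat_lit 0,nat_lit 2,nat_lit 0,nat_lit 0,nat_lit 2,nat_lit 1,nat_lit 1,nat_lit 2,nat_lit 0,nat_lit 2,nat_lit 0,nat_lit 2,nat_lit 1])
)))))))) (.node (.node (.node (.node (.node (.node (.node (.node (.node (.leaf [nat_lit 32,nat_lit 4,nat_lit 1,nat_lit 5,nat_lit 0,nat_lit 6,nat_lit 1,nat_lit 5,nat_lit 0,nat_lit 6,nat_lit 1])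
 (.leaf [nat_lit 21,nat_lit 11,nat_lit 1,nat_lit 0,nat_lit 5,nat_lit 0,nat_lit 3,nat_lit 1,nat_lit 5,nat_lit 0,nat_lit 3,nat_lit 1,nat_lit 5,nat_lit 0,nat_lit 3])
) (.node (.leaf [nat_lit 4,nat_lit 0,nat_lit 1,nat_lit 2,nat_lit 0,nat_lit 2,nat_lit 0,nat_lit 2,nat_lit 1,nat_lit 1,nat_lit 2,nat_lit 0,nat_lit 0,nat_lit 2,nat_lit 1,nat_lit 1])
 (.leaf [nat_lit 12,nat_lit 1,nat_lit 1,nat_lit 2,nat_lit 1,nat_lit 3,nat_lit 0,nat_lit 2,nat_lit 1,nat_lit 3,nat_lit 0,nat_lit 3,nat_lit 0,nat_lit 0,nat_lit 3,nat_lit 1,nat_lit 1,nat_lit 3])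
)) (.node (.node (.leaf [nat_lit 14,nat_lit 9,nat_lit 0,nat_lit 2,nat_lit 4,nat_lit 1,nat_lit 3,nat_lit 2,nat_lit 3,nat_lit 1,nat_lit 2,nat_lit 0,nat_lit 0,nat_lit 2,nat_lit 4,nat_lit 2,nat_lit 1,nat_lit 2,nat_lit 0,nat_lit 4])
 (.leaf [nat_lit 45,nat_lit 6,nat_lit 1,nat_lit 4,nat_lit 5,nat_lit 6,nat_lit 5,nat_lit 4,nat_lit 2,nat_lit 4,nat_lit 5,nat_lit 6,nat_lit 5,nat_lit 4,nat_lit 2])
) (.node (.leaf [nat_lit 68,nat_lit 12,nat_lit 0,nat_lit 4,nat_lit 6,nat_lit 5,nat_lit 1,nat_lit 1,nat_lit 3,nat_lit 6,nat_lit 3,nat_lit 0,nat_lit 0,nat_lit 5,nat_lit 4,nat_lit 0,nat_lit 0,nat_lit 0,nat_lit 2,nat_lit 1,nat_lit 1,nat_lit 3,nat_lit 0,nat_lit 2,nat_lit 0,nat_lit 0,nat_lit 0,nat_lit 2,nat_lit 1,nat_lit 1,nat_lit 2,nat_lit 1,nat_lit 2,nat_lit 1,nat_lit 1,nat_lit 6])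
 (.leaf [nat_lit 64,nat_lit 8,nat_lit 1,nat_lit 6,nat_lit 5,nat_lit 4,nat_lit 6,nat_lit 5,nat_lit 0,nat_lit 2,nat_lit 1,nat_lit 5,nat_lit 6,nat_lit 4,nat_lit 5,nat_lit 6,nat_lit 5,nat_lit 2,nat_lit 5])
))) (.node (.node (.node (.leaf [nat_lit 49,nat_lit 11,nat_lit 1,nat_lit 0,nat_lit 1,nat_lit 2,nat_lit 0,nat_lit 2,nat_lit 0,nat_lit 5,nat_lit 6,nat_lit 1,nat_lit 2,nat_lit 0,nat_lit 6,nat_lit 5])
 (.leaf [nat_lit 43,nat_lit 10,nat_lit 1,nat_lit 5,nat_lit 1,nat_lit 5,nat_lit 0,nat_lit 5,nat_lit 6,nat_lit 5,nat_lit 1,nat_lit 5,nat_lit 0,nat_lit 5,nat_lit 6])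
) (.node (.leaf [nat_lit 16,nat_lit 5,nat_lit 0,nat_lit 3,nat_lit 2,nat_lit 1,nat_lit 1,nat_lit 2,nat_lit 0,nat_lit 4,nat_lit 1,nat_lit 1,nat_lit 4,nat_lit 1,nat_lit 4,nat_lit 0,nat_lit 4,nat_lit 3,nat_lit 0,nat_lit 0,nat_lit 0,nat_lit 3,nat_lit 1])
 (.leaf [nat_lit 64,nat_lit 10,nat_lit 1,nat_lit 4,nat_lit 6,nat_lit 5,nat_lit 0,nat_lit 2,nat_lit 1,nat_lit 5,nat_lit 6,nat_lit 4,nat_lit 5,nat_lit 6,nat_lit 5,nat_lit 2,nat_lit 5,nat_lit 6,nat_lit 5])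
)) (.node (.node (.leaf [nat_lit 18,nat_lit 19,nat_lit 0,nat_lit 2,nat_lit 4,nat_lit 0,nat_lit 2,nat_lit 0,nat_lit 0,nat_lit 0,nat_lit 2,nat_lit 0,nat_lit 2,nat_lit 0,nat_lit 0,nat_lit 2,nat_lit 0,nat_lit 3,nat_lit 2,nat_lit 3,nat_lit 0,nat_lit 4,nat_lit 1,nat_lit 2,nat_lit 1,nat_lit 4])
 (.leaf [nat_lit 69,nat_lit 25,nat_lit 1,nat_lit 4,nat_lit 3,nat_lit 0,nat_lit 4,nat_lit 6,nat_lit 0,nat_lit 2,nat_lit 1,nat_lit 1,nat_lit 1,nat_lit 2,nat_lit 0,nat_lit 2,nat_lit 0,nat_lit 0,nat_lit 2,nat_lit 1,nat_lit 3,nat_lit 1,nat_lit 2,nat_lit 4,nat_lit 1,nat_lit 4,nat_lit 1,nat_lit 1,nat_lit 2,nat_lit 5,nat_lit 2,nat_lit 6,nat_lit 0,nat_lit 3,nat_lit 5,nat_lit 1,nat_lit 1,nat_lit 6])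
) (.node (.leaf [nat_lit 53,nat_lit 8,nat_lit 1,nat_lit 4,nat_lit 2,nat_lit 0,nat_lit 3,nat_lit 2,nat_lit 3,nat_lit 1,nat_lit 4,nat_lit 3,nat_lit 6,nat_lit 4,nat_lit 2,nat_lit 4,nat_lit 6,nat_lit 3])
 (.leaf [nat_lit 68,nat_lit 32,nat_lit 0,nat_lit 2,nat_lit 0,nat_lit 0,nat_lit 0,nat_lit 2,nat_lit 1,nat_lit 1,nat_lit 2,nat_lit 1,nat_lit 2,nat_lit 1,nat_lit 1,nat_lit 6,nat_lit 4,nat_lit 6,nat_lit 5,nat_lit 1,nat_lit 1,nat_lit 3,nat_lit 6,nat_lit 3,nat_lit 0,nat_lit 0,nat_lit 5,nat_lit 4,nat_lit 0,nat_lit 0,nat_lit 0,nat_lit 2,nat_lit 1,nat_lit 1,nat_lit 3,nat_lit 0])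
)))) (.node (.node (.node (.node (.leaf [nat_lit 18,nat_lit 8,nat_lit 1,nat_lit 4,nat_lit 1,nat_lit 3,nat_lit 2,nat_lit 3,nat_lit 1,nat_lit 2,nat_lit 1,nat_lit 1,nat_lit 2,nat_lit 1,nat_lit 2,nat_lit 1,nat_lit 1,nat_lit 1,nat_lit 2,nat_lit 1,nat_lit 4,nat_lit 2,nat_lit 4,nat_lit 0,nat_lit 2,nat_lit 0])
 (.leaf [nat_lit 40,nat_lit 1,nat_lit 1,nat_lit 6,nat_lit 4,nat_lit 0,nat_lit 2,nat_lit 1,nat_lit 4,nat_lit 6,nat_lit 4,nat_lit 0,nat_lit 2,nat_lit 1,nat_lit 4])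
) (.node (.leaf [nat_lit 11,nat_lit 4,nat_lit 1,nat_lit 1,nat_lit 3,nat_lit 2,nat_lit 0,nat_lit 0,nat_lit 0,nat_lit 2,nat_lit 1,nat_lit 1,nat_lit 1,nat_lit 2,nat_lit 3,nat_lit 1,nat_lit 3])
 (.leaf [nat_lit 66,nat_lit 11,nat_lit 1,nat_lit 6,nat_lit 2,nat_lit 5,nat_lit 4,nat_lit 3,nat_lit 1,nat_lit 1,nat_lit 3,nat_lit 2,nat_lit 6,nat_lit 2,nat_lit 3,nat_lit 0,nat_lit 0,nat_lit 3,nat_lit 4,nat_lit 5,nat_lit 2])
)) (.node (.node (.leaf [nat_lit 33,nat_lit 1,nat_lit 1,nat_lit 6,nat_lit 3,nat_lit 2,nat_lit 3,nat_lit 6,nat_lit 3,nat_lit 2,nat_lit 3])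
 (.leaf [nat_lit 54,nat_lit 11,nat_lit 1,nat_lit 2,nat_lit 6,nat_lit 5,nat_lit 6,nat_lit 5,nat_lit 6,nat_lit 5,nat_lit 6,nat_lit 2,nat_lit 5,nat_lit 2,nat_lit 5])
) (.node (.leaf [nat_lit 61,nat_lit 9,nat_lit 1,nat_lit 2,nat_lit 6,nat_lit 2,nat_lit 5,nat_lit 2,nat_lit 4,nat_lit 2,nat_lit 5,nat_lit 4,nat_lit 6,nat_lit 4,nat_lit 5,nat_lit 2,nat_lit 4,nat_lit 2,nat_lit 5])
 (.leaf [nat_lit 58,nat_lit 10,nat_lit 1,nat_lit 3,nat_lit 5,nat_lit 6,nat_lit 5,nat_lit 3,nat_lit 1,nat_lit 5,nat_lit 4,nat_lit 0,nat_lit 5,nat_lit 6,nat_lit 5,nat_lit 1,nat_lit 4,nat_lit 5,nat_lit 0])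
))) (.node (.node (.node (.leaf [nat_lit 26,nat_lit 10,nat_lit 1,nat_lit 5,nat_lit 1,nat_lit 1,nat_lit 5,nat_lit 4,nat_lit 5,nat_lit 2,nat_lit 5,nat_lit 4,nat_lit 5,nat_lit 2,nat_lit 0,nat_lit 0])
 (.leaf [nat_lit 57,nat_lit 0,nat_lit 1,nat_lit 5,nat_lit 1,nat_lit 6,nat_lit 3,nat_lit 5,nat_lit 0,nat_lit 3,nat_lit 1,nat_lit 5,nat_lit 3,nat_lit 6,nat_lit 0,nat_lit 5,nat_lit 0,nat_lit 3,nat_lit 1])
) (.node (.leaf [nat_lit 22,nat_lit 4,nat_lit 1,nat_lit 1,nat_lit 3,nat_lit 1,nat_lit 5,nat_lit 3,nat_lit 0,nat_lit 5,nat_lit 0,nat_lit 3,nat_lit 1,nat_lit 5,nat_lit 1,nat_lit 3,nat_lit 5])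
 (.leaf [nat_lit 4,nat_lit 0,nat_lit 0,nat_lit 1,nat_lit 0,nat_lit 2,nat_lit 1,nat_lit 1,nat_lit 2,nat_lit 0,nat_lit 0,nat_lit 2,nat_lit 1,nat_lit 2,nat_lit 1,nat_lit 2])
)) (.node (.node (.leaf [nat_lit 15,nat_lit 14,nat_lit 1,nat_lit 2,nat_lit 1,nat_lit 1,nat_lit 1,nat_lit 2,nat_lit 4,nat_lit 3,nat_lit 4,nat_lit 2,nat_lit 1,nat_lit 2,nat_lit 1,nat_lit 3,nat_lit 0,nat_lit 2,nat_lit 1,nat_lit 1,nat_lit 1])
 (.leaf [nat_lit 67,nat_lit 2,nat_lit 1,nat_lit 1,nat_lit 4,nat_lit 1,nat_lit 1,nat_lit 4,nat_lit 2,nat_lit 5,nat_lit 6,nat_lit 5,nat_lit 2,nat_lit 4,nat_lit 0,nat_lit 0,nat_lit 4,nat_lit 1,nat_lit 1,nat_lit 6,nat_lit 0])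
) (.leaf [nat_lit 37,nat_lit 1,nat_lit 1,nat_lit 6,nat_lit 4,nat_lit 5,nat_lit 2,nat_lit 5,nat_lit 2,nat_lit 5,nat_lit 4,nat_lit 6,nat_lit 4,nat_lit 2,nat_lit 4])
)))) (.node (.node (.node (.node (.node (.leaf [nat_lit 7,nat_lit 6,nat_lit 1,nat_lit 3,nat_lit 2,nat_lit 3,nat_lit 2,nat_lit 3,nat_lit 2,nat_lit 3,nat_lit 2])
 (.leaf [nat_lit 9,nat_lit 5,nat_lit 1,nat_lit 0,nat_lit 3,nat_lit 2,nat_lit 3,nat_lit 0,nat_lit 2,nat_lit 1,nat_lit 3,nat_lit 2,nat_lit 3,nat_lit 0,nat_lit 2])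
) (.node (.leaf [nat_lit 53,nat_lit 5,nat_lit 0,nat_lit 2,nat_lit 4,nat_lit 3,nat_lit 6,nat_lit 4,nat_lit 2,nat_lit 4,nat_lit 6,nat_lit 3,nat_lit 4,nat_lit 0,nat_lit 3,nat_lit 2,nat_lit 3,nat_lit 1])
 (.leaf [nat_lit 18,nat_lit 7,nat_lit 1,nat_lit 1,nat_lit 4,nat_lit 1,nat_lit 3,nat_lit 2,nat_lit 3,nat_lit 1,nat_lit 2,nat_lit 1,nat_lit 1,nat_lit 2,nat_lit 1,nat_lit 2,nat_lit 1,nat_lit 1,nat_lit 1,nat_lit 2,nat_lit 1,nat_lit 4,nat_lit 2,nat_lit 4,nat_lit 0,nat_lit 2])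
)) (.node (.node (.leaf [nat_lit 24,nat_lit 4,nat_lit 1,nat_lit 3,nat_lit 0,nat_lit 5,nat_lit 2,nat_lit 1,nat_lit 3,nat_lit 0,nat_lit 2,nat_lit 1,nat_lit 3,nat_lit 0,nat_lit 5,nat_lit 1])
 (.leaf [nat_lit 56,nat_lit 1,nat_lit 1,nat_lit 6,nat_lit 5,nat_lit 0,nat_lit 2,nat_lit 3,nat_lit 4,nat_lit 0,nat_lit 3,nat_lit 6,nat_lit 3,nat_lit 1,nat_lit 4,nat_lit 3,nat_lit 2,nat_lit 1,nat_lit 5])
) (.node (.leaf [nat_lit 67,nat_lit 4,nat_lit 1,nat_lit 0,nat_lit 1,nat_lit 4,nat_lit 2,nat_lit 5,nat_lit 6,nat_lit 5,nat_lit 2,nat_lit 4,nat_lit 0,nat_lit 0,nat_lit 4,nat_lit 1,nat_lit 1,nat_lit 6,nat_lit 0,nat_lit 0,nat_lit 4])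
 (.leaf [nat_lit 69,nat_lit 22,nat_lit 1,nat_lit 0,nat_lit 1,nat_lit 6,nat_lit 4,nat_lit 3,nat_lit 0,nat_lit 4,nat_lit 6,nat_lit 0,nat_lit 2,nat_lit 1,nat_lit 1,nat_lit 1,nat_lit 2,nat_lit 0,nat_lit 2,nat_lit 0,nat_lit 0,nat_lit 2,nat_lit 1,nat_lit 3,nat_lit 1,nat_lit 2,nat_lit 4,nat_lit 1,nat_lit 4,nat_lit 1,nat_lit 1,nat_lit 2,nat_lit 5,nat_lit 2,nat_lit 6,nat_lit 0,nat_lit 3,nat_lit 5])
))) (.node (.node (.node (.leaf [nat_lit 48,nat_lit 3,nat_lit 1,nat_lit 5,nat_lit 4,nat_lit 3,nat_lit 4,nat_lit 5,nat_lit 6,nat_lit 5,nat_lit 4,nat_lit 3,nat_lit 4,nat_lit 5,nat_lit 6])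
 (.leaf [nat_lit 25,nat_lit 3,nat_lit 1,nat_lit 2,nat_lit 5,nat_lit 0,nat_lit 5,nat_lit 1,nat_lit 3,nat_lit 5,nat_lit 3,nat_lit 0,nat_lit 5,nat_lit 1,nat_lit 5,nat_lit 2,nat_lit 3])
) (.node (.leaf [nat_lit 56,nat_lit 11,nat_lit 1,nat_lit 0,nat_lit 4,nat_lit 3,nat_lit 2,nat_lit 1,nat_lit 5,nat_lit 6,nat_lit 5,nat_lit 0,nat_lit 2,nat_lit 3,nat_lit 4,nat_lit 0,nat_lit 3,nat_lit 6,nat_lit 3])
 (.leaf [nat_lit 69,nat_lit 11,nat_lit 1,nat_lit 0,nat_lit 4,nat_lit 1,nat_lit 1,nat_lit 2,nat_lit 5,nat_lit 2,nat_lit 6,nat_lit 0,nat_lit 3,nat_lit 5,nat_lit 1,nat_lit 1,nat_lit 6,nat_lit 4,nat_lit 3,nat_lit 0,nat_lit 4,nat_lit 6,nat_lit 0,nat_lit 2,nat_lit 1,nat_lit 1,nat_lit 1,nat_lit 2,nat_lit 0,nat_lit 2,nat_lit 0,nat_lit 0,nat_lit 2,nat_lit 1,nat_lit 3,nat_lit 1,nat_lit 2,nat_lit 4])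
)) (.node (.node (.leaf [nat_lit 26,nat_lit 8,nat_lit 1,nat_lit 1,nat_lit 0,nat_lit 5,nat_lit 1,nat_lit 1,nat_lit 5,nat_lit 4,nat_lit 5,nat_lit 2,nat_lit 5,nat_lit 4,nat_lit 5,nat_lit 2])
 (.leaf [nat_lit 15,nat_lit 10,nat_lit 0,nat_lit 1,nat_lit 2,nat_lit 0,nat_lit 2,nat_lit 4,nat_lit 3,nat_lit 4,nat_lit 2,nat_lit 0,nat_lit 0,nat_lit 0,nat_lit 2,nat_lit 0,nat_lit 0,nat_lit 0,nat_lit 2,nat_lit 1,nat_lit 3])
) (.node (.leaf [nat_lit 12,nat_lit 9,nat_lit 0,nat_lit 2,nat_lit 1,nat_lit 3,nat_lit 0,nat_lit 2,nat_lit 3,nat_lit 0,nat_lit 0,nat_lit 3,nat_lit 1,nat_lit 1,nat_lit 3,nat_lit 1,nat_lit 3,nat_lit 0])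
 (.leaf [nat_lit 68,nat_lit 9,nat_lit 1,nat_lit 4,nat_lit 5,nat_lit 1,nat_lit 1,nat_lit 3,nat_lit 6,nat_lit 3,nat_lit 0,nat_lit 0,nat_lit 5,nat_lit 6,nat_lit 4,nat_lit 6,nat_lit 0,nat_lit 0,nat_lit 2,nat_lit 0,nat_lit 2,nat_lit 0,nat_lit 0,nat_lit 2,nat_lit 1,nat_lit 1,nat_lit 1,nat_lit 2,nat_lit 1,nat_lit 3,nat_lit 0,nat_lit 0,nat_lit 2,nat_lit 1,nat_lit 1,nat_lit 1])
)))) (.node (.node (.node (.node (.leaf [nat_lit 35,nat_lit 6,nat_lit 1,nat_lit 4,nat_lit 2,nat_lit 4,nat_lit 6,nat_lit 4,nat_lit 2,nat_lit 4,nat_lit 6])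
 (.leaf [nat_lit 53,nat_lit 14,nat_lit 1,nat_lit 0,nat_lit 4,nat_lit 3,nat_lit 6,nat_lit 4,nat_lit 2,nat_lit 4,nat_lit 6,nat_lit 3,nat_lit 4,nat_lit 2,nat_lit 0,nat_lit 3,nat_lit 2,nat_lit 3])
) (.node (.leaf [nat_lit 69,nat_lit 12,nat_lit 1,nat_lit 4,nat_lit 1,nat_lit 1,nat_lit 2,nat_lit 5,nat_lit 2,nat_lit 6,nat_lit 0,nat_lit 3,nat_lit 5,nat_lit 1,nat_lit 1,nat_lit 6,nat_lit 4,nat_lit 3,nat_lit 0,nat_lit 4,nat_lit 6,nat_lit 0,nat_lit 2,nat_lit 1,nat_lit 1,nat_lit 1,nat_lit 2,nat_lit 0,nat_lit 2,nat_lit 0,nat_lit 0,nat_lit 2,nat_lit 1,nat_lit 3,nat_lit 1,nat_lit 2,nat_lit 4,nat_lit 1])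
 (.leaf [nat_lit 17,nat_lit 16,nat_lit 0,nat_lit 0,nat_lit 3,nat_lit 0,nat_lit 0,nat_lit 4,nat_lit 0,nat_lit 0,nat_lit 2,nat_lit 0,nat_lit 2,nat_lit 0,nat_lit 3,nat_lit 0,nat_lit 2,nat_lit 1,nat_lit 2,nat_lit 3,nat_lit 4,nat_lit 0,nat_lit 2,nat_lit 1])
)) (.node (.node (.leaf [nat_lit 42,nat_lit 7,nat_lit 1,nat_lit 2,nat_lit 6,nat_lit 0,nat_lit 5,nat_lit 1,nat_lit 6,nat_lit 2,nat_lit 6,nat_lit 0,nat_lit 5,nat_lit 1,nat_lit 6])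
 (.leaf [nat_lit 5,nat_lit 7,nat_lit 1,nat_lit 0,nat_lit 2,nat_lit 1,nat_lit 2,nat_lit 1,nat_lit 1,nat_lit 2,nat_lit 1,nat_lit 1,nat_lit 2,nat_lit 1,nat_lit 2,nat_lit 1,nat_lit 1,nat_lit 2,nat_lit 1,nat_lit 1,nat_lit 2,nat_lit 1,nat_lit 2,nat_lit 1,nat_lit 1,nat_lit 2,nat_lit 1])
) (.node (.leaf [nat_lit 62,nat_lit 11,nat_lit 0,nat_lit 4,nat_lit 6,nat_lit 4,nat_lit 5,nat_lit 4,nat_lit 5,nat_lit 6,nat_lit 4,nat_lit 6,nat_lit 5,nat_lit 4,nat_lit 5,nat_lit 6])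
 (.leaf [nat_lit 69,nat_lit 7,nat_lit 1,nat_lit 3,nat_lit 1,nat_lit 2,nat_lit 4,nat_lit 1,nat_lit 4,nat_lit 1,nat_lit 1,nat_lit 2,nat_lit 5,nat_lit 2,nat_lit 6,nat_lit 0,nat_lit 3,nat_lit 5,nat_lit 1,nat_lit 1,nat_lit 6,nat_lit 4,nat_lit 3,nat_lit 0,nat_lit 4,nat_lit 6,nat_lit 0,nat_lit 2,nat_lit 1,nat_lit 1,nat_lit 1,nat_lit 2,nat_lit 0,nat_lit 2,nat_lit 0,nat_lit 0,nat_lit 2,nat_lit 1])
))) (.node (.node (.node (.leaf [nat_lit 12,nat_lit 13,nat_lit 1,nat_lit 0,nat_lit 1,nat_lit 3,nat_lit 2,nat_lit 1,nat_lit 3,nat_lit 0,nat_lit 2,nat_lit 1,nat_lit 3,nat_lit 0,nat_lit 3,nat_lit 0,nat_lit 0,nat_lit 3])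
 (.leaf [nat_lit 45,nat_lit 8,nat_lit 1,nat_lit 6,nat_lit 5,nat_lit 4,nat_lit 2,nat_lit 4,nat_lit 5,nat_lit 6,nat_lit 5,nat_lit 4,nat_lit 2,nat_lit 4,nat_lit 5])
) (.node (.leaf [nat_lit 52,nat_lit 9,nat_lit 1,nat_lit 0,nat_lit 2,nat_lit 0,nat_lit 2,nat_lit 6,nat_lit 1,nat_lit 2,nat_lit 0,nat_lit 6,nat_lit 2])
 (.leaf [nat_lit 68,nat_lit 29,nat_lit 1,nat_lit 2,nat_lit 1,nat_lit 1,nat_lit 1,nat_lit 2,nat_lit 1,nat_lit 3,nat_lit 0,nat_lit 0,nat_lit 2,nat_lit 1,nat_lit 1,nat_lit 1,nat_lit 4,nat_lit 5,nat_lit 1,nat_lit 1,nat_lit 3,nat_lit 6,nat_lit 3,nat_lit 0,nat_lit 0,nat_lit 5,nat_lit 6,nat_lit 4,nat_lit 6,nat_lit 0,nat_lit 0,nat_lit 2,nat_lit 0,nat_lit 2,nat_lit 0,nat_lit 0])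
)) (.node (.node (.leaf [nat_lit 8,nat_lit 6,nat_lit 1,nat_lit 2,nat_lit 3,nat_lit 2,nat_lit 1,nat_lit 2,nat_lit 0,nat_lit 3,nat_lit 1,nat_lit 2,nat_lit 0])
 (.leaf [nat_lit 11,nat_lit 12,nat_lit 1,nat_lit 0,nat_lit 1,nat_lit 2,nat_lit 3,nat_lit 1,nat_lit 3,nat_lit 0,nat_lit 3,nat_lit 2,nat_lit 0,nat_lit 0,nat_lit 0,nat_lit 2,nat_lit 1])
) (.leaf [nat_lit 9,nat_lit 8,nat_lit 1,nat_lit 3,nat_lit 0,nat_lit 2,nat_lit 1,nat_lit 3,nat_lit 2,nat_lit 3,nat_lit 0,nat_lit 2,nat_lit 1,nat_lit 3,nat_lit 2])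
))))) (.node (.node (.node (.node (.node (.node (.leaf [nat_lit 55,nat_lit 12,nat_lit 1,nat_lit 1,nat_lit 6,nat_lit 1,nat_lit 1,nat_lit 3,nat_lit 2,nat_lit 1,nat_lit 3,nat_lit 0,nat_lit 6,nat_lit 1,nat_lit 3,nat_lit 0,nat_lit 2,nat_lit 3,nat_lit 0])
 (.leaf [nat_lit 18,nat_lit 17,nat_lit 0,nat_lit 0,nat_lit 4,nat_lit 2,nat_lit 4,nat_lit 0,nat_lit 2,nat_lit 0,nat_lit 0,nat_lit 0,nat_lit 2,nat_lit 0,nat_lit 2,nat_lit 0,nat_lit 0,nat_lit 2,nat_lit 0,nat_lit 3,nat_lit 2,nat_lit 3,nat_lit 0,nat_lit 4,nat_lit 1,nat_lit 2])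
) (.node (.leaf [nat_lit 15,nat_lit 13,nat_lit 1,nat_lit 0,nat_lit 2,nat_lit 1,nat_lit 1,nat_lit 1,nat_lit 2,nat_lit 4,nat_lit 3,nat_lit 4,nat_lit 2,nat_lit 1,nat_lit 2,nat_lit 1,nat_lit 3,nat_lit 0,nat_lit 2,nat_lit 1,nat_lit 1])
 (.leaf [nat_lit 17,nat_lit 13,nat_lit 1,nat_lit 0,nat_lit 3,nat_lit 1,nat_lit 2,nat_lit 1,nat_lit 2,nat_lit 1,nat_lit 1,nat_lit 4,nat_lit 1,nat_lit 1,nat_lit 3,nat_lit 0,nat_lit 0,nat_lit 2,nat_lit 1,nat_lit 4,nat_lit 3,nat_lit 2,nat_lit 0,nat_lit 2])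
)) (.node (.node (.leaf [nat_lit 27,nat_lit 2,nat_lit 1,nat_lit 3,nat_lit 0,nat_lit 5,nat_lit 2,nat_lit 4,nat_lit 3,nat_lit 4,nat_lit 2,nat_lit 5,nat_lit 1,nat_lit 3,nat_lit 1,nat_lit 5,nat_lit 0])
 (.leaf [nat_lit 18,nat_lit 13,nat_lit 1,nat_lit 0,nat_lit 2,nat_lit 1,nat_lit 1,nat_lit 2,nat_lit 1,nat_lit 2,nat_lit 1,nat_lit 1,nat_lit 1,nat_lit 2,nat_lit 1,nat_lit 4,nat_lit 2,nat_lit 4,nat_lit 0,nat_lit 2,nat_lit 0,nat_lit 4,nat_lit 1,nat_lit 3,nat_lit 2,nat_lit 3])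
) (.node (.leaf [nat_lit 17,nat_lit 4,nat_lit 1,nat_lit 1,nat_lit 0,nat_lit 2,nat_lit 1,nat_lit 4,nat_lit 3,nat_lit 2,nat_lit 0,nat_lit 2,nat_lit 1,nat_lit 3,nat_lit 1,nat_lit 2,nat_lit 1,nat_lit 2,nat_lit 1,nat_lit 1,nat_lit 4,nat_lit 1,nat_lit 1,nat_lit 3])
 (.leaf [nat_lit 58,nat_lit 5,nat_lit 1,nat_lit 5,nat_lit 1,nat_lit 4,nat_lit 5,nat_lit 0,nat_lit 3,nat_lit 5,nat_lit 6,nat_lit 5,nat_lit 3,nat_lit 1,nat_lit 5,nat_lit 4,nat_lit 0,nat_lit 5,nat_lit 6])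
))) (.node (.node (.node (.leaf [nat_lit 62,nat_lit 4,nat_lit 1,nat_lit 4,nat_lit 5,nat_lit 6,nat_lit 4,nat_lit 6,nat_lit 5,nat_lit 4,nat_lit 5,nat_lit 4,nat_lit 6,nat_lit 4,nat_lit 6,nat_lit 5])
 (.leaf [nat_lit 16,nat_lit 15,nat_lit 1,nat_lit 1,nat_lit 3,nat_lit 1,nat_lit 1,nat_lit 1,nat_lit 3,nat_lit 4,nat_lit 1,nat_lit 4,nat_lit 0,nat_lit 4,nat_lit 0,nat_lit 0,nat_lit 4,nat_lit 1,nat_lit 2,nat_lit 0,nat_lit 0,nat_lit 2,nat_lit 3])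
) (.node (.leaf [nat_lit 11,nat_lit 11,nat_lit 1,nat_lit 0,nat_lit 1,nat_lit 1,nat_lit 2,nat_lit 3,nat_lit 1,nat_lit 3,nat_lit 0,nat_lit 3,nat_lit 2,nat_lit 0,nat_lit 0,nat_lit 0,nat_lit 2])
 (.leaf [nat_lit 15,nat_lit 3,nat_lit 0,nat_lit 2,nat_lit 0,nat_lit 0,nat_lit 0,nat_lit 2,nat_lit 1,nat_lit 3,nat_lit 0,nat_lit 2,nat_lit 0,nat_lit 2,nat_lit 4,nat_lit 3,nat_lit 4,nat_lit 2,nat_lit 0,nat_lit 0,nat_lit 0])
)) (.node (.node (.leaf [nat_lit 18,nat_lit 15,nat_lit 0,nat_lit 0,nat_lit 2,nat_lit 1,nat_lit 4,nat_lit 2,nat_lit 4,nat_lit 0,nat_lit 2,nat_lit 0,nat_lit 0,nat_lit 0,nat_lit 2,nat_lit 0,nat_lit 2,nat_lit 0,nat_lit 0,nat_lit 2,nat_lit 0,nat_lit 3,nat_lit 2,nat_lit 3,nat_lit 0,nat_lit 4])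
 (.leaf [nat_lit 17,nat_lit 19,nat_lit 0,nat_lit 1,nat_lit 4,nat_lit 0,nat_lit 0,nat_lit 2,nat_lit 0,nat_lit 2,nat_lit 0,nat_lit 3,nat_lit 0,nat_lit 2,nat_lit 1,nat_lit 2,nat_lit 3,nat_lit 4,nat_lit 0,nat_lit 2,nat_lit 1,nat_lit 1,nat_lit 3,nat_lit 0])
) (.node (.leaf [nat_lit 51,nat_lit 1,nat_lit 1,nat_lit 6,nat_lit 5,nat_lit 3,nat_lit 4,nat_lit 5,nat_lit 3,nat_lit 4,nat_lit 6,nat_lit 4,nat_lit 3,nat_lit 5,nat_lit 4,nat_lit 3,nat_lit 5])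
 (.leaf [nat_lit 69,nat_lit 17,nat_lit 1,nat_lit 2,nat_lit 6,nat_lit 0,nat_lit 3,nat_lit 5,nat_lit 1,nat_lit 1,nat_lit 6,nat_lit 4,nat_lit 3,nat_lit 0,nat_lit 4,nat_lit 6,nat_lit 0,nat_lit 2,nat_lit 1,nat_lit 1,nat_lit 1,nat_lit 2,nat_lit 0,nat_lit 2,nat_lit 0,nat_lit 0,nat_lit 2,nat_lit 1,nat_lit 3,nat_lit 1,nat_lit 2,nat_lit 4,nat_lit 1,nat_lit 4,nat_lit 1,nat_lit 1,nat_lit 2,nat_lit 5])
)))) (.node (.node (.node (.node (.leaf [nat_lit 28,nat_lit 13,nat_lit 1,nat_lit 0,nat_lit 4,nat_lit 5,nat_lit 4,nat_lit 2,nat_lit 0,nat_lit 2,nat_lit 1,nat_lit 4,nat_lit 5,nat_lit 4,nat_lit 2,nat_lit 0,nat_lit 2])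
 (.leaf [nat_lit 12,nat_lit 6,nat_lit 0,nat_lit 0,nat_lit 3,nat_lit 0,nat_lit 2,nat_lit 1,nat_lit 3,nat_lit 0,nat_lit 2,nat_lit 3,nat_lit 0,nat_lit 0,nat_lit 3,nat_lit 1,nat_lit 1,nat_lit 3])
) (.node (.leaf [nat_lit 51,nat_lit 5,nat_lit 1,nat_lit 5,nat_lit 3,nat_lit 4,nat_lit 6,nat_lit 4,nat_lit 3,nat_lit 5,nat_lit 4,nat_lit 3,nat_lit 5,nat_lit 6,nat_lit 5,nat_lit 3,nat_lit 4])
 (.leaf [nat_lit 58,nat_lit 4,nat_lit 1,nat_lit 6,nat_lit 5,nat_lit 1,nat_lit 4,nat_lit 5,nat_lit 0,nat_lit 3,nat_lit 5,nat_lit 6,nat_lit 5,nat_lit 3,nat_lit 1,nat_lit 5,nat_lit 4,nat_lit 0,nat_lit 5])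
)) (.node (.node (.leaf [nat_lit 56,nat_lit 2,nat_lit 1,nat_lit 5,nat_lit 0,nat_lit 2,nat_lit 3,nat_lit 4,nat_lit 0,nat_lit 3,nat_lit 6,nat_lit 3,nat_lit 1,nat_lit 4,nat_lit 3,nat_lit 2,nat_lit 1,nat_lit 5,nat_lit 6])
 (.leaf [nat_lit 25,nat_lit 1,nat_lit 1,nat_lit 2,nat_lit 3,nat_lit 2,nat_lit 5,nat_lit 0,nat_lit 5,nat_lit 1,nat_lit 3,nat_lit 5,nat_lit 3,nat_lit 0,nat_lit 5,nat_lit 1,nat_lit 5])
) (.node (.leaf [nat_lit 15,nat_lit 3,nat_lit 1,nat_lit 4,nat_lit 2,nat_lit 1,nat_lit 2,nat_lit 1,nat_lit 3,nat_lit 0,nat_lit 2,nat_lit 1,nat_lit 1,nat_lit 1,nat_lit 2,nat_lit 1,nat_lit 1,nat_lit 1,nat_lit 2,nat_lit 4,nat_lit 3])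
 (.leaf [nat_lit 69,nat_lit 21,nat_lit 1,nat_lit 5,nat_lit 1,nat_lit 1,nat_lit 6,nat_lit 4,nat_lit 3,nat_lit 0,nat_lit 4,nat_lit 6,nat_lit 0,nat_lit 2,nat_lit 1,nat_lit 1,nat_lit 1,nat_lit 2,nat_lit 0,nat_lit 2,nat_lit 0,nat_lit 0,nat_lit 2,nat_lit 1,nat_lit 3,nat_lit 1,nat_lit 2,nat_lit 4,nat_lit 1,nat_lit 4,nat_lit 1,nat_lit 1,nat_lit 2,nat_lit 5,nat_lit 2,nat_lit 6,nat_lit 0,nat_lit 3])
))) (.node (.node (.node (.leaf [nat_lit 34,nat_lit 4,nat_lit 1,nat_lit 6,nat_lit 2,nat_lit 4,nat_lit 2,nat_lit 6,nat_lit 2,nat_lit 4,nat_lit 2])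
 (.leaf [nat_lit 60,nat_lit 6,nat_lit 1,nat_lit 5,nat_lit 1,nat_lit 5,nat_lit 0,nat_lit 5,nat_lit 2,nat_lit 6,nat_lit 2,nat_lit 5,nat_lit 1,nat_lit 5,nat_lit 0,nat_lit 5,nat_lit 3,nat_lit 6,nat_lit 3])
) (.node (.leaf [nat_lit 49,nat_lit 8,nat_lit 1,nat_lit 1,nat_lit 6,nat_lit 5,nat_lit 1,nat_lit 1,nat_lit 2,nat_lit 0,nat_lit 2,nat_lit 0,nat_lit 5,nat_lit 6,nat_lit 1,nat_lit 2])
 (.leaf [nat_lit 24,nat_lit 2,nat_lit 0,nat_lit 0,nat_lit 3,nat_lit 0,nat_lit 2,nat_lit 5,nat_lit 1,nat_lit 3,nat_lit 0,nat_lit 5,nat_lit 1,nat_lit 3,nat_lit 0,nat_lit 2])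
)) (.node (.node (.leaf [nat_lit 37,nat_lit 3,nat_lit 1,nat_lit 5,nat_lit 2,nat_lit 5,nat_lit 2,nat_lit 5,nat_lit 4,nat_lit 6,nat_lit 4,nat_lit 2,nat_lit 4,nat_lit 6,nat_lit 4])
 (.leaf [nat_lit 18,nat_lit 14,nat_lit 1,nat_lit 2,nat_lit 1,nat_lit 1,nat_lit 2,nat_lit 1,nat_lit 2,nat_lit 1,nat_lit 1,nat_lit 1,nat_lit 2,nat_lit 1,nat_lit 4,nat_lit 2,nat_lit 4,nat_lit 0,nat_lit 2,nat_lit 0,nat_lit 4,nat_lit 1,nat_lit 3,nat_lit 2,nat_lit 3,nat_lit 1])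
) (.leaf [nat_lit 28,nat_lit 5,nat_lit 0,nat_lit 5,nat_lit 4,nat_lit 0,nat_lit 2,nat_lit 1,nat_lit 2,nat_lit 4,nat_lit 5,nat_lit 4,nat_lit 0,nat_lit 2,nat_lit 1,nat_lit 2,nat_lit 4])
)))) (.node (.node (.node (.node (.node (.leaf [nat_lit 43,nat_lit 6,nat_lit 1,nat_lit 5,nat_lit 0,nat_lit 5,nat_lit 6,nat_lit 5,nat_lit 1,nat_lit 5,nat_lit 0,nat_lit 5,nat_lit 6,nat_lit 5,nat_lit 1])
 (.leaf [nat_lit 67,nat_lit 1,nat_lit 1,nat_lit 1,nat_lit 0,nat_lit 4,nat_lit 1,nat_lit 1,nat_lit 4,nat_lit 2,nat_lit 5,nat_lit 6,nat_lit 5,nat_lit 2,nat_lit 4,nat_lit 0,nat_lit 0,nat_lit 4,nat_lit 1,nat_lit 1,nat_lit 6])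
) (.node (.leaf [nat_lit 35,nat_lit 5,nat_lit 1,nat_lit 6,nat_lit 4,nat_lit 2,nat_lit 4,nat_lit 6,nat_lit 4,nat_lit 2,nat_lit 4])
 (.leaf [nat_lit 4,nat_lit 2,nat_lit 0,nat_lit 2,nat_lit 1,nat_lit 1,nat_lit 2,nat_lit 0,nat_lit 0,nat_lit 2,nat_lit 1,nat_lit 2,nat_lit 1,nat_lit 2,nat_lit 0,nat_lit 0])
)) (.node (.node (.leaf [nat_lit 46,nat_lit 7,nat_lit 1,nat_lit 4,nat_lit 6,nat_lit 2,nat_lit 5,nat_lit 2,nat_lit 6,nat_lit 4,nat_lit 6,nat_lit 2,nat_lit 5,nat_lit 2,nat_lit 6])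
 (.leaf [nat_lit 17,nat_lit 1,nat_lit 0,nat_lit 1,nat_lit 2,nat_lit 0,nat_lit 2,nat_lit 0,nat_lit 3,nat_lit 0,nat_lit 2,nat_lit 1,nat_lit 2,nat_lit 3,nat_lit 4,nat_lit 0,nat_lit 2,nat_lit 1,nat_lit 1,nat_lit 3,nat_lit 0,nat_lit 0,nat_lit 4,nat_lit 0])
) (.node (.leaf [nat_lit 50,nat_lit 12,nat_lit 1,nat_lit 3,nat_lit 1,nat_lit 6,nat_lit 0,nat_lit 3,nat_lit 1,nat_lit 4,nat_lit 5,nat_lit 3,nat_lit 6,nat_lit 3,nat_lit 5,nat_lit 4,nat_lit 0])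
 (.leaf [nat_lit 38,nat_lit 8,nat_lit 1,nat_lit 6,nat_lit 4,nat_lit 3,nat_lit 2,nat_lit 3,nat_lit 4,nat_lit 6,nat_lit 4,nat_lit 3,nat_lit 2,nat_lit 3,nat_lit 4])
))) (.node (.node (.node (.leaf [nat_lit 15,nat_lit 2,nat_lit 1,nat_lit 3,nat_lit 4,nat_lit 2,nat_lit 1,nat_lit 2,nat_lit 1,nat_lit 3,nat_lit 0,nat_lit 2,nat_lit 1,nat_lit 1,nat_lit 1,nat_lit 2,nat_lit 1,nat_lit 1,nat_lit 1,nat_lit 2,nat_lit 4])
 (.leaf [nat_lit 22,nat_lit 2,nat_lit 1,nat_lit 3,nat_lit 5,nat_lit 0,nat_lit 3,nat_lit 1,nat_lit 5,nat_lit 3,nat_lit 0,nat_lit 5,nat_lit 0,nat_lit 3,nat_lit 1,nat_lit 5,nat_lit 1])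
) (.node (.leaf [nat_lit 49,nat_lit 3,nat_lit 1,nat_lit 1,nat_lit 5,nat_lit 6,nat_lit 1,nat_lit 2,nat_lit 0,nat_lit 6,nat_lit 5,nat_lit 1,nat_lit 1,nat_lit 2,nat_lit 0,nat_lit 2])
 (.leaf [nat_lit 69,nat_lit 10,nat_lit 1,nat_lit 4,nat_lit 1,nat_lit 4,nat_lit 1,nat_lit 1,nat_lit 2,nat_lit 5,nat_lit 2,nat_lit 6,nat_lit 0,nat_lit 3,nat_lit 5,nat_lit 1,nat_lit 1,nat_lit 6,nat_lit 4,nat_lit 3,nat_lit 0,nat_lit 4,nat_lit 6,nat_lit 0,nat_lit 2,nat_lit 1,nat_lit 1,nat_lit 1,nat_lit 2,nat_lit 0,nat_lit 2,nat_lit 0,nat_lit 0,nat_lit 2,nat_lit 1,nat_lit 3,nat_lit 1,nat_lit 2])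
)) (.node (.node (.leaf [nat_lit 49,nat_lit 0,nat_lit 0,nat_lit 1,nat_lit 0,nat_lit 5,nat_lit 6,nat_lit 1,nat_lit 2,nat_lit 0,nat_lit 6,nat_lit 5,nat_lit 1,nat_lit 2,nat_lit 1,nat_lit 2])
 (.leaf [nat_lit 60,nat_lit 11,nat_lit 1,nat_lit 2,nat_lit 6,nat_lit 2,nat_lit 5,nat_lit 1,nat_lit 5,nat_lit 0,nat_lit 5,nat_lit 3,nat_lit 6,nat_lit 3,nat_lit 5,nat_lit 1,nat_lit 5,nat_lit 0,nat_lit 5])
) (.leaf [nat_lit 15,nat_lit 16,nat_lit 0,nat_lit 4,nat_lit 2,nat_lit 0,nat_lit 0,nat_lit 0,nat_lit 2,nat_lit 0,nat_lit 0,nat_lit 0,nat_lit 2,nat_lit 1,nat_lit 3,nat_lit 0,nat_lit 2,nat_lit 0,nat_lit 2,nat_lit 4,nat_lit 3])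
))) (.node (.node (.node (.node (.leaf [nat_lit 28,nat_lit 9,nat_lit 0,nat_lit 0,nat_lit 2,nat_lit 4,nat_lit 5,nat_lit 4,nat_lit 0,nat_lit 2,nat_lit 1,nat_lit 2,nat_lit 4,nat_lit 5,nat_lit 4,nat_lit 0,nat_lit 2])
 (.leaf [nat_lit 49,nat_lit 4,nat_lit 1,nat_lit 5,nat_lit 6,nat_lit 1,nat_lit 2,nat_lit 0,nat_lit 6,nat_lit 5,nat_lit 1,nat_lit 1,nat_lit 2,nat_lit 0,nat_lit 2,nat_lit 0])
) (.node (.leaf [nat_lit 9,nat_lit 6,nat_lit 1,nat_lit 3,nat_lit 2,nat_lit 3,nat_lit 0,nat_lit 2,nat_lit 1,nat_lit 3,nat_lit 2,nat_lit 3,nat_lit 0,nat_lit 2,nat_lit 1])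
 (.leaf [nat_lit 68,nat_lit 1,nat_lit 1,nat_lit 0,nat_lit 3,nat_lit 0,nat_lit 0,nat_lit 2,nat_lit 1,nat_lit 1,nat_lit 1,nat_lit 4,nat_lit 5,nat_lit 1,nat_lit 1,nat_lit 3,nat_lit 6,nat_lit 3,nat_lit 0,nat_lit 0,nat_lit 5,nat_lit 6,nat_lit 4,nat_lit 6,nat_lit 0,nat_lit 0,nat_lit 2,nat_lit 0,nat_lit 2,nat_lit 0,nat_lit 0,nat_lit 2,nat_lit 1,nat_lit 1,nat_lit 1,nat_lit 2])
)) (.node (.node (.leaf [nat_lit 30,nat_lit 3,nat_lit 1,nat_lit 0,nat_lit 2,nat_lit 0,nat_lit 6,nat_lit 1,nat_lit 2,nat_lit 0,nat_lit 6])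
 (.leaf [nat_lit 69,nat_lit 13,nat_lit 0,nat_lit 5,nat_lit 3,nat_lit 1,nat_lit 6,nat_lit 2,nat_lit 5,nat_lit 2,nat_lit 0,nat_lit 0,nat_lit 4,nat_lit 0,nat_lit 4,nat_lit 2,nat_lit 0,nat_lit 3,nat_lit 0,nat_lit 2,nat_lit 1,nat_lit 1,nat_lit 2,nat_lit 1,nat_lit 2,nat_lit 0,nat_lit 0,nat_lit 0,nat_lit 2,nat_lit 1,nat_lit 6,nat_lit 4,nat_lit 1,nat_lit 3,nat_lit 4,nat_lit 6,nat_lit 0,nat_lit 0])
) (.node (.leaf [nat_lit 18,nat_lit 6,nat_lit 1,nat_lit 2,nat_lit 0,nat_lit 4,nat_lit 1,nat_lit 3,nat_lit 2,nat_lit 3,nat_lit 1,nat_lit 2,nat_lit 1,nat_lit 1,nat_lit 2,nat_lit 1,nat_lit 2,nat_lit 1,nat_lit 1,nat_lit 1,nat_lit 2,nat_lit 1,nat_lit 4,nat_lit 2,nat_lit 4,nat_lit 0])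
 (.leaf [nat_lit 69,nat_lit 25,nat_lit 0,nat_lit 2,nat_lit 0,nat_lit 3,nat_lit 0,nat_lit 2,nat_lit 1,nat_lit 1,nat_lit 2,nat_lit 1,nat_lit 2,nat_lit 0,nat_lit 0,nat_lit 0,nat_lit 2,nat_lit 1,nat_lit 6,nat_lit 4,nat_lit 1,nat_lit 3,nat_lit 4,nat_lit 6,nat_lit 0,nat_lit 0,nat_lit 5,nat_lit 3,nat_lit 1,nat_lit 6,nat_lit 2,nat_lit 5,nat_lit 2,nat_lit 0,nat_lit 0,nat_lit 4,nat_lit 0,nat_lit 4])
))) (.node (.node (.node (.leaf [nat_lit 26,nat_lit 9,nat_lit 1,nat_lit 1,nat_lit 5,nat_lit 1,nat_lit 1,nat_lit 5,nat_lit 4,nat_lit 5,nat_lit 2,nat_lit 5,nat_lit 4,nat_lit 5,nat_lit 2,nat_lit 0])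
 (.leaf [nat_lit 4,nat_lit 12,nat_lit 1,nat_lit 0,nat_lit 2,nat_lit 0,nat_lit 2,nat_lit 0,nat_lit 2,nat_lit 1,nat_lit 1,nat_lit 2,nat_lit 0,nat_lit 0,nat_lit 2,nat_lit 1])
) (.node (.leaf [nat_lit 11,nat_lit 5,nat_lit 1,nat_lit 3,nat_lit 2,nat_lit 0,nat_lit 0,nat_lit 0,nat_lit 2,nat_lit 1,nat_lit 1,nat_lit 1,nat_lit 2,nat_lit 3,nat_lit 1,nat_lit 3,nat_lit 0])
 (.leaf [nat_lit 64,nat_lit 0,nat_lit 1,nat_lit 5,nat_lit 6,nat_lit 4,nat_lit 5,nat_lit 6,nat_lit 5,nat_lit 2,nat_lit 5,nat_lit 6,nat_lit 5,nat_lit 4,nat_lit 6,nat_lit 5,nat_lit 0,nat_lit 2,nat_lit 1])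
)) (.node (.node (.leaf [nat_lit 4,nat_lit 4,nat_lit 1,nat_lit 2,nat_lit 1,nat_lit 1,nat_lit 2,nat_lit 0,nat_lit 0,nat_lit 2,nat_lit 1,nat_lit 1,nat_lit 2,nat_lit 0,nat_lit 2,nat_lit 0])
 (.leaf [nat_lit 57,nat_lit 13,nat_lit 1,nat_lit 1,nat_lit 3,nat_lit 1,nat_lit 5,nat_lit 1,nat_lit 6,nat_lit 3,nat_lit 5,nat_lit 0,nat_lit 3,nat_lit 1,nat_lit 5,nat_lit 3,nat_lit 6,nat_lit 0,nat_lit 5])
) (.leaf [nat_lit 15,nat_lit 8,nat_lit 1,nat_lit 3,nat_lit 0,nat_lit 2,nat_lit 1,nat_lit 1,nat_lit 1,nat_lit 2,nat_lit 1,nat_lit 1,nat_lit 1,nat_lit 2,nat_lit 4,nat_lit 3,nat_lit 4,nat_lit 2,nat_lit 1,nat_lit 2,nat_lit 1])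
)))))) (.node (.node (.node (.node (.node (.node (.node (.leaf [nat_lit 26,nat_lit 6,nat_lit 1,nat_lit 5,nat_lit 2,nat_lit 0,nat_lit 0,nat_lit 5,nat_lit 1,nat_lit 1,nat_lit 5,nat_lit 4,nat_lit 5,nat_lit 2,nat_lit 5,nat_lit 4])
 (.leaf [nat_lit 51,nat_lit 8,nat_lit 1,nat_lit 6,nat_lit 4,nat_lit 3,nat_lit 5,nat_lit 4,nat_lit 3,nat_lit 5,nat_lit 6,nat_lit 5,nat_lit 3,nat_lit 4,nat_lit 5,nat_lit 3,nat_lit 4])
) (.node (.leaf [nat_lit 52,nat_lit 4,nat_lit 1,nat_lit 0,nat_lit 2,nat_lit 0,nat_lit 6,nat_lit 2,nat_lit 1,nat_lit 2,nat_lit 0,nat_lit 2,nat_lit 6])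
 (.leaf [nat_lit 15,nat_lit 15,nat_lit 0,nat_lit 3,nat_lit 4,nat_lit 2,nat_lit 0,nat_lit 0,nat_lit 0,nat_lit 2,nat_lit 0,nat_lit 0,nat_lit 0,nat_lit 2,nat_lit 1,nat_lit 3,nat_lit 0,nat_lit 2,nat_lit 0,nat_lit 2,nat_lit 4])
)) (.node (.node (.leaf [nat_lit 53,nat_lit 13,nat_lit 0,nat_lit 3,nat_lit 4,nat_lit 0,nat_lit 3,nat_lit 2,nat_lit 3,nat_lit 1,nat_lit 2,nat_lit 4,nat_lit 3,nat_lit 6,nat_lit 4,nat_lit 2,nat_lit 4,nat_lit 6])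
 (.leaf [nat_lit 55,nat_lit 9,nat_lit 1,nat_lit 2,nat_lit 3,nat_lit 0,nat_lit 0,nat_lit 6,nat_lit 1,nat_lit 1,nat_lit 3,nat_lit 2,nat_lit 1,nat_lit 3,nat_lit 0,nat_lit 6,nat_lit 1,nat_lit 3,nat_lit 0])
) (.node (.leaf [nat_lit 37,nat_lit 2,nat_lit 1,nat_lit 4,nat_lit 5,nat_lit 2,nat_lit 5,nat_lit 2,nat_lit 5,nat_lit 4,nat_lit 6,nat_lit 4,nat_lit 2,nat_lit 4,nat_lit 6])
 (.leaf [nat_lit 49,nat_lit 7,nat_lit 0,nat_lit 6,nat_lit 5,nat_lit 1,nat_lit 2,nat_lit 1,nat_lit 2,nat_lit 0,nat_lit 0,nat_lit 5,nat_lit 6,nat_lit 1,nat_lit 2,nat_lit 0])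
))) (.node (.node (.node (.leaf [nat_lit 9,nat_lit 7,nat_lit 1,nat_lit 2,nat_lit 3,nat_lit 0,nat_lit 2,nat_lit 1,nat_lit 3,nat_lit 2,nat_lit 3,nat_lit 0,nat_lit 2,nat_lit 1,nat_lit 3])
 (.leaf [nat_lit 26,nat_lit 7,nat_lit 0,nat_lit 4,nat_lit 5,nat_lit 2,nat_lit 5,nat_lit 4,nat_lit 5,nat_lit 0,nat_lit 0,nat_lit 5,nat_lit 1,nat_lit 1,nat_lit 2,nat_lit 5])
) (.node (.leaf [nat_lit 56,nat_lit 4,nat_lit 1,nat_lit 2,nat_lit 3,nat_lit 4,nat_lit 0,nat_lit 3,nat_lit 6,nat_lit 3,nat_lit 1,nat_lit 4,nat_lit 3,nat_lit 2,nat_lit 1,nat_lit 5,nat_lit 6,nat_lit 5,nat_lit 0])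
 (.leaf [nat_lit 16,nat_lit 13,nat_lit 1,nat_lit 2,nat_lit 3,nat_lit 0,nat_lit 3,nat_lit 1,nat_lit 1,nat_lit 1,nat_lit 3,nat_lit 4,nat_lit 1,nat_lit 4,nat_lit 0,nat_lit 4,nat_lit 0,nat_lit 0,nat_lit 4,nat_lit 1,nat_lit 2,nat_lit 0,nat_lit 0])
)) (.node (.node (.leaf [nat_lit 17,nat_lit 13,nat_lit 0,nat_lit 1,nat_lit 2,nat_lit 1,nat_lit 1,nat_lit 3,nat_lit 0,nat_lit 0,nat_lit 4,nat_lit 0,nat_lit 0,nat_lit 2,nat_lit 0,nat_lit 2,nat_lit 0,nat_lit 3,nat_lit 0,nat_lit 2,nat_lit 1,nat_lit 2,nat_lit 3,nat_lit 4])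
 (.leaf [nat_lit 69,nat_lit 17,nat_lit 0,nat_lit 2,nat_lit 5,nat_lit 2,nat_lit 0,nat_lit 0,nat_lit 4,nat_lit 0,nat_lit 4,nat_lit 2,nat_lit 0,nat_lit 3,nat_lit 0,nat_lit 2,nat_lit 1,nat_lit 1,nat_lit 2,nat_lit 1,nat_lit 2,nat_lit 0,nat_lit 0,nat_lit 0,nat_lit 2,nat_lit 1,nat_lit 6,nat_lit 4,nat_lit 1,nat_lit 3,nat_lit 4,nat_lit 6,nat_lit 0,nat_lit 0,nat_lit 5,nat_lit 3,nat_lit 1,nat_lit 6])
) (.node (.leaf [nat_lit 17,nat_lit 14,nat_lit 0,nat_lit 2,nat_lit 1,nat_lit 1,nat_lit 3,nat_lit 0,nat_lit 0,nat_lit 4,nat_lit 0,nat_lit 0,nat_lit 2,nat_lit 0,nat_lit 2,nat_lit 0,nat_lit 3,nat_lit 0,nat_lit 2,nat_lit 1,nat_lit 2,nat_lit 3,nat_lit 4,nat_lit 0])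
 (.leaf [nat_lit 68,nat_lit 26,nat_lit 1,nat_lit 2,nat_lit 0,nat_lit 0,nat_lit 2,nat_lit 1,nat_lit 1,nat_lit 1,nat_lit 2,nat_lit 1,nat_lit 3,nat_lit 0,nat_lit 0,nat_lit 2,nat_lit 1,nat_lit 1,nat_lit 1,nat_lit 4,nat_lit 5,nat_lit 1,nat_lit 1,nat_lit 3,nat_lit 6,nat_lit 3,nat_lit 0,nat_lit 0,nat_lit 5,nat_lit 6,nat_lit 4,nat_lit 6,nat_lit 0,nat_lit 0,nat_lit 2,nat_lit 0])
)))) (.node (.node (.node (.node (.leaf [nat_lit 53,nat_lit 1,nat_lit 0,nat_lit 3,nat_lit 2,nat_lit 3,nat_lit 1,nat_lit 2,nat_lit 4,nat_lit 3,nat_lit 6,nat_lit 4,nat_lit 2,nat_lit 4,nat_lit 6,nat_lit 3,nat_lit 4,nat_lit 0])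
 (.leaf [nat_lit 62,nat_lit 2,nat_lit 0,nat_lit 4,nat_lit 5,nat_lit 6,nat_lit 4,nat_lit 6,nat_lit 5,nat_lit 4,nat_lit 5,nat_lit 6,nat_lit 4,nat_lit 6,nat_lit 4,nat_lit 5])
) (.node (.leaf [nat_lit 23,nat_lit 8,nat_lit 1,nat_lit 5,nat_lit 2,nat_lit 1,nat_lit 1,nat_lit 2,nat_lit 0,nat_lit 0,nat_lit 2,nat_lit 5,nat_lit 1,nat_lit 2,nat_lit 0])
 (.leaf [nat_lit 24,nat_lit 0,nat_lit 0,nat_lit 1,nat_lit 2,nat_lit 1,nat_lit 3,nat_lit 0,nat_lit 2,nat_lit 5,nat_lit 1,nat_lit 3,nat_lit 0,nat_lit 5,nat_lit 1,nat_lit 3])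
)) (.node (.node (.leaf [nat_lit 24,nat_lit 3,nat_lit 1,nat_lit 0,nat_lit 3,nat_lit 0,nat_lit 5,nat_lit 2,nat_lit 1,nat_lit 3,nat_lit 0,nat_lit 2,nat_lit 1,nat_lit 3,nat_lit 0,nat_lit 5])
 (.leaf [nat_lit 60,nat_lit 13,nat_lit 1,nat_lit 2,nat_lit 5,nat_lit 1,nat_lit 5,nat_lit 0,nat_lit 5,nat_lit 3,nat_lit 6,nat_lit 3,nat_lit 5,nat_lit 1,nat_lit 5,nat_lit 0,nat_lit 5,nat_lit 2,nat_lit 6])
) (.node (.leaf [nat_lit 16,nat_lit 0,nat_lit 1,nat_lit 3,nat_lit 4,nat_lit 1,nat_lit 4,nat_lit 0,nat_lit 4,nat_lit 0,nat_lit 0,nat_lit 4,nat_lit 1,nat_lit 2,nat_lit 0,nat_lit 0,nat_lit 2,nat_lit 3,nat_lit 0,nat_lit 3,nat_lit 1,nat_lit 1,nat_lit 1])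
 (.leaf [nat_lit 58,nat_lit 11,nat_lit 1,nat_lit 5,nat_lit 6,nat_lit 5,nat_lit 3,nat_lit 1,nat_lit 5,nat_lit 4,nat_lit 0,nat_lit 5,nat_lit 6,nat_lit 5,nat_lit 1,nat_lit 4,nat_lit 5,nat_lit 0,nat_lit 3])
))) (.node (.node (.node (.leaf [nat_lit 39,nat_lit 3,nat_lit 1,nat_lit 3,nat_lit 5,nat_lit 2,nat_lit 6,nat_lit 2,nat_lit 3,nat_lit 5,nat_lit 3,nat_lit 2,nat_lit 6,nat_lit 2,nat_lit 5])
 (.leaf [nat_lit 26,nat_lit 7,nat_lit 1,nat_lit 2,nat_lit 0,nat_lit 0,nat_lit 5,nat_lit 1,nat_lit 1,nat_lit 5,nat_lit 4,nat_lit 5,nat_lit 2,nat_lit 5,nat_lit 4,nat_lit 5])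
) (.node (.leaf [nat_lit 42,nat_lit 5,nat_lit 1,nat_lit 0,nat_lit 6,nat_lit 2,nat_lit 6,nat_lit 0,nat_lit 5,nat_lit 1,nat_lit 6,nat_lit 2,nat_lit 6,nat_lit 0,nat_lit 5])
 (.leaf [nat_lit 69,nat_lit 16,nat_lit 0,nat_lit 6,nat_lit 2,nat_lit 5,nat_lit 2,nat_lit 0,nat_lit 0,nat_lit 4,nat_lit 0,nat_lit 4,nat_lit 2,nat_lit 0,nat_lit 3,nat_lit 0,nat_lit 2,nat_lit 1,nat_lit 1,nat_lit 2,nat_lit 1,nat_lit 2,nat_lit 0,nat_lit 0,nat_lit 0,nat_lit 2,nat_lit 1,nat_lit 6,nat_lit 4,nat_lit 1,nat_lit 3,nat_lit 4,nat_lit 6,nat_lit 0,nat_lit 0,nat_lit 5,nat_lit 3,nat_lit 1])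
)) (.node (.node (.leaf [nat_lit 67,nat_lit 5,nat_lit 1,nat_lit 0,nat_lit 4,nat_lit 2,nat_lit 5,nat_lit 6,nat_lit 5,nat_lit 2,nat_lit 4,nat_lit 0,nat_lit 0,nat_lit 4,nat_lit 1,nat_lit 1,nat_lit 6,nat_lit 0,nat_lit 0,nat_lit 4,nat_lit 1])
 (.leaf [nat_lit 40,nat_lit 0,nat_lit 1,nat_lit 4,nat_lit 6,nat_lit 4,nat_lit 0,nat_lit 2,nat_lit 1,nat_lit 4,nat_lit 6,nat_lit 4,nat_lit 0,nat_lit 2,nat_lit 1])
) (.leaf [nat_lit 14,nat_lit 9,nat_lit 1,nat_lit 0,nat_lit 2,nat_lit 0,nat_lit 2,nat_lit 4,nat_lit 2,nat_lit 1,nat_lit 1,nat_lit 2,nat_lit 0,nat_lit 3,nat_lit 2,nat_lit 3,nat_lit 0,nat_lit 4,nat_lit 2,nat_lit 4])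
)))) (.node (.node (.node (.node (.node (.leaf [nat_lit 49,nat_lit 7,nat_lit 1,nat_lit 2,nat_lit 0,nat_lit 6,nat_lit 5,nat_lit 1,nat_lit 1,nat_lit 2,nat_lit 0,nat_lit 2,nat_lit 0,nat_lit 5,nat_lit 6,nat_lit 1])
 (.leaf [nat_lit 66,nat_lit 16,nat_lit 1,nat_lit 0,nat_lit 1,nat_lit 3,nat_lit 2,nat_lit 6,nat_lit 2,nat_lit 3,nat_lit 0,nat_lit 0,nat_lit 3,nat_lit 4,nat_lit 5,nat_lit 2,nat_lit 6,nat_lit 2,nat_lit 5,nat_lit 4,nat_lit 3])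
) (.node (.leaf [nat_lit 54,nat_lit 10,nat_lit 1,nat_lit 5,nat_lit 2,nat_lit 6,nat_lit 5,nat_lit 6,nat_lit 5,nat_lit 6,nat_lit 5,nat_lit 6,nat_lit 2,nat_lit 5,nat_lit 2])
 (.leaf [nat_lit 18,nat_lit 2,nat_lit 0,nat_lit 1,nat_lit 2,nat_lit 0,nat_lit 2,nat_lit 0,nat_lit 0,nat_lit 2,nat_lit 0,nat_lit 3,nat_lit 2,nat_lit 3,nat_lit 0,nat_lit 4,nat_lit 1,nat_lit 2,nat_lit 1,nat_lit 4,nat_lit 2,nat_lit 4,nat_lit 0,nat_lit 2,nat_lit 0,nat_lit 0])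
)) (.node (.node (.leaf [nat_lit 37,nat_lit 8,nat_lit 1,nat_lit 4,nat_lit 6,nat_lit 4,nat_lit 2,nat_lit 4,nat_lit 6,nat_lit 4,nat_lit 5,nat_lit 2,nat_lit 5,nat_lit 2,nat_lit 5])
 (.leaf [nat_lit 5,nat_lit 4,nat_lit 0,nat_lit 1,nat_lit 2,nat_lit 0,nat_lit 2,nat_lit 0,nat_lit 0,nat_lit 2,nat_lit 0,nat_lit 0,nat_lit 2,nat_lit 0,nat_lit 2,nat_lit 0,nat_lit 0,nat_lit 2,nat_lit 0,nat_lit 0,nat_lit 2,nat_lit 0,nat_lit 2,nat_lit 0,nat_lit 0,nat_lit 2,nat_lit 0])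
) (.node (.leaf [nat_lit 14,nat_lit 8,nat_lit 1,nat_lit 4,nat_lit 1,nat_lit 2,nat_lit 0,nat_lit 2,nat_lit 4,nat_lit 2,nat_lit 1,nat_lit 1,nat_lit 2,nat_lit 0,nat_lit 3,nat_lit 2,nat_lit 3,nat_lit 0,nat_lit 4,nat_lit 2])
 (.leaf [nat_lit 64,nat_lit 3,nat_lit 1,nat_lit 5,nat_lit 6,nat_lit 5,nat_lit 2,nat_lit 5,nat_lit 6,nat_lit 5,nat_lit 4,nat_lit 6,nat_lit 5,nat_lit 0,nat_lit 2,nat_lit 1,nat_lit 5,nat_lit 6,nat_lit 4])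
))) (.node (.node (.node (.leaf [nat_lit 8,nat_lit 7,nat_lit 1,nat_lit 3,nat_lit 2,nat_lit 1,nat_lit 2,nat_lit 0,nat_lit 3,nat_lit 1,nat_lit 2,nat_lit 0,nat_lit 2])
 (.leaf [nat_lit 12,nat_lit 1,nat_lit 0,nat_lit 1,nat_lit 3,nat_lit 1,nat_lit 1,nat_lit 3,nat_lit 1,nat_lit 3,nat_lit 0,nat_lit 2,nat_lit 1,nat_lit 3,nat_lit 0,nat_lit 2,nat_lit 3,nat_lit 0])
) (.node (.leaf [nat_lit 59,nat_lit 11,nat_lit 1,nat_lit 1,nat_lit 3,nat_lit 6,nat_lit 3,nat_lit 1,nat_lit 5,nat_lit 2,nat_lit 5,nat_lit 0,nat_lit 3,nat_lit 6,nat_lit 3,nat_lit 1,nat_lit 2,nat_lit 5,nat_lit 2])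
 (.leaf [nat_lit 54,nat_lit 5,nat_lit 1,nat_lit 5,nat_lit 6,nat_lit 2,nat_lit 5,nat_lit 2,nat_lit 5,nat_lit 2,nat_lit 6,nat_lit 5,nat_lit 6,nat_lit 5,nat_lit 6])
)) (.node (.node (.leaf [nat_lit 11,nat_lit 8,nat_lit 1,nat_lit 1,nat_lit 0,nat_lit 2,nat_lit 1,nat_lit 1,nat_lit 1,nat_lit 2,nat_lit 3,nat_lit 1,nat_lit 3,nat_lit 0,nat_lit 3,nat_lit 2,nat_lit 0])
 (.leaf [nat_lit 52,nat_lit 7,nat_lit 1,nat_lit 6,nat_lit 2,nat_lit 1,nat_lit 2,nat_lit 0,nat_lit 2,nat_lit 6,nat_lit 1,nat_lit 2,nat_lit 0])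
) (.leaf [nat_lit 26,nat_lit 6,nat_lit 0,nat_lit 5,nat_lit 4,nat_lit 5,nat_lit 2,nat_lit 5,nat_lit 4,nat_lit 5,nat_lit 0,nat_lit 0,nat_lit 5,nat_lit 1,nat_lit 1,nat_lit 2])
))) (.node (.node (.node (.node (.leaf [nat_lit 52,nat_lit 1,nat_lit 1,nat_lit 1,nat_lit 2,nat_lit 6,nat_lit 1,nat_lit 2,nat_lit 0,nat_lit 6,nat_lit 2,nat_lit 1,nat_lit 2])
 (.leaf [nat_lit 17,nat_lit 8,nat_lit 1,nat_lit 4,nat_lit 3,nat_lit 2,nat_lit 0,nat_lit 2,nat_lit 1,nat_lit 3,nat_lit 1,nat_lit 2,nat_lit 1,nat_lit 2,nat_lit 1,nat_lit 1,nat_lit 4,nat_lit 1,nat_lit 1,nat_lit 3,nat_lit 0,nat_lit 0,nat_lit 2,nat_lit 1])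
) (.node (.leaf [nat_lit 16,nat_lit 13,nat_lit 0,nat_lit 0,nat_lit 4,nat_lit 1,nat_lit 4,nat_lit 0,nat_lit 4,nat_lit 3,nat_lit 0,nat_lit 0,nat_lit 0,nat_lit 3,nat_lit 1,nat_lit 3,nat_lit 2,nat_lit 1,nat_lit 1,nat_lit 2,nat_lit 0,nat_lit 4,nat_lit 1])
 (.leaf [nat_lit 62,nat_lit 6,nat_lit 0,nat_lit 6,nat_lit 5,nat_lit 4,nat_lit 5,nat_lit 6,nat_lit 4,nat_lit 6,nat_lit 4,nat_lit 5,nat_lit 4,nat_lit 5,nat_lit 6,nat_lit 4])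
)) (.node (.node (.leaf [nat_lit 62,nat_lit 11,nat_lit 1,nat_lit 5,nat_lit 4,nat_lit 6,nat_lit 4,nat_lit 6,nat_lit 5,nat_lit 4,nat_lit 5,nat_lit 6,nat_lit 4,nat_lit 6,nat_lit 5,nat_lit 4])
 (.leaf [nat_lit 60,nat_lit 7,nat_lit 1,nat_lit 0,nat_lit 5,nat_lit 0,nat_lit 5,nat_lit 2,nat_lit 6,nat_lit 2,nat_lit 5,nat_lit 1,nat_lit 5,nat_lit 0,nat_lit 5,nat_lit 3,nat_lit 6,nat_lit 3,nat_lit 5])
) (.node (.leaf [nat_lit 26,nat_lit 0,nat_lit 0,nat_lit 1,nat_lit 0,nat_lit 5,nat_lit 1,nat_lit 1,nat_lit 2,nat_lit 5,nat_lit 4,nat_lit 5,nat_lit 2,nat_lit 5,nat_lit 4,nat_lit 5])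
 (.leaf [nat_lit 69,nat_lit 9,nat_lit 1,nat_lit 2,nat_lit 4,nat_lit 1,nat_lit 4,nat_lit 1,nat_lit 1,nat_lit 2,nat_lit 5,nat_lit 2,nat_lit 6,nat_lit 0,nat_lit 3,nat_lit 5,nat_lit 1,nat_lit 1,nat_lit 6,nat_lit 4,nat_lit 3,nat_lit 0,nat_lit 4,nat_lit 6,nat_lit 0,nat_lit 2,nat_lit 1,nat_lit 1,nat_lit 1,nat_lit 2,nat_lit 0,nat_lit 2,nat_lit 0,nat_lit 0,nat_lit 2,nat_lit 1,nat_lit 3,nat_lit 1])
))) (.node (.node (.node (.leaf [nat_lit 11,nat_lit 1,nat_lit 1,nat_lit 3,nat_lit 1,nat_lit 3,nat_lit 0,nat_lit 3,nat_lit 2,nat_lit 0,nat_lit 0,nat_lit 0,nat_lit 2,nat_lit 1,nat_lit 1,nat_lit 1,nat_lit 2])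
 (.leaf [nat_lit 16,nat_lit 14,nat_lit 1,nat_lit 3,nat_lit 0,nat_lit 3,nat_lit 1,nat_lit 1,nat_lit 1,nat_lit 3,nat_lit 4,nat_lit 1,nat_lit 4,nat_lit 0,nat_lit 4,nat_lit 0,nat_lit 0,nat_lit 4,nat_lit 1,nat_lit 2,nat_lit 0,nat_lit 0,nat_lit 2])
) (.node (.leaf [nat_lit 39,nat_lit 11,nat_lit 1,nat_lit 2,nat_lit 6,nat_lit 2,nat_lit 5,nat_lit 3,nat_lit 5,nat_lit 2,nat_lit 6,nat_lit 2,nat_lit 3,nat_lit 5,nat_lit 3])
 (.leaf [nat_lit 68,nat_lit 24,nat_lit 1,nat_lit 2,nat_lit 0,nat_lit 2,nat_lit 0,nat_lit 0,nat_lit 2,nat_lit 1,nat_lit 1,nat_lit 1,nat_lit 2,nat_lit 1,nat_lit 3,nat_lit 0,nat_lit 0,nat_lit 2,nat_lit 1,nat_lit 1,nat_lit 1,nat_lit 4,nat_lit 5,nat_lit 1,nat_lit 1,nat_lit 3,nat_lit 6,nat_lit 3,nat_lit 0,nat_lit 0,nat_lit 5,nat_lit 6,nat_lit 4,nat_lit 6,nat_lit 0,nat_lit 0])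
)) (.node (.node (.leaf [nat_lit 53,nat_lit 11,nat_lit 1,nat_lit 3,nat_lit 2,nat_lit 3,nat_lit 1,nat_lit 4,nat_lit 3,nat_lit 6,nat_lit 4,nat_lit 2,nat_lit 4,nat_lit 6,nat_lit 3,nat_lit 4,nat_lit 2,nat_lit 0])
 (.leaf [nat_lit 12,nat_lit 0,nat_lit 0,nat_lit 1,nat_lit 0,nat_lit 3,nat_lit 1,nat_lit 1,nat_lit 3,nat_lit 1,nat_lit 3,nat_lit 0,nat_lit 2,nat_lit 1,nat_lit 3,nat_lit 0,nat_lit 2,nat_lit 3])
) (.leaf [nat_lit 62,nat_lit 0,nat_lit 1,nat_lit 6,nat_lit 4,nat_lit 6,nat_lit 5,nat_lit 4,nat_lit 5,nat_lit 6,nat_lit 4,nat_lit 6,nat_lit 5,nat_lit 4,nat_lit 5,nat_lit 4])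
))))) (.node (.node (.node (.node (.node (.node (.leaf [nat_lit 20,nat_lit 3,nat_lit 1,nat_lit 3,nat_lit 5,nat_lit 3,nat_lit 5,nat_lit 3,nat_lit 5])
 (.leaf [nat_lit 18,nat_lit 12,nat_lit 0,nat_lit 3,nat_lit 0,nat_lit 4,nat_lit 1,nat_lit 2,nat_lit 1,nat_lit 4,nat_lit 2,nat_lit 4,nat_lit 0,nat_lit 2,nat_lit 0,nat_lit 0,nat_lit 0,nat_lit 2,nat_lit 0,nat_lit 2,nat_lit 0,nat_lit 0,nat_lit 2,nat_lit 0,nat_lit 3,nat_lit 2])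
) (.node (.leaf [nat_lit 12,nat_lit 10,nat_lit 1,nat_lit 1,nat_lit 0,nat_lit 3,nat_lit 1,nat_lit 1,nat_lit 3,nat_lit 2,nat_lit 1,nat_lit 3,nat_lit 0,nat_lit 2,nat_lit 1,nat_lit 3,nat_lit 0,nat_lit 3])
 (.leaf [nat_lit 62,nat_lit 3,nat_lit 1,nat_lit 5,nat_lit 4,nat_lit 5,nat_lit 6,nat_lit 4,nat_lit 6,nat_lit 5,nat_lit 4,nat_lit 5,nat_lit 4,nat_lit 6,nat_lit 4,nat_lit 6])
)) (.node (.node (.leaf [nat_lit 28,nat_lit 8,nat_lit 0,nat_lit 2,nat_lit 1,nat_lit 2,nat_lit 4,nat_lit 5,nat_lit 4,nat_lit 0,nat_lit 2,nat_lit 1,nat_lit 2,nat_lit 4,nat_lit 5,nat_lit 4,nat_lit 0])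
 (.leaf [nat_lit 52,nat_lit 3,nat_lit 1,nat_lit 6,nat_lit 1,nat_lit 2,nat_lit 0,nat_lit 6,nat_lit 2,nat_lit 1,nat_lit 2,nat_lit 0,nat_lit 2])
) (.node (.leaf [nat_lit 43,nat_lit 7,nat_lit 1,nat_lit 1,nat_lit 5,nat_lit 6,nat_lit 5,nat_lit 1,nat_lit 5,nat_lit 0,nat_lit 5,nat_lit 6,nat_lit 5,nat_lit 1,nat_lit 5])
 (.leaf [nat_lit 54,nat_lit 4,nat_lit 1,nat_lit 6,nat_lit 5,nat_lit 6,nat_lit 2,nat_lit 5,nat_lit 2,nat_lit 5,nat_lit 2,nat_lit 6,nat_lit 5,nat_lit 6,nat_lit 5])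
))) (.node (.node (.node (.leaf [nat_lit 23,nat_lit 2,nat_lit 1,nat_lit 1,nat_lit 2,nat_lit 5,nat_lit 1,nat_lit 2,nat_lit 0,nat_lit 5,nat_lit 2,nat_lit 1,nat_lit 1,nat_lit 2,nat_lit 0])
 (.leaf [nat_lit 28,nat_lit 6,nat_lit 0,nat_lit 4,nat_lit 0,nat_lit 2,nat_lit 1,nat_lit 2,nat_lit 4,nat_lit 5,nat_lit 4,nat_lit 0,nat_lit 2,nat_lit 1,nat_lit 2,nat_lit 4,nat_lit 5])
) (.node (.leaf [nat_lit 37,nat_lit 6,nat_lit 1,nat_lit 2,nat_lit 5,nat_lit 4,nat_lit 6,nat_lit 4,nat_lit 2,nat_lit 4,nat_lit 6,nat_lit 4,nat_lit 5,nat_lit 2,nat_lit 5])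
 (.leaf [nat_lit 17,nat_lit 18,nat_lit 1,nat_lit 2,nat_lit 1,nat_lit 1,nat_lit 4,nat_lit 1,nat_lit 1,nat_lit 3,nat_lit 0,nat_lit 0,nat_lit 2,nat_lit 1,nat_lit 4,nat_lit 3,nat_lit 2,nat_lit 0,nat_lit 2,nat_lit 1,nat_lit 3,nat_lit 1,nat_lit 2,nat_lit 1])
)) (.node (.node (.leaf [nat_lit 47,nat_lit 7,nat_lit 1,nat_lit 3,nat_lit 4,nat_lit 5,nat_lit 4,nat_lit 3,nat_lit 6,nat_lit 3,nat_lit 4,nat_lit 5,nat_lit 4,nat_lit 3,nat_lit 6])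
 (.leaf [nat_lit 5,nat_lit 0,nat_lit 1,nat_lit 2,nat_lit 1,nat_lit 2,nat_lit 1,nat_lit 1,nat_lit 2,nat_lit 1,nat_lit 1,nat_lit 2,nat_lit 1,nat_lit 2,nat_lit 1,nat_lit 1,nat_lit 2,nat_lit 1,nat_lit 1,nat_lit 2,nat_lit 1,nat_lit 2,nat_lit 1,nat_lit 1,nat_lit 2,nat_lit 1,nat_lit 1])
) (.node (.leaf [nat_lit 10,nat_lit 4,nat_lit 1,nat_lit 1,nat_lit 0,nat_lit 2,nat_lit 1,nat_lit 3,nat_lit 0,nat_lit 2,nat_lit 1,nat_lit 1,nat_lit 1,nat_lit 3,nat_lit 2,nat_lit 3,nat_lit 0])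
 (.leaf [nat_lit 16,nat_lit 9,nat_lit 0,nat_lit 2,nat_lit 0,nat_lit 4,nat_lit 1,nat_lit 1,nat_lit 4,nat_lit 1,nat_lit 4,nat_lit 0,nat_lit 4,nat_lit 3,nat_lit 0,nat_lit 0,nat_lit 0,nat_lit 3,nat_lit 1,nat_lit 3,nat_lit 2,nat_lit 1,nat_lit 1])
)))) (.node (.node (.node (.node (.leaf [nat_lit 62,nat_lit 1,nat_lit 0,nat_lit 5,nat_lit 4,nat_lit 5,nat_lit 6,nat_lit 4,nat_lit 6,nat_lit 5,nat_lit 4,nat_lit 5,nat_lit 6,nat_lit 4,nat_lit 6,nat_lit 4])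
 (.leaf [nat_lit 61,nat_lit 12,nat_lit 1,nat_lit 5,nat_lit 2,nat_lit 4,nat_lit 2,nat_lit 5,nat_lit 4,nat_lit 6,nat_lit 4,nat_lit 5,nat_lit 2,nat_lit 4,nat_lit 2,nat_lit 5,nat_lit 2,nat_lit 6,nat_lit 2])
) (.node (.leaf [nat_lit 51,nat_lit 9,nat_lit 1,nat_lit 4,nat_lit 3,nat_lit 5,nat_lit 4,nat_lit 3,nat_lit 5,nat_lit 6,nat_lit 5,nat_lit 3,nat_lit 4,nat_lit 5,nat_lit 3,nat_lit 4,nat_lit 6])
 (.leaf [nat_lit 26,nat_lit 3,nat_lit 0,nat_lit 0,nat_lit 1,nat_lit 2,nat_lit 5,nat_lit 4,nat_lit 5,nat_lit 2,nat_lit 5,nat_lit 4,nat_lit 5,nat_lit 0,nat_lit 0,nat_lit 5])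
)) (.node (.node (.leaf [nat_lit 25,nat_lit 7,nat_lit 1,nat_lit 0,nat_lit 3,nat_lit 5,nat_lit 3,nat_lit 0,nat_lit 5,nat_lit 1,nat_lit 5,nat_lit 2,nat_lit 3,nat_lit 2,nat_lit 5,nat_lit 0,nat_lit 5])
 (.leaf [nat_lit 55,nat_lit 15,nat_lit 1,nat_lit 0,nat_lit 3,nat_lit 2,nat_lit 1,nat_lit 3,nat_lit 0,nat_lit 6,nat_lit 1,nat_lit 3,nat_lit 0,nat_lit 2,nat_lit 3,nat_lit 0,nat_lit 0,nat_lit 6,nat_lit 1])
) (.node (.leaf [nat_lit 14,nat_lit 11,nat_lit 1,nat_lit 1,nat_lit 2,nat_lit 4,nat_lit 2,nat_lit 1,nat_lit 1,nat_lit 2,nat_lit 0,nat_lit 3,nat_lit 2,nat_lit 3,nat_lit 0,nat_lit 4,nat_lit 2,nat_lit 4,nat_lit 1,nat_lit 2])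
 (.leaf [nat_lit 68,nat_lit 0,nat_lit 1,nat_lit 2,nat_lit 1,nat_lit 3,nat_lit 0,nat_lit 0,nat_lit 2,nat_lit 1,nat_lit 1,nat_lit 1,nat_lit 4,nat_lit 5,nat_lit 1,nat_lit 1,nat_lit 3,nat_lit 6,nat_lit 3,nat_lit 0,nat_lit 0,nat_lit 5,nat_lit 6,nat_lit 4,nat_lit 6,nat_lit 0,nat_lit 0,nat_lit 2,nat_lit 0,nat_lit 2,nat_lit 0,nat_lit 0,nat_lit 2,nat_lit 1,nat_lit 1,nat_lit 1])
))) (.node (.node (.node (.leaf [nat_lit 34,nat_lit 5,nat_lit 1,nat_lit 2,nat_lit 4,nat_lit 2,nat_lit 6,nat_lit 2,nat_lit 4,nat_lit 2,nat_lit 6])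
 (.leaf [nat_lit 17,nat_lit 17,nat_lit 0,nat_lit 3,nat_lit 0,nat_lit 0,nat_lit 4,nat_lit 0,nat_lit 0,nat_lit 2,nat_lit 0,nat_lit 2,nat_lit 0,nat_lit 3,nat_lit 0,nat_lit 2,nat_lit 1,nat_lit 2,nat_lit 3,nat_lit 4,nat_lit 0,nat_lit 2,nat_lit 1,nat_lit 1])
) (.node (.leaf [nat_lit 40,nat_lit 8,nat_lit 1,nat_lit 4,nat_lit 0,nat_lit 2,nat_lit 1,nat_lit 4,nat_lit 6,nat_lit 4,nat_lit 0,nat_lit 2,nat_lit 1,nat_lit 4,nat_lit 6])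
 (.leaf [nat_lit 49,nat_lit 6,nat_lit 0,nat_lit 1,nat_lit 6,nat_lit 5,nat_lit 1,nat_lit 2,nat_lit 1,nat_lit 2,nat_lit 0,nat_lit 0,nat_lit 5,nat_lit 6,nat_lit 1,nat_lit 2])
)) (.node (.node (.leaf [nat_lit 18,nat_lit 12,nat_lit 1,nat_lit 3,nat_lit 1,nat_lit 2,nat_lit 1,nat_lit 1,nat_lit 2,nat_lit 1,nat_lit 2,nat_lit 1,nat_lit 1,nat_lit 1,nat_lit 2,nat_lit 1,nat_lit 4,nat_lit 2,nat_lit 4,nat_lit 0,nat_lit 2,nat_lit 0,nat_lit 4,nat_lit 1,nat_lit 3,nat_lit 2])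
 (.leaf [nat_lit 57,nat_lit 10,nat_lit 1,nat_lit 6,nat_lit 0,nat_lit 5,nat_lit 0,nat_lit 3,nat_lit 1,nat_lit 5,nat_lit 1,nat_lit 6,nat_lit 3,nat_lit 5,nat_lit 0,nat_lit 3,nat_lit 1,nat_lit 5,nat_lit 3])
) (.leaf [nat_lit 4,nat_lit 7,nat_lit 0,nat_lit 1,nat_lit 2,nat_lit 1,nat_lit 2,nat_lit 1,nat_lit 2,nat_lit 0,nat_lit 0,nat_lit 2,nat_lit 1,nat_lit 1,nat_lit 2,nat_lit 0])
)))) (.node (.node (.node (.node (.node (.leaf [nat_lit 64,nat_lit 6,nat_lit 1,nat_lit 2,nat_lit 5,nat_lit 6,nat_lit 5,nat_lit 4,nat_lit 6,nat_lit 5,nat_lit 0,nat_lit 2,nat_lit 1,nat_lit 5,nat_lit 6,nat_lit 4,nat_lit 5,nat_lit 6,nat_lit 5])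
 (.leaf [nat_lit 45,nat_lit 9,nat_lit 1,nat_lit 5,nat_lit 4,nat_lit 2,nat_lit 4,nat_lit 5,nat_lit 6,nat_lit 5,nat_lit 4,nat_lit 2,nat_lit 4,nat_lit 5,nat_lit 6])
) (.node (.leaf [nat_lit 62,nat_lit 9,nat_lit 1,nat_lit 5,nat_lit 4,nat_lit 5,nat_lit 4,nat_lit 6,nat_lit 4,nat_lit 6,nat_lit 5,nat_lit 4,nat_lit 5,nat_lit 6,nat_lit 4,nat_lit 6])
 (.leaf [nat_lit 15,nat_lit 16,nat_lit 1,nat_lit 0,nat_lit 1,nat_lit 2,nat_lit 4,nat_lit 3,nat_lit 4,nat_lit 2,nat_lit 1,nat_lit 2,nat_lit 1,nat_lit 3,nat_lit 0,nat_lit 2,nat_lit 1,nat_lit 1,nat_lit 1,nat_lit 2,nat_lit 1])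
)) (.node (.node (.leaf [nat_lit 24,nat_lit 6,nat_lit 1,nat_lit 5,nat_lit 2,nat_lit 1,nat_lit 3,nat_lit 0,nat_lit 2,nat_lit 1,nat_lit 3,nat_lit 0,nat_lit 5,nat_lit 1,nat_lit 3,nat_lit 0])
 (.leaf [nat_lit 26,nat_lit 5,nat_lit 0,nat_lit 2,nat_lit 5,nat_lit 4,nat_lit 5,nat_lit 2,nat_lit 5,nat_lit 4,nat_lit 5,nat_lit 0,nat_lit 0,nat_lit 5,nat_lit 1,nat_lit 1])
) (.node (.leaf [nat_lit 48,nat_lit 8,nat_lit 1,nat_lit 6,nat_lit 5,nat_lit 4,nat_lit 3,nat_lit 4,nat_lit 5,nat_lit 6,nat_lit 5,nat_lit 4,nat_lit 3,nat_lit 4,nat_lit 5])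
 (.leaf [nat_lit 68,nat_lit 29,nat_lit 0,nat_lit 0,nat_lit 3,nat_lit 0,nat_lit 2,nat_lit 0,nat_lit 0,nat_lit 0,nat_lit 2,nat_lit 1,nat_lit 1,nat_lit 2,nat_lit 1,nat_lit 2,nat_lit 1,nat_lit 1,nat_lit 6,nat_lit 4,nat_lit 6,nat_lit 5,nat_lit 1,nat_lit 1,nat_lit 3,nat_lit 6,nat_lit 3,nat_lit 0,nat_lit 0,nat_lit 5,nat_lit 4,nat_lit 0,nat_lit 0,nat_lit 0,nat_lit 2,nat_lit 1])
))) (.node (.node (.node (.leaf [nat_lit 44,nat_lit 3,nat_lit 1,nat_lit 2,nat_lit 3,nat_lit 2,nat_lit 5,nat_lit 6,nat_lit 5,nat_lit 2,nat_lit 3,nat_lit 2,nat_lit 5,nat_lit 6,nat_lit 5])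
 (.leaf [nat_lit 56,nat_lit 15,nat_lit 1,nat_lit 0,nat_lit 5,nat_lit 6,nat_lit 5,nat_lit 0,nat_lit 2,nat_lit 3,nat_lit 4,nat_lit 0,nat_lit 3,nat_lit 6,nat_lit 3,nat_lit 1,nat_lit 4,nat_lit 3,nat_lit 2])
) (.node (.leaf [nat_lit 8,nat_lit 3,nat_lit 1,nat_lit 0,nat_lit 2,nat_lit 0,nat_lit 2,nat_lit 3,nat_lit 2,nat_lit 1,nat_lit 2,nat_lit 0,nat_lit 3])
 (.leaf [nat_lit 5,nat_lit 18,nat_lit 0,nat_lit 2,nat_lit 0,nat_lit 0,nat_lit 2,nat_lit 0,nat_lit 2,nat_lit 0,nat_lit 0,nat_lit 2,nat_lit 0,nat_lit 0,nat_lit 2,nat_lit 0,nat_lit 2,nat_lit 0,nat_lit 0,nat_lit 2,nat_lit 0,nat_lit 0,nat_lit 2,nat_lit 0,nat_lit 2,nat_lit 0,nat_lit 0])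
)) (.node (.node (.leaf [nat_lit 24,nat_lit 7,nat_lit 1,nat_lit 2,nat_lit 1,nat_lit 3,nat_lit 0,nat_lit 2,nat_lit 1,nat_lit 3,nat_lit 0,nat_lit 5,nat_lit 1,nat_lit 3,nat_lit 0,nat_lit 5])
 (.leaf [nat_lit 63,nat_lit 7,nat_lit 1,nat_lit 6,nat_lit 1,nat_lit 2,nat_lit 5,nat_lit 2,nat_lit 0,nat_lit 6,nat_lit 5,nat_lit 1,nat_lit 5,nat_lit 3,nat_lit 2,nat_lit 3,nat_lit 5,nat_lit 0,nat_lit 5])
) (.leaf [nat_lit 18,nat_lit 16,nat_lit 1,nat_lit 0,nat_lit 2,nat_lit 1,nat_lit 2,nat_lit 1,nat_lit 1,nat_lit 1,nat_lit 2,nat_lit 1,nat_lit 4,nat_lit 2,nat_lit 4,nat_lit 0,nat_lit 2,nat_lit 0,nat_lit 4,nat_lit 1,nat_lit 3,nat_lit 2,nat_lit 3,nat_lit 1,nat_lit 2,nat_lit 1])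
))) (.node (.node (.node (.node (.leaf [nat_lit 9,nat_lit 4,nat_lit 1,nat_lit 2,nat_lit 1,nat_lit 3,nat_lit 2,nat_lit 3,nat_lit 0,nat_lit 2,nat_lit 1,nat_lit 3,nat_lit 2,nat_lit 3,nat_lit 0])
 (.leaf [nat_lit 54,nat_lit 1,nat_lit 1,nat_lit 5,nat_lit 6,nat_lit 5,nat_lit 6,nat_lit 5,nat_lit 6,nat_lit 2,nat_lit 5,nat_lit 2,nat_lit 5,nat_lit 2,nat_lit 6])
) (.node (.leaf [nat_lit 53,nat_lit 1,nat_lit 1,nat_lit 3,nat_lit 6,nat_lit 4,nat_lit 2,nat_lit 4,nat_lit 6,nat_lit 3,nat_lit 4,nat_lit 2,nat_lit 0,nat_lit 3,nat_lit 2,nat_lit 3,nat_lit 1,nat_lit 4])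
 (.leaf [nat_lit 17,nat_lit 4,nat_lit 0,nat_lit 2,nat_lit 0,nat_lit 3,nat_lit 0,nat_lit 2,nat_lit 1,nat_lit 2,nat_lit 3,nat_lit 4,nat_lit 0,nat_lit 2,nat_lit 1,nat_lit 1,nat_lit 3,nat_lit 0,nat_lit 0,nat_lit 4,nat_lit 0,nat_lit 0,nat_lit 2,nat_lit 0])
)) (.node (.node (.leaf [nat_lit 11,nat_lit 0,nat_lit 1,nat_lit 2,nat_lit 3,nat_lit 1,nat_lit 3,nat_lit 0,nat_lit 3,nat_lit 2,nat_lit 0,nat_lit 0,nat_lit 0,nat_lit 2,nat_lit 1,nat_lit 1,nat_lit 1])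
 (.leaf [nat_lit 17,nat_lit 7,nat_lit 0,nat_lit 1,nat_lit 2,nat_lit 1,nat_lit 2,nat_lit 3,nat_lit 4,nat_lit 0,nat_lit 2,nat_lit 1,nat_lit 1,nat_lit 3,nat_lit 0,nat_lit 0,nat_lit 4,nat_lit 0,nat_lit 0,nat_lit 2,nat_lit 0,nat_lit 2,nat_lit 0,nat_lit 3])
) (.node (.leaf [nat_lit 16,nat_lit 12,nat_lit 0,nat_lit 0,nat_lit 1,nat_lit 4,nat_lit 1,nat_lit 4,nat_lit 0,nat_lit 4,nat_lit 3,nat_lit 0,nat_lit 0,nat_lit 0,nat_lit 3,nat_lit 1,nat_lit 3,nat_lit 2,nat_lit 1,nat_lit 1,nat_lit 2,nat_lit 0,nat_lit 4])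
 (.leaf [nat_lit 69,nat_lit 1,nat_lit 1,nat_lit 1,nat_lit 2,nat_lit 0,nat_lit 0,nat_lit 2,nat_lit 1,nat_lit 3,nat_lit 1,nat_lit 2,nat_lit 4,nat_lit 1,nat_lit 4,nat_lit 1,nat_lit 1,nat_lit 2,nat_lit 5,nat_lit 2,nat_lit 6,nat_lit 0,nat_lit 3,nat_lit 5,nat_lit 1,nat_lit 1,nat_lit 6,nat_lit 4,nat_lit 3,nat_lit 0,nat_lit 4,nat_lit 6,nat_lit 0,nat_lit 2,nat_lit 1,nat_lit 1,nat_lit 1,nat_lit 2])
))) (.node (.node (.node (.leaf [nat_lit 12,nat_lit 5,nat_lit 0,nat_lit 3,nat_lit 1,nat_lit 3,nat_lit 0,nat_lit 2,nat_lit 1,nat_lit 3,nat_lit 0,nat_lit 2,nat_lit 3,nat_lit 0,nat_lit 0,nat_lit 3,nat_lit 1,nat_lit 1])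
 (.leaf [nat_lit 18,nat_lit 13,nat_lit 0,nat_lit 1,nat_lit 4,nat_lit 1,nat_lit 2,nat_lit 1,nat_lit 4,nat_lit 2,nat_lit 4,nat_lit 0,nat_lit 2,nat_lit 0,nat_lit 0,nat_lit 0,nat_lit 2,nat_lit 0,nat_lit 2,nat_lit 0,nat_lit 0,nat_lit 2,nat_lit 0,nat_lit 3,nat_lit 2,nat_lit 3])
) (.node (.leaf [nat_lit 53,nat_lit 7,nat_lit 1,nat_lit 3,nat_lit 4,nat_lit 2,nat_lit 0,nat_lit 3,nat_lit 2,nat_lit 3,nat_lit 1,nat_lit 4,nat_lit 3,nat_lit 6,nat_lit 4,nat_lit 2,nat_lit 4,nat_lit 6])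
 (.leaf [nat_lit 5,nat_lit 6,nat_lit 0,nat_lit 1,nat_lit 2,nat_lit 0,nat_lit 0,nat_lit 2,nat_lit 0,nat_lit 0,nat_lit 2,nat_lit 0,nat_lit 2,nat_lit 0,nat_lit 0,nat_lit 2,nat_lit 0,nat_lit 0,nat_lit 2,nat_lit 0,nat_lit 2,nat_lit 0,nat_lit 0,nat_lit 2,nat_lit 0,nat_lit 0,nat_lit 2])
)) (.node (.node (.leaf [nat_lit 26,nat_lit 11,nat_lit 0,nat_lit 4,nat_lit 5,nat_lit 0,nat_lit 0,nat_lit 5,nat_lit 1,nat_lit 1,nat_lit 2,nat_lit 5,nat_lit 4,nat_lit 5,nat_lit 2,nat_lit 5])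
 (.leaf [nat_lit 55,nat_lit 11,nat_lit 1,nat_lit 1,nat_lit 0,nat_lit 6,nat_lit 1,nat_lit 1,nat_lit 3,nat_lit 2,nat_lit 1,nat_lit 3,nat_lit 0,nat_lit 6,nat_lit 1,nat_lit 3,nat_lit 0,nat_lit 2,nat_lit 3])
) (.leaf [nat_lit 27,nat_lit 10,nat_lit 1,nat_lit 5,nat_lit 1,nat_lit 3,nat_lit 1,nat_lit 5,nat_lit 0,nat_lit 3,nat_lit 0,nat_lit 5,nat_lit 2,nat_lit 4,nat_lit 3,nat_lit 4,nat_lit 2])
))))))) (.node (.node (.node (.node (.node (.node (.node (.node (.leaf [nat_lit 33,nat_lit 3,nat_lit 1,nat_lit 2,nat_lit 3,nat_lit 6,nat_lit 3,nat_lit 2,nat_lit 3,nat_lit 6,nat_lit 3])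
 (.leaf [nat_lit 27,nat_lit 11,nat_lit 1,nat_lit 0,nat_lit 3,nat_lit 1,nat_lit 5,nat_lit 0,nat_lit 3,nat_lit 0,nat_lit 5,nat_lit 2,nat_lit 4,nat_lit 3,nat_lit 4,nat_lit 2,nat_lit 5])
) (.node (.leaf [nat_lit 58,nat_lit 9,nat_lit 1,nat_lit 1,nat_lit 3,nat_lit 5,nat_lit 6,nat_lit 5,nat_lit 3,nat_lit 1,nat_lit 5,nat_lit 4,nat_lit 0,nat_lit 5,nat_lit 6,nat_lit 5,nat_lit 1,nat_lit 4,nat_lit 5])
 (.leaf [nat_lit 68,nat_lit 13,nat_lit 0,nat_lit 6,nat_lit 5,nat_lit 1,nat_lit 1,nat_lit 3,nat_lit 6,nat_lit 3,nat_lit 0,nat_lit 0,nat_lit 5,nat_lit 4,nat_lit 0,nat_lit 0,nat_lit 0,nat_lit 2,nat_lit 1,nat_lit 1,nat_lit 3,nat_lit 0,nat_lit 2,nat_lit 0,nat_lit 0,nat_lit 0,nat_lit 2,nat_lit 1,nat_lit 1,nat_lit 2,nat_lit 1,nat_lit 2,nat_lit 1,nat_lit 1,nat_lit 6,nat_lit 4])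
)) (.node (.node (.leaf [nat_lit 59,nat_lit 3,nat_lit 1,nat_lit 1,nat_lit 3,nat_lit 6,nat_lit 3,nat_lit 1,nat_lit 2,nat_lit 5,nat_lit 2,nat_lit 0,nat_lit 3,nat_lit 6,nat_lit 3,nat_lit 1,nat_lit 5,nat_lit 2,nat_lit 5])
 (.leaf [nat_lit 57,nat_lit 1,nat_lit 1,nat_lit 0,nat_lit 6,nat_lit 3,nat_lit 5,nat_lit 0,nat_lit 3,nat_lit 1,nat_lit 5,nat_lit 3,nat_lit 6,nat_lit 0,nat_lit 5,nat_lit 0,nat_lit 3,nat_lit 1,nat_lit 5])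
) (.node (.leaf [nat_lit 22,nat_lit 9,nat_lit 1,nat_lit 1,nat_lit 5,nat_lit 0,nat_lit 3,nat_lit 1,nat_lit 5,nat_lit 1,nat_lit 3,nat_lit 5,nat_lit 0,nat_lit 3,nat_lit 1,nat_lit 5,nat_lit 3])
 (.leaf [nat_lit 59,nat_lit 10,nat_lit 1,nat_lit 2,nat_lit 0,nat_lit 3,nat_lit 6,nat_lit 3,nat_lit 1,nat_lit 5,nat_lit 2,nat_lit 5,nat_lit 0,nat_lit 3,nat_lit 6,nat_lit 3,nat_lit 1,nat_lit 2,nat_lit 5])
))) (.node (.node (.node (.leaf [nat_lit 22,nat_lit 12,nat_lit 1,nat_lit 3,nat_lit 1,nat_lit 5,nat_lit 1,nat_lit 3,nat_lit 5,nat_lit 0,nat_lit 3,nat_lit 1,nat_lit 5,nat_lit 3,nat_lit 0,nat_lit 5,nat_lit 0])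
 (.leaf [nat_lit 62,nat_lit 7,nat_lit 1,nat_lit 4,nat_lit 6,nat_lit 5,nat_lit 4,nat_lit 5,nat_lit 4,nat_lit 6,nat_lit 4,nat_lit 6,nat_lit 5,nat_lit 4,nat_lit 5,nat_lit 6])
) (.node (.leaf [nat_lit 14,nat_lit 15,nat_lit 1,nat_lit 0,nat_lit 1,nat_lit 2,nat_lit 0,nat_lit 3,nat_lit 2,nat_lit 3,nat_lit 0,nat_lit 4,nat_lit 2,nat_lit 4,nat_lit 1,nat_lit 2,nat_lit 0,nat_lit 2,nat_lit 4,nat_lit 2])
 (.leaf [nat_lit 55,nat_lit 14,nat_lit 1,nat_lit 0,nat_lit 1,nat_lit 3,nat_lit 2,nat_lit 1,nat_lit 3,nat_lit 0,nat_lit 6,nat_lit 1,nat_lit 3,nat_lit 0,nat_lit 2,nat_lit 3,nat_lit 0,nat_lit 0,nat_lit 6])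
)) (.node (.node (.leaf [nat_lit 49,nat_lit 11,nat_lit 0,nat_lit 0,nat_lit 2,nat_lit 0,nat_lit 0,nat_lit 5,nat_lit 6,nat_lit 1,nat_lit 2,nat_lit 0,nat_lit 6,nat_lit 5,nat_lit 1,nat_lit 2])
 (.leaf [nat_lit 68,nat_lit 15,nat_lit 1,nat_lit 3,nat_lit 0,nat_lit 0,nat_lit 5,nat_lit 6,nat_lit 4,nat_lit 6,nat_lit 0,nat_lit 0,nat_lit 2,nat_lit 0,nat_lit 2,nat_lit 0,nat_lit 0,nat_lit 2,nat_lit 1,nat_lit 1,nat_lit 1,nat_lit 2,nat_lit 1,nat_lit 3,nat_lit 0,nat_lit 0,nat_lit 2,nat_lit 1,nat_lit 1,nat_lit 1,nat_lit 4,nat_lit 5,nat_lit 1,nat_lit 1,nat_lit 3,nat_lit 6])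
) (.node (.leaf [nat_lit 61,nat_lit 0,nat_lit 1,nat_lit 5,nat_lit 4,nat_lit 6,nat_lit 4,nat_lit 5,nat_lit 2,nat_lit 4,nat_lit 2,nat_lit 5,nat_lit 2,nat_lit 6,nat_lit 2,nat_lit 5,nat_lit 2,nat_lit 4,nat_lit 2])
 (.leaf [nat_lit 68,nat_lit 31,nat_lit 0,nat_lit 1,nat_lit 2,nat_lit 0,nat_lit 0,nat_lit 0,nat_lit 2,nat_lit 1,nat_lit 1,nat_lit 2,nat_lit 1,nat_lit 2,nat_lit 1,nat_lit 1,nat_lit 6,nat_lit 4,nat_lit 6,nat_lit 5,nat_lit 1,nat_lit 1,nat_lit 3,nat_lit 6,nat_lit 3,nat_lit 0,nat_lit 0,nat_lit 5,nat_lit 4,nat_lit 0,nat_lit 0,nat_lit 0,nat_lit 2,nat_lit 1,nat_lit 1,nat_lit 3])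
)))) (.node (.node (.node (.node (.leaf [nat_lit 50,nat_lit 10,nat_lit 1,nat_lit 4,nat_lit 0,nat_lit 3,nat_lit 1,nat_lit 6,nat_lit 0,nat_lit 3,nat_lit 1,nat_lit 4,nat_lit 5,nat_lit 3,nat_lit 6,nat_lit 3,nat_lit 5])
 (.leaf [nat_lit 26,nat_lit 8,nat_lit 0,nat_lit 5,nat_lit 2,nat_lit 5,nat_lit 4,nat_lit 5,nat_lit 0,nat_lit 0,nat_lit 5,nat_lit 1,nat_lit 1,nat_lit 2,nat_lit 5,nat_lit 4])
) (.node (.leaf [nat_lit 43,nat_lit 5,nat_lit 1,nat_lit 0,nat_lit 5,nat_lit 0,nat_lit 5,nat_lit 6,nat_lit 5,nat_lit 1,nat_lit 5,nat_lit 0,nat_lit 5,nat_lit 6,nat_lit 5])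
 (.leaf [nat_lit 5,nat_lit 0,nat_lit 0,nat_lit 1,nat_lit 0,nat_lit 2,nat_lit 0,nat_lit 0,nat_lit 2,nat_lit 0,nat_lit 2,nat_lit 0,nat_lit 0,nat_lit 2,nat_lit 0,nat_lit 0,nat_lit 2,nat_lit 0,nat_lit 2,nat_lit 0,nat_lit 0,nat_lit 2,nat_lit 0,nat_lit 0,nat_lit 2,nat_lit 0,nat_lit 2])
)) (.node (.node (.leaf [nat_lit 28,nat_lit 1,nat_lit 1,nat_lit 5,nat_lit 4,nat_lit 2,nat_lit 0,nat_lit 2,nat_lit 1,nat_lit 4,nat_lit 5,nat_lit 4,nat_lit 2,nat_lit 0,nat_lit 2,nat_lit 1,nat_lit 4])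
 (.leaf [nat_lit 57,nat_lit 9,nat_lit 1,nat_lit 3,nat_lit 6,nat_lit 0,nat_lit 5,nat_lit 0,nat_lit 3,nat_lit 1,nat_lit 5,nat_lit 1,nat_lit 6,nat_lit 3,nat_lit 5,nat_lit 0,nat_lit 3,nat_lit 1,nat_lit 5])
) (.node (.leaf [nat_lit 14,nat_lit 1,nat_lit 0,nat_lit 1,nat_lit 2,nat_lit 4,nat_lit 2,nat_lit 1,nat_lit 2,nat_lit 0,nat_lit 4,nat_lit 2,nat_lit 4,nat_lit 1,nat_lit 3,nat_lit 2,nat_lit 3,nat_lit 1,nat_lit 2,nat_lit 0])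
 (.leaf [nat_lit 69,nat_lit 8,nat_lit 1,nat_lit 0,nat_lit 2,nat_lit 4,nat_lit 1,nat_lit 4,nat_lit 1,nat_lit 1,nat_lit 2,nat_lit 5,nat_lit 2,nat_lit 6,nat_lit 0,nat_lit 3,nat_lit 5,nat_lit 1,nat_lit 1,nat_lit 6,nat_lit 4,nat_lit 3,nat_lit 0,nat_lit 4,nat_lit 6,nat_lit 0,nat_lit 2,nat_lit 1,nat_lit 1,nat_lit 1,nat_lit 2,nat_lit 0,nat_lit 2,nat_lit 0,nat_lit 0,nat_lit 2,nat_lit 1,nat_lit 3])
))) (.node (.node (.node (.leaf [nat_lit 41,nat_lit 0,nat_lit 1,nat_lit 5,nat_lit 6,nat_lit 5,nat_lit 0,nat_lit 3,nat_lit 1,nat_lit 5,nat_lit 6,nat_lit 5,nat_lit 0,nat_lit 3,nat_lit 1])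
 (.leaf [nat_lit 55,nat_lit 13,nat_lit 1,nat_lit 6,nat_lit 1,nat_lit 1,nat_lit 3,nat_lit 2,nat_lit 1,nat_lit 3,nat_lit 0,nat_lit 6,nat_lit 1,nat_lit 3,nat_lit 0,nat_lit 2,nat_lit 3,nat_lit 0,nat_lit 0])
) (.node (.leaf [nat_lit 16,nat_lit 15,nat_lit 0,nat_lit 0,nat_lit 4,nat_lit 0,nat_lit 4,nat_lit 3,nat_lit 0,nat_lit 0,nat_lit 0,nat_lit 3,nat_lit 1,nat_lit 3,nat_lit 2,nat_lit 1,nat_lit 1,nat_lit 2,nat_lit 0,nat_lit 4,nat_lit 1,nat_lit 1,nat_lit 4])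
 (.leaf [nat_lit 4,nat_lit 12,nat_lit 0,nat_lit 2,nat_lit 0,nat_lit 0,nat_lit 2,nat_lit 1,nat_lit 1,nat_lit 2,nat_lit 0,nat_lit 0,nat_lit 2,nat_lit 1,nat_lit 2,nat_lit 1])
)) (.node (.node (.leaf [nat_lit 26,nat_lit 9,nat_lit 0,nat_lit 2,nat_lit 5,nat_lit 4,nat_lit 5,nat_lit 0,nat_lit 0,nat_lit 5,nat_lit 1,nat_lit 1,nat_lit 2,nat_lit 5,nat_lit 4,nat_lit 5])
 (.leaf [nat_lit 18,nat_lit 20,nat_lit 1,nat_lit 0,nat_lit 1,nat_lit 1,nat_lit 2,nat_lit 1,nat_lit 4,nat_lit 2,nat_lit 4,nat_lit 0,nat_lit 2,nat_lit 0,nat_lit 4,nat_lit 1,nat_lit 3,nat_lit 2,nat_lit 3,nat_lit 1,nat_lit 2,nat_lit 1,nat_lit 1,nat_lit 2,nat_lit 1,nat_lit 2])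
) (.leaf [nat_lit 63,nat_lit 6,nat_lit 1,nat_lit 5,nat_lit 6,nat_lit 1,nat_lit 2,nat_lit 5,nat_lit 2,nat_lit 0,nat_lit 6,nat_lit 5,nat_lit 1,nat_lit 5,nat_lit 3,nat_lit 2,nat_lit 3,nat_lit 5,nat_lit 0])
)))) (.node (.node (.node (.node (.node (.leaf [nat_lit 31,nat_lit 5,nat_lit 1,nat_lit 3,nat_lit 6,nat_lit 3,nat_lit 6,nat_lit 3,nat_lit 6,nat_lit 3,nat_lit 6])
 (.leaf [nat_lit 24,nat_lit 10,nat_lit 0,nat_lit 5,nat_lit 1,nat_lit 3,nat_lit 0,nat_lit 2,nat_lit 1,nat_lit 3,nat_lit 0,nat_lit 2,nat_lit 5,nat_lit 1,nat_lit 3,nat_lit 0])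
) (.node (.leaf [nat_lit 64,nat_lit 13,nat_lit 1,nat_lit 1,nat_lit 2,nat_lit 1,nat_lit 5,nat_lit 6,nat_lit 4,nat_lit 5,nat_lit 6,nat_lit 5,nat_lit 2,nat_lit 5,nat_lit 6,nat_lit 5,nat_lit 4,nat_lit 6,nat_lit 5])
 (.leaf [nat_lit 66,nat_lit 9,nat_lit 1,nat_lit 5,nat_lit 2,nat_lit 6,nat_lit 2,nat_lit 5,nat_lit 4,nat_lit 3,nat_lit 1,nat_lit 1,nat_lit 3,nat_lit 2,nat_lit 6,nat_lit 2,nat_lit 3,nat_lit 0,nat_lit 0,nat_lit 3,nat_lit 4])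
)) (.node (.node (.leaf [nat_lit 15,nat_lit 0,nat_lit 0,nat_lit 1,nat_lit 0,nat_lit 0,nat_lit 2,nat_lit 0,nat_lit 0,nat_lit 0,nat_lit 2,nat_lit 1,nat_lit 3,nat_lit 0,nat_lit 2,nat_lit 0,nat_lit 2,nat_lit 4,nat_lit 3,nat_lit 4,nat_lit 2])
 (.leaf [nat_lit 15,nat_lit 5,nat_lit 1,nat_lit 0,nat_lit 2,nat_lit 1,nat_lit 3,nat_lit 0,nat_lit 2,nat_lit 1,nat_lit 1,nat_lit 1,nat_lit 2,nat_lit 1,nat_lit 1,nat_lit 1,nat_lit 2,nat_lit 4,nat_lit 3,nat_lit 4,nat_lit 2])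
) (.node (.leaf [nat_lit 36,nat_lit 6,nat_lit 1,nat_lit 6,nat_lit 5,nat_lit 6,nat_lit 5,nat_lit 6,nat_lit 5,nat_lit 6,nat_lit 5])
 (.leaf [nat_lit 5,nat_lit 5,nat_lit 1,nat_lit 2,nat_lit 1,nat_lit 1,nat_lit 2,nat_lit 1,nat_lit 2,nat_lit 1,nat_lit 1,nat_lit 2,nat_lit 1,nat_lit 1,nat_lit 2,nat_lit 1,nat_lit 2,nat_lit 1,nat_lit 1,nat_lit 2,nat_lit 1,nat_lit 1,nat_lit 2,nat_lit 1,nat_lit 2,nat_lit 1,nat_lit 1])
))) (.node (.node (.node (.leaf [nat_lit 60,nat_lit 0,nat_lit 1,nat_lit 5,nat_lit 0,nat_lit 5,nat_lit 3,nat_lit 6,nat_lit 3,nat_lit 5,nat_lit 1,nat_lit 5,nat_lit 0,nat_lit 5,nat_lit 2,nat_lit 6,nat_lit 2,nat_lit 5,nat_lit 1])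
 (.leaf [nat_lit 69,nat_lit 24,nat_lit 0,nat_lit 4,nat_lit 2,nat_lit 0,nat_lit 3,nat_lit 0,nat_lit 2,nat_lit 1,nat_lit 1,nat_lit 2,nat_lit 1,nat_lit 2,nat_lit 0,nat_lit 0,nat_lit 0,nat_lit 2,nat_lit 1,nat_lit 6,nat_lit 4,nat_lit 1,nat_lit 3,nat_lit 4,nat_lit 6,nat_lit 0,nat_lit 0,nat_lit 5,nat_lit 3,nat_lit 1,nat_lit 6,nat_lit 2,nat_lit 5,nat_lit 2,nat_lit 0,nat_lit 0,nat_lit 4,nat_lit 0])
) (.node (.leaf [nat_lit 4,nat_lit 3,nat_lit 1,nat_lit 1,nat_lit 2,nat_lit 1,nat_lit 1,nat_lit 2,nat_lit 0,nat_lit 0,nat_lit 2,nat_lit 1,nat_lit 1,nat_lit 2,nat_lit 0,nat_lit 2])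
 (.leaf [nat_lit 15,nat_lit 6,nat_lit 0,nat_lit 1,nat_lit 2,nat_lit 1,nat_lit 3,nat_lit 0,nat_lit 2,nat_lit 0,nat_lit 2,nat_lit 4,nat_lit 3,nat_lit 4,nat_lit 2,nat_lit 0,nat_lit 0,nat_lit 0,nat_lit 2,nat_lit 0,nat_lit 0])
)) (.node (.node (.leaf [nat_lit 14,nat_lit 3,nat_lit 0,nat_lit 4,nat_lit 2,nat_lit 1,nat_lit 2,nat_lit 0,nat_lit 4,nat_lit 2,nat_lit 4,nat_lit 1,nat_lit 3,nat_lit 2,nat_lit 3,nat_lit 1,nat_lit 2,nat_lit 0,nat_lit 0,nat_lit 2])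
 (.leaf [nat_lit 69,nat_lit 26,nat_lit 0,nat_lit 1,nat_lit 3,nat_lit 0,nat_lit 2,nat_lit 1,nat_lit 1,nat_lit 2,nat_lit 1,nat_lit 2,nat_lit 0,nat_lit 0,nat_lit 0,nat_lit 2,nat_lit 1,nat_lit 6,nat_lit 4,nat_lit 1,nat_lit 3,nat_lit 4,nat_lit 6,nat_lit 0,nat_lit 0,nat_lit 5,nat_lit 3,nat_lit 1,nat_lit 6,nat_lit 2,nat_lit 5,nat_lit 2,nat_lit 0,nat_lit 0,nat_lit 4,nat_lit 0,nat_lit 4,nat_lit 2])
) (.node (.leaf [nat_lit 26,nat_lit 5,nat_lit 1,nat_lit 4,nat_lit 5,nat_lit 2,nat_lit 0,nat_lit 0,nat_lit 5,nat_lit 1,nat_lit 1,nat_lit 5,nat_lit 4,nat_lit 5,nat_lit 2,nat_lit 5])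
 (.leaf [nat_lit 69,nat_lit 1,nat_lit 0,nat_lit 1,nat_lit 0,nat_lit 2,nat_lit 1,nat_lit 6,nat_lit 4,nat_lit 1,nat_lit 3,nat_lit 4,nat_lit 6,nat_lit 0,nat_lit 0,nat_lit 5,nat_lit 3,nat_lit 1,nat_lit 6,nat_lit 2,nat_lit 5,nat_lit 2,nat_lit 0,nat_lit 0,nat_lit 4,nat_lit 0,nat_lit 4,nat_lit 2,nat_lit 0,nat_lit 3,nat_lit 0,nat_lit 2,nat_lit 1,nat_lit 1,nat_lit 2,nat_lit 1,nat_lit 2,nat_lit 0])
)))) (.node (.node (.node (.node (.leaf [nat_lit 46,nat_lit 10,nat_lit 1,nat_lit 5,nat_lit 2,nat_lit 6,nat_lit 4,nat_lit 6,nat_lit 2,nat_lit 5,nat_lit 2,nat_lit 6,nat_lit 4,nat_lit 6,nat_lit 2])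
 (.leaf [nat_lit 48,nat_lit 6,nat_lit 1,nat_lit 4,nat_lit 5,nat_lit 6,nat_lit 5,nat_lit 4,nat_lit 3,nat_lit 4,nat_lit 5,nat_lit 6,nat_lit 5,nat_lit 4,nat_lit 3])
) (.node (.leaf [nat_lit 16,nat_lit 14,nat_lit 0,nat_lit 4,nat_lit 1,nat_lit 4,nat_lit 0,nat_lit 4,nat_lit 3,nat_lit 0,nat_lit 0,nat_lit 0,nat_lit 3,nat_lit 1,nat_lit 3,nat_lit 2,nat_lit 1,nat_lit 1,nat_lit 2,nat_lit 0,nat_lit 4,nat_lit 1,nat_lit 1])
 (.leaf [nat_lit 24,nat_lit 12,nat_lit 0,nat_lit 3,nat_lit 0,nat_lit 2,nat_lit 1,nat_lit 3,nat_lit 0,nat_lit 2,nat_lit 5,nat_lit 1,nat_lit 3,nat_lit 0,nat_lit 5,nat_lit 1])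
)) (.node (.node (.leaf [nat_lit 10,nat_lit 9,nat_lit 1,nat_lit 1,nat_lit 2,nat_lit 1,nat_lit 1,nat_lit 1,nat_lit 3,nat_lit 2,nat_lit 3,nat_lit 0,nat_lit 0,nat_lit 0,nat_lit 2,nat_lit 1,nat_lit 3])
 (.leaf [nat_lit 16,nat_lit 16,nat_lit 1,nat_lit 3,nat_lit 1,nat_lit 1,nat_lit 1,nat_lit 3,nat_lit 4,nat_lit 1,nat_lit 4,nat_lit 0,nat_lit 4,nat_lit 0,nat_lit 0,nat_lit 4,nat_lit 1,nat_lit 2,nat_lit 0,nat_lit 0,nat_lit 2,nat_lit 3,nat_lit 0])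
) (.node (.leaf [nat_lit 27,nat_lit 0,nat_lit 1,nat_lit 5,nat_lit 0,nat_lit 3,nat_lit 0,nat_lit 5,nat_lit 2,nat_lit 4,nat_lit 3,nat_lit 4,nat_lit 2,nat_lit 5,nat_lit 1,nat_lit 3,nat_lit 1])
 (.leaf [nat_lit 16,nat_lit 6,nat_lit 0,nat_lit 2,nat_lit 1,nat_lit 1,nat_lit 2,nat_lit 0,nat_lit 4,nat_lit 1,nat_lit 1,nat_lit 4,nat_lit 1,nat_lit 4,nat_lit 0,nat_lit 4,nat_lit 3,nat_lit 0,nat_lit 0,nat_lit 0,nat_lit 3,nat_lit 1,nat_lit 3])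
))) (.node (.node (.node (.leaf [nat_lit 28,nat_lit 0,nat_lit 0,nat_lit 1,nat_lit 2,nat_lit 1,nat_lit 2,nat_lit 4,nat_lit 5,nat_lit 4,nat_lit 0,nat_lit 2,nat_lit 1,nat_lit 2,nat_lit 4,nat_lit 5,nat_lit 4])
 (.leaf [nat_lit 15,nat_lit 9,nat_lit 0,nat_lit 3,nat_lit 0,nat_lit 2,nat_lit 0,nat_lit 2,nat_lit 4,nat_lit 3,nat_lit 4,nat_lit 2,nat_lit 0,nat_lit 0,nat_lit 0,nat_lit 2,nat_lit 0,nat_lit 0,nat_lit 0,nat_lit 2,nat_lit 1])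
) (.node (.leaf [nat_lit 58,nat_lit 7,nat_lit 1,nat_lit 4,nat_lit 5,nat_lit 0,nat_lit 3,nat_lit 5,nat_lit 6,nat_lit 5,nat_lit 3,nat_lit 1,nat_lit 5,nat_lit 4,nat_lit 0,nat_lit 5,nat_lit 6,nat_lit 5,nat_lit 1])
 (.leaf [nat_lit 68,nat_lit 3,nat_lit 1,nat_lit 1,nat_lit 0,nat_lit 2,nat_lit 1,nat_lit 1,nat_lit 1,nat_lit 4,nat_lit 5,nat_lit 1,nat_lit 1,nat_lit 3,nat_lit 6,nat_lit 3,nat_lit 0,nat_lit 0,nat_lit 5,nat_lit 6,nat_lit 4,nat_lit 6,nat_lit 0,nat_lit 0,nat_lit 2,nat_lit 0,nat_lit 2,nat_lit 0,nat_lit 0,nat_lit 2,nat_lit 1,nat_lit 1,nat_lit 1,nat_lit 2,nat_lit 1,nat_lit 3])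
)) (.node (.node (.leaf [nat_lit 23,nat_lit 11,nat_lit 1,nat_lit 0,nat_lit 2,nat_lit 0,nat_lit 0,nat_lit 2,nat_lit 5,nat_lit 1,nat_lit 2,nat_lit 0,nat_lit 5,nat_lit 2,nat_lit 1])
 (.leaf [nat_lit 17,nat_lit 5,nat_lit 0,nat_lit 1,nat_lit 3,nat_lit 0,nat_lit 2,nat_lit 1,nat_lit 2,nat_lit 3,nat_lit 4,nat_lit 0,nat_lit 2,nat_lit 1,nat_lit 1,nat_lit 3,nat_lit 0,nat_lit 0,nat_lit 4,nat_lit 0,nat_lit 0,nat_lit 2,nat_lit 0,nat_lit 2])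
) (.leaf [nat_lit 15,nat_lit 2,nat_lit 0,nat_lit 1,nat_lit 2,nat_lit 0,nat_lit 0,nat_lit 0,nat_lit 2,nat_lit 1,nat_lit 3,nat_lit 0,nat_lit 2,nat_lit 0,nat_lit 2,nat_lit 4,nat_lit 3,nat_lit 4,nat_lit 2,nat_lit 0,nat_lit 0])
))))) (.node (.node (.node (.node (.node (.node (.leaf [nat_lit 7,nat_lit 5,nat_lit 1,nat_lit 2,nat_lit 3,nat_lit 2,nat_lit 3,nat_lit 2,nat_lit 3,nat_lit 2,nat_lit 3])
 (.leaf [nat_lit 16,nat_lit 18,nat_lit 1,nat_lit 0,nat_lit 1,nat_lit 3,nat_lit 4,nat_lit 1,nat_lit 4,nat_lit 0,nat_lit 4,nat_lit 0,nat_lit 0,nat_lit 4,nat_lit 1,nat_lit 2,nat_lit 0,nat_lit 0,nat_lit 2,nat_lit 3,nat_lit 0,nat_lit 3,nat_lit 1])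
) (.node (.leaf [nat_lit 25,nat_lit 10,nat_lit 1,nat_lit 3,nat_lit 0,nat_lit 5,nat_lit 1,nat_lit 5,nat_lit 2,nat_lit 3,nat_lit 2,nat_lit 5,nat_lit 0,nat_lit 5,nat_lit 1,nat_lit 3,nat_lit 5])
 (.leaf [nat_lit 67,nat_lit 10,nat_lit 1,nat_lit 5,nat_lit 2,nat_lit 4,nat_lit 0,nat_lit 0,nat_lit 4,nat_lit 1,nat_lit 1,nat_lit 6,nat_lit 0,nat_lit 0,nat_lit 4,nat_lit 1,nat_lit 1,nat_lit 4,nat_lit 2,nat_lit 5,nat_lit 6])
)) (.node (.node (.leaf [nat_lit 25,nat_lit 2,nat_lit 1,nat_lit 3,nat_lit 2,nat_lit 5,nat_lit 0,nat_lit 5,nat_lit 1,nat_lit 3,nat_lit 5,nat_lit 3,nat_lit 0,nat_lit 5,nat_lit 1,nat_lit 5,nat_lit 2])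
 (.leaf [nat_lit 46,nat_lit 9,nat_lit 1,nat_lit 2,nat_lit 5,nat_lit 2,nat_lit 6,nat_lit 4,nat_lit 6,nat_lit 2,nat_lit 5,nat_lit 2,nat_lit 6,nat_lit 4,nat_lit 6])
) (.node (.leaf [nat_lit 10,nat_lit 2,nat_lit 1,nat_lit 3,nat_lit 0,nat_lit 0,nat_lit 0,nat_lit 2,nat_lit 1,nat_lit 3,nat_lit 0,nat_lit 2,nat_lit 1,nat_lit 1,nat_lit 1,nat_lit 3,nat_lit 2])
 (.leaf [nat_lit 55,nat_lit 0,nat_lit 1,nat_lit 3,nat_lit 2,nat_lit 1,nat_lit 3,nat_lit 0,nat_lit 6,nat_lit 1,nat_lit 3,nat_lit 0,nat_lit 2,nat_lit 3,nat_lit 0,nat_lit 0,nat_lit 6,nat_lit 1,nat_lit 1])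
))) (.node (.node (.node (.leaf [nat_lit 14,nat_lit 3,nat_lit 1,nat_lit 2,nat_lit 3,nat_lit 0,nat_lit 4,nat_lit 2,nat_lit 4,nat_lit 1,nat_lit 2,nat_lit 0,nat_lit 2,nat_lit 4,nat_lit 2,nat_lit 1,nat_lit 1,nat_lit 2,nat_lit 0,nat_lit 3])
 (.leaf [nat_lit 67,nat_lit 17,nat_lit 1,nat_lit 0,nat_lit 6,nat_lit 0,nat_lit 0,nat_lit 4,nat_lit 1,nat_lit 1,nat_lit 4,nat_lit 2,nat_lit 5,nat_lit 6,nat_lit 5,nat_lit 2,nat_lit 4,nat_lit 0,nat_lit 0,nat_lit 4,nat_lit 1])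
) (.node (.leaf [nat_lit 24,nat_lit 5,nat_lit 1,nat_lit 1,nat_lit 5,nat_lit 2,nat_lit 1,nat_lit 3,nat_lit 0,nat_lit 2,nat_lit 1,nat_lit 3,nat_lit 0,nat_lit 5,nat_lit 1,nat_lit 3])
 (.leaf [nat_lit 65,nat_lit 5,nat_lit 1,nat_lit 3,nat_lit 5,nat_lit 0,nat_lit 3,nat_lit 6,nat_lit 3,nat_lit 1,nat_lit 5,nat_lit 3,nat_lit 4,nat_lit 5,nat_lit 2,nat_lit 1,nat_lit 6,nat_lit 0,nat_lit 2,nat_lit 5,nat_lit 4])
)) (.node (.node (.leaf [nat_lit 12,nat_lit 0,nat_lit 1,nat_lit 3,nat_lit 2,nat_lit 1,nat_lit 3,nat_lit 0,nat_lit 2,nat_lit 1,nat_lit 3,nat_lit 0,nat_lit 3,nat_lit 0,nat_lit 0,nat_lit 3,nat_lit 1,nat_lit 1])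
 (.leaf [nat_lit 14,nat_lit 16,nat_lit 1,nat_lit 0,nat_lit 2,nat_lit 0,nat_lit 3,nat_lit 2,nat_lit 3,nat_lit 0,nat_lit 4,nat_lit 2,nat_lit 4,nat_lit 1,nat_lit 2,nat_lit 0,nat_lit 2,nat_lit 4,nat_lit 2,nat_lit 1])
) (.node (.leaf [nat_lit 22,nat_lit 7,nat_lit 1,nat_lit 5,nat_lit 3,nat_lit 0,nat_lit 5,nat_lit 0,nat_lit 3,nat_lit 1,nat_lit 5,nat_lit 1,nat_lit 3,nat_lit 5,nat_lit 0,nat_lit 3,nat_lit 1])
 (.leaf [nat_lit 68,nat_lit 23,nat_lit 1,nat_lit 1,nat_lit 2,nat_lit 0,nat_lit 2,nat_lit 0,nat_lit 0,nat_lit 2,nat_lit 1,nat_lit 1,nat_lit 1,nat_lit 2,nat_lit 1,nat_lit 3,nat_lit 0,nat_lit 0,nat_lit 2,nat_lit 1,nat_lit 1,nat_lit 1,nat_lit 4,nat_lit 5,nat_lit 1,nat_lit 1,nat_lit 3,nat_lit 6,nat_lit 3,nat_lit 0,nat_lit 0,nat_lit 5,nat_lit 6,nat_lit 4,nat_lit 6,nat_lit 0])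
)))) (.node (.node (.node (.node (.leaf [nat_lit 37,nat_lit 5,nat_lit 1,nat_lit 5,nat_lit 2,nat_lit 5,nat_lit 4,nat_lit 6,nat_lit 4,nat_lit 2,nat_lit 4,nat_lit 6,nat_lit 4,nat_lit 5,nat_lit 2])
 (.leaf [nat_lit 16,nat_lit 2,nat_lit 0,nat_lit 1,nat_lit 3,nat_lit 1,nat_lit 3,nat_lit 2,nat_lit 1,nat_lit 1,nat_lit 2,nat_lit 0,nat_lit 4,nat_lit 1,nat_lit 1,nat_lit 4,nat_lit 1,nat_lit 4,nat_lit 0,nat_lit 4,nat_lit 3,nat_lit 0,nat_lit 0])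
) (.node (.leaf [nat_lit 57,nat_lit 11,nat_lit 1,nat_lit 1,nat_lit 5,nat_lit 0,nat_lit 3,nat_lit 1,nat_lit 5,nat_lit 1,nat_lit 6,nat_lit 3,nat_lit 5,nat_lit 0,nat_lit 3,nat_lit 1,nat_lit 5,nat_lit 3,nat_lit 6])
 (.leaf [nat_lit 69,nat_lit 27,nat_lit 1,nat_lit 1,nat_lit 4,nat_lit 6,nat_lit 0,nat_lit 2,nat_lit 1,nat_lit 1,nat_lit 1,nat_lit 2,nat_lit 0,nat_lit 2,nat_lit 0,nat_lit 0,nat_lit 2,nat_lit 1,nat_lit 3,nat_lit 1,nat_lit 2,nat_lit 4,nat_lit 1,nat_lit 4,nat_lit 1,nat_lit 1,nat_lit 2,nat_lit 5,nat_lit 2,nat_lit 6,nat_lit 0,nat_lit 3,nat_lit 5,nat_lit 1,nat_lit 1,nat_lit 6,nat_lit 4,nat_lit 3])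
)) (.node (.node (.leaf [nat_lit 24,nat_lit 2,nat_lit 1,nat_lit 5,nat_lit 1,nat_lit 3,nat_lit 0,nat_lit 5,nat_lit 2,nat_lit 1,nat_lit 3,nat_lit 0,nat_lit 2,nat_lit 1,nat_lit 3,nat_lit 0])
 (.leaf [nat_lit 63,nat_lit 13,nat_lit 1,nat_lit 6,nat_lit 5,nat_lit 1,nat_lit 5,nat_lit 3,nat_lit 2,nat_lit 3,nat_lit 5,nat_lit 0,nat_lit 5,nat_lit 6,nat_lit 1,nat_lit 2,nat_lit 5,nat_lit 2,nat_lit 0])
) (.node (.leaf [nat_lit 12,nat_lit 2,nat_lit 0,nat_lit 3,nat_lit 1,nat_lit 1,nat_lit 3,nat_lit 1,nat_lit 3,nat_lit 0,nat_lit 2,nat_lit 1,nat_lit 3,nat_lit 0,nat_lit 2,nat_lit 3,nat_lit 0,nat_lit 0])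
 (.leaf [nat_lit 69,nat_lit 23,nat_lit 0,nat_lit 1,nat_lit 4,nat_lit 2,nat_lit 0,nat_lit 3,nat_lit 0,nat_lit 2,nat_lit 1,nat_lit 1,nat_lit 2,nat_lit 1,nat_lit 2,nat_lit 0,nat_lit 0,nat_lit 0,nat_lit 2,nat_lit 1,nat_lit 6,nat_lit 4,nat_lit 1,nat_lit 3,nat_lit 4,nat_lit 6,nat_lit 0,nat_lit 0,nat_lit 5,nat_lit 3,nat_lit 1,nat_lit 6,nat_lit 2,nat_lit 5,nat_lit 2,nat_lit 0,nat_lit 0,nat_lit 4])
))) (.node (.node (.node (.leaf [nat_lit 15,nat_lit 1,nat_lit 1,nat_lit 4,nat_lit 3,nat_lit 4,nat_lit 2,nat_lit 1,nat_lit 2,nat_lit 1,nat_lit 3,nat_lit 0,nat_lit 2,nat_lit 1,nat_lit 1,nat_lit 1,nat_lit 2,nat_lit 1,nat_lit 1,nat_lit 1,nat_lit 2])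
 (.leaf [nat_lit 18,nat_lit 1,nat_lit 1,nat_lit 0,nat_lit 4,nat_lit 2,nat_lit 4,nat_lit 0,nat_lit 2,nat_lit 0,nat_lit 4,nat_lit 1,nat_lit 3,nat_lit 2,nat_lit 3,nat_lit 1,nat_lit 2,nat_lit 1,nat_lit 1,nat_lit 2,nat_lit 1,nat_lit 2,nat_lit 1,nat_lit 1,nat_lit 1,nat_lit 2])
) (.node (.leaf [nat_lit 4,nat_lit 7,nat_lit 1,nat_lit 2,nat_lit 0,nat_lit 0,nat_lit 2,nat_lit 1,nat_lit 1,nat_lit 2,nat_lit 0,nat_lit 2,nat_lit 0,nat_lit 2,nat_lit 1,nat_lit 1])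
 (.leaf [nat_lit 68,nat_lit 15,nat_lit 0,nat_lit 0,nat_lit 1,nat_lit 3,nat_lit 6,nat_lit 3,nat_lit 0,nat_lit 0,nat_lit 5,nat_lit 4,nat_lit 0,nat_lit 0,nat_lit 0,nat_lit 2,nat_lit 1,nat_lit 1,nat_lit 3,nat_lit 0,nat_lit 2,nat_lit 0,nat_lit 0,nat_lit 0,nat_lit 2,nat_lit 1,nat_lit 1,nat_lit 2,nat_lit 1,nat_lit 2,nat_lit 1,nat_lit 1,nat_lit 6,nat_lit 4,nat_lit 6,nat_lit 5])
)) (.node (.node (.leaf [nat_lit 38,nat_lit 9,nat_lit 1,nat_lit 4,nat_lit 3,nat_lit 2,nat_lit 3,nat_lit 4,nat_lit 6,nat_lit 4,nat_lit 3,nat_lit 2,nat_lit 3,nat_lit 4,nat_lit 6])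
 (.leaf [nat_lit 38,nat_lit 0,nat_lit 1,nat_lit 3,nat_lit 4,nat_lit 6,nat_lit 4,nat_lit 3,nat_lit 2,nat_lit 3,nat_lit 4,nat_lit 6,nat_lit 4,nat_lit 3,nat_lit 2])
) (.leaf [nat_lit 66,nat_lit 0,nat_lit 1,nat_lit 3,nat_lit 2,nat_lit 6,nat_lit 2,nat_lit 3,nat_lit 0,nat_lit 0,nat_lit 3,nat_lit 4,nat_lit 5,nat_lit 2,nat_lit 6,nat_lit 2,nat_lit 5,nat_lit 4,nat_lit 3,nat_lit 1,nat_lit 1])
)))) (.node (.node (.node (.node (.node (.leaf [nat_lit 45,nat_lit 5,nat_lit 1,nat_lit 2,nat_lit 4,nat_lit 5,nat_lit 6,nat_lit 5,nat_lit 4,nat_lit 2,nat_lit 4,nat_lit 5,nat_lit 6,nat_lit 5,nat_lit 4])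
 (.leaf [nat_lit 16,nat_lit 19,nat_lit 0,nat_lit 3,nat_lit 0,nat_lit 0,nat_lit 0,nat_lit 3,nat_lit 1,nat_lit 3,nat_lit 2,nat_lit 1,nat_lit 1,nat_lit 2,nat_lit 0,nat_lit 4,nat_lit 1,nat_lit 1,nat_lit 4,nat_lit 1,nat_lit 4,nat_lit 0,nat_lit 4])
) (.node (.leaf [nat_lit 66,nat_lit 7,nat_lit 1,nat_lit 3,nat_lit 4,nat_lit 5,nat_lit 2,nat_lit 6,nat_lit 2,nat_lit 5,nat_lit 4,nat_lit 3,nat_lit 1,nat_lit 1,nat_lit 3,nat_lit 2,nat_lit 6,nat_lit 2,nat_lit 3,nat_lit 0,nat_lit 0])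
 (.leaf [nat_lit 53,nat_lit 10,nat_lit 0,nat_lit 2,nat_lit 4,nat_lit 6,nat_lit 3,nat_lit 4,nat_lit 0,nat_lit 3,nat_lit 2,nat_lit 3,nat_lit 1,nat_lit 2,nat_lit 4,nat_lit 3,nat_lit 6,nat_lit 4])
)) (.node (.node (.leaf [nat_lit 26,nat_lit 2,nat_lit 0,nat_lit 5,nat_lit 1,nat_lit 1,nat_lit 2,nat_lit 5,nat_lit 4,nat_lit 5,nat_lit 2,nat_lit 5,nat_lit 4,nat_lit 5,nat_lit 0,nat_lit 0])
 (.leaf [nat_lit 4,nat_lit 9,nat_lit 0,nat_lit 0,nat_lit 2,nat_lit 1,nat_lit 2,nat_lit 0,nat_lit 0,nat_lit 2,nat_lit 1,nat_lit 1,nat_lit 2,nat_lit 0,nat_lit 0,nat_lit 2])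
) (.node (.leaf [nat_lit 65,nat_lit 4,nat_lit 1,nat_lit 4,nat_lit 3,nat_lit 5,nat_lit 0,nat_lit 3,nat_lit 6,nat_lit 3,nat_lit 1,nat_lit 5,nat_lit 3,nat_lit 4,nat_lit 5,nat_lit 2,nat_lit 1,nat_lit 6,nat_lit 0,nat_lit 2,nat_lit 5])
 (.leaf [nat_lit 63,nat_lit 11,nat_lit 1,nat_lit 2,nat_lit 0,nat_lit 6,nat_lit 5,nat_lit 1,nat_lit 5,nat_lit 3,nat_lit 2,nat_lit 3,nat_lit 5,nat_lit 0,nat_lit 5,nat_lit 6,nat_lit 1,nat_lit 2,nat_lit 5])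
))) (.node (.node (.node (.leaf [nat_lit 44,nat_lit 5,nat_lit 1,nat_lit 2,nat_lit 5,nat_lit 6,nat_lit 5,nat_lit 2,nat_lit 3,nat_lit 2,nat_lit 5,nat_lit 6,nat_lit 5,nat_lit 2,nat_lit 3])
 (.leaf [nat_lit 14,nat_lit 2,nat_lit 0,nat_lit 2,nat_lit 4,nat_lit 2,nat_lit 1,nat_lit 2,nat_lit 0,nat_lit 4,nat_lit 2,nat_lit 4,nat_lit 1,nat_lit 3,nat_lit 2,nat_lit 3,nat_lit 1,nat_lit 2,nat_lit 0,nat_lit 0])
) (.node (.leaf [nat_lit 39,nat_lit 8,nat_lit 1,nat_lit 3,nat_lit 5,nat_lit 3,nat_lit 2,nat_lit 6,nat_lit 2,nat_lit 5,nat_lit 3,nat_lit 5,nat_lit 2,nat_lit 6,nat_lit 2])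
 (.leaf [nat_lit 55,nat_lit 8,nat_lit 1,nat_lit 1,nat_lit 2,nat_lit 3,nat_lit 0,nat_lit 0,nat_lit 6,nat_lit 1,nat_lit 1,nat_lit 3,nat_lit 2,nat_lit 1,nat_lit 3,nat_lit 0,nat_lit 6,nat_lit 1,nat_lit 3])
)) (.node (.node (.leaf [nat_lit 26,nat_lit 4,nat_lit 1,nat_lit 5,nat_lit 4,nat_lit 5,nat_lit 2,nat_lit 0,nat_lit 0,nat_lit 5,nat_lit 1,nat_lit 1,nat_lit 5,nat_lit 4,nat_lit 5,nat_lit 2])
 (.leaf [nat_lit 64,nat_lit 2,nat_lit 1,nat_lit 4,nat_lit 5,nat_lit 6,nat_lit 5,nat_lit 2,nat_lit 5,nat_lit 6,nat_lit 5,nat_lit 4,nat_lit 6,nat_lit 5,nat_lit 0,nat_lit 2,nat_lit 1,nat_lit 5,nat_lit 6])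
) (.leaf [nat_lit 24,nat_lit 3,nat_lit 0,nat_lit 3,nat_lit 0,nat_lit 2,nat_lit 5,nat_lit 1,nat_lit 3,nat_lit 0,nat_lit 5,nat_lit 1,nat_lit 3,nat_lit 0,nat_lit 2,nat_lit 1])
))) (.node (.node (.node (.node (.leaf [nat_lit 15,nat_lit 7,nat_lit 0,nat_lit 2,nat_lit 1,nat_lit 3,nat_lit 0,nat_lit 2,nat_lit 0,nat_lit 2,nat_lit 4,nat_lit 3,nat_lit 4,nat_lit 2,nat_lit 0,nat_lit 0,nat_lit 0,nat_lit 2,nat_lit 0,nat_lit 0,nat_lit 0])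
 (.leaf [nat_lit 4,nat_lit 8,nat_lit 1,nat_lit 1,nat_lit 0,nat_lit 2,nat_lit 1,nat_lit 1,nat_lit 2,nat_lit 0,nat_lit 2,nat_lit 0,nat_lit 2,nat_lit 1,nat_lit 1,nat_lit 2])
) (.node (.leaf [nat_lit 56,nat_lit 9,nat_lit 1,nat_lit 6,nat_lit 3,nat_lit 1,nat_lit 4,nat_lit 3,nat_lit 2,nat_lit 1,nat_lit 5,nat_lit 6,nat_lit 5,nat_lit 0,nat_lit 2,nat_lit 3,nat_lit 4,nat_lit 0,nat_lit 3])
 (.leaf [nat_lit 58,nat_lit 14,nat_lit 1,nat_lit 3,nat_lit 1,nat_lit 5,nat_lit 4,nat_lit 0,nat_lit 5,nat_lit 6,nat_lit 5,nat_lit 1,nat_lit 4,nat_lit 5,nat_lit 0,nat_lit 3,nat_lit 5,nat_lit 6,nat_lit 5])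
)) (.node (.node (.leaf [nat_lit 17,nat_lit 7,nat_lit 1,nat_lit 0,nat_lit 4,nat_lit 3,nat_lit 2,nat_lit 0,nat_lit 2,nat_lit 1,nat_lit 3,nat_lit 1,nat_lit 2,nat_lit 1,nat_lit 2,nat_lit 1,nat_lit 1,nat_lit 4,nat_lit 1,nat_lit 1,nat_lit 3,nat_lit 0,nat_lit 0,nat_lit 2])
 (.leaf [nat_lit 66,nat_lit 4,nat_lit 1,nat_lit 3,nat_lit 0,nat_lit 0,nat_lit 3,nat_lit 4,nat_lit 5,nat_lit 2,nat_lit 6,nat_lit 2,nat_lit 5,nat_lit 4,nat_lit 3,nat_lit 1,nat_lit 1,nat_lit 3,nat_lit 2,nat_lit 6,nat_lit 2])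
) (.node (.leaf [nat_lit 61,nat_lit 8,nat_lit 1,nat_lit 5,nat_lit 2,nat_lit 6,nat_lit 2,nat_lit 5,nat_lit 2,nat_lit 4,nat_lit 2,nat_lit 5,nat_lit 4,nat_lit 6,nat_lit 4,nat_lit 5,nat_lit 2,nat_lit 4,nat_lit 2])
 (.leaf [nat_lit 5,nat_lit 19,nat_lit 0,nat_lit 1,nat_lit 0,nat_lit 2,nat_lit 0,nat_lit 2,nat_lit 0,nat_lit 0,nat_lit 2,nat_lit 0,nat_lit 0,nat_lit 2,nat_lit 0,nat_lit 2,nat_lit 0,nat_lit 0,nat_lit 2,nat_lit 0,nat_lit 0,nat_lit 2,nat_lit 0,nat_lit 2,nat_lit 0,nat_lit 0,nat_lit 2])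
))) (.node (.node (.node (.leaf [nat_lit 16,nat_lit 5,nat_lit 1,nat_lit 4,nat_lit 0,nat_lit 0,nat_lit 4,nat_lit 1,nat_lit 2,nat_lit 0,nat_lit 0,nat_lit 2,nat_lit 3,nat_lit 0,nat_lit 3,nat_lit 1,nat_lit 1,nat_lit 1,nat_lit 3,nat_lit 4,nat_lit 1,nat_lit 4,nat_lit 0])
 (.leaf [nat_lit 17,nat_lit 1,nat_lit 1,nat_lit 0,nat_lit 1,nat_lit 3,nat_lit 0,nat_lit 0,nat_lit 2,nat_lit 1,nat_lit 4,nat_lit 3,nat_lit 2,nat_lit 0,nat_lit 2,nat_lit 1,nat_lit 3,nat_lit 1,nat_lit 2,nat_lit 1,nat_lit 2,nat_lit 1,nat_lit 1,nat_lit 4])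
) (.node (.leaf [nat_lit 14,nat_lit 10,nat_lit 1,nat_lit 2,nat_lit 0,nat_lit 2,nat_lit 4,nat_lit 2,nat_lit 1,nat_lit 1,nat_lit 2,nat_lit 0,nat_lit 3,nat_lit 2,nat_lit 3,nat_lit 0,nat_lit 4,nat_lit 2,nat_lit 4,nat_lit 1])
 (.leaf [nat_lit 69,nat_lit 28,nat_lit 1,nat_lit 4,nat_lit 6,nat_lit 0,nat_lit 2,nat_lit 1,nat_lit 1,nat_lit 1,nat_lit 2,nat_lit 0,nat_lit 2,nat_lit 0,nat_lit 0,nat_lit 2,nat_lit 1,nat_lit 3,nat_lit 1,nat_lit 2,nat_lit 4,nat_lit 1,nat_lit 4,nat_lit 1,nat_lit 1,nat_lit 2,nat_lit 5,nat_lit 2,nat_lit 6,nat_lit 0,nat_lit 3,nat_lit 5,nat_lit 1,nat_lit 1,nat_lit 6,nat_lit 4,nat_lit 3,nat_lit 0])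
)) (.node (.node (.leaf [nat_lit 53,nat_lit 9,nat_lit 0,nat_lit 4,nat_lit 2,nat_lit 4,nat_lit 6,nat_lit 3,nat_lit 4,nat_lit 0,nat_lit 3,nat_lit 2,nat_lit 3,nat_lit 1,nat_lit 2,nat_lit 4,nat_lit 3,nat_lit 6])
 (.leaf [nat_lit 68,nat_lit 17,nat_lit 0,nat_lit 3,nat_lit 6,nat_lit 3,nat_lit 0,nat_lit 0,nat_lit 5,nat_lit 4,nat_lit 0,nat_lit 0,nat_lit 0,nat_lit 2,nat_lit 1,nat_lit 1,nat_lit 3,nat_lit 0,nat_lit 2,nat_lit 0,nat_lit 0,nat_lit 0,nat_lit 2,nat_lit 1,nat_lit 1,nat_lit 2,nat_lit 1,nat_lit 2,nat_lit 1,nat_lit 1,nat_lit 6,nat_lit 4,nat_lit 6,nat_lit 5,nat_lit 1,nat_lit 1])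
) (.leaf [nat_lit 14,nat_lit 4,nat_lit 0,nat_lit 2,nat_lit 1,nat_lit 2,nat_lit 0,nat_lit 4,nat_lit 2,nat_lit 4,nat_lit 1,nat_lit 3,nat_lit 2,nat_lit 3,nat_lit 1,nat_lit 2,nat_lit 0,nat_lit 0,nat_lit 2,nat_lit 4])
)))))) (.node (.node (.node (.node (.node (.node (.node (.leaf [nat_lit 17,nat_lit 12,nat_lit 0,nat_lit 4,nat_lit 0,nat_lit 2,nat_lit 1,nat_lit 1,nat_lit 3,nat_lit 0,nat_lit 0,nat_lit 4,nat_lit 0,nat_lit 0,nat_lit 2,nat_lit 0,nat_lit 2,nat_lit 0,nat_lit 3,nat_lit 0,nat_lit 2,nat_lit 1,nat_lit 2,nat_lit 3])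
 (.leaf [nat_lit 26,nat_lit 10,nat_lit 0,nat_lit 5,nat_lit 4,nat_lit 5,nat_lit 0,nat_lit 0,nat_lit 5,nat_lit 1,nat_lit 1,nat_lit 2,nat_lit 5,nat_lit 4,nat_lit 5,nat_lit 2])
) (.node (.leaf [nat_lit 14,nat_lit 14,nat_lit 1,nat_lit 2,nat_lit 1,nat_lit 1,nat_lit 2,nat_lit 0,nat_lit 3,nat_lit 2,nat_lit 3,nat_lit 0,nat_lit 4,nat_lit 2,nat_lit 4,nat_lit 1,nat_lit 2,nat_lit 0,nat_lit 2,nat_lit 4])
 (.leaf [nat_lit 53,nat_lit 5,nat_lit 1,nat_lit 4,nat_lit 6,nat_lit 3,nat_lit 4,nat_lit 2,nat_lit 0,nat_lit 3,nat_lit 2,nat_lit 3,nat_lit 1,nat_lit 4,nat_lit 3,nat_lit 6,nat_lit 4,nat_lit 2])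
)) (.node (.node (.leaf [nat_lit 53,nat_lit 0,nat_lit 1,nat_lit 4,nat_lit 3,nat_lit 6,nat_lit 4,nat_lit 2,nat_lit 4,nat_lit 6,nat_lit 3,nat_lit 4,nat_lit 2,nat_lit 0,nat_lit 3,nat_lit 2,nat_lit 3,nat_lit 1])
 (.leaf [nat_lit 62,nat_lit 2,nat_lit 1,nat_lit 6,nat_lit 5,nat_lit 4,nat_lit 5,nat_lit 6,nat_lit 4,nat_lit 6,nat_lit 5,nat_lit 4,nat_lit 5,nat_lit 4,nat_lit 6,nat_lit 4])
) (.node (.leaf [nat_lit 42,nat_lit 0,nat_lit 1,nat_lit 6,nat_lit 2,nat_lit 6,nat_lit 0,nat_lit 5,nat_lit 1,nat_lit 6,nat_lit 2,nat_lit 6,nat_lit 0,nat_lit 5,nat_lit 1])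
 (.leaf [nat_lit 53,nat_lit 2,nat_lit 1,nat_lit 6,nat_lit 4,nat_lit 2,nat_lit 4,nat_lit 6,nat_lit 3,nat_lit 4,nat_lit 2,nat_lit 0,nat_lit 3,nat_lit 2,nat_lit 3,nat_lit 1,nat_lit 4,nat_lit 3])
))) (.node (.node (.node (.leaf [nat_lit 64,nat_lit 14,nat_lit 1,nat_lit 2,nat_lit 1,nat_lit 5,nat_lit 6,nat_lit 4,nat_lit 5,nat_lit 6,nat_lit 5,nat_lit 2,nat_lit 5,nat_lit 6,nat_lit 5,nat_lit 4,nat_lit 6,nat_lit 5,nat_lit 0])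
 (.leaf [nat_lit 26,nat_lit 3,nat_lit 1,nat_lit 2,nat_lit 5,nat_lit 4,nat_lit 5,nat_lit 2,nat_lit 0,nat_lit 0,nat_lit 5,nat_lit 1,nat_lit 1,nat_lit 5,nat_lit 4,nat_lit 5])
) (.node (.leaf [nat_lit 23,nat_lit 4,nat_lit 1,nat_lit 5,nat_lit 1,nat_lit 2,nat_lit 0,nat_lit 5,nat_lit 2,nat_lit 1,nat_lit 1,nat_lit 2,nat_lit 0,nat_lit 0,nat_lit 2])
 (.leaf [nat_lit 50,nat_lit 0,nat_lit 1,nat_lit 6,nat_lit 0,nat_lit 3,nat_lit 1,nat_lit 4,nat_lit 5,nat_lit 3,nat_lit 6,nat_lit 3,nat_lit 5,nat_lit 4,nat_lit 0,nat_lit 3,nat_lit 1])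
)) (.node (.node (.leaf [nat_lit 18,nat_lit 2,nat_lit 1,nat_lit 4,nat_lit 2,nat_lit 4,nat_lit 0,nat_lit 2,nat_lit 0,nat_lit 4,nat_lit 1,nat_lit 3,nat_lit 2,nat_lit 3,nat_lit 1,nat_lit 2,nat_lit 1,nat_lit 1,nat_lit 2,nat_lit 1,nat_lit 2,nat_lit 1,nat_lit 1,nat_lit 1,nat_lit 2,nat_lit 1])
 (.leaf [nat_lit 17,nat_lit 6,nat_lit 0,nat_lit 3,nat_lit 0,nat_lit 2,nat_lit 1,nat_lit 2,nat_lit 3,nat_lit 4,nat_lit 0,nat_lit 2,nat_lit 1,nat_lit 1,nat_lit 3,nat_lit 0,nat_lit 0,nat_lit 4,nat_lit 0,nat_lit 0,nat_lit 2,nat_lit 0,nat_lit 2,nat_lit 0])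
) (.node (.leaf [nat_lit 15,nat_lit 17,nat_lit 1,nat_lit 0,nat_lit 2,nat_lit 4,nat_lit 3,nat_lit 4,nat_lit 2,nat_lit 1,nat_lit 2,nat_lit 1,nat_lit 3,nat_lit 0,nat_lit 2,nat_lit 1,nat_lit 1,nat_lit 1,nat_lit 2,nat_lit 1,nat_lit 1])
 (.leaf [nat_lit 68,nat_lit 31,nat_lit 1,nat_lit 0,nat_lit 1,nat_lit 2,nat_lit 1,nat_lit 3,nat_lit 0,nat_lit 0,nat_lit 2,nat_lit 1,nat_lit 1,nat_lit 1,nat_lit 4,nat_lit 5,nat_lit 1,nat_lit 1,nat_lit 3,nat_lit 6,nat_lit 3,nat_lit 0,nat_lit 0,nat_lit 5,nat_lit 6,nat_lit 4,nat_lit 6,nat_lit 0,nat_lit 0,nat_lit 2,nat_lit 0,nat_lit 2,nat_lit 0,nat_lit 0,nat_lit 2,nat_lit 1])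
)))) (.node (.node (.node (.node (.leaf [nat_lit 45,nat_lit 1,nat_lit 1,nat_lit 5,nat_lit 6,nat_lit 5,nat_lit 4,nat_lit 2,nat_lit 4,nat_lit 5,nat_lit 6,nat_lit 5,nat_lit 4,nat_lit 2,nat_lit 4])
 (.leaf [nat_lit 12,nat_lit 11,nat_lit 1,nat_lit 1,nat_lit 3,nat_lit 1,nat_lit 1,nat_lit 3,nat_lit 2,nat_lit 1,nat_lit 3,nat_lit 0,nat_lit 2,nat_lit 1,nat_lit 3,nat_lit 0,nat_lit 3,nat_lit 0])
) (.node (.leaf [nat_lit 26,nat_lit 12,nat_lit 1,nat_lit 0,nat_lit 5,nat_lit 4,nat_lit 5,nat_lit 2,nat_lit 5,nat_lit 4,nat_lit 5,nat_lit 2,nat_lit 0,nat_lit 0,nat_lit 5,nat_lit 1])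
 (.leaf [nat_lit 57,nat_lit 12,nat_lit 1,nat_lit 5,nat_lit 0,nat_lit 3,nat_lit 1,nat_lit 5,nat_lit 1,nat_lit 6,nat_lit 3,nat_lit 5,nat_lit 0,nat_lit 3,nat_lit 1,nat_lit 5,nat_lit 3,nat_lit 6,nat_lit 0])
)) (.node (.node (.leaf [nat_lit 49,nat_lit 0,nat_lit 1,nat_lit 2,nat_lit 0,nat_lit 2,nat_lit 0,nat_lit 5,nat_lit 6,nat_lit 1,nat_lit 2,nat_lit 0,nat_lit 6,nat_lit 5,nat_lit 1,nat_lit 1])
 (.leaf [nat_lit 14,nat_lit 0,nat_lit 0,nat_lit 1,nat_lit 0,nat_lit 2,nat_lit 4,nat_lit 2,nat_lit 1,nat_lit 2,nat_lit 0,nat_lit 4,nat_lit 2,nat_lit 4,nat_lit 1,nat_lit 3,nat_lit 2,nat_lit 3,nat_lit 1,nat_lit 2])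
) (.node (.leaf [nat_lit 63,nat_lit 3,nat_lit 1,nat_lit 3,nat_lit 5,nat_lit 0,nat_lit 5,nat_lit 6,nat_lit 1,nat_lit 2,nat_lit 5,nat_lit 2,nat_lit 0,nat_lit 6,nat_lit 5,nat_lit 1,nat_lit 5,nat_lit 3,nat_lit 2])
 (.leaf [nat_lit 53,nat_lit 9,nat_lit 1,nat_lit 2,nat_lit 0,nat_lit 3,nat_lit 2,nat_lit 3,nat_lit 1,nat_lit 4,nat_lit 3,nat_lit 6,nat_lit 4,nat_lit 2,nat_lit 4,nat_lit 6,nat_lit 3,nat_lit 4])
))) (.node (.node (.node (.leaf [nat_lit 14,nat_lit 2,nat_lit 1,nat_lit 3,nat_lit 2,nat_lit 3,nat_lit 0,nat_lit 4,nat_lit 2,nat_lit 4,nat_lit 1,nat_lit 2,nat_lit 0,nat_lit 2,nat_lit 4,nat_lit 2,nat_lit 1,nat_lit 1,nat_lit 2,nat_lit 0])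
 (.leaf [nat_lit 18,nat_lit 11,nat_lit 0,nat_lit 2,nat_lit 3,nat_lit 0,nat_lit 4,nat_lit 1,nat_lit 2,nat_lit 1,nat_lit 4,nat_lit 2,nat_lit 4,nat_lit 0,nat_lit 2,nat_lit 0,nat_lit 0,nat_lit 0,nat_lit 2,nat_lit 0,nat_lit 2,nat_lit 0,nat_lit 0,nat_lit 2,nat_lit 0,nat_lit 3])
) (.node (.leaf [nat_lit 16,nat_lit 1,nat_lit 1,nat_lit 4,nat_lit 1,nat_lit 4,nat_lit 0,nat_lit 4,nat_lit 0,nat_lit 0,nat_lit 4,nat_lit 1,nat_lit 2,nat_lit 0,nat_lit 0,nat_lit 2,nat_lit 3,nat_lit 0,nat_lit 3,nat_lit 1,nat_lit 1,nat_lit 1,nat_lit 3])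
 (.leaf [nat_lit 67,nat_lit 9,nat_lit 1,nat_lit 6,nat_lit 5,nat_lit 2,nat_lit 4,nat_lit 0,nat_lit 0,nat_lit 4,nat_lit 1,nat_lit 1,nat_lit 6,nat_lit 0,nat_lit 0,nat_lit 4,nat_lit 1,nat_lit 1,nat_lit 4,nat_lit 2,nat_lit 5])
)) (.node (.node (.leaf [nat_lit 66,nat_lit 10,nat_lit 1,nat_lit 2,nat_lit 6,nat_lit 2,nat_lit 5,nat_lit 4,nat_lit 3,nat_lit 1,nat_lit 1,nat_lit 3,nat_lit 2,nat_lit 6,nat_lit 2,nat_lit 3,nat_lit 0,nat_lit 0,nat_lit 3,nat_lit 4,nat_lit 5])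
 (.leaf [nat_lit 14,nat_lit 4,nat_lit 1,nat_lit 3,nat_lit 0,nat_lit 4,nat_lit 2,nat_lit 4,nat_lit 1,nat_lit 2,nat_lit 0,nat_lit 2,nat_lit 4,nat_lit 2,nat_lit 1,nat_lit 1,nat_lit 2,nat_lit 0,nat_lit 3,nat_lit 2])
) (.leaf [nat_lit 12,nat_lit 8,nat_lit 1,nat_lit 1,nat_lit 3,nat_lit 0,nat_lit 0,nat_lit 3,nat_lit 1,nat_lit 1,nat_lit 3,nat_lit 2,nat_lit 1,nat_lit 3,nat_lit 0,nat_lit 2,nat_lit 1,nat_lit 3])
)))) (.node (.node (.node (.node (.node (.leaf [nat_lit 62,nat_lit 0,nat_lit 0,nat_lit 4,nat_lit 5,nat_lit 4,nat_lit 5,nat_lit 6,nat_lit 4,nat_lit 6,nat_lit 5,nat_lit 4,nat_lit 5,nat_lit 6,nat_lit 4,nat_lit 6])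
 (.leaf [nat_lit 65,nat_lit 17,nat_lit 1,nat_lit 0,nat_lit 6,nat_lit 0,nat_lit 2,nat_lit 5,nat_lit 4,nat_lit 3,nat_lit 5,nat_lit 0,nat_lit 3,nat_lit 6,nat_lit 3,nat_lit 1,nat_lit 5,nat_lit 3,nat_lit 4,nat_lit 5,nat_lit 2])
) (.node (.leaf [nat_lit 23,nat_lit 5,nat_lit 1,nat_lit 0,nat_lit 2,nat_lit 0,nat_lit 5,nat_lit 2,nat_lit 1,nat_lit 1,nat_lit 2,nat_lit 0,nat_lit 0,nat_lit 2,nat_lit 5])
 (.leaf [nat_lit 68,nat_lit 23,nat_lit 0,nat_lit 4,nat_lit 0,nat_lit 0,nat_lit 0,nat_lit 2,nat_lit 1,nat_lit 1,nat_lit 3,nat_lit 0,nat_lit 2,nat_lit 0,nat_lit 0,nat_lit 0,nat_lit 2,nat_lit 1,nat_lit 1,nat_lit 2,nat_lit 1,nat_lit 2,nat_lit 1,nat_lit 1,nat_lit 6,nat_lit 4,nat_lit 6,nat_lit 5,nat_lit 1,nat_lit 1,nat_lit 3,nat_lit 6,nat_lit 3,nat_lit 0,nat_lit 0,nat_lit 5])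
)) (.node (.node (.leaf [nat_lit 53,nat_lit 0,nat_lit 0,nat_lit 1,nat_lit 3,nat_lit 2,nat_lit 3,nat_lit 1,nat_lit 2,nat_lit 4,nat_lit 3,nat_lit 6,nat_lit 4,nat_lit 2,nat_lit 4,nat_lit 6,nat_lit 3,nat_lit 4])
 (.leaf [nat_lit 12,nat_lit 7,nat_lit 0,nat_lit 3,nat_lit 0,nat_lit 2,nat_lit 1,nat_lit 3,nat_lit 0,nat_lit 2,nat_lit 3,nat_lit 0,nat_lit 0,nat_lit 3,nat_lit 1,nat_lit 1,nat_lit 3,nat_lit 1])
) (.node (.leaf [nat_lit 12,nat_lit 4,nat_lit 1,nat_lit 1,nat_lit 2,nat_lit 1,nat_lit 3,nat_lit 0,nat_lit 3,nat_lit 0,nat_lit 0,nat_lit 3,nat_lit 1,nat_lit 1,nat_lit 3,nat_lit 2,nat_lit 1,nat_lit 3])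
 (.leaf [nat_lit 62,nat_lit 4,nat_lit 0,nat_lit 6,nat_lit 4,nat_lit 6,nat_lit 5,nat_lit 4,nat_lit 5,nat_lit 6,nat_lit 4,nat_lit 6,nat_lit 4,nat_lit 5,nat_lit 4,nat_lit 5])
))) (.node (.node (.node (.leaf [nat_lit 15,nat_lit 12,nat_lit 0,nat_lit 1,nat_lit 2,nat_lit 4,nat_lit 3,nat_lit 4,nat_lit 2,nat_lit 0,nat_lit 0,nat_lit 0,nat_lit 2,nat_lit 0,nat_lit 0,nat_lit 0,nat_lit 2,nat_lit 1,nat_lit 3,nat_lit 0,nat_lit 2])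
 (.leaf [nat_lit 14,nat_lit 15,nat_lit 0,nat_lit 0,nat_lit 2,nat_lit 0,nat_lit 0,nat_lit 2,nat_lit 4,nat_lit 2,nat_lit 1,nat_lit 2,nat_lit 0,nat_lit 4,nat_lit 2,nat_lit 4,nat_lit 1,nat_lit 3,nat_lit 2,nat_lit 3])
) (.node (.leaf [nat_lit 61,nat_lit 3,nat_lit 1,nat_lit 4,nat_lit 5,nat_lit 2,nat_lit 4,nat_lit 2,nat_lit 5,nat_lit 2,nat_lit 6,nat_lit 2,nat_lit 5,nat_lit 2,nat_lit 4,nat_lit 2,nat_lit 5,nat_lit 4,nat_lit 6])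
 (.leaf [nat_lit 49,nat_lit 6,nat_lit 1,nat_lit 0,nat_lit 2,nat_lit 0,nat_lit 6,nat_lit 5,nat_lit 1,nat_lit 1,nat_lit 2,nat_lit 0,nat_lit 2,nat_lit 0,nat_lit 5,nat_lit 6])
)) (.node (.node (.leaf [nat_lit 16,nat_lit 17,nat_lit 1,nat_lit 0,nat_lit 1,nat_lit 1,nat_lit 3,nat_lit 4,nat_lit 1,nat_lit 4,nat_lit 0,nat_lit 4,nat_lit 0,nat_lit 0,nat_lit 4,nat_lit 1,nat_lit 2,nat_lit 0,nat_lit 0,nat_lit 2,nat_lit 3,nat_lit 0,nat_lit 3])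
 (.leaf [nat_lit 18,nat_lit 15,nat_lit 1,nat_lit 0,nat_lit 1,nat_lit 2,nat_lit 1,nat_lit 2,nat_lit 1,nat_lit 1,nat_lit 1,nat_lit 2,nat_lit 1,nat_lit 4,nat_lit 2,nat_lit 4,nat_lit 0,nat_lit 2,nat_lit 0,nat_lit 4,nat_lit 1,nat_lit 3,nat_lit 2,nat_lit 3,nat_lit 1,nat_lit 2])
) (.leaf [nat_lit 22,nat_lit 3,nat_lit 1,nat_lit 5,nat_lit 0,nat_lit 3,nat_lit 1,nat_lit 5,nat_lit 3,nat_lit 0,nat_lit 5,nat_lit 0,nat_lit 3,nat_lit 1,nat_lit 5,nat_lit 1,nat_lit 3])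
))) (.node (.node (.node (.node (.leaf [nat_lit 10,nat_lit 1,nat_lit 1,nat_lit 2,nat_lit 3,nat_lit 0,nat_lit 0,nat_lit 0,nat_lit 2,nat_lit 1,nat_lit 3,nat_lit 0,nat_lit 2,nat_lit 1,nat_lit 1,nat_lit 1,nat_lit 3])
 (.leaf [nat_lit 24,nat_lit 9,nat_lit 1,nat_lit 3,nat_lit 0,nat_lit 2,nat_lit 1,nat_lit 3,nat_lit 0,nat_lit 5,nat_lit 1,nat_lit 3,nat_lit 0,nat_lit 5,nat_lit 2,nat_lit 1])
) (.node (.leaf [nat_lit 44,nat_lit 2,nat_lit 1,nat_lit 5,nat_lit 2,nat_lit 3,nat_lit 2,nat_lit 5,nat_lit 6,nat_lit 5,nat_lit 2,nat_lit 3,nat_lit 2,nat_lit 5,nat_lit 6])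
 (.leaf [nat_lit 55,nat_lit 6,nat_lit 1,nat_lit 0,nat_lit 3,nat_lit 0,nat_lit 2,nat_lit 3,nat_lit 0,nat_lit 0,nat_lit 6,nat_lit 1,nat_lit 1,nat_lit 3,nat_lit 2,nat_lit 1,nat_lit 3,nat_lit 0,nat_lit 6])
)) (.node (.node (.leaf [nat_lit 63,nat_lit 1,nat_lit 1,nat_lit 3,nat_lit 2,nat_lit 3,nat_lit 5,nat_lit 0,nat_lit 5,nat_lit 6,nat_lit 1,nat_lit 2,nat_lit 5,nat_lit 2,nat_lit 0,nat_lit 6,nat_lit 5,nat_lit 1,nat_lit 5])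
 (.leaf [nat_lit 52,nat_lit 6,nat_lit 1,nat_lit 1,nat_lit 6,nat_lit 2,nat_lit 1,nat_lit 2,nat_lit 0,nat_lit 2,nat_lit 6,nat_lit 1,nat_lit 2])
) (.node (.leaf [nat_lit 18,nat_lit 4,nat_lit 1,nat_lit 4,nat_lit 0,nat_lit 2,nat_lit 0,nat_lit 4,nat_lit 1,nat_lit 3,nat_lit 2,nat_lit 3,nat_lit 1,nat_lit 2,nat_lit 1,nat_lit 1,nat_lit 2,nat_lit 1,nat_lit 2,nat_lit 1,nat_lit 1,nat_lit 1,nat_lit 2,nat_lit 1,nat_lit 4,nat_lit 2])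
 (.leaf [nat_lit 68,nat_lit 13,nat_lit 1,nat_lit 3,nat_lit 6,nat_lit 3,nat_lit 0,nat_lit 0,nat_lit 5,nat_lit 6,nat_lit 4,nat_lit 6,nat_lit 0,nat_lit 0,nat_lit 2,nat_lit 0,nat_lit 2,nat_lit 0,nat_lit 0,nat_lit 2,nat_lit 1,nat_lit 1,nat_lit 1,nat_lit 2,nat_lit 1,nat_lit 3,nat_lit 0,nat_lit 0,nat_lit 2,nat_lit 1,nat_lit 1,nat_lit 1,nat_lit 4,nat_lit 5,nat_lit 1,nat_lit 1])
))) (.node (.node (.node (.leaf [nat_lit 67,nat_lit 13,nat_lit 1,nat_lit 1,nat_lit 0,nat_lit 4,nat_lit 1,nat_lit 1,nat_lit 6,nat_lit 0,nat_lit 0,nat_lit 4,nat_lit 1,nat_lit 1,nat_lit 4,nat_lit 2,nat_lit 5,nat_lit 6,nat_lit 5,nat_lit 2,nat_lit 4])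
 (.leaf [nat_lit 4,nat_lit 4,nat_lit 0,nat_lit 0,nat_lit 2,nat_lit 0,nat_lit 0,nat_lit 2,nat_lit 1,nat_lit 2,nat_lit 1,nat_lit 2,nat_lit 0,nat_lit 0,nat_lit 2,nat_lit 1])
) (.node (.leaf [nat_lit 37,nat_lit 10,nat_lit 1,nat_lit 4,nat_lit 2,nat_lit 4,nat_lit 6,nat_lit 4,nat_lit 5,nat_lit 2,nat_lit 5,nat_lit 2,nat_lit 5,nat_lit 4,nat_lit 6])
 (.leaf [nat_lit 49,nat_lit 9,nat_lit 1,nat_lit 6,nat_lit 5,nat_lit 1,nat_lit 1,nat_lit 2,nat_lit 0,nat_lit 2,nat_lit 0,nat_lit 5,nat_lit 6,nat_lit 1,nat_lit 2,nat_lit 0])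
)) (.node (.node (.leaf [nat_lit 49,nat_lit 1,nat_lit 0,nat_lit 1,nat_lit 5,nat_lit 6,nat_lit 1,nat_lit 2,nat_lit 0,nat_lit 6,nat_lit 5,nat_lit 1,nat_lit 2,nat_lit 1,nat_lit 2,nat_lit 0])
 (.leaf [nat_lit 55,nat_lit 5,nat_lit 1,nat_lit 6,nat_lit 1,nat_lit 3,nat_lit 0,nat_lit 2,nat_lit 3,nat_lit 0,nat_lit 0,nat_lit 6,nat_lit 1,nat_lit 1,nat_lit 3,nat_lit 2,nat_lit 1,nat_lit 3,nat_lit 0])
) (.leaf [nat_lit 14,nat_lit 12,nat_lit 0,nat_lit 3,nat_lit 2,nat_lit 3,nat_lit 1,nat_lit 2,nat_lit 0,nat_lit 0,nat_lit 2,nat_lit 4,nat_lit 2,nat_lit 1,nat_lit 2,nat_lit 0,nat_lit 4,nat_lit 2,nat_lit 4,nat_lit 1])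
))))) (.node (.node (.node (.node (.node (.node (.leaf [nat_lit 27,nat_lit 7,nat_lit 1,nat_lit 3,nat_lit 4,nat_lit 2,nat_lit 5,nat_lit 1,nat_lit 3,nat_lit 1,nat_lit 5,nat_lit 0,nat_lit 3,nat_lit 0,nat_lit 5,nat_lit 2,nat_lit 4])
 (.leaf [nat_lit 5,nat_lit 9,nat_lit 1,nat_lit 0,nat_lit 2,nat_lit 1,nat_lit 1,nat_lit 2,nat_lit 1,nat_lit 1,nat_lit 2,nat_lit 1,nat_lit 2,nat_lit 1,nat_lit 1,nat_lit 2,nat_lit 1,nat_lit 1,nat_lit 2,nat_lit 1,nat_lit 2,nat_lit 1,nat_lit 1,nat_lit 2,nat_lit 1,nat_lit 1,nat_lit 2])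
) (.node (.leaf [nat_lit 48,nat_lit 1,nat_lit 1,nat_lit 5,nat_lit 6,nat_lit 5,nat_lit 4,nat_lit 3,nat_lit 4,nat_lit 5,nat_lit 6,nat_lit 5,nat_lit 4,nat_lit 3,nat_lit 4])
 (.leaf [nat_lit 65,nat_lit 11,nat_lit 1,nat_lit 0,nat_lit 5,nat_lit 3,nat_lit 4,nat_lit 5,nat_lit 2,nat_lit 1,nat_lit 6,nat_lit 0,nat_lit 2,nat_lit 5,nat_lit 4,nat_lit 3,nat_lit 5,nat_lit 0,nat_lit 3,nat_lit 6,nat_lit 3])
)) (.node (.node (.leaf [nat_lit 44,nat_lit 0,nat_lit 1,nat_lit 5,nat_lit 6,nat_lit 5,nat_lit 2,nat_lit 3,nat_lit 2,nat_lit 5,nat_lit 6,nat_lit 5,nat_lit 2,nat_lit 3,nat_lit 2])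
 (.leaf [nat_lit 69,nat_lit 8,nat_lit 0,nat_lit 3,nat_lit 4,nat_lit 6,nat_lit 0,nat_lit 0,nat_lit 5,nat_lit 3,nat_lit 1,nat_lit 6,nat_lit 2,nat_lit 5,nat_lit 2,nat_lit 0,nat_lit 0,nat_lit 4,nat_lit 0,nat_lit 4,nat_lit 2,nat_lit 0,nat_lit 3,nat_lit 0,nat_lit 2,nat_lit 1,nat_lit 1,nat_lit 2,nat_lit 1,nat_lit 2,nat_lit 0,nat_lit 0,nat_lit 0,nat_lit 2,nat_lit 1,nat_lit 6,nat_lit 4,nat_lit 1])
) (.node (.leaf [nat_lit 15,nat_lit 15,nat_lit 1,nat_lit 0,nat_lit 1,nat_lit 1,nat_lit 2,nat_lit 4,nat_lit 3,nat_lit 4,nat_lit 2,nat_lit 1,nat_lit 2,nat_lit 1,nat_lit 3,nat_lit 0,nat_lit 2,nat_lit 1,nat_lit 1,nat_lit 1,nat_lit 2])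
 (.leaf [nat_lit 60,nat_lit 10,nat_lit 1,nat_lit 5,nat_lit 2,nat_lit 6,nat_lit 2,nat_lit 5,nat_lit 1,nat_lit 5,nat_lit 0,nat_lit 5,nat_lit 3,nat_lit 6,nat_lit 3,nat_lit 5,nat_lit 1,nat_lit 5,nat_lit 0])
))) (.node (.node (.node (.leaf [nat_lit 50,nat_lit 2,nat_lit 1,nat_lit 3,nat_lit 1,nat_lit 4,nat_lit 5,nat_lit 3,nat_lit 6,nat_lit 3,nat_lit 5,nat_lit 4,nat_lit 0,nat_lit 3,nat_lit 1,nat_lit 6,nat_lit 0])
 (.leaf [nat_lit 4,nat_lit 10,nat_lit 0,nat_lit 2,nat_lit 1,nat_lit 2,nat_lit 0,nat_lit 0,nat_lit 2,nat_lit 1,nat_lit 1,nat_lit 2,nat_lit 0,nat_lit 0,nat_lit 2,nat_lit 1])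
) (.node (.leaf [nat_lit 35,nat_lit 4,nat_lit 1,nat_lit 4,nat_lit 6,nat_lit 4,nat_lit 2,nat_lit 4,nat_lit 6,nat_lit 4,nat_lit 2])
 (.leaf [nat_lit 57,nat_lit 7,nat_lit 1,nat_lit 0,nat_lit 5,nat_lit 3,nat_lit 6,nat_lit 0,nat_lit 5,nat_lit 0,nat_lit 3,nat_lit 1,nat_lit 5,nat_lit 1,nat_lit 6,nat_lit 3,nat_lit 5,nat_lit 0,nat_lit 3])
)) (.node (.node (.leaf [nat_lit 27,nat_lit 8,nat_lit 1,nat_lit 4,nat_lit 2,nat_lit 5,nat_lit 1,nat_lit 3,nat_lit 1,nat_lit 5,nat_lit 0,nat_lit 3,nat_lit 0,nat_lit 5,nat_lit 2,nat_lit 4,nat_lit 3])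
 (.leaf [nat_lit 50,nat_lit 11,nat_lit 1,nat_lit 1,nat_lit 3,nat_lit 1,nat_lit 6,nat_lit 0,nat_lit 3,nat_lit 1,nat_lit 4,nat_lit 5,nat_lit 3,nat_lit 6,nat_lit 3,nat_lit 5,nat_lit 4])
) (.node (.leaf [nat_lit 53,nat_lit 6,nat_lit 1,nat_lit 6,nat_lit 3,nat_lit 4,nat_lit 2,nat_lit 0,nat_lit 3,nat_lit 2,nat_lit 3,nat_lit 1,nat_lit 4,nat_lit 3,nat_lit 6,nat_lit 4,nat_lit 2,nat_lit 4])
 (.leaf [nat_lit 69,nat_lit 27,nat_lit 0,nat_lit 3,nat_lit 0,nat_lit 2,nat_lit 1,nat_lit 1,nat_lit 2,nat_lit 1,nat_lit 2,nat_lit 0,nat_lit 0,nat_lit 0,nat_lit 2,nat_lit 1,nat_lit 6,nat_lit 4,nat_lit 1,nat_lit 3,nat_lit 4,nat_lit 6,nat_lit 0,nat_lit 0,nat_lit 5,nat_lit 3,nat_lit 1,nat_lit 6,nat_lit 2,nat_lit 5,nat_lit 2,nat_lit 0,nat_lit 0,nat_lit 4,nat_lit 0,nat_lit 4,nat_lit 2,nat_lit 0])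
)))) (.node (.node (.node (.node (.leaf [nat_lit 2,nat_lit 5,nat_lit 0,nat_lit 1,nat_lit 0,nat_lit 0,nat_lit 0,nat_lit 0,nat_lit 0,nat_lit 0])
 (.leaf [nat_lit 65,nat_lit 0,nat_lit 1,nat_lit 6,nat_lit 0,nat_lit 2,nat_lit 5,nat_lit 4,nat_lit 3,nat_lit 5,nat_lit 0,nat_lit 3,nat_lit 6,nat_lit 3,nat_lit 1,nat_lit 5,nat_lit 3,nat_lit 4,nat_lit 5,nat_lit 2,nat_lit 1])
) (.node (.leaf [nat_lit 16,nat_lit 3,nat_lit 0,nat_lit 3,nat_lit 1,nat_lit 3,nat_lit 2,nat_lit 1,nat_lit 1,nat_lit 2,nat_lit 0,nat_lit 4,nat_lit 1,nat_lit 1,nat_lit 4,nat_lit 1,nat_lit 4,nat_lit 0,nat_lit 4,nat_lit 3,nat_lit 0,nat_lit 0,nat_lit 0])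
 (.leaf [nat_lit 58,nat_lit 15,nat_lit 1,nat_lit 0,nat_lit 5,nat_lit 4,nat_lit 0,nat_lit 5,nat_lit 6,nat_lit 5,nat_lit 1,nat_lit 4,nat_lit 5,nat_lit 0,nat_lit 3,nat_lit 5,nat_lit 6,nat_lit 5,nat_lit 3])
)) (.node (.node (.leaf [nat_lit 4,nat_lit 11,nat_lit 1,nat_lit 0,nat_lit 1,nat_lit 2,nat_lit 0,nat_lit 2,nat_lit 0,nat_lit 2,nat_lit 1,nat_lit 1,nat_lit 2,nat_lit 0,nat_lit 0,nat_lit 2])
 (.leaf [nat_lit 63,nat_lit 8,nat_lit 1,nat_lit 0,nat_lit 2,nat_lit 5,nat_lit 2,nat_lit 0,nat_lit 6,nat_lit 5,nat_lit 1,nat_lit 5,nat_lit 3,nat_lit 2,nat_lit 3,nat_lit 5,nat_lit 0,nat_lit 5,nat_lit 6])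
) (.node (.leaf [nat_lit 26,nat_lit 11,nat_lit 1,nat_lit 0,nat_lit 1,nat_lit 5,nat_lit 4,nat_lit 5,nat_lit 2,nat_lit 5,nat_lit 4,nat_lit 5,nat_lit 2,nat_lit 0,nat_lit 0,nat_lit 5])
 (.leaf [nat_lit 68,nat_lit 5,nat_lit 1,nat_lit 2,nat_lit 1,nat_lit 1,nat_lit 1,nat_lit 4,nat_lit 5,nat_lit 1,nat_lit 1,nat_lit 3,nat_lit 6,nat_lit 3,nat_lit 0,nat_lit 0,nat_lit 5,nat_lit 6,nat_lit 4,nat_lit 6,nat_lit 0,nat_lit 0,nat_lit 2,nat_lit 0,nat_lit 2,nat_lit 0,nat_lit 0,nat_lit 2,nat_lit 1,nat_lit 1,nat_lit 1,nat_lit 2,nat_lit 1,nat_lit 3,nat_lit 0,nat_lit 0])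
))) (.node (.node (.node (.leaf [nat_lit 62,nat_lit 5,nat_lit 1,nat_lit 5,nat_lit 6,nat_lit 4,nat_lit 6,nat_lit 5,nat_lit 4,nat_lit 5,nat_lit 4,nat_lit 6,nat_lit 4,nat_lit 6,nat_lit 5,nat_lit 4])
 (.leaf [nat_lit 24,nat_lit 7,nat_lit 0,nat_lit 0,nat_lit 3,nat_lit 0,nat_lit 5,nat_lit 1,nat_lit 3,nat_lit 0,nat_lit 2,nat_lit 1,nat_lit 3,nat_lit 0,nat_lit 2,nat_lit 5])
) (.node (.leaf [nat_lit 18,nat_lit 21,nat_lit 1,nat_lit 0,nat_lit 1,nat_lit 2,nat_lit 1,nat_lit 4,nat_lit 2,nat_lit 4,nat_lit 0,nat_lit 2,nat_lit 0,nat_lit 4,nat_lit 1,nat_lit 3,nat_lit 2,nat_lit 3,nat_lit 1,nat_lit 2,nat_lit 1,nat_lit 1,nat_lit 2,nat_lit 1,nat_lit 2,nat_lit 1])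
 (.leaf [nat_lit 64,nat_lit 5,nat_lit 1,nat_lit 5,nat_lit 2,nat_lit 5,nat_lit 6,nat_lit 5,nat_lit 4,nat_lit 6,nat_lit 5,nat_lit 0,nat_lit 2,nat_lit 1,nat_lit 5,nat_lit 6,nat_lit 4,nat_lit 5,nat_lit 6])
)) (.node (.node (.leaf [nat_lit 63,nat_lit 0,nat_lit 1,nat_lit 5,nat_lit 3,nat_lit 2,nat_lit 3,nat_lit 5,nat_lit 0,nat_lit 5,nat_lit 6,nat_lit 1,nat_lit 2,nat_lit 5,nat_lit 2,nat_lit 0,nat_lit 6,nat_lit 5,nat_lit 1])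
 (.leaf [nat_lit 56,nat_lit 14,nat_lit 1,nat_lit 2,nat_lit 1,nat_lit 5,nat_lit 6,nat_lit 5,nat_lit 0,nat_lit 2,nat_lit 3,nat_lit 4,nat_lit 0,nat_lit 3,nat_lit 6,nat_lit 3,nat_lit 1,nat_lit 4,nat_lit 3])
) (.leaf [nat_lit 18,nat_lit 5,nat_lit 1,nat_lit 1,nat_lit 2,nat_lit 0,nat_lit 4,nat_lit 1,nat_lit 3,nat_lit 2,nat_lit 3,nat_lit 1,nat_lit 2,nat_lit 1,nat_lit 1,nat_lit 2,nat_lit 1,nat_lit 2,nat_lit 1,nat_lit 1,nat_lit 1,nat_lit 2,nat_lit 1,nat_lit 4,nat_lit 2,nat_lit 4])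
)))) (.node (.node (.node (.node (.node (.leaf [nat_lit 8,nat_lit 2,nat_lit 1,nat_lit 3,nat_lit 1,nat_lit 2,nat_lit 0,nat_lit 2,nat_lit 3,nat_lit 2,nat_lit 1,nat_lit 2,nat_lit 0])
 (.leaf [nat_lit 17,nat_lit 11,nat_lit 1,nat_lit 1,nat_lit 2,nat_lit 1,nat_lit 3,nat_lit 1,nat_lit 2,nat_lit 1,nat_lit 2,nat_lit 1,nat_lit 1,nat_lit 4,nat_lit 1,nat_lit 1,nat_lit 3,nat_lit 0,nat_lit 0,nat_lit 2,nat_lit 1,nat_lit 4,nat_lit 3,nat_lit 2])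
) (.node (.leaf [nat_lit 66,nat_lit 14,nat_lit 1,nat_lit 4,nat_lit 3,nat_lit 1,nat_lit 1,nat_lit 3,nat_lit 2,nat_lit 6,nat_lit 2,nat_lit 3,nat_lit 0,nat_lit 0,nat_lit 3,nat_lit 4,nat_lit 5,nat_lit 2,nat_lit 6,nat_lit 2,nat_lit 5])
 (.leaf [nat_lit 57,nat_lit 2,nat_lit 1,nat_lit 6,nat_lit 3,nat_lit 5,nat_lit 0,nat_lit 3,nat_lit 1,nat_lit 5,nat_lit 3,nat_lit 6,nat_lit 0,nat_lit 5,nat_lit 0,nat_lit 3,nat_lit 1,nat_lit 5,nat_lit 1])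
)) (.node (.node (.leaf [nat_lit 37,nat_lit 7,nat_lit 1,nat_lit 5,nat_lit 4,nat_lit 6,nat_lit 4,nat_lit 2,nat_lit 4,nat_lit 6,nat_lit 4,nat_lit 5,nat_lit 2,nat_lit 5,nat_lit 2])
 (.leaf [nat_lit 24,nat_lit 12,nat_lit 1,nat_lit 0,nat_lit 3,nat_lit 0,nat_lit 5,nat_lit 1,nat_lit 3,nat_lit 0,nat_lit 5,nat_lit 2,nat_lit 1,nat_lit 3,nat_lit 0,nat_lit 2])
) (.node (.leaf [nat_lit 49,nat_lit 9,nat_lit 0,nat_lit 0,nat_lit 2,nat_lit 1,nat_lit 2,nat_lit 0,nat_lit 0,nat_lit 5,nat_lit 6,nat_lit 1,nat_lit 2,nat_lit 0,nat_lit 6,nat_lit 5])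
 (.leaf [nat_lit 18,nat_lit 9,nat_lit 0,nat_lit 1,nat_lit 3,nat_lit 2,nat_lit 3,nat_lit 0,nat_lit 4,nat_lit 1,nat_lit 2,nat_lit 1,nat_lit 4,nat_lit 2,nat_lit 4,nat_lit 0,nat_lit 2,nat_lit 0,nat_lit 0,nat_lit 0,nat_lit 2,nat_lit 0,nat_lit 2,nat_lit 0,nat_lit 0,nat_lit 2])
))) (.node (.node (.node (.leaf [nat_lit 17,nat_lit 0,nat_lit 1,nat_lit 4,nat_lit 1,nat_lit 1,nat_lit 3,nat_lit 0,nat_lit 0,nat_lit 2,nat_lit 1,nat_lit 4,nat_lit 3,nat_lit 2,nat_lit 0,nat_lit 2,nat_lit 1,nat_lit 3,nat_lit 1,nat_lit 2,nat_lit 1,nat_lit 2,nat_lit 1,nat_lit 1])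
 (.leaf [nat_lit 12,nat_lit 13,nat_lit 0,nat_lit 2,nat_lit 3,nat_lit 0,nat_lit 0,nat_lit 3,nat_lit 1,nat_lit 1,nat_lit 3,nat_lit 1,nat_lit 3,nat_lit 0,nat_lit 2,nat_lit 1,nat_lit 3,nat_lit 0])
) (.node (.leaf [nat_lit 67,nat_lit 6,nat_lit 1,nat_lit 4,nat_lit 2,nat_lit 5,nat_lit 6,nat_lit 5,nat_lit 2,nat_lit 4,nat_lit 0,nat_lit 0,nat_lit 4,nat_lit 1,nat_lit 1,nat_lit 6,nat_lit 0,nat_lit 0,nat_lit 4,nat_lit 1,nat_lit 1])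
 (.leaf [nat_lit 69,nat_lit 6,nat_lit 0,nat_lit 4,nat_lit 1,nat_lit 3,nat_lit 4,nat_lit 6,nat_lit 0,nat_lit 0,nat_lit 5,nat_lit 3,nat_lit 1,nat_lit 6,nat_lit 2,nat_lit 5,nat_lit 2,nat_lit 0,nat_lit 0,nat_lit 4,nat_lit 0,nat_lit 4,nat_lit 2,nat_lit 0,nat_lit 3,nat_lit 0,nat_lit 2,nat_lit 1,nat_lit 1,nat_lit 2,nat_lit 1,nat_lit 2,nat_lit 0,nat_lit 0,nat_lit 0,nat_lit 2,nat_lit 1,nat_lit 6])
)) (.node (.node (.leaf [nat_lit 16,nat_lit 6,nat_lit 1,nat_lit 1,nat_lit 0,nat_lit 4,nat_lit 1,nat_lit 2,nat_lit 0,nat_lit 0,nat_lit 2,nat_lit 3,nat_lit 0,nat_lit 3,nat_lit 1,nat_lit 1,nat_lit 1,nat_lit 3,nat_lit 4,nat_lit 1,nat_lit 4,nat_lit 0,nat_lit 4])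
 (.leaf [nat_lit 24,nat_lit 0,nat_lit 1,nat_lit 3,nat_lit 0,nat_lit 5,nat_lit 1,nat_lit 3,nat_lit 0,nat_lit 5,nat_lit 2,nat_lit 1,nat_lit 3,nat_lit 0,nat_lit 2,nat_lit 1])
) (.leaf [nat_lit 4,nat_lit 11,nat_lit 0,nat_lit 0,nat_lit 2,nat_lit 0,nat_lit 0,nat_lit 2,nat_lit 1,nat_lit 1,nat_lit 2,nat_lit 0,nat_lit 0,nat_lit 2,nat_lit 1,nat_lit 2])
))) (.node (.node (.node (.node (.leaf [nat_lit 59,nat_lit 9,nat_lit 1,nat_lit 5,nat_lit 2,nat_lit 0,nat_lit 3,nat_lit 6,nat_lit 3,nat_lit 1,nat_lit 5,nat_lit 2,nat_lit 5,nat_lit 0,nat_lit 3,nat_lit 6,nat_lit 3,nat_lit 1,nat_lit 2])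
 (.leaf [nat_lit 65,nat_lit 7,nat_lit 1,nat_lit 1,nat_lit 3,nat_lit 6,nat_lit 3,nat_lit 1,nat_lit 5,nat_lit 3,nat_lit 4,nat_lit 5,nat_lit 2,nat_lit 1,nat_lit 6,nat_lit 0,nat_lit 2,nat_lit 5,nat_lit 4,nat_lit 3,nat_lit 5])
) (.node (.leaf [nat_lit 67,nat_lit 3,nat_lit 1,nat_lit 4,nat_lit 1,nat_lit 1,nat_lit 4,nat_lit 2,nat_lit 5,nat_lit 6,nat_lit 5,nat_lit 2,nat_lit 4,nat_lit 0,nat_lit 0,nat_lit 4,nat_lit 1,nat_lit 1,nat_lit 6,nat_lit 0,nat_lit 0])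
 (.leaf [nat_lit 54,nat_lit 6,nat_lit 1,nat_lit 6,nat_lit 2,nat_lit 5,nat_lit 2,nat_lit 5,nat_lit 2,nat_lit 6,nat_lit 5,nat_lit 6,nat_lit 5,nat_lit 6,nat_lit 5])
)) (.node (.node (.leaf [nat_lit 14,nat_lit 13,nat_lit 1,nat_lit 4,nat_lit 2,nat_lit 1,nat_lit 1,nat_lit 2,nat_lit 0,nat_lit 3,nat_lit 2,nat_lit 3,nat_lit 0,nat_lit 4,nat_lit 2,nat_lit 4,nat_lit 1,nat_lit 2,nat_lit 0,nat_lit 2])
 (.leaf [nat_lit 68,nat_lit 17,nat_lit 1,nat_lit 1,nat_lit 5,nat_lit 6,nat_lit 4,nat_lit 6,nat_lit 0,nat_lit 0,nat_lit 2,nat_lit 0,nat_lit 2,nat_lit 0,nat_lit 0,nat_lit 2,nat_lit 1,nat_lit 1,nat_lit 1,nat_lit 2,nat_lit 1,nat_lit 3,nat_lit 0,nat_lit 0,nat_lit 2,nat_lit 1,nat_lit 1,nat_lit 1,nat_lit 4,nat_lit 5,nat_lit 1,nat_lit 1,nat_lit 3,nat_lit 6,nat_lit 3,nat_lit 0])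
) (.node (.leaf [nat_lit 16,nat_lit 11,nat_lit 0,nat_lit 4,nat_lit 1,nat_lit 1,nat_lit 4,nat_lit 1,nat_lit 4,nat_lit 0,nat_lit 4,nat_lit 3,nat_lit 0,nat_lit 0,nat_lit 0,nat_lit 3,nat_lit 1,nat_lit 3,nat_lit 2,nat_lit 1,nat_lit 1,nat_lit 2,nat_lit 0])
 (.leaf [nat_lit 68,nat_lit 22,nat_lit 0,nat_lit 5,nat_lit 4,nat_lit 0,nat_lit 0,nat_lit 0,nat_lit 2,nat_lit 1,nat_lit 1,nat_lit 3,nat_lit 0,nat_lit 2,nat_lit 0,nat_lit 0,nat_lit 0,nat_lit 2,nat_lit 1,nat_lit 1,nat_lit 2,nat_lit 1,nat_lit 2,nat_lit 1,nat_lit 1,nat_lit 6,nat_lit 4,nat_lit 6,nat_lit 5,nat_lit 1,nat_lit 1,nat_lit 3,nat_lit 6,nat_lit 3,nat_lit 0,nat_lit 0])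
))) (.node (.node (.node (.leaf [nat_lit 39,nat_lit 7,nat_lit 1,nat_lit 2,nat_lit 3,nat_lit 5,nat_lit 3,nat_lit 2,nat_lit 6,nat_lit 2,nat_lit 5,nat_lit 3,nat_lit 5,nat_lit 2,nat_lit 6])
 (.leaf [nat_lit 65,nat_lit 8,nat_lit 1,nat_lit 3,nat_lit 6,nat_lit 3,nat_lit 1,nat_lit 5,nat_lit 3,nat_lit 4,nat_lit 5,nat_lit 2,nat_lit 1,nat_lit 6,nat_lit 0,nat_lit 2,nat_lit 5,nat_lit 4,nat_lit 3,nat_lit 5,nat_lit 0])
) (.node (.leaf [nat_lit 16,nat_lit 4,nat_lit 1,nat_lit 1,nat_lit 4,nat_lit 0,nat_lit 0,nat_lit 4,nat_lit 1,nat_lit 2,nat_lit 0,nat_lit 0,nat_lit 2,nat_lit 3,nat_lit 0,nat_lit 3,nat_lit 1,nat_lit 1,nat_lit 1,nat_lit 3,nat_lit 4,nat_lit 1,nat_lit 4])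
 (.leaf [nat_lit 69,nat_lit 15,nat_lit 0,nat_lit 0,nat_lit 6,nat_lit 2,nat_lit 5,nat_lit 2,nat_lit 0,nat_lit 0,nat_lit 4,nat_lit 0,nat_lit 4,nat_lit 2,nat_lit 0,nat_lit 3,nat_lit 0,nat_lit 2,nat_lit 1,nat_lit 1,nat_lit 2,nat_lit 1,nat_lit 2,nat_lit 0,nat_lit 0,nat_lit 0,nat_lit 2,nat_lit 1,nat_lit 6,nat_lit 4,nat_lit 1,nat_lit 3,nat_lit 4,nat_lit 6,nat_lit 0,nat_lit 0,nat_lit 5,nat_lit 3])
)) (.node (.node (.leaf [nat_lit 14,nat_lit 6,nat_lit 1,nat_lit 4,nat_lit 2,nat_lit 4,nat_lit 1,nat_lit 2,nat_lit 0,nat_lit 2,nat_lit 4,nat_lit 2,nat_lit 1,nat_lit 1,nat_lit 2,nat_lit 0,nat_lit 3,nat_lit 2,nat_lit 3,nat_lit 0])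
 (.leaf [nat_lit 61,nat_lit 11,nat_lit 1,nat_lit 2,nat_lit 5,nat_lit 2,nat_lit 4,nat_lit 2,nat_lit 5,nat_lit 4,nat_lit 6,nat_lit 4,nat_lit 5,nat_lit 2,nat_lit 4,nat_lit 2,nat_lit 5,nat_lit 2,nat_lit 6])
) (.leaf [nat_lit 15,nat_lit 4,nat_lit 0,nat_lit 1,nat_lit 0,nat_lit 0,nat_lit 2,nat_lit 1,nat_lit 3,nat_lit 0,nat_lit 2,nat_lit 0,nat_lit 2,nat_lit 4,nat_lit 3,nat_lit 4,nat_lit 2,nat_lit 0,nat_lit 0,nat_lit 0,nat_lit 2])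
)))))))))

noncomputable def f42_U_subs : LT :=
(.leaf [nat_lit 0,nat_lit 0,nat_lit 0,nat_lit 7])


noncomputable def f42_U : TC :=
  ⟨fun x c => Nat.rec (nat_lit 0) (fun j _ => Nat.shiftRight (chunk f42_U_t (nat_lit 4) x j) (Nat.mul (nat_lit 49) (Nat.land c (nat_lit 255)))) (Nat.add (Nat.shiftRight c (nat_lit 8)) (nat_lit 1)),
  (nat_lit 17), (nat_lit 131071), (nat_lit 0xfffffffff), (nat_lit 36), (nat_lit 8191), (nat_lit 0xffffe0000), (nat_lit 69888), (nat_lit 69888), (nat_lit 7), (nat_lit 6), (nat_lit 7), (nat_lit 8), f42_inv, f42_U_rules, f42_U_subs⟩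

noncomputable def f42_A4 : LA :=
  ⟨(nat_lit 4), (nat_lit 0x1ffff3fffe7fffcffff9ffff3fffe7fffcffff9ffff3fffe7fffcffff9ffff3fffe7fffcffff9ffff3fffe7fffcffff9ffff3fffe7fffcffff9ffff3fffe7fffcffff9ffff3fffe7fffcffff9ffff3fffe7fffcffff9ffff3fffe7fffcffff9ffff), (nat_lit 131071), (nat_lit 71), (nat_lit 1), BT.get (.node (.node (.node (.leaf (nat_lit 0))
 (.leaf (nat_lit 0))
) (.node (.leaf (nat_lit 0))
 (.leaf (nat_lit 0x200000000000000000000000000000000000000000000000000000000000000000000000000000000000000000000000000000000000000000000000000000000000000000000000000000000000000000000000000000000000000000))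
)) (.node (.node (.leaf (nat_lit 0))
 (.leaf (nat_lit 0))
) (.leaf (nat_lit 0))
)), BT.get (.leaf (nat_lit 0x10000600000000000000000000000000000000000000000000000000000000000000000000000000000000000000000000000000000000000000000000000000000000000000000000000000000000000000000000000000000000000000000))
, BT.get (.leaf (nat_lit 2))
,
(.node (.node (.node (.node (.node (.node (.leaf [nat_lit 131072,nat_lit 196609,nat_lit 65539,nat_lit 131076,nat_lit 65541,nat_lit 196615,nat_lit 65549,nat_lit 65552,nat_lit 65556,nat_lit 196631,nat_lit 196632,nat_lit 196637,nat_lit 131102,nat_lit 131110,nat_lit 196648,nat_lit 196649,nat_lit 196650,nat_lit 131116,nat_lit 196653,nat_lit 196655,nat_lit 131120,nat_lit 196657,nat_lit 65586,nat_lit 65587,nat_lit 131124,nat_lit 131125,nat_lit 131126,nat_lit 131127,nat_lit 131129,nat_lit 131130,nat_lit 131131,nat_lit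 65597])
 (.leaf [nat_lit 131072,nat_lit 196609,nat_lit 196610,nat_lit 65539,nat_lit 131076,nat_lit 65541,nat_lit 65543,nat_lit 131081,nat_lit 196624,nat_lit 65556,nat_lit 65559,nat_lit 196632,nat_lit 131108,nat_lit 65576,nat_lit 196649,nat_lit 65578,nat_lit 131116,nat_lit 65581,nat_lit 196655,nat_lit 131120,nat_lit 131121,nat_lit 131122,nat_lit 196659,nat_lit 196660,nat_lit 131125,nat_lit 65593,nat_lit 131130,nat_lit 131131,nat_lit 131132,nat_lit 65597])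
) (.leaf [nat_lit 131073,nat_lit 196610,nat_lit 196611,nat_lit 65541,nat_lit 131079,nat_lit 131081,nat_lit 65552,nat_lit 65556,nat_lit 196631,nat_lit 196632,nat_lit 65564,nat_lit 131101,nat_lit 131102,nat_lit 131108,nat_lit 196648,nat_lit 196649,nat_lit 196650,nat_lit 131116,nat_lit 196653,nat_lit 196654,nat_lit 196655,nat_lit 131120,nat_lit 65586,nat_lit 65587,nat_lit 131124,nat_lit 131125,nat_lit 131129,nat_lit 131131,nat_lit 131132,nat_lit 65597])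
) (.node (.node (.leaf [nat_lit 131072,nat_lit 65537,nat_lit 196611,nat_lit 65541,nat_lit 131079,nat_lit 131081,nat_lit 196621,nat_lit 65552,nat_lit 65556,nat_lit 196631,nat_lit 196632,nat_lit 196637,nat_lit 65566,nat_lit 131108,nat_lit 196648,nat_lit 196649,nat_lit 196650,nat_lit 131116,nat_lit 196653,nat_lit 196655,nat_lit 131120,nat_lit 65585,nat_lit 65586,nat_lit 65587,nat_lit 131124,nat_lit 131125,nat_lit 131129,nat_lit 131131,nat_lit 131132,nat_lit 65597])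
 (.leaf [nat_lit 196679])
) (.leaf [nat_lit 131072,nat_lit 65537,nat_lit 196611,nat_lit 65541,nat_lit 196615,nat_lit 196616,nat_lit 131081,nat_lit 196621,nat_lit 65552,nat_lit 65556,nat_lit 196631,nat_lit 196632,nat_lit 196637,nat_lit 65566,nat_lit 131108,nat_lit 196648,nat_lit 196649,nat_lit 196650,nat_lit 131116,nat_lit 196653,nat_lit 196655,nat_lit 131120,nat_lit 65585,nat_lit 65586,nat_lit 65587,nat_lit 131124,nat_lit 131125,nat_lit 131129,nat_lit 131131,nat_lit 131132,nat_lit 65597])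
)) (.node (.node (.node (.leaf [nat_lit 131072,nat_lit 196609,nat_lit 65539,nat_lit 131076,nat_lit 65541,nat_lit 196615,nat_lit 65549,nat_lit 65552,nat_lit 65556,nat_lit 196631,nat_lit 196632,nat_lit 131102,nat_lit 131110,nat_lit 196648,nat_lit 196649,nat_lit 196650,nat_lit 131116,nat_lit 196653,nat_lit 196655,nat_lit 131120,nat_lit 196657,nat_lit 65586,nat_lit 65587,nat_lit 131124,nat_lit 131125,nat_lit 131126,nat_lit 131127,nat_lit 131129,nat_lit 131130,nat_lit 131131,nat_lit 65597])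
 (.leaf [nat_lit 65536,nat_lit 65537,nat_lit 196610,nat_lit 65539,nat_lit 131077,nat_lit 65543,nat_lit 131081,nat_lit 65549,nat_lit 65552,nat_lit 131092,nat_lit 131095,nat_lit 196637,nat_lit 196638,nat_lit 131108,nat_lit 131112,nat_lit 196650,nat_lit 196651,nat_lit 65581,nat_lit 131119,nat_lit 196656,nat_lit 131121,nat_lit 131123,nat_lit 65589,nat_lit 65590,nat_lit 196663,nat_lit 65592,nat_lit 196666,nat_lit 65595,nat_lit 131132,nat_lit 65600,nat_lit 65605])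
) (.leaf [nat_lit 196610,nat_lit 196611,nat_lit 65540,nat_lit 65541,nat_lit 65549,nat_lit 196628,nat_lit 196632,nat_lit 196636,nat_lit 131101,nat_lit 131102,nat_lit 196646,nat_lit 131112,nat_lit 65582,nat_lit 196655,nat_lit 196658,nat_lit 131126,nat_lit 196663,nat_lit 131129,nat_lit 65594,nat_lit 131131,nat_lit 65597])
) (.node (.leaf [nat_lit 65537,nat_lit 65538,nat_lit 131075,nat_lit 131076,nat_lit 65541,nat_lit 131081,nat_lit 65556,nat_lit 65559,nat_lit 196632,nat_lit 196636,nat_lit 131102,nat_lit 131108,nat_lit 131110,nat_lit 131116,nat_lit 65582,nat_lit 196655,nat_lit 131120,nat_lit 196657,nat_lit 65586,nat_lit 196659,nat_lit 131124,nat_lit 131125,nat_lit 131127,nat_lit 131129,nat_lit 131130,nat_lit 131131,nat_lit 131132,nat_lit 65597])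
 (.leaf [nat_lit 65536,nat_lit 196609,nat_lit 196610,nat_lit 131075,nat_lit 65541,nat_lit 65543,nat_lit 131081,nat_lit 131088,nat_lit 65556,nat_lit 196631,nat_lit 196632,nat_lit 65564,nat_lit 131101,nat_lit 131108,nat_lit 131112,nat_lit 196649,nat_lit 131114,nat_lit 131116,nat_lit 196653,nat_lit 196654,nat_lit 196655,nat_lit 131120,nat_lit 65585,nat_lit 65586,nat_lit 65587,nat_lit 131124,nat_lit 131125,nat_lit 131129,nat_lit 131131,nat_lit 131132,nat_lit 65597])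
))) (.node (.node (.node (.node (.leaf [nat_lit 131073,nat_lit 131077,nat_lit 131081,nat_lit 196621,nat_lit 196624,nat_lit 131092,nat_lit 131096,nat_lit 131100,nat_lit 131101,nat_lit 131102,nat_lit 131108,nat_lit 65578,nat_lit 131118,nat_lit 131119,nat_lit 131121,nat_lit 131122,nat_lit 131126,nat_lit 131132,nat_lit 131133])
 (.leaf [nat_lit 196608,nat_lit 131073,nat_lit 131074,nat_lit 131075,nat_lit 196612,nat_lit 65541,nat_lit 196615,nat_lit 65549,nat_lit 131088,nat_lit 196628,nat_lit 131095,nat_lit 196632,nat_lit 65564,nat_lit 131102,nat_lit 131113,nat_lit 131114,nat_lit 131117,nat_lit 196654,nat_lit 196655,nat_lit 131121,nat_lit 196658,nat_lit 131123,nat_lit 131126,nat_lit 65591,nat_lit 131129,nat_lit 196666,nat_lit 131131,nat_lit 65597])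
) (.leaf [nat_lit 196609,nat_lit 196610,nat_lit 65541,nat_lit 131079,nat_lit 131081,nat_lit 131085,nat_lit 131088,nat_lit 196631,nat_lit 196632,nat_lit 196636,nat_lit 131102,nat_lit 131108,nat_lit 131110,nat_lit 131112,nat_lit 131113,nat_lit 131114,nat_lit 131116,nat_lit 131117,nat_lit 65582,nat_lit 196655,nat_lit 65584,nat_lit 196657,nat_lit 65586,nat_lit 65587,nat_lit 131124,nat_lit 131125,nat_lit 131127,nat_lit 131129,nat_lit 131130,nat_lit 131131,nat_lit 131132,nat_lit 65597])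
) (.node (.leaf [nat_lit 65536,nat_lit 196609,nat_lit 131074,nat_lit 196611,nat_lit 131076,nat_lit 65541,nat_lit 131079,nat_lit 65549,nat_lit 65552,nat_lit 65556,nat_lit 196631,nat_lit 196632,nat_lit 131100,nat_lit 65565,nat_lit 196648,nat_lit 131113,nat_lit 196650,nat_lit 131116,nat_lit 196653,nat_lit 131118,nat_lit 196655,nat_lit 131120,nat_lit 196657,nat_lit 65586,nat_lit 65587,nat_lit 131124,nat_lit 131125,nat_lit 131126,nat_lit 131129,nat_lit 131131,nat_lit 65597])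
 (.leaf [nat_lit 196610,nat_lit 196611,nat_lit 131077,nat_lit 131080,nat_lit 131081,nat_lit 131085,nat_lit 131088,nat_lit 196628,nat_lit 131095,nat_lit 65564,nat_lit 131101,nat_lit 131102,nat_lit 131108,nat_lit 196646,nat_lit 65577,nat_lit 131114,nat_lit 131116,nat_lit 196653,nat_lit 196654,nat_lit 131119,nat_lit 131123,nat_lit 196661,nat_lit 196662,nat_lit 196663,nat_lit 65592,nat_lit 65593,nat_lit 65594,nat_lit 65595,nat_lit 131132,nat_lit 196670,nat_lit 196672,nat_lit 65601])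
)) (.node (.node (.node (.leaf [nat_lit 131072,nat_lit 65537,nat_lit 196611,nat_lit 65541,nat_lit 196615,nat_lit 131081,nat_lit 196621,nat_lit 65552,nat_lit 65556,nat_lit 196631,nat_lit 196632,nat_lit 196637,nat_lit 65566,nat_lit 131108,nat_lit 196648,nat_lit 196649,nat_lit 196650,nat_lit 131116,nat_lit 196653,nat_lit 196655,nat_lit 131120,nat_lit 65585,nat_lit 65586,nat_lit 65587,nat_lit 131124,nat_lit 131125,nat_lit 131129,nat_lit 131131,nat_lit 131132,nat_lit 65597])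
 (.leaf [nat_lit 65536,nat_lit 131073,nat_lit 131074,nat_lit 196611,nat_lit 65540,nat_lit 65541,nat_lit 196616,nat_lit 196617,nat_lit 65549,nat_lit 65552,nat_lit 196628,nat_lit 196631,nat_lit 65560,nat_lit 196636,nat_lit 196637,nat_lit 131102,nat_lit 65572,nat_lit 65576,nat_lit 131113,nat_lit 196650,nat_lit 65581,nat_lit 65582,nat_lit 196655,nat_lit 65585,nat_lit 196658,nat_lit 65587,nat_lit 196660,nat_lit 196661,nat_lit 131126,nat_lit 65591,nat_lit 65592,nat_lit 65593,nat_lit 131130,nat_lit 131131,nat_lit 196668,nat_lit 196669,nat_lit 65598,nat_lit 65600,nat_lit 65603])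
) (.leaf [nat_lit 65538,nat_lit 65539,nat_lit 131076,nat_lit 65541,nat_lit 131085,nat_lit 196624,nat_lit 196628,nat_lit 196631,nat_lit 196632,nat_lit 65564,nat_lit 131101,nat_lit 65566,nat_lit 131110,nat_lit 196648,nat_lit 196649,nat_lit 65578,nat_lit 131116,nat_lit 65581,nat_lit 196654,nat_lit 196655,nat_lit 196658,nat_lit 65587,nat_lit 131124,nat_lit 131126,nat_lit 131127,nat_lit 196664,nat_lit 131129,nat_lit 65594,nat_lit 196667,nat_lit 65597])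
) (.node (.leaf [nat_lit 131073,nat_lit 131075,nat_lit 65540,nat_lit 65541,nat_lit 65543,nat_lit 196621,nat_lit 131088,nat_lit 196628,nat_lit 196632,nat_lit 196637,nat_lit 131102,nat_lit 131110,nat_lit 131112,nat_lit 131113,nat_lit 131114,nat_lit 65579,nat_lit 196655,nat_lit 196658,nat_lit 131126,nat_lit 196663,nat_lit 131129,nat_lit 65594,nat_lit 131131,nat_lit 65597])
 (.leaf [nat_lit 131072,nat_lit 196612,nat_lit 65541,nat_lit 196615,nat_lit 65549,nat_lit 131088,nat_lit 196628,nat_lit 131095,nat_lit 196632,nat_lit 196637,nat_lit 131102,nat_lit 131110,nat_lit 131113,nat_lit 131114,nat_lit 131117,nat_lit 196655,nat_lit 131121,nat_lit 196658,nat_lit 131123,nat_lit 131126,nat_lit 65591,nat_lit 131129,nat_lit 196666,nat_lit 131131,nat_lit 65597])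
)))) (.node (.node (.node (.node (.node (.leaf [nat_lit 65536,nat_lit 196610,nat_lit 196611,nat_lit 65540,nat_lit 65541,nat_lit 65549,nat_lit 196628,nat_lit 196632,nat_lit 196636,nat_lit 131101,nat_lit 131102,nat_lit 196646,nat_lit 131112,nat_lit 65582,nat_lit 196655,nat_lit 196658,nat_lit 131126,nat_lit 196663,nat_lit 131129,nat_lit 65594,nat_lit 131131,nat_lit 65597])
 (.leaf [nat_lit 196609,nat_lit 196610,nat_lit 65539,nat_lit 65540,nat_lit 196613,nat_lit 65543,nat_lit 65552,nat_lit 65559,nat_lit 131096,nat_lit 131101,nat_lit 131102,nat_lit 196648,nat_lit 196649,nat_lit 196650,nat_lit 131116,nat_lit 196653,nat_lit 65583,nat_lit 131121,nat_lit 131122,nat_lit 196659,nat_lit 131127,nat_lit 131130,nat_lit 131133])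
) (.leaf [nat_lit 131072,nat_lit 196609,nat_lit 131074,nat_lit 65539,nat_lit 196612,nat_lit 131077,nat_lit 196615,nat_lit 196624,nat_lit 196631,nat_lit 131096,nat_lit 131101,nat_lit 131110,nat_lit 65576,nat_lit 65577,nat_lit 65578,nat_lit 131116,nat_lit 65581,nat_lit 131119,nat_lit 196657,nat_lit 131122,nat_lit 65587,nat_lit 131133])
) (.node (.leaf [nat_lit 131073,nat_lit 131075,nat_lit 65540,nat_lit 131079,nat_lit 131081,nat_lit 131085,nat_lit 131092,nat_lit 131095,nat_lit 196632,nat_lit 131101,nat_lit 131108,nat_lit 131120,nat_lit 131121,nat_lit 131123,nat_lit 131124,nat_lit 131125,nat_lit 131127,nat_lit 131129,nat_lit 131130,nat_lit 131131,nat_lit 131132,nat_lit 65597])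
 (.leaf [nat_lit 131072,nat_lit 131073,nat_lit 131075,nat_lit 131077,nat_lit 131085,nat_lit 131088,nat_lit 65556,nat_lit 131095,nat_lit 131096,nat_lit 131101,nat_lit 131112,nat_lit 131114,nat_lit 131117,nat_lit 131119,nat_lit 131121,nat_lit 131122,nat_lit 131123,nat_lit 196661,nat_lit 131133])
)) (.node (.node (.node (.leaf [nat_lit 131072,nat_lit 196609,nat_lit 196610,nat_lit 196611,nat_lit 131076,nat_lit 131077,nat_lit 196615,nat_lit 131081,nat_lit 65549,nat_lit 196624,nat_lit 65556,nat_lit 65559,nat_lit 196632,nat_lit 131100,nat_lit 131101,nat_lit 196638,nat_lit 131108,nat_lit 131110,nat_lit 65576,nat_lit 196649,nat_lit 65578,nat_lit 131116,nat_lit 65581,nat_lit 131118,nat_lit 131119,nat_lit 131120,nat_lit 131121,nat_lit 65586,nat_lit 196659,nat_lit 131124,nat_lit 131125,nat_lit 131127,nat_lit 196665,nat_lit 131131,nat_lit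 131132,nat_lit 65597])
 (.leaf [nat_lit 131072,nat_lit 131073,nat_lit 196612,nat_lit 131077,nat_lit 196617,nat_lit 196621,nat_lit 196624,nat_lit 196628,nat_lit 196631,nat_lit 196632,nat_lit 131100,nat_lit 196637,nat_lit 196638,nat_lit 65572,nat_lit 131112,nat_lit 65578,nat_lit 131118,nat_lit 131119,nat_lit 131121,nat_lit 196658,nat_lit 65587,nat_lit 131124,nat_lit 196661,nat_lit 65590,nat_lit 131129,nat_lit 196666,nat_lit 131131,nat_lit 196668,nat_lit 65597,nat_lit 196670,nat_lit 196673,nat_lit 131139])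
) (.leaf [nat_lit 196608,nat_lit 131075,nat_lit 65540,nat_lit 65543,nat_lit 131081,nat_lit 131088,nat_lit 196628,nat_lit 131095,nat_lit 196632,nat_lit 131100,nat_lit 196637,nat_lit 131102,nat_lit 131108,nat_lit 131110,nat_lit 131112,nat_lit 65577,nat_lit 131114,nat_lit 131117,nat_lit 131118,nat_lit 131120,nat_lit 131121,nat_lit 131123,nat_lit 65588,nat_lit 131125,nat_lit 196663,nat_lit 131129,nat_lit 131131,nat_lit 131132,nat_lit 65597,nat_lit 65598])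
) (.node (.leaf [nat_lit 131072,nat_lit 65539,nat_lit 131077,nat_lit 196615,nat_lit 65552,nat_lit 131092,nat_lit 131095,nat_lit 131096,nat_lit 65564,nat_lit 196637,nat_lit 131102,nat_lit 131110,nat_lit 196648,nat_lit 65577,nat_lit 196650,nat_lit 65580,nat_lit 65581,nat_lit 196654,nat_lit 131119,nat_lit 131121,nat_lit 131122,nat_lit 131123,nat_lit 131127,nat_lit 131130,nat_lit 131133])
 (.leaf [nat_lit 65536,nat_lit 65537,nat_lit 65538,nat_lit 65539,nat_lit 196613,nat_lit 131079,nat_lit 196621,nat_lit 196631,nat_lit 65560,nat_lit 131100,nat_lit 196637,nat_lit 131102,nat_lit 196646,nat_lit 65576,nat_lit 196651,nat_lit 131118,nat_lit 65583,nat_lit 131120,nat_lit 65587,nat_lit 131124,nat_lit 65589,nat_lit 65590,nat_lit 131127,nat_lit 196665,nat_lit 196666,nat_lit 196667,nat_lit 196669,nat_lit 196670,nat_lit 131136,nat_lit 65601,nat_lit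 196674])
))) (.node (.node (.node (.node (.leaf [nat_lit 196608,nat_lit 131073,nat_lit 65538,nat_lit 196611,nat_lit 196612,nat_lit 65541,nat_lit 196615,nat_lit 65549,nat_lit 131088,nat_lit 196628,nat_lit 131095,nat_lit 196632,nat_lit 65564,nat_lit 131102,nat_lit 131113,nat_lit 131114,nat_lit 131117,nat_lit 196654,nat_lit 196655,nat_lit 131121,nat_lit 196658,nat_lit 131123,nat_lit 131126,nat_lit 65591,nat_lit 131129,nat_lit 196666,nat_lit 131131,nat_lit 65597])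
 (.leaf [nat_lit 131074,nat_lit 196612,nat_lit 131077,nat_lit 131080,nat_lit 196617,nat_lit 131092,nat_lit 131096,nat_lit 65565,nat_lit 65566,nat_lit 65572,nat_lit 131110,nat_lit 131113,nat_lit 131119,nat_lit 131121,nat_lit 131122,nat_lit 131124,nat_lit 131125,nat_lit 131126,nat_lit 131127,nat_lit 131128,nat_lit 131129,nat_lit 196668,nat_lit 131133,nat_lit 131134,nat_lit 131136,nat_lit 131139])
) (.leaf [nat_lit 196608,nat_lit 196609,nat_lit 65539,nat_lit 131076,nat_lit 65541,nat_lit 131079,nat_lit 196621,nat_lit 196624,nat_lit 196628,nat_lit 196631,nat_lit 196632,nat_lit 196637,nat_lit 65576,nat_lit 131113,nat_lit 65578,nat_lit 131116,nat_lit 65581,nat_lit 196655,nat_lit 196657,nat_lit 65586,nat_lit 65587,nat_lit 131124,nat_lit 131125,nat_lit 131126,nat_lit 196664,nat_lit 131129,nat_lit 131130,nat_lit 131131,nat_lit 65597])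
) (.node (.leaf [nat_lit 131072,nat_lit 196609,nat_lit 196610,nat_lit 131076,nat_lit 196613,nat_lit 131080,nat_lit 65545,nat_lit 131085,nat_lit 196628,nat_lit 131095,nat_lit 196632,nat_lit 196636,nat_lit 196637,nat_lit 196638,nat_lit 196644,nat_lit 131113,nat_lit 65582,nat_lit 65583,nat_lit 131120,nat_lit 65585,nat_lit 65586,nat_lit 131123,nat_lit 196662,nat_lit 131127,nat_lit 131128,nat_lit 131131,nat_lit 65596,nat_lit 65597,nat_lit 131134,nat_lit 131136,nat_lit 131139])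
 (.leaf [nat_lit 65536,nat_lit 65537,nat_lit 65538,nat_lit 65539,nat_lit 131077,nat_lit 196615,nat_lit 196617,nat_lit 65549,nat_lit 196624,nat_lit 196628,nat_lit 65559,nat_lit 65565,nat_lit 196638,nat_lit 65572,nat_lit 65577,nat_lit 65578,nat_lit 65579,nat_lit 131116,nat_lit 131117,nat_lit 131119,nat_lit 65584,nat_lit 131121,nat_lit 65586,nat_lit 196659,nat_lit 131124,nat_lit 131125,nat_lit 131126,nat_lit 131127,nat_lit 65594,nat_lit 65595,nat_lit 196668,nat_lit 196670,nat_lit 65600,nat_lit 65601,nat_lit 196675,nat_lit 196676])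
)) (.node (.node (.node (.leaf [nat_lit 131072,nat_lit 131073,nat_lit 131075,nat_lit 131077,nat_lit 131085,nat_lit 131088,nat_lit 131092,nat_lit 131095,nat_lit 131096,nat_lit 131101,nat_lit 131112,nat_lit 131114,nat_lit 131117,nat_lit 131119,nat_lit 131121,nat_lit 131122,nat_lit 131123,nat_lit 196661,nat_lit 131133])
 (.leaf [])
) (.leaf [nat_lit 65536,nat_lit 196609,nat_lit 196610,nat_lit 196611,nat_lit 65540,nat_lit 65541,nat_lit 65549,nat_lit 196628,nat_lit 196632,nat_lit 196636,nat_lit 131101,nat_lit 131102,nat_lit 196646,nat_lit 131112,nat_lit 65582,nat_lit 196655,nat_lit 196658,nat_lit 131126,nat_lit 196663,nat_lit 131129,nat_lit 65594,nat_lit 131131,nat_lit 65597])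
) (.node (.leaf [nat_lit 196608,nat_lit 65537,nat_lit 131074,nat_lit 196611,nat_lit 131076,nat_lit 196613,nat_lit 65549,nat_lit 196624,nat_lit 196628,nat_lit 196631,nat_lit 196632,nat_lit 196637,nat_lit 131102,nat_lit 196648,nat_lit 65578,nat_lit 131116,nat_lit 65581,nat_lit 65583,nat_lit 196657,nat_lit 65586,nat_lit 65587,nat_lit 131126,nat_lit 131129,nat_lit 196666,nat_lit 131131,nat_lit 65597])
 (.leaf [nat_lit 65536,nat_lit 131073,nat_lit 65538,nat_lit 65539,nat_lit 196612,nat_lit 196613,nat_lit 196624,nat_lit 131092,nat_lit 131095,nat_lit 196632,nat_lit 196636,nat_lit 196637,nat_lit 196638,nat_lit 131110,nat_lit 65578,nat_lit 131116,nat_lit 65582,nat_lit 65583,nat_lit 131120,nat_lit 65586,nat_lit 131123,nat_lit 65588,nat_lit 131126,nat_lit 196663,nat_lit 131128,nat_lit 65593,nat_lit 196667,nat_lit 65597,nat_lit 196671])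
))))),
(.leaf [nat_lit 65537,nat_lit 196610,nat_lit 65539,nat_lit 196612,nat_lit 65541,nat_lit 196615,nat_lit 131080,nat_lit 131081,nat_lit 131085,nat_lit 65552,nat_lit 131092,nat_lit 131095,nat_lit 65560,nat_lit 131100,nat_lit 196637,nat_lit 131108,nat_lit 131110,nat_lit 65576,nat_lit 131113,nat_lit 196650,nat_lit 131115,nat_lit 196653,nat_lit 131118,nat_lit 196655,nat_lit 131120,nat_lit 196658,nat_lit 131123,nat_lit 65588,nat_lit 65589,nat_lit 65590,nat_lit 131127,nat_lit 196665,nat_lit 65594,nat_lit 131131,nat_lit 131132,nat_lit 196669,nat_lit 196671,nat_lit 131136,nat_lit 65601,nat_lit 196674,nat_lit 196676,nat_lit 196677,nat_lit 196678])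
⟩

noncomputable def f42_A3 : LA :=
  ⟨(nat_lit 3), (nat_lit 0x1ffff3fffe7fffcffff9ffff3fffe7fffcffff9ffff3fffe7fffcffff9ffff3fffe7fffcffff9ffff3fffe7fffcffff9ffff3fffe7fffcffff9ffff3fffe7fffcffff9ffff3fffe7fffcffff9ffff3fffe7fffcffff9ffff3fffe7fffcffff9ffff), (nat_lit 131071), (nat_lit 71), (nat_lit 0), BT.get (.node (.node (.node (.leaf (nat_lit 0))
 (.leaf (nat_lit 0))
) (.node (.leaf (nat_lit 0))
 (.leaf (nat_lit 0x1))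
)) (.node (.node (.leaf (nat_lit 0))
 (.leaf (nat_lit 0))
) (.leaf (nat_lit 0))
)), BT.get (.leaf (nat_lit 0)), BT.get (.leaf (nat_lit 0)),
(.node (.node (.node (.node (.node (.node (.leaf [])
 (.leaf [nat_lit 65569])
) (.leaf [nat_lit 131090])
) (.node (.node (.leaf [nat_lit 131079,nat_lit 131081])
 (.leaf [nat_lit 65537,nat_lit 65538,nat_lit 65539,nat_lit 131077,nat_lit 65542,nat_lit 65543,nat_lit 131082,nat_lit 65547,nat_lit 131084,nat_lit 65550,nat_lit 131087,nat_lit 131088,nat_lit 131089,nat_lit 131090,nat_lit 131091,nat_lit 131092,nat_lit 131093,nat_lit 65558,nat_lit 131095,nat_lit 65560,nat_lit 131098,nat_lit 65567,nat_lit 131105,nat_lit 65570,nat_lit 131109,nat_lit 131111,nat_lit 131126,nat_lit 131142])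
) (.leaf [nat_lit 131080,nat_lit 131081])
)) (.node (.node (.node (.leaf [nat_lit 131078])
 (.leaf [nat_lit 65573])
) (.leaf [nat_lit 131072,nat_lit 131074])
) (.node (.leaf [nat_lit 131087])
 (.leaf [nat_lit 131095])
))) (.node (.node (.node (.node (.leaf [nat_lit 131084])
 (.leaf [nat_lit 65538,nat_lit 131075,nat_lit 131076])
) (.leaf [nat_lit 131083])
) (.node (.leaf [nat_lit 131082])
 (.leaf [nat_lit 65560])
)) (.node (.node (.node (.leaf [nat_lit 131081])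
 (.leaf [nat_lit 65572])
) (.leaf [nat_lit 65568])
) (.node (.leaf [nat_lit 131088])
 (.leaf [nat_lit 131097])
)))) (.node (.node (.node (.node (.node (.leaf [nat_lit 131074])
 (.leaf [nat_lit 131099])
) (.leaf [nat_lit 131100])
) (.node (.leaf [nat_lit 65549,nat_lit 131086])
 (.leaf [nat_lit 131092,nat_lit 131093])
)) (.node (.node (.node (.leaf [nat_lit 131077])
 (.leaf [nat_lit 65575])
) (.leaf [nat_lit 65558])
) (.node (.leaf [nat_lit 131098])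
 (.leaf [nat_lit 65571])
))) (.node (.node (.node (.node (.leaf [nat_lit 131076])
 (.leaf [nat_lit 131079,nat_lit 131085,nat_lit 131090,nat_lit 65563,nat_lit 131100,nat_lit 131126])
) (.leaf [nat_lit 131091])
) (.node (.leaf [nat_lit 131085])
 (.leaf [nat_lit 65570])
)) (.node (.node (.node (.leaf [nat_lit 131093])
 (.leaf [nat_lit 65536,nat_lit 131074,nat_lit 65543,nat_lit 131081,nat_lit 131082,nat_lit 131083,nat_lit 65550,nat_lit 65553,nat_lit 65554,nat_lit 65555,nat_lit 65556,nat_lit 131096,nat_lit 65563,nat_lit 131100,nat_lit 65568,nat_lit 65569,nat_lit 65590,nat_lit 131133])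
) (.leaf [nat_lit 131073,nat_lit 131074])
) (.node (.leaf [nat_lit 131089])
 (.leaf [nat_lit 65567])
))))),
(.leaf [])⟩

noncomputable def f42_A5 : LA :=
  ⟨(nat_lit 5), (nat_lit 0xffff1fffe3fffc7fff8ffff1fffe3fffc7fff8ffff1fffe3fffc7fff8ffff1fffe3fffc7fff8ffff1fffe3fffc7fff8ffff1fffe3fffc7fff8ffff1fffe3fffc7fff8ffff1fffe3fffc7fff8ffff1fffe3fffc7fff8ffff1fffe3fffc7fff8ffff), (nat_lit 65535), (nat_lit 71), (nat_lit 0), BT.get (.node (.node (.node (.leaf (nat_lit 0))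
 (.leaf (nat_lit 0))
) (.node (.leaf (nat_lit 0))
 (.leaf (nat_lit 0x2))
)) (.node (.node (.leaf (nat_lit 0))
 (.leaf (nat_lit 0))
) (.leaf (nat_lit 0))
)), BT.get (.leaf (nat_lit 0)), BT.get (.leaf (nat_lit 0)),
(.node (.node (.node (.node (.node (.node (.leaf [])
 (.leaf [nat_lit 131105])
) (.leaf [nat_lit 196626])
) (.node (.node (.leaf [nat_lit 262151,nat_lit 196617])
 (.leaf [nat_lit 131073,nat_lit 65538,nat_lit 65539,nat_lit 196612,nat_lit 262149,nat_lit 131078,nat_lit 262152,nat_lit 131081,nat_lit 65546,nat_lit 65548,nat_lit 196621,nat_lit 131086,nat_lit 65552,nat_lit 65553,nat_lit 196626,nat_lit 131091,nat_lit 262164,nat_lit 131093,nat_lit 196631,nat_lit 65561,nat_lit 196634,nat_lit 196635,nat_lit 196636,nat_lit 131103,nat_lit 131104,nat_lit 65569,nat_lit 196643,nat_lit 196644,nat_lit 262181,nat_lit 262183,nat_lit 131126,nat_lit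 196678])
) (.leaf [nat_lit 262152,nat_lit 196617])
)) (.node (.node (.node (.leaf [nat_lit 196614])
 (.leaf [nat_lit 131109])
) (.leaf [nat_lit 262144,nat_lit 196610])
) (.node (.leaf [nat_lit 196623])
 (.leaf [nat_lit 196631])
))) (.node (.node (.node (.node (.leaf [nat_lit 196620])
 (.leaf [nat_lit 65538,nat_lit 262147,nat_lit 196612])
) (.leaf [nat_lit 196619])
) (.node (.leaf [nat_lit 196618])
 (.leaf [nat_lit 131096])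
)) (.node (.node (.node (.leaf [nat_lit 196617])
 (.leaf [nat_lit 131108])
) (.leaf [nat_lit 131104])
) (.node (.leaf [nat_lit 196624])
 (.leaf [nat_lit 196633])
)))) (.node (.node (.node (.node (.node (.leaf [nat_lit 196610])
 (.leaf [nat_lit 196635])
) (.leaf [nat_lit 196636])
) (.node (.leaf [nat_lit 131085,nat_lit 196622])
 (.leaf [nat_lit 262164,nat_lit 196629])
)) (.node (.node (.node (.leaf [nat_lit 196613])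
 (.leaf [nat_lit 131111])
) (.leaf [nat_lit 131094])
) (.node (.leaf [nat_lit 196634])
 (.leaf [nat_lit 131107])
))) (.node (.node (.node (.node (.leaf [nat_lit 196612])
 (.leaf [nat_lit 262151,nat_lit 196621,nat_lit 196626,nat_lit 65563,nat_lit 196636,nat_lit 262198])
) (.leaf [nat_lit 196627])
) (.node (.leaf [nat_lit 196621])
 (.leaf [nat_lit 131106])
)) (.node (.node (.node (.leaf [nat_lit 196629])
 (.leaf [nat_lit 65536,nat_lit 262146,nat_lit 131081,nat_lit 262154,nat_lit 196619,nat_lit 196621,nat_lit 262158,nat_lit 131089,nat_lit 65554,nat_lit 131091,nat_lit 65556,nat_lit 65557,nat_lit 196632,nat_lit 131099,nat_lit 196636,nat_lit 131104,nat_lit 131105,nat_lit 65590,nat_lit 196669])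
) (.leaf [nat_lit 262145,nat_lit 196610])
) (.node (.leaf [nat_lit 196625])
 (.leaf [nat_lit 131103])
))))),
(.leaf [])⟩

noncomputable def f42_A7 : LA :=
  ⟨(nat_lit 7), (nat_lit 0xffff1fffe3fffc7fff8ffff1fffe3fffc7fff8ffff1fffe3fffc7fff8ffff1fffe3fffc7fff8ffff1fffe3fffc7fff8ffff1fffe3fffc7fff8ffff1fffe3fffc7fff8ffff1fffe3fffc7fff8ffff1fffe3fffc7fff8ffff1fffe3fffc7fff8ffff), (nat_lit 65535), (nat_lit 71), (nat_lit 0), BT.get (.node (.node (.node (.leaf (nat_lit 0))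
 (.leaf (nat_lit 0))
) (.node (.leaf (nat_lit 0))
 (.leaf (nat_lit 0x3))
)) (.node (.node (.leaf (nat_lit 0))
 (.leaf (nat_lit 0))
) (.leaf (nat_lit 0))
)), BT.get (.leaf (nat_lit 0)), BT.get (.leaf (nat_lit 0)),
(.node (.node (.node (.node (.node (.node (.leaf [])
 (.leaf [nat_lit 196641])
) (.leaf [nat_lit 262162])
) (.node (.node (.leaf [nat_lit 393223,nat_lit 262153])
 (.leaf [nat_lit 393216,nat_lit 131073,nat_lit 393218,nat_lit 196612,nat_lit 196613,nat_lit 196614,nat_lit 65544,nat_lit 327689,nat_lit 196618,nat_lit 262155,nat_lit 262157,nat_lit 131086,nat_lit 131087,nat_lit 65552,nat_lit 65553,nat_lit 196626,nat_lit 196627,nat_lit 65556,nat_lit 196630,nat_lit 327703,nat_lit 393240,nat_lit 196633,nat_lit 196634,nat_lit 393247,nat_lit 393248,nat_lit 327713,nat_lit 65571,nat_lit 65572,nat_lit 65573,nat_lit 262198,nat_lit 262214])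
) (.leaf [nat_lit 393224,nat_lit 262153])
)) (.node (.node (.node (.leaf [nat_lit 262150])
 (.leaf [nat_lit 196645])
) (.leaf [nat_lit 393216,nat_lit 262146])
) (.node (.leaf [nat_lit 262159])
 (.leaf [nat_lit 262167])
))) (.node (.node (.node (.node (.leaf [nat_lit 262156])
 (.leaf [nat_lit 65538,nat_lit 393219,nat_lit 262148])
) (.leaf [nat_lit 262155])
) (.node (.leaf [nat_lit 262154])
 (.leaf [nat_lit 196632])
)) (.node (.node (.node (.leaf [nat_lit 262153])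
 (.leaf [nat_lit 196644])
) (.leaf [nat_lit 196640])
) (.node (.leaf [nat_lit 262160])
 (.leaf [nat_lit 262169])
)))) (.node (.node (.node (.node (.node (.leaf [nat_lit 262146])
 (.leaf [nat_lit 262171])
) (.leaf [nat_lit 262172])
) (.node (.leaf [nat_lit 196621,nat_lit 262158])
 (.leaf [nat_lit 393236,nat_lit 262165])
)) (.node (.node (.node (.leaf [nat_lit 262149])
 (.leaf [nat_lit 196647])
) (.leaf [nat_lit 196630])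
) (.node (.leaf [nat_lit 262170])
 (.leaf [nat_lit 196643])
))) (.node (.node (.node (.node (.leaf [nat_lit 262148])
 (.leaf [nat_lit 393223,nat_lit 262157,nat_lit 262162,nat_lit 65563,nat_lit 262172,nat_lit 393270])
) (.leaf [nat_lit 262163])
) (.node (.leaf [nat_lit 262157])
 (.leaf [nat_lit 196642])
)) (.node (.node (.node (.leaf [nat_lit 262165])
 (.leaf [nat_lit 65536,nat_lit 393218,nat_lit 131079,nat_lit 131081,nat_lit 393226,nat_lit 262155,nat_lit 65549,nat_lit 131086,nat_lit 196625,nat_lit 65554,nat_lit 196627,nat_lit 65556,nat_lit 131093,nat_lit 262168,nat_lit 196635,nat_lit 262172,nat_lit 196640,nat_lit 196641,nat_lit 65590,nat_lit 262205])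
) (.leaf [nat_lit 393217,nat_lit 262146])
) (.node (.leaf [nat_lit 262161])
 (.leaf [nat_lit 196639])
))))),
(.leaf [])⟩

end Cfsg.Agent.Spor.MX
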