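import Mathlib
import Cfsg.Agent.Spor.MX.G24
import Cfsg.Agent.Spor.MX.Link
import Cfsg.Agent.Spor.J2.Main

/-! Generated by tools/mx: letters in J2 -/

set_option autoImplicit false
set_option maxRecDepth 100000
set_option linter.unusedVariables false
set_option exponentiation.threshold 100000

namespace Cfsg.Agent.Spor.MX

open Cfsg.Agent.Spor

universe u

noncomputable def j2m_gc : BT :=
(.node (.node (.leaf (nat_lit 0x200840008001000200800108000004200840108000000200840108000004200840008020004000040000001004200000108000004000840008001004000040008000))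
 (.leaf (nat_lit 0x4200840108021004000840108021000200840100021004200840000000000000000100020004200040000000000200040100000000200000000020000000040108000))
) (.node (.leaf (nat_lit 0x800008021000000800100001004000000108001004200040108000000200000100001000000800100020000200000100001004200000000021004200000008020))
 (.leaf (nat_lit 0x4200040008001004200040008020000000800000020004200800000021004200840108020000000000000001004200800000001000200040000000004200040100000))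
))

noncomputable def j2m_ws : LT :=
(.node (.node (.leaf [nat_lit 0,nat_lit 2,nat_lit 3,nat_lit 0,nat_lit 3,nat_lit 2,nat_lit 0,nat_lit 3,nat_lit 1,nat_lit 0,nat_lit 3,nat_lit 2,nat_lit 3,nat_lit 1])
 (.leaf [nat_lit 3,nat_lit 1,nat_lit 0,nat_lit 3,nat_lit 2,nat_lit 3,nat_lit 0,nat_lit 1,nat_lit 3])
) (.node (.leaf [nat_lit 1,nat_lit 3,nat_lit 1,nat_lit 2,nat_lit 3,nat_lit 2,nat_lit 1,nat_lit 2,nat_lit 3,nat_lit 0,nat_lit 1,nat_lit 3])
 (.leaf [nat_lit 0,nat_lit 2,nat_lit 0,nat_lit 3,nat_lit 2,nat_lit 0,nat_lit 1,nat_lit 2,nat_lit 3,nat_lit 1])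
))

noncomputable def j2m_back : LT :=
(.node (.node (.leaf [nat_lit 0,nat_lit 0,nat_lit 2,nat_lit 0,nat_lit 0,nat_lit 2,nat_lit 0,nat_lit 2,nat_lit 0,nat_lit 3,nat_lit 0,nat_lit 0,nat_lit 2,nat_lit 1,nat_lit 1])
 (.leaf [nat_lit 1,nat_lit 2,nat_lit 0,nat_lit 0,nat_lit 2,nat_lit 1,nat_lit 1,nat_lit 2,nat_lit 0])
) (.node (.leaf [nat_lit 0,nat_lit 0,nat_lit 0,nat_lit 2,nat_lit 1,nat_lit 1,nat_lit 2,nat_lit 0,nat_lit 2,nat_lit 3,nat_lit 2,nat_lit 1,nat_lit 2,nat_lit 1])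
 (.leaf [nat_lit 1,nat_lit 2,nat_lit 0,nat_lit 3,nat_lit 1,nat_lit 2,nat_lit 0])
))

noncomputable def j2m_Z : List ℕ := [NM.F4x6.one]

theorem j2m_w : wordsB NM.F4x6.mul NM.F4x6.one MJ2.sc j2m_gc.get 4 4 j2m_ws = true := by decide +kernel

theorem j2m_b0 : allRange (nat_lit 0) (nat_lit 4) (backZ NM.F4x6.mul NM.F4x6.one j2m_Z MJ2.sc j2m_gc.get 4 j2m_back) = true := by decide +kernel

theorem j2m_r : j2_rels.all (fun u => eqZ NM.F4x6.mul NM.F4x6.one j2m_Z j2m_gc.get 4 u []) = true := by decide +kernel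

theorem j2m_c0 : eqZ NM.F4x6.mul NM.F4x6.one j2m_Z j2m_gc.get 4 (appL [0, 2, 1, 2, 0, 0, 2, 0, 2, 3, 0, 3, 2, 0, 0] [0, 2, 1, 2, 0, 0, 0, 2, 1, 2, 1, 2, 3, 1, 1]) (appL [0, 2, 1, 2, 0, 0, 0, 2, 1, 2, 1, 2, 3, 1, 1] [0, 2, 1, 2, 0, 0, 2, 0, 2, 3, 0, 3, 2, 0, 0]) = true := by decide +kernel

theorem j2m_link : Link MJ2.M MJ2.emb (MonoidHom.id _) j2m_Z MJ2.g MJ2.sc 4 :=
  link_of_injective MJ2.emb_injective fun x hx => ⟨MJ2.lets_s x hx, (MJ2.emb_g hx).symm⟩

theorem j2m_gen : Gen ⊤ (fun x => MonoidHom.id _ (evalW MJ2.g (j2m_ws.get x))) j2_rels 4 604800 :=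
  j2m_link.gen MJ2.gen_g (Subgroup.card_top.trans MJ2.card_J2) j2m_w (range_append _ (allLt_of_zero _) j2m_b0 rfl) j2m_r


end Cfsg.Agent.Spor.MX
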