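import Mathlib
import Cfsg.Agent.Spor.MX.O73
import Cfsg.Agent.Spor.MX.O73Ch
import Cfsg.Agent.Spor.MX.ClLink

/-! Generated by tools/mx: letters in O7(3) -/

set_option autoImplicit false
set_option maxRecDepth 100000
set_option linter.unusedVariables false
set_option exponentiation.threshold 100000

namespace Cfsg.Agent.Spor.MX

open Cfsg.Agent.Spor

universe u

noncomputable def o7k_M : ℕ → ℕ := BT.get (.node (.leaf (nat_lit 0x2020100010002010002000201010000010201000000010200010202020200020200020201000100020101010102010002))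
   (.leaf (nat_lit 0x20100020200000001020200000202020200010001010000000200010002020002000002020101020000000000000001))
  )

noncomputable def o7k_P : ℕ → ℕ := getP (nat_lit 56) (nat_lit 72057594037927935) (nat_lit 0x20202020201010102020202010200020202020101020102020201020101020202010000010202020102020002020201000100020202010100000202020100020201020201020102010202010100020102020102020101020201010101010202010000010102020101020001020201000100010202010200000102020102020200020201010202000202010002020002020102000100020201010001000202010000010002020102010000020201010100000202010001000002020101020202010201000102020102010200020201020102020102010201010101020102010000010201020100020002010201020100020102010100000201020102020201010201000102010102010100020101020101020101010201020101010102010000010101020100020001010201010100010102010200000101020102010200010201010102000102010001020001020102000100010201010001000102010000010001020102020000010201010200000102010002000001020102020202000201020102020002010200020200020100020102000201000101020002010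000010200020101020002000201010100020002010100000200020101020201000201010102010002010100020100020100020101000201000101010002010000010100020102020001000201020100010002010200000100020102020100000201010201000002010002010000020102010100000201010101000002010001010000020102000100000201010001000002010000010000020101020202020101020102020201010000020202010100020102020101010101020201010200010202010102020002020101000100020201010100000202010102020201020101010102010201010000020102010100020101020101020101010201010100010102010101020001020101000100010201010200000102010102000200020101010002000201010000020002010102020100020101010201000201010002010002010102010000020101010100000201010001000002010102020202010101010102020101010000020201010101020102010101000101020101010200010201010100020002010101020100020101010100000201010101020201010101020102010101010000020101010102020101010101000101010101010100010101010100020001010101010100010101010200000101010102000200010101010002000101010000020001010102010100010101010101000101010001010001010102020000010101010200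000101010002000001010100020202000101000102020001010000020200010102020102000101020101020001010200010200010101020002000101010100020001010100000200010100020201000101000102010001010000020100010101020101000101010101010001010100010100010102020001000101020100010001010200000100010102020200000101010202000001010002020000010102010200000101010102000001010001020000010102000200000101010002000001010000020000010102020202020001000102020200010100020202000102020102020001000101020200010100010202000102020002020001000100020200010100000202000101020201020001000102010200010200020102000101020101020001000101010200010200010102000101020001020001000100010200010200000102000102010200020001010102000200010001020002000102010100020001010101000200010001010002000102010000020001010100000200010001000002000100020202010001020102020100010100020201000100020102010001020101020100010100010201000100020002010001020100020100010100000201000100020201010001010102010100010200020101000100020101010001010101010100010200010101000100020001010001010100010100010200000101000102020200010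001010202000100010002020001000102020100010001010201000100010002010001000102020000010001010200000100010002000001000101020202000001010102020000010100020200000101020102000001010101020000010100010200000101020002000001010100020000010100000200000102020201000001020102010000010200020100000102020101000001020101010000010200010100000102020001000001020100010000010200000100000100020202020100010102020201000200020202010002020102020100000101020201000100010202010001020002020100020100020201000000000202010000020201020100020102010201000100020102010001020101020100000101010201000200010102010002020001020100010100010201000000000102010002020200020100010202000201000002020002010002010100020100010101000201000001010002010002000000020100010000000201000000000002010001020202010100000102020101000200020201010000020102010100020101020101000100010201010002020002010100010100020101000000000201010002020201010100000102010101000100020101010000020101010100010101010101000200010101010001020001010100020100010101000000000101010002010200010100010102000101000001020001010002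020100010100010201000101000002010001010002000000010100010000000101000000000001010002020202000100020102020001000200020200010001020102000100010101020001000100010200010000020002000100000100020001000000000200010001020201000100010102010001000100020100010002020101000100020101010001000200010100010000020001000100000100010001000000000100010002020000000100010200000001000002000000010002010000000100010100000001000001000000010002000000000100010000000001000000000000010002020202010000010102020100000000020201000002020102010000010101020100000000010201000002020002010000010100020100000000000201000001020201010000020102010100000000020101000001020101010000020101010100000000010101000001020001010000020100010100000000000101000002000200010000010002000100000000020001000002000100010000010001000100000000010001000002000000010000010000000100000000000001000000020201000000000102010000000000020100000000020101000000000101010000000000010100000000020001000000000100010000000000000100000002020100000000010201000000000002010000000002010100000000010101000000000001010000000002000100000000010001000000000000010000000002010000000000010100000000000001000000000001000000000000)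

noncomputable def o7k_A : ℕ → ℕ → ℕ := tabS (.node (.leaf (nat_lit 0x2122111221222211121221121222121122122221211112112211121211212211211122111221212121112222111121122122112211121222111121111111111221221121222111212112122122121221212221111122111222121212121122211222121212221111212121222121121211122212121112222212212112112111211121222111122122211211212211211122112211121221121121212122211222122221112112121221211212111222121121212211))
   (.leaf (nat_lit 0x1111111111111111111111111111111111111111111111111111111111111111111111111111111111111111111111111111111111111111111111111111111111111111111111111111111111111111111111111111111111111111111111111111111111111111111111111111111111111111112211121221222112122112221111212112121121222212112211222121222112112121211221112222212121211212112122221121112121212211221112222221))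
  ) (nat_lit 4) (nat_lit 15)

noncomputable def o7k_R : ℕ → ℕ := BT.get (.node (.node (.leaf (nat_lit 0x2000000000000000202000102000100010002000000000202000101000000000200000200000002010002000000000001))
   (.leaf (nat_lit 0x1010002010000010200010101000201010001020002010001010200010100010201000000000000010000000000000001))
  ) (.node (.leaf (nat_lit 0x2010102010001010102010201020102010001010002020202010102020202010102020202020102010201010102010002))
   (.leaf (nat_lit 0x201020000000001020200000000010000000002010100000000010100000000000100010201010000000000000001))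
  ))

noncomputable def o7k_C : ℕ → ℕ := BT.get (.node (.leaf (nat_lit 0x1020201020002010000020202010101000101020200020001010202010101020201010102020100020202000000000001))
   (.leaf (nat_lit 0x2000200010000010200010101000001020202020002020202020200020002020201000100010201010000000000000001))
  )

/-- The generators. -/
noncomputable def o7k_a : ℕ → POmega Cl.GF3 (quadFormOdd 3 Cl.GF3) := fun x => QuotientGroup.mk (PM.pick (oddEps 3) (PM.omRep Cl.GF3 (Cl.quad_odd 3 Cl.GF3)) (o7k_M x))

/-- The points. -/
noncomputable def o7k_e : ℕ → Submodule Cl.GF3 (Unit ⊕ (Fin 3 ⊕ Fin 3) → Cl.GF3) := fun i => PM.ptOf Cl.gf3 (oddEps 3) (o7k_P i)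

/-- The strong letters. -/
noncomputable def o7k_k : ℕ → POmega Cl.GF3 (quadFormOdd 3 Cl.GF3) := o7k_g o7k_a

noncomputable def o7m_ws : LT :=
(.node (.node (.node (.leaf [nat_lit 0,nat_lit 10,nat_lit 11,nat_lit 6,nat_lit 8,nat_lit 10,nat_lit 9,nat_lit 6,nat_lit 8,nat_lit 6,nat_lit 3,nat_lit 0,nat_lit 4,nat_lit 0,nat_lit 3])
 (.leaf [nat_lit 12,nat_lit 8,nat_lit 13,nat_lit 10,nat_lit 2,nat_lit 0,nat_lit 10,nat_lit 6,nat_lit 7,nat_lit 7,nat_lit 5,nat_lit 3,nat_lit 1,nat_lit 4,nat_lit 0,nat_lit 2])
) (.leaf [nat_lit 1,nat_lit 9,nat_lit 13,nat_lit 1,nat_lit 10,nat_lit 1,nat_lit 10,nat_lit 9,nat_lit 3,nat_lit 8,nat_lit 6,nat_lit 0,nat_lit 5,nat_lit 0,nat_lit 2])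
) (.node (.leaf [nat_lit 12,nat_lit 4,nat_lit 2,nat_lit 8,nat_lit 10,nat_lit 8,nat_lit 5,nat_lit 1,nat_lit 7,nat_lit 4,nat_lit 1,nat_lit 2])
 (.leaf [nat_lit 10,nat_lit 9,nat_lit 2,nat_lit 10,nat_lit 9,nat_lit 6,nat_lit 5,nat_lit 7,nat_lit 6,nat_lit 2,nat_lit 5])
))

noncomputable def o7m_back : LT :=
(.node (.node (.node (.node (.leaf [nat_lit 0,nat_lit 0,nat_lit 0,nat_lit 2,nat_lit 0,nat_lit 0,nat_lit 2,nat_lit 4,nat_lit 0,nat_lit 3,nat_lit 1,nat_lit 4,nat_lit 2,nat_lit 0,nat_lit 0])
 (.leaf [nat_lit 2,nat_lit 1,nat_lit 1,nat_lit 1,nat_lit 2,nat_lit 1,nat_lit 1,nat_lit 1,nat_lit 2,nat_lit 1,nat_lit 1,nat_lit 2,nat_lit 1,nat_lit 3,nat_lit 1,nat_lit 2,nat_lit 3,nat_lit 1,nat_lit 2,nat_lit 1,nat_lit 4,nat_lit 3,nat_lit 4,nat_lit 2,nat_lit 0,nat_lit 4,nat_lit 2,nat_lit 3,nat_lit 1])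
) (.node (.leaf [nat_lit 1,nat_lit 1,nat_lit 1,nat_lit 2,nat_lit 0,nat_lit 2,nat_lit 0,nat_lit 0,nat_lit 2,nat_lit 0,nat_lit 2,nat_lit 0,nat_lit 0,nat_lit 0,nat_lit 2,nat_lit 1,nat_lit 1,nat_lit 1,nat_lit 2,nat_lit 3,nat_lit 0,nat_lit 3,nat_lit 0,nat_lit 3,nat_lit 4,nat_lit 0,nat_lit 3,nat_lit 2,nat_lit 4,nat_lit 3,nat_lit 1,nat_lit 1,nat_lit 4])
 (.leaf [nat_lit 0,nat_lit 2,nat_lit 1,nat_lit 1,nat_lit 1,nat_lit 2,nat_lit 1,nat_lit 1,nat_lit 1,nat_lit 2,nat_lit 1,nat_lit 1,nat_lit 2,nat_lit 1,nat_lit 2,nat_lit 1,nat_lit 3,nat_lit 0,nat_lit 0,nat_lit 0,nat_lit 2,nat_lit 0,nat_lit 2,nat_lit 3,nat_lit 4,nat_lit 0,nat_lit 3,nat_lit 0,nat_lit 2,nat_lit 4,nat_lit 3,nat_lit 1,nat_lit 1])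
)) (.node (.node (.leaf [nat_lit 1,nat_lit 2,nat_lit 1,nat_lit 2,nat_lit 1,nat_lit 2,nat_lit 1,nat_lit 2,nat_lit 1,nat_lit 1,nat_lit 2,nat_lit 1,nat_lit 1,nat_lit 3,nat_lit 0,nat_lit 3,nat_lit 1,nat_lit 1,nat_lit 1,nat_lit 4,nat_lit 2,nat_lit 1,nat_lit 1,nat_lit 1])
 (.leaf [nat_lit 1,nat_lit 1,nat_lit 1,nat_lit 2,nat_lit 0,nat_lit 2,nat_lit 0,nat_lit 2,nat_lit 0,nat_lit 0,nat_lit 2,nat_lit 0,nat_lit 2,nat_lit 0,nat_lit 0,nat_lit 2,nat_lit 1,nat_lit 3,nat_lit 2,nat_lit 0,nat_lit 0,nat_lit 3,nat_lit 2,nat_lit 4,nat_lit 0,nat_lit 3,nat_lit 4,nat_lit 1,nat_lit 4,nat_lit 3,nat_lit 2])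
) (.leaf [nat_lit 0,nat_lit 2,nat_lit 0,nat_lit 2,nat_lit 0,nat_lit 0,nat_lit 2,nat_lit 0,nat_lit 0,nat_lit 0,nat_lit 2,nat_lit 1,nat_lit 1,nat_lit 2,nat_lit 3,nat_lit 0,nat_lit 2,nat_lit 0,nat_lit 0,nat_lit 3,nat_lit 4,nat_lit 0,nat_lit 0,nat_lit 3,nat_lit 0,nat_lit 4,nat_lit 0,nat_lit 0])
)) (.node (.node (.node (.leaf [nat_lit 0,nat_lit 0,nat_lit 2,nat_lit 0,nat_lit 0,nat_lit 2,nat_lit 0,nat_lit 2,nat_lit 0,nat_lit 0,nat_lit 0,nat_lit 2,nat_lit 0,nat_lit 0,nat_lit 0,nat_lit 2,nat_lit 1,nat_lit 1,nat_lit 3,nat_lit 1,nat_lit 2,nat_lit 4,nat_lit 0,nat_lit 3,nat_lit 1,nat_lit 4,nat_lit 0,nat_lit 2,nat_lit 0])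
 (.leaf [nat_lit 1,nat_lit 1,nat_lit 2,nat_lit 1,nat_lit 2,nat_lit 1,nat_lit 2,nat_lit 1,nat_lit 2,nat_lit 1,nat_lit 2,nat_lit 1,nat_lit 1,nat_lit 2,nat_lit 1,nat_lit 3,nat_lit 0,nat_lit 0,nat_lit 0,nat_lit 3,nat_lit 0,nat_lit 2,nat_lit 4,nat_lit 1,nat_lit 2,nat_lit 1,nat_lit 2,nat_lit 4,nat_lit 3,nat_lit 2,nat_lit 1])
) (.node (.leaf [nat_lit 1,nat_lit 1,nat_lit 1,nat_lit 2,nat_lit 0,nat_lit 0,nat_lit 0,nat_lit 2,nat_lit 0,nat_lit 0,nat_lit 0,nat_lit 2,nat_lit 0,nat_lit 0,nat_lit 2,nat_lit 1,nat_lit 3,nat_lit 0,nat_lit 3,nat_lit 2,nat_lit 1,nat_lit 4,nat_lit 0,nat_lit 0,nat_lit 3,nat_lit 4,nat_lit 0,nat_lit 3,nat_lit 4,nat_lit 2])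
 (.leaf [nat_lit 1,nat_lit 2,nat_lit 0,nat_lit 3,nat_lit 0,nat_lit 2,nat_lit 4,nat_lit 0,nat_lit 0,nat_lit 0,nat_lit 4,nat_lit 3,nat_lit 0,nat_lit 3])
)) (.node (.node (.leaf [nat_lit 2,nat_lit 0,nat_lit 2,nat_lit 0,nat_lit 0,nat_lit 0,nat_lit 2,nat_lit 0,nat_lit 0,nat_lit 0,nat_lit 2,nat_lit 0,nat_lit 0,nat_lit 2,nat_lit 1,nat_lit 3,nat_lit 0,nat_lit 0,nat_lit 3,nat_lit 1,nat_lit 2,nat_lit 3,nat_lit 1,nat_lit 4,nat_lit 1,nat_lit 3,nat_lit 0,nat_lit 2,nat_lit 0])
 (.leaf [nat_lit 2,nat_lit 0,nat_lit 2,nat_lit 0,nat_lit 0,nat_lit 0,nat_lit 2,nat_lit 1,nat_lit 1,nat_lit 2,nat_lit 3,nat_lit 0,nat_lit 0,nat_lit 3,nat_lit 0,nat_lit 3,nat_lit 1,nat_lit 4,nat_lit 0,nat_lit 3,nat_lit 0,nat_lit 4,nat_lit 3,nat_lit 1,nat_lit 4])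
) (.leaf [nat_lit 2,nat_lit 1,nat_lit 1,nat_lit 2,nat_lit 1,nat_lit 2,nat_lit 1,nat_lit 1,nat_lit 1,nat_lit 2,nat_lit 1,nat_lit 1,nat_lit 2,nat_lit 3,nat_lit 2,nat_lit 0,nat_lit 3,nat_lit 1,nat_lit 1,nat_lit 1,nat_lit 4,nat_lit 0,nat_lit 3,nat_lit 4,nat_lit 3,nat_lit 1,nat_lit 3,nat_lit 2])
)))

/-- The letters of the chain. -/
noncomputable def o7m_g : ℕ → POmega Cl.GF3 (quadFormOdd 3 Cl.GF3) := fun x => evalW o7k_k (o7m_ws.get x)

theorem o7k_p0 : allRange (nat_lit 0) (nat_lit 364) (PM.ptsOK Cl.gf3 (nat_lit 7) (nat_lit 364) o7k_M o7k_P o7k_S o7k_A (nat_lit 0)) = true := by decide +kernel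

theorem o7k_p1 : allRange (nat_lit 0) (nat_lit 364) (PM.ptsOK Cl.gf3 (nat_lit 7) (nat_lit 364) o7k_M o7k_P o7k_S o7k_A (nat_lit 1)) = true := by decide +kernel

theorem o7k_srt : allRange 0 364 (fun i => band (Nat.beq (PM.lead Cl.gf3 (o7k_P i) 7) 1)
    (bor (Nat.beq (Nat.succ i) 364) (blt (PM.key Cl.gf3 (o7k_P i) 7) (PM.key Cl.gf3 (o7k_P (Nat.succ i)) 7)))) = true := by decide +kernel

theorem o7k_invol : ∀ x < 4, PM.invOK Cl.gf3 7 (o7k_R x) (o7k_R x) = true := by decide +kernel

theorem o7k_isom : ∀ x < 4, ∀ i, (quadFormOdd 3 Cl.GF3) (fun k => PM.matOf Cl.gf3 (oddEps 3) (o7k_R x) k i) = (quadFormOdd 3 Cl.GF3) (Pi.single i 1) ∧ ∀ j,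
    QuadraticMap.polar (quadFormOdd 3 Cl.GF3) (fun k => PM.matOf Cl.gf3 (oddEps 3) (o7k_R x) k i) (fun k => PM.matOf Cl.gf3 (oddEps 3) (o7k_R x) k j) = QuadraticMap.polar (quadFormOdd 3 Cl.GF3) (Pi.single i 1) (Pi.single j 1) := by decide +kernel

theorem o7k_com : ∀ x < 2, band (PM.mulOK Cl.gf3 7 (o7k_R (2 * x)) (o7k_R (2 * x + 1)) (o7k_C x)) (PM.mulOK Cl.gf3 7 (o7k_C x) (o7k_C x) (o7k_M x)) = true := by decide +kernel

theorem o7m_k0 : allRange (nat_lit 0) (nat_lit 14) (backB o7k_T o7m_ws o7m_back [nat_lit 0,nat_lit 1,nat_lit 2,nat_lit 4,nat_lit 5,nat_lit 13,nat_lit 22,nat_lit 49]) = true := by decide +kernel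

theorem o7m_r49 : fixAll (tabW o7k_T o7m_ws) o73_rels (nat_lit 49) = true := by decide +kernel

theorem o7m_r22 : fixAll (tabW o7k_T o7m_ws) o73_rels (nat_lit 22) = true := by decide +kernel

theorem o7m_r13 : fixAll (tabW o7k_T o7m_ws) o73_rels (nat_lit 13) = true := by decide +kernel

theorem o7m_r5 : fixAll (tabW o7k_T o7m_ws) o73_rels (nat_lit 5) = true := by decide +kernel

theorem o7m_r4 : fixAll (tabW o7k_T o7m_ws) o73_rels (nat_lit 4) = true := by decide +kernel

theorem o7m_r2 : fixAll (tabW o7k_T o7m_ws) o73_rels (nat_lit 2) = true := by decide +kernel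

theorem o7m_r1 : fixAll (tabW o7k_T o7m_ws) o73_rels (nat_lit 1) = true := by decide +kernel

theorem o7m_r0 : fixAll (tabW o7k_T o7m_ws) o73_rels (nat_lit 0) = true := by decide +kernel

theorem o7k_cardG : Nat.card (POmega Cl.GF3 (quadFormOdd 3 Cl.GF3)) = 4585351680 := card_O73

noncomputable local instance o7k_act : MulAction (POmega Cl.GF3 (quadFormOdd 3 Cl.GF3)) (Submodule Cl.GF3 (Unit ⊕ (Fin 3 ⊕ Fin 3) → Cl.GF3)) := PM.pomAct (Cl.quad_odd 3 Cl.GF3) (Cl.quad_odd_nondeg (by decide +kernel)) (by decide)

theorem o7k_h0 : Tabs o7k_e 364 o7k_S o7k_a 2 :=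
  PM.tabs_quot _ _ _ (PM.tabs_pick (oddEps 3) (PM.omRep Cl.GF3 (Cl.quad_odd 3 Cl.GF3)) (fun x hx =>
    PM.exists_omega (oddEps 3) (o7k_invol (2 * x) (by omega)) (o7k_invol (2 * x + 1) (by omega)) (mem_isometry_of_basis (Cl.quad_odd 3 Cl.GF3) _ (o7k_isom (2 * x) (by omega))) (mem_isometry_of_basis (Cl.quad_odd 3 Cl.GF3) _ (o7k_isom (2 * x + 1) (by omega))) (o7k_com x hx)) (Nat.forall_lt_succ_right.2 ⟨(Nat.forall_lt_succ_right.2 ⟨(fun _ h => absurd h (Nat.not_lt_zero _)), o7k_p0⟩), o7k_p1⟩))

theorem o7k_he : Set.InjOn o7k_e (Set.Iio 364) := PM.injOn_pts (oddEps 3) o7k_srt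

theorem o7k_ktabs : Tabs o7k_e 364 o7k_T o7k_k 14 := o7k_tabs o7k_h0

theorem o7k_basek : IsBase o7k_e (genLt o7k_k 14) [0, 1, 2, 4, 5, 13, 22, 49] := o7k_base0 o7k_he o7k_h0 (hub_of_card _ _ o7k_cardG)

theorem o7k_topk : genLt o7k_k 14 = ⊤ := top_of_chain o7k_cardG (o7k_gen _) (o7k_card o7k_he o7k_h0 (hub_of_card _ _ o7k_cardG))

theorem o7m_tabs : Tabs o7k_e 364 (tabW o7k_T o7m_ws) o7m_g 5 := tabs_tabW o7k_ktabs (by decide +kernel) 5

theorem o7m_eq : genLt o7m_g 5 = genLt o7k_k 14 :=
  genLt_tabW o7k_ktabs o7k_basek (back := o7m_back) (by decide +kernel) (range_append _ (allLt_of_zero _) o7m_k0 rfl)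

theorem o7m_base : IsBase o7k_e (genLt o7m_g 5) [0, 1, 2, 4, 5, 13, 22, 49] := o7m_eq ▸ o7k_basek

theorem o7m_gen : Gen ⊤ o7m_g o73_rels 5 4585351680 :=
  gen_of_fixAll o7m_tabs (o7m_eq.trans o7k_topk) (o7k_topk ▸ o7k_basek) (Subgroup.card_top.trans o7k_cardG) (by decide +kernel) (forall_mem_cons' o7m_r0 (forall_mem_cons' o7m_r1 (forall_mem_cons' o7m_r2 (forall_mem_cons' o7m_r4 (forall_mem_cons' o7m_r5 (forall_mem_cons' o7m_r13 (forall_mem_cons' o7m_r22 (forall_mem_cons' o7m_r49 forall_mem_nil'))))))))

theorem o7m_comm0 : Commute (evalW o7m_g [1, 1, 1, 2, 1, 1, 2, 1, 1, 2, 1, 1, 1, 3, 1, 2, 3, 1, 4, 1, 1, 3, 0, 3]) (evalW o7m_g [0, 2, 1, 2, 1, 2, 1, 2, 1, 2, 1, 3, 0, 2, 3, 4, 3, 1, 3, 4, 3, 0]) := commute_of_base o7m_tabs o7m_base (by decide +kernel)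

theorem o7m_comm1 : Commute (evalW o7m_g [1, 2, 1, 1, 1, 2, 1, 1, 1, 2, 1, 2, 1, 3, 0, 0, 2, 1, 3, 1, 1, 1, 4, 0, 2, 3, 1, 4, 0]) (evalW o7m_g [1, 2, 1, 1, 2, 0, 3, 1, 1, 2, 0, 3, 0, 4, 1, 2, 4, 1, 2]) := commute_of_base o7m_tabs o7m_base (by decide +kernel)


end Cfsg.Agent.Spor.MX
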