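import Mathlib
import Cfsg.Agent.Spor.MX.O8p

/-! Generated by tools/mx: the chain O8+(2) < S8(2) -/

set_option autoImplicit false
set_option maxRecDepth 100000
set_option linter.unusedVariables false
set_option exponentiation.threshold 100000

namespace Cfsg.Agent.Spor.MX

open Cfsg.Agent.Spor

universe u

noncomputable def s8_rels : LT :=
(.node (.node (.node (.node (.node (.leaf [])
 (.leaf [nat_lit 0,nat_lit 0,nat_lit 0,nat_lit 3,nat_lit 1,nat_lit 3,nat_lit 2,nat_lit 1,nat_lit 1,nat_lit 2,nat_lit 0,nat_lit 4,nat_lit 1,nat_lit 1,nat_lit 4,nat_lit 1,nat_lit 4,nat_lit 0,nat_lit 4,nat_lit 3])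
) (.node (.leaf [nat_lit 0,nat_lit 2,nat_lit 3,nat_lit 2,nat_lit 1,nat_lit 2,nat_lit 0,nat_lit 3,nat_lit 1,nat_lit 2])
 (.leaf [nat_lit 0,nat_lit 2,nat_lit 1,nat_lit 3,nat_lit 0,nat_lit 2,nat_lit 5,nat_lit 1,nat_lit 3,nat_lit 0,nat_lit 5,nat_lit 1,nat_lit 3])
)) (.node (.node (.leaf [nat_lit 0,nat_lit 0,nat_lit 2,nat_lit 1,nat_lit 1,nat_lit 2,nat_lit 0,nat_lit 0,nat_lit 2,nat_lit 1,nat_lit 2,nat_lit 1,nat_lit 2])
 (.leaf [nat_lit 3,nat_lit 5,nat_lit 3,nat_lit 5,nat_lit 3,nat_lit 5])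
) (.node (.leaf [nat_lit 0,nat_lit 0,nat_lit 3,nat_lit 1,nat_lit 1,nat_lit 3,nat_lit 1,nat_lit 3,nat_lit 0,nat_lit 2,nat_lit 1,nat_lit 3,nat_lit 0,nat_lit 2,nat_lit 3])
 (.leaf [nat_lit 0,nat_lit 2,nat_lit 1,nat_lit 2,nat_lit 4,nat_lit 5,nat_lit 4,nat_lit 0,nat_lit 2,nat_lit 1,nat_lit 2,nat_lit 4,nat_lit 5,nat_lit 4])
))) (.node (.node (.node (.leaf [nat_lit 0,nat_lit 0,nat_lit 0,nat_lit 0,nat_lit 0,nat_lit 0,nat_lit 0])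
 (.leaf [nat_lit 0,nat_lit 0,nat_lit 0,nat_lit 2,nat_lit 0,nat_lit 2,nat_lit 0,nat_lit 0,nat_lit 2,nat_lit 0,nat_lit 3,nat_lit 2,nat_lit 3,nat_lit 0,nat_lit 4,nat_lit 1,nat_lit 2,nat_lit 1,nat_lit 4,nat_lit 2,nat_lit 4,nat_lit 0,nat_lit 2])
) (.node (.leaf [nat_lit 0,nat_lit 0,nat_lit 0,nat_lit 2,nat_lit 1,nat_lit 3,nat_lit 0,nat_lit 2,nat_lit 1,nat_lit 1,nat_lit 1,nat_lit 3,nat_lit 2,nat_lit 3])
 (.leaf [nat_lit 0,nat_lit 0,nat_lit 5,nat_lit 1,nat_lit 1,nat_lit 2,nat_lit 5,nat_lit 4,nat_lit 5,nat_lit 2,nat_lit 5,nat_lit 4,nat_lit 5])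
)) (.node (.node (.leaf [nat_lit 3,nat_lit 3])
 (.leaf [nat_lit 0,nat_lit 3,nat_lit 1,nat_lit 5,nat_lit 1,nat_lit 3,nat_lit 5,nat_lit 0,nat_lit 3,nat_lit 1,nat_lit 5,nat_lit 3,nat_lit 0,nat_lit 5])
) (.leaf [nat_lit 0,nat_lit 0,nat_lit 2,nat_lit 4,nat_lit 2,nat_lit 1,nat_lit 2,nat_lit 0,nat_lit 4,nat_lit 2,nat_lit 4,nat_lit 1,nat_lit 3,nat_lit 2,nat_lit 3,nat_lit 1,nat_lit 2])
))) (.node (.node (.node (.node (.leaf [nat_lit 0,nat_lit 1])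
 (.leaf [nat_lit 0,nat_lit 0,nat_lit 2,nat_lit 0,nat_lit 2,nat_lit 0,nat_lit 3,nat_lit 0,nat_lit 2,nat_lit 1,nat_lit 2,nat_lit 3,nat_lit 4,nat_lit 0,nat_lit 2,nat_lit 1,nat_lit 1,nat_lit 3,nat_lit 0,nat_lit 0,nat_lit 4])
) (.node (.leaf [nat_lit 0,nat_lit 2,nat_lit 1,nat_lit 3,nat_lit 2,nat_lit 3,nat_lit 0,nat_lit 2,nat_lit 1,nat_lit 3,nat_lit 2,nat_lit 3])
 (.leaf [nat_lit 0,nat_lit 5,nat_lit 1,nat_lit 3,nat_lit 5,nat_lit 3,nat_lit 0,nat_lit 5,nat_lit 1,nat_lit 5,nat_lit 2,nat_lit 3,nat_lit 2,nat_lit 5])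
)) (.node (.node (.leaf [nat_lit 0,nat_lit 0,nat_lit 2,nat_lit 0,nat_lit 0,nat_lit 2,nat_lit 0,nat_lit 2,nat_lit 0,nat_lit 0,nat_lit 2,nat_lit 0,nat_lit 0,nat_lit 2,nat_lit 0,nat_lit 2,nat_lit 0,nat_lit 0,nat_lit 2,nat_lit 0,nat_lit 0,nat_lit 2,nat_lit 0,nat_lit 2])
 (.leaf [nat_lit 0,nat_lit 3,nat_lit 1,nat_lit 5,nat_lit 0,nat_lit 3,nat_lit 1,nat_lit 5,nat_lit 0,nat_lit 3,nat_lit 1,nat_lit 5])
) (.leaf [nat_lit 4,nat_lit 4])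
)) (.node (.node (.node (.leaf [nat_lit 2,nat_lit 2])
 (.leaf [nat_lit 5,nat_lit 5])
) (.node (.leaf [nat_lit 0,nat_lit 0,nat_lit 0,nat_lit 2,nat_lit 1,nat_lit 1,nat_lit 1,nat_lit 2,nat_lit 3,nat_lit 1,nat_lit 3,nat_lit 0,nat_lit 3,nat_lit 2])
 (.leaf [nat_lit 0,nat_lit 3,nat_lit 0,nat_lit 5,nat_lit 2,nat_lit 4,nat_lit 3,nat_lit 4,nat_lit 2,nat_lit 5,nat_lit 1,nat_lit 3,nat_lit 1,nat_lit 5])
)) (.node (.node (.leaf [nat_lit 2,nat_lit 3,nat_lit 2,nat_lit 3,nat_lit 2,nat_lit 3,nat_lit 2,nat_lit 3])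
 (.leaf [nat_lit 0,nat_lit 0,nat_lit 2,nat_lit 5,nat_lit 1,nat_lit 2,nat_lit 0,nat_lit 5,nat_lit 2,nat_lit 1,nat_lit 1,nat_lit 2])
) (.leaf [nat_lit 0,nat_lit 0,nat_lit 0,nat_lit 2,nat_lit 0,nat_lit 0,nat_lit 0,nat_lit 2,nat_lit 1,nat_lit 3,nat_lit 0,nat_lit 2,nat_lit 0,nat_lit 2,nat_lit 4,nat_lit 3,nat_lit 4,nat_lit 2])
))))
noncomputable def s8_inv : ℕ → ℕ := getP (nat_lit 8) (nat_lit 255) (nat_lit 0x50403020001)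
noncomputable def s8_pi : ℕ → ℕ := getP (nat_lit 16) (nat_lit 65535) (nat_lit 0x13000d0006000300010001)

noncomputable def s8_L_t : BT :=
(.node (.node (.node (.leaf (nat_lit 0x3fe))
 (.leaf (nat_lit 0x3fe))
) (.node (.leaf (nat_lit 0x3fe))
 (.leaf (nat_lit 0))
)) (.node (.node (.leaf (nat_lit 0x3fe))
 (.leaf (nat_lit 0x3fe))
) (.leaf (nat_lit 0x3fe))
))

noncomputable def s8_L_rules : LT :=
(.leaf [nat_lit 0,nat_lit 19,nat_lit 0,nat_lit 0,nat_lit 5,nat_lit 5])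


noncomputable def s8_L_R : LT :=
(.leaf [nat_lit 0,nat_lit 0,nat_lit 0])


noncomputable def s8_C : LC :=
  ⟨⟨fun x c => Nat.shiftRight (BT.get s8_L_t x) (Nat.mul (nat_lit 63) c),
  (nat_lit 1), (nat_lit 1), (nat_lit 1023), (nat_lit 10), (nat_lit 7), (nat_lit 1022), (nat_lit 0), (nat_lit 1), (nat_lit 6), (nat_lit 5), (nat_lit 0), (nat_lit 6), s8_inv, s8_L_rules, .leaf []⟩,
  (nat_lit 13), (nat_lit 0x210842108421), (nat_lit 0x3ffffffffffff), (nat_lit 5), (nat_lit 10), (nat_lit 1), (nat_lit 19), (nat_lit 1), (nat_lit 31), (nat_lit 24), s8_pi, s8_rels, s8_L_R⟩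

noncomputable def s8_U_t : BT :=
(.node (.node (.node (.leaf (nat_lit 0xcbf0f4a2ca508cb2c96f64a2c78f7000c62d5352c5cd84a2c3ae1312c2cfe000c12c1000c0ad9000be8bf000c670b4a2bc6f2000bed05912ba6b5000c19074a2b88d1cb2b7af0000c5b0a000b4a9ee52b44aa542b28f3000b089c000b04f85c2aeada000b9b00000b26fabf2abcd6004ca10edf2aa0c4312a84e9000ac6f5dd2a6a96000a4e84dc2a48e4000a52ee000a1e7eba2a18a4862a06878429f4e5000a3e8c5429c47b0009ac780009148500088a74000a3aecd7297cb054286ab9000bdf040008568b0008486e000842dc4a282c89d229e4e7000c950d00081a69000a12ea004c750c000a72efce28006fcd27e6a5cc29d8dfcb2610a90005f661000bad010005ee5f0009c2e60005e25e0008febcba2548b1c62948970005fad0004c3709c32724a10009a0a00009189000051255bf294cc7004bfd06542654b40008c0ccbe2650ca004bc303004bb7020004e853ba263875b9289a8d5224b4510004da62000b0cf90005c0af0004764c5425b6b74a246677000648ae000982c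300055c790004504900044a48b127b88f00041a67004b84ff54258070ab257c5b000b42fb000486b6a7279692004b64fd00075271000704ad00037a42000976ce000b4efc00036e4000096edd0003663f00067e9a000672a600035a3e09273c804a295ebb0009d6d200087abd842668940003423b000416ac0003323a54291e3c00032a3800033691932892e3004aaef400031a36000a7ef10006985763268c9991292ede00030634000986e2004a42ed8e28e0cf0006fc980002e0310009f2e8000a22eb00072a930007ecd30006f4c6000520c52723dc4b86259e328424025a00028c2d0008b8c08226045d0002802b000868e000029e2e0002742a00062ea7000782a20009549f00026427004828db7926ae350007fed4004810d700025025000426507327446d71273043702760866f26f67f0008a6765c258ea8692770680045e8cd0045cacb00062ac9004538c864258820632408820003e64e0001801d35249c660004b2b800450cc20044fabe0044e2ba5d22ea4f5c21ea5800042a2200015c1900077aa35723c21f004470b3004462b20002e4815425641b522690260043a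6ab000576463f22a0470001de1700074260000128140926ee2f0043689d0043609b000118134a26ba6b00434895000666230001081248270c640007ae7d0043248e0043148a00430c880000f01000078a280042f4830000e40f3f21bc440042ca7c0042c07a000296723721b81600427a733522064d0000be0d3127483900425e6c0042566a0000ae0c00424265004236630001881e00009a0b0042185c00420c5927229845000088090041765600416e5400416652000078080003ba0a0041464a0001c42900009e21004122410041123d00005c060040fa370040ea330040de300040cc2c000044040040a82400003a030003be1a0040821c0921fa18004066150040561100404a0e0001b205000014010040280700400e0200e00000))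
 (.leaf (nat_lit 0xac2cb90fb52cb10eac2c9cd7682c87017f2c70d8000c4acab52c44ef652c3108462c1aff000c0ec2d12bf8d6000bdabe392bd4ed4f2bc102000c890c042b9eae000c1d07b52b7eb7000b72c5462b58ce000b369d000b32bbe22b1aabac2afcf8b52ae6f2ac2ad896652acc95042b5ef4000aa68b000ae8f7000a8ecfbc2a90de000c4709d12a5e87000bd7037f2a62ec000a2e8e000af0d9392b5ce90009ee7c0009de79ac29ced53e29b28600090a740008ec900008847300088070ac2870c900085c6e000a92f0000934a7392844dc722836db1629eadad12aeeea000c730b000c9f0d000bfb050009d0e60007f4662627ee9b0007dc610009589f00098cc3ca2a8cf1000b5afc2f28e47b00063e750005d8b4004c490a000872e04f28c8b10005365b00052c59ac2b70fda1293abc4f298ad0192c0d0600050a54bc292285a128eebf004bd9040004f85300093cc4bc2b30fa8c2988ba0005c8b50004a64e000b80feb525a87eaa25c6b9ac25d6cb4729ccb32f24be560008cac800045c49b5298eaf000ba10046246ead00040e47000b1cf90003a44600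0622a8ac2620a9aa2932dd00066e9300038a43652b60690003824200073a4d8c27585100037640a12956d10009725c004b34fb972660630007f0d300035e3e7f26825200076e6d0003523c000adaf6000acef50003463b97266ca600033a3a00078e689628eae30007be7f652a2ceb000322360008ae5d004aa4f3192a408a2f269e891626be6b000a60ee0009b4e5000924c00002fe320428fa830002f2318c23ec710002dc303427bc8f0005aab668274c3d0049ece80008e6cd8923f07a0049dce70002ba2d3923b0580002882b04263ccc004908e4004882e23e23ae720003ee8100487ee17f27846c00485adf7c276c980007866f0006c0886826fe41000b62a466278c9100024c240047f2d47224304f26223e290006629c0008c45e0047dad200022a21000226206828c2626628ac8c6529709e004534c70002121f00452ac60003b27700017c1c0004c0b20001741b004508c10044f6bd0006849900075aa100016019000432650044a4b8582738a20a28c64c00014c170a26d83300445ab00001401600440cac0043a2aa000134154f23b444004388a5004380a30007006a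004374a000011c1300435c9a00074e7d00435097004344940043389200071a2e000100114724341e0043208d00042e224622b4340006da4a0042fc840042f0820042da800000dc0e3e2718390042b8783922b22c004286760000c60d00024064342794283021cc0f2f2694260002041200424a670000a60b2c242c35004228600042245f0042105a000436372623b61d00417a570041725500007c0800415e500000740700414a4b00413e480041324519272c1400411a3f162202250040fe38000054050001ce270040da2f0040c42a000040030040a423000036020a23d40900407a1a0040721800002601004052100421c80400403e0c0040340a0040240600e00800))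
) (.node (.leaf (nat_lit 0x592cbb0fbb2cad0e000c8cd6ec2c7d0c9c2c690b202c54edbb2c4109ea2c28ef1a2c1507132c00da9c2bef05122be0f58f2bcadee82bbb02db2baec04b2b9d00000b8eba000b76a4422b6af0012b50e9202b3efb552b22fa9c2b0ea3db2af8b4592ae4f7592adcf6000be304e02ab8f2592aacf3000abaf4db2a80e2000b6cfd000c2b08012a58ee000c570adb2a349dbb2a2480000a1690000b52fc4429f8e82029e0853d29bcb39c29aee501291ad8d9288cc8000a82f10008aa8d42286ee00729c884000bcd0301284add00083a6c42283286000c03060008206900091ce40009a8c4004c8b0d59280ad50727fad41027e27c1229d2d200060e610125fc740005f25f1a28e8ce1328ceb1000642c55925dacb3d28ba760005405c00088ee3122632c7c5253091592640ccc229a6d701255ec31325c2c2072900c1000bb1010005025400064e620009406e1c264abc0124eabbbb2b8cff5927aab9b824ac670005287b552482b600047c4c000afaf80009bee6b6246a710008d0cd00097a97012560ae000562af15244cad00065e63ae23aa4a07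2630aa0005945b00039c46552626a700038e442027645a004b74fe000b10f9102720a21a2722a1182994a00003724001293687000a36ec0006769a0003f44b9c26749c00068a6a0006d041992978b000034e3c01287c950007c88f1824969344233c82000532c64b2a14ea9527c69400048a789428a8e100031e364b29fe8a000a008b0003123500069c570009389e000834db0009e2e70009cadf8f26348300033e921a22e64f000a26eb8b27b4380726807e0002d02f0007e4d3012526b78823e03f4b2584798524888e102290720008bcca0002842b0005fed0422600700002927700046cb2000602737e27906f7d293ebd7a277465004838dc55271c437626889900481ed97526a2680004aeb8000248240007766d0723d82722265cac6e264cbe00460cd100070a340045f0cf6726245e00021e2000453ec9012592a9000766a55623c64510218c5815269a885622ae525e25ba55004500bf4b2570530002b0561821f6515921f8500002e8811c23ca4e0001541800447ab55623f29b0003acab552568490722b6481c21da4700439aa80003c85900438ca600071e6b01249842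4d26ce980043709f0003e27a1824d03e4b26dc3900434c961c24903b4924923a0006de3d0007b67f07243e3700431c8c00431089442708602226b6334225ac321821b4190002a62e0042ce7d3d22a4300000d40e0002aa2a004282751022a82c1a20c029332400280003da640000b20c1026a025004246660006e814012194221a21962100421c5d0000920a00008e0925218a1d0001e41a2225781b2021e21c0001b6310041524d1c21ee1700006c071a219e151826e6231724cc131521e8121321f4111221f210000050050040d22d1020480d0040b0260e20c20b0040901f00408c1e00002e0200406a160721e60600404e0f00001c010120160300402c0800401a0400e00400))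
 (.leaf (nat_lit 0x1ffe00001ffe00001ffe00001ffe00001ffe00001ffe00001ffe00001ffe00001ffe00001ffe00001ffe00001ffe00001ffe00001ffe00001ffe00001ffe00001ffe00001ffe00001ffe00001ffe00001ffe00001ffe00001ffe00001ffe00001ffe00001ffe00001ffe00001ffe00001ffe00001ffe00001ffe00001ffe00001ffe00001ffe00001ffe00001ffe00001ffe00001ffe00001ffe00001ffe00001ffe00001ffe00001ffe00001ffe00001ffe00001ffe00001ffe00001ffe00001ffe00001ffe00001ffe00001ffe00001ffe00001ffe00001ffe00001ffe00001ffe00001ffe00001ffe00001ffe00001ffe00001ffe00001ffe00001ffe00001ffe00001ffe00001ffe00001ffe00001ffe00001ffe00001ffe00001ffe00001ffe00001ffe00001ffe00001ffe00001ffe00001ffe00001ffe00001ffe00001ffe00001ffe00001ffe00001ffe00001ffe00001ffe00001ffe00001ffe00001ffe00001ffe00001ffe00001ffe00001ffe00001ffe00001ffe00001ffe00001ffe00001ffe00001ffe00001ffe00001ffe00001ffe00001f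fe00001ffe00001ffe00001ffe00001ffe00001ffe00001ffe00001ffe00001ffe00001ffe00001ffe00001ffe00001ffe00001ffe00001ffe00001ffe00001ffe00001ffe00001ffe00001ffe00001ffe00001ffe00001ffe00001ffe00001ffe00001ffe00001ffe00001ffe00001ffe00001ffe00001ffe00001ffe00001ffe00001ffe00001ffe00001ffe00001ffe00001ffe00001ffe00001ffe00001ffe00001ffe00001ffe00001ffe00001ffe00001ffe00001ffe00001ffe00001ffe00001ffe00001ffe00001ffe00001ffe00001ffe00001ffe00001ffe00001ffe00001ffe00001ffe00001ffe00001ffe00001ffe00001ffe00001ffe00001ffe00001ffe00001ffe00001ffe00001ffe00001ffe00001ffe00001ffe00001ffe00001ffe00001ffe00001ffe00001ffe00001ffe00001ffe00001ffe00001ffe00001ffe00001ffe00001ffe00001ffe00001ffe00001ffe00001ffe00001ffe00001ffe00001ffe00001ffe00001ffe00001ffe00001ffe00001ffe00001ffe00001ffe00001ffe00001ffe00001ffe00001ffe00001ffe00001ffe00001ffe0000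1ffe00001ffe00001ffe00001ffe00001ffe00001ffe00001ffe00001ffe00001ffe00001ffe00001ffe00001ffe00001ffe00001ffe00001ffe00001ffe00001ffe00001ffe00001ffe00001ffe00001ffe00001ffe00001ffe00001ffe00001ffe00001ffe00001ffe00001ffe00001ffe00001ffe00001ffe00001ffe00001ffe00001ffe00001ffe00001ffe00001ffe00001ffe00001ffe00001ffe00001ffe00001ffe00001ffe00001ffe00001ffe00001ffe00001ffe00001ffe00001ffe00001ffe00001ffe00001ffe00001ffe00001ffe00001ffe00001ffe00001ffe00001ffe00001ffe00001ffe00001ffe00001ffe00001ffe00001ffe00001ffe00))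
)) (.node (.node (.leaf (nat_lit 0x902cbd0f000ca2f3062c92d9000c76d61f2c6504cf2c58fd000c38c7000ca70ee92c1700000bfec11f2beb02cf2bdcdf000bc4bd000bb8bcda2baacf6d2b98f6000b86aa000c2f08000b66a41f2b4c9fe62b40a7e42b24f51f2b0ab6502b02f8000c7b0c000c990d6d2ac4f0000ab08c000b2afa000bc903da2a7c8a000b7cfede2a70d51f2a50ec000a4484d52a38e21f2a207fda2a10d7000a86f1cf29f0800009e6dad629c0cd0009f6e8000a4aed0008948dd8298485000c3d09d62866730009dad200093087d5296c9dd32840dc00082a6c000aecf7062c0906000c5f0a00081269000abef4004c610bcf27fc6a3c27ea7db229d496000b8aff1f25f8c80008e283c82974a00005ea5f6028bebf0005cc5e000652be9026285d00053a5c00094ec2c426f27c90251e7b000aa2f2c02980b000050e55004c11071f28b676004be7050004fc54bd2878951b28fccb000960970004e45300086ce07424b0560005b8b3062484a6000ba901000656c00004724c0004644b00054aca00097ee1a225beb5b32646b12d2702a2b224149200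03a847000b46fb000612d10005906192262c70a626709a0007e8d3000a1aeaa627784ea427806f000726c6a2299ec5a029526e004b48fc00036a40004b06f90003623f9b267c9b00068e889a26fa8200094ac9000a6cef00034a3c00066a943227287e000798a51f23348e922916c40007baac0003263700089cb9812a3ce7922854de0003163600082edb00030e35000a08e900076264902912e4004a4cee0002f63200040a5a1f22e24a00073e980006f863004a1ceb8a27ac380002cc2f0009c6e60002c22e87255aaf0049aae5000468b20c28a46200063aba004888e300027c2b8122942d802750a3000582a9000802d4004846dd00074666000260270006bc3d00025826004818d800077260742418ab00049e570002442400070e39000238236d24d8b70045f4d06a2740430045ecce0045e0cc0006067500021a2000057ea80004047800020e1f0001ec51602696890001781c004510c30001701b0044e6bb0001681a0004b6b80c2424670002ec520623e4590002082a004474b40003de7a0001481700444eae004448ad0002a2455025744600029a1e0001be3000073265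004378a10001241400436c9e0043649c004358990001141300092090004340930043309100074a280043288f0000fc110043188b0006b06b004304860000ec100005a0790042de810000e00f0006f0413c229c7200428a770000ce0e00427e74004272711f21c216322788330042626d0006924800424e680000aa0c2d26643b2b2428501f209c1500058a5b0003c44d2821862200417e5800008409000566491f23bc0a00415a4f0001fc081b21dc440001ba2c00006807004126420041163e0041063a000058060040ee340040e23100004c050040bc290040ac25004098210c23b8180040861d0040761900002a0200405a120621b0040040420d0040380b000010010040120300e00200))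
 (.leaf (nat_lit 0xcb506b02caf0e782c9b0d0b2c7eeb052c6b0beb2c4ce58d2c4309000c26c18d2c2307004cb30fc92bf2e1b02be504512bd303b02bbd02000ba4b0000b94ac0b2b90ffad2b82fe8d2b6efde72b54f2532b38b89f2b2cd8e32b16c0000af69b000ae098000ad294000ac293512ab4d3532aa899000b56fc000a7a88000a96d2002a68ef052a54db0b2a46ed000a327e000c810c000a0c7d000a047c0009fc8a5329e8e70029bae6000c4f0a002910e40008dccd0009a4d7000bf50500286272000a5ca50028506f9f292a8900095c9e000a56ee002826daa52af2d9000b2efad029a2e200080e6800080866782804d4000ab6f42e2a94f005261ad1ad260ad04e2902c7c928f69a9f28dae30525e4cc0b25ceb2002546cab025dc7a00054eab000904cf4e2874bd00051a58000516570005b474002990ba004c2508000b18f90f28debf8d257abe000876c60024f4bc0025a6bb000992c20004de4f000b3afb0004a24d3a256cb30525c4b5000598ae00056eb60005d0cb0004604a004ba3010024564bb42596b40f26b4ad004b9300b0254cc80028b4aa51261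45dad258ca800039844002394a6512a5adf0003864200096697a5277ca20f277ea1000998760029509f9f295adc3a27d69d05256a9c004af4f80008f8ce000aaaf3004adef78d2964a32a2a6e960827d095004ad0f6004ac0f50f27a8920006ec6400032e388d27d88f0005b04800289e8d5328cc8c0828588b0829fae800092cdd004a78f100030a340b279a86000302330007a6430822f8548d259a3a5124ce812e279c800002d82f004a30ec004a0aea004a02e90002c62e0005dec90002be2d2e24d6785124c877052996a0052636750025b2c378261873000864e00025547100027029000852de000268275127b03e0b275c602e26d25a7826a66a0002542500480cd60b24ca67004806d50f279e654c26ea91002710630002322200022e2100075e6c0028f05f0023d65e000616a90005242c0002161f0006d46b00055855004518c5004514c40003ea475f2556590002fa8300016c1a5123fe52000164195b21ca500044dcb900220a4e0044a0b700015017000458af00445eb1000144165325ae8e5123e856000138150b22ac45004396a74e27a484004384a40026e041000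120134c24ba2a0007b26d0526c83d000110120527923b00059c820001041100432c902e2442370000f8102e24403500430887004300850000e80f0b24b831000200180042d67f0042c47b0042bc793a25225c0000ca0d0004bc3f00426e700000ba0c0042666e2e26a426004252692e24c2240f2716230042306200422c610000960a0042145b2a21921e05208a1d0b21d01c0000800800416a53004162511d21fe3000414e4c00414249004136460000640600411e4000410e3c004102390040f6360040e6320b21a20e0040c82b0040b8280f203c0b004094200b218e0300407e1b0821c00700406214002022050521c604000190090021980200000c0000400a01))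
) (.node (.leaf (nat_lit 0x232cb70f0d2ca8f33b2c8eee1e2c82fc022c6ce9432c51040d2c3f09000c34d9452c1ed5000c06e7112bf105000c530a622bcedf772bbf02b72bb2ff232b9700000bb5013b2b78fe0d2b68fd000c850c432b3cfb000b209d000b14b2e12afeb5232ae2f7232ad4ecb72ac8ed622ab2f4000cab0e000a9e8a000a8a8c000a7687000a6685000c910d000acaf5000ad6f61e2a28e8232a0eea000c6f0b000a2aeb3b2c05060009b8791129b0e543290c90112890e3432886e20008b27500086070000bd10300084e6e000928c4d4283c860d2830db00082469032c330802281cd80d281495232a98d2000c21074327f67d0007e065000a9ad60008f4cf022608d00328f2d1112968c2c728d2bf6125e6cc2425d2830005445c2925bcc90d253cc8232906c743252ec623251cc5022926ddc125a2b300096ace432bf6c1000506540008d4cd7724febe3b29429f0004f2530224ecae000552b12324e0b92124a881b724d2740004804d000b00f8022478b40005a4c33b2b12f9242550ba432572b0000454490004eebb2926c2ad43241078af24207100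08a2550003a0463b2586a800061e5da9239051a827a0a52327caa40007369c00037e4200075660a3299a73000944bd2929469e004b1efa9e2734a30324069b9d26784a452686990003563d622962972927cc96000816d79827c27f4024449340248c923824949100090ee44527c08f2426ca4100089861772a88f10226d68b004a9cf24526a83a0326ac88004a74f000083edc004a64ef2327d2400005d4cb432658570004aab800076a3e0007c4940002d42f0007f8d41127127c2322c87b00043a500049b6e6000412ac11228e77432644768328b0e10004d4b700099ca00002782a000422ab00485ee000026c2800484cde7b27146d3827a26c00025c267726b26a004822da0006c63400041e4f3826b8660047ded300023c230006e439232234626c28968d6b2754a10008d82b0002222023261ca7004542ca2324c65b3623d05a6223d2596121821d00065a820003fc4b4328a0aa004504c00044f0bc1e22ee52000392a65a24387a38241c670001581800447eb62321d84c3823fa5600067a9a004452af2121a44800013c1600439ea92121d4450001301500012c1400437ca2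0006cc8e0007d4841e23f62938276880004354982327ce3c00010c120006aa890326e26321272e3843243c37232446360000f4104526c468432706332321aa324123cc1f4021d6300042d27e0000d80e3b21f02d3820d02c3628d65f004276720003f83f00426a6f0000b60c00425a6b21249a252124c42400423a640000a20b1421d2210042205e0003ce312921a60f0001845824219a1c2321e01b2121a01a1e219c190041564e0000700700413a4700412e4400412a430000600600410a3b14248e110040f2350001a81e0040d62e1120460d0040b4270040a0220d23c00a000032020001ae0400406e1700405e13000020010321ac08022018030040300900401e0500e00600))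
 (.leaf (nat_lit 0x100b06000e00f3000e04d6000e00d6000e02d5000e08ca000e00c7000e0ac1000e02c1000e00c1000e02bf000e08be000e00bd000e00bc000e0ab0000e0aac000e00aa000c04a4000c00a4000c029e000c089d000c069d000c029c000c0a9b000c0a98000c0a94000c0a93000c008c000c088b000c068a000c0a88000c0687000c0685000c0284000c0084000c0a7e000c027e000c0a7d000c0a7c000c087c000c0879000c0679000c0278000c0874000c0274000c0873000c0870000c0670000c086e000c066e000c026e000c046c000c006c000c0669000c0469000c0269000c0069000c0a68000c0a66000c0866000c0665000c0861000c0461000c0261000c045f000c025f000c005f000c025e000c005e000c065c000c045c000c005c000c085b000c0859000c0a58000c0a57000c0255000c0055000c0854000c0654000c0454000c0054000c0853000c0653000c0253000c0053000c0a4f000c084e000c0a4d000c064d000c044c000c024c000c004c000c004b000c0a4a000c0849000c0649000c0249000c0248000c0847000c0047000c0846000c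0646000c0446000c0a44000c0444000a0843000a0a42000a0842000a0642000a0242000a0840000a0440000a0240000a0040000a023f000a003f000a083e000a023e000a063d000a083c000a043c000a003c000a083b000a023b000a083a000a023a000a0a38000a0238000a0037000a0836000a0436000a0236000a0036000a0435000a0035000a0a34000a0234000a0a33000a0832000a0032000a0831000a0231000a0830000a0a2f000a062f000a042f000a002f000a0a2e000a002e000a0a2d000a082d000a022d000a082b000a042b000a022b000a002b000a062a000a022a000a0a29000a0628000a0a27000a0227000a0027000a0626000a0026000a0a25000a0225000a0824000a0424000a0024000a0623000a0023000a0a22000a0a21000a0821000a0820000a0620000a0420000a0020000a0a1f000a081f000a001f000a021d000a081c000a001c000a081b000a001b000a0a1a000a001a000a0a19000a0819000a0219000a0618000a0418000a0a17000a0817000a0017000a0a16000a0816000a0616000a0a15000a0815000a061500080614000802140008001400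080a1300080813000802130008001300080a12000806120008021200080a11000808110008001100080a1000080610000802100008001000080a0f0008020f0008000f0008080e0008060e0008040e0008000e00080a0d0008080d0008020d00080a0c0008060c0008040c0008020c0008000c0008080b0008060b0008020b00080a0a0008040a00080409000802090008000900080a0800080808000802080008080700080607000804070008000700060a0600060606000602060006000600060805000604050006000500060204000608030006020300060802000606020006040200060002000408010004060100040401000402010004000100020a0000000000))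
)))

noncomputable def s8_U_rules : LT :=
(.node (.node (.node (.node (.node (.node (.node (.node (.leaf [nat_lit 20,nat_lit 4,nat_lit 1,nat_lit 5,nat_lit 3,nat_lit 5,nat_lit 3,nat_lit 5,nat_lit 3])
 (.leaf [nat_lit 16,nat_lit 17,nat_lit 0,nat_lit 1,nat_lit 4,nat_lit 3,nat_lit 0,nat_lit 0,nat_lit 0,nat_lit 3,nat_lit 1,nat_lit 3,nat_lit 2,nat_lit 1,nat_lit 1,nat_lit 2,nat_lit 0,nat_lit 4,nat_lit 1,nat_lit 1,nat_lit 4,nat_lit 1,nat_lit 4])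
) (.node (.leaf [nat_lit 11,nat_lit 3,nat_lit 1,nat_lit 3,nat_lit 0,nat_lit 3,nat_lit 2,nat_lit 0,nat_lit 0,nat_lit 0,nat_lit 2,nat_lit 1,nat_lit 1,nat_lit 1,nat_lit 2,nat_lit 3,nat_lit 1])
 (.leaf [nat_lit 14,nat_lit 0,nat_lit 0,nat_lit 1,nat_lit 0,nat_lit 2,nat_lit 4,nat_lit 2,nat_lit 1,nat_lit 2,nat_lit 0,nat_lit 4,nat_lit 2,nat_lit 4,nat_lit 1,nat_lit 3,nat_lit 2,nat_lit 3,nat_lit 1,nat_lit 2])
)) (.node (.node (.leaf [nat_lit 27,nat_lit 5,nat_lit 1,nat_lit 2,nat_lit 4,nat_lit 3,nat_lit 4,nat_lit 2,nat_lit 5,nat_lit 1,nat_lit 3,nat_lit 1,nat_lit 5,nat_lit 0,nat_lit 3,nat_lit 0,nat_lit 5])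
 (.leaf [nat_lit 22,nat_lit 11,nat_lit 1,nat_lit 1,nat_lit 3,nat_lit 1,nat_lit 5,nat_lit 1,nat_lit 3,nat_lit 5,nat_lit 0,nat_lit 3,nat_lit 1,nat_lit 5,nat_lit 3,nat_lit 0,nat_lit 5])
) (.node (.leaf [nat_lit 4,nat_lit 6,nat_lit 0,nat_lit 1,nat_lit 0,nat_lit 2,nat_lit 1,nat_lit 2,nat_lit 1,nat_lit 2,nat_lit 0,nat_lit 0,nat_lit 2,nat_lit 1,nat_lit 1,nat_lit 2])
 (.leaf [nat_lit 4,nat_lit 10,nat_lit 0,nat_lit 2,nat_lit 1,nat_lit 2,nat_lit 0,nat_lit 0,nat_lit 2,nat_lit 1,nat_lit 1,nat_lit 2,nat_lit 0,nat_lit 0,nat_lit 2,nat_lit 1])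
))) (.node (.node (.node (.leaf [nat_lit 9,nat_lit 7,nat_lit 1,nat_lit 2,nat_lit 3,nat_lit 0,nat_lit 2,nat_lit 1,nat_lit 3,nat_lit 2,nat_lit 3,nat_lit 0,nat_lit 2,nat_lit 1,nat_lit 3])
 (.leaf [nat_lit 22,nat_lit 9,nat_lit 1,nat_lit 1,nat_lit 5,nat_lit 0,nat_lit 3,nat_lit 1,nat_lit 5,nat_lit 1,nat_lit 3,nat_lit 5,nat_lit 0,nat_lit 3,nat_lit 1,nat_lit 5,nat_lit 3])
) (.node (.leaf [nat_lit 25,nat_lit 5,nat_lit 1,nat_lit 1,nat_lit 5,nat_lit 1,nat_lit 3,nat_lit 5,nat_lit 3,nat_lit 0,nat_lit 5,nat_lit 1,nat_lit 5,nat_lit 2,nat_lit 3,nat_lit 2,nat_lit 5])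
 (.leaf [nat_lit 26,nat_lit 2,nat_lit 0,nat_lit 5,nat_lit 1,nat_lit 1,nat_lit 2,nat_lit 5,nat_lit 4,nat_lit 5,nat_lit 2,nat_lit 5,nat_lit 4,nat_lit 5,nat_lit 0,nat_lit 0])
)) (.node (.node (.leaf [nat_lit 15,nat_lit 14,nat_lit 0,nat_lit 4,nat_lit 3,nat_lit 4,nat_lit 2,nat_lit 0,nat_lit 0,nat_lit 0,nat_lit 2,nat_lit 0,nat_lit 0,nat_lit 0,nat_lit 2,nat_lit 1,nat_lit 3,nat_lit 0,nat_lit 2,nat_lit 0,nat_lit 2])
 (.leaf [nat_lit 24,nat_lit 6,nat_lit 1,nat_lit 5,nat_lit 2,nat_lit 1,nat_lit 3,nat_lit 0,nat_lit 2,nat_lit 1,nat_lit 3,nat_lit 0,nat_lit 5,nat_lit 1,nat_lit 3,nat_lit 0])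
) (.leaf [nat_lit 10,nat_lit 12,nat_lit 1,nat_lit 0,nat_lit 1,nat_lit 3,nat_lit 2,nat_lit 3,nat_lit 0,nat_lit 0,nat_lit 0,nat_lit 2,nat_lit 1,nat_lit 3,nat_lit 0,nat_lit 2,nat_lit 1])
))) (.node (.node (.node (.node (.leaf [nat_lit 25,nat_lit 12,nat_lit 1,nat_lit 5,nat_lit 1,nat_lit 5,nat_lit 2,nat_lit 3,nat_lit 2,nat_lit 5,nat_lit 0,nat_lit 5,nat_lit 1,nat_lit 3,nat_lit 5,nat_lit 3,nat_lit 0])
 (.leaf [nat_lit 15,nat_lit 4,nat_lit 1,nat_lit 2,nat_lit 1,nat_lit 2,nat_lit 1,nat_lit 3,nat_lit 0,nat_lit 2,nat_lit 1,nat_lit 1,nat_lit 1,nat_lit 2,nat_lit 1,nat_lit 1,nat_lit 1,nat_lit 2,nat_lit 4,nat_lit 3,nat_lit 4])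
) (.node (.leaf [nat_lit 8,nat_lit 9,nat_lit 1,nat_lit 0,nat_lit 2,nat_lit 0,nat_lit 3,nat_lit 1,nat_lit 2,nat_lit 0,nat_lit 2,nat_lit 3,nat_lit 2])
 (.leaf [nat_lit 18,nat_lit 5,nat_lit 1,nat_lit 1,nat_lit 2,nat_lit 0,nat_lit 4,nat_lit 1,nat_lit 3,nat_lit 2,nat_lit 3,nat_lit 1,nat_lit 2,nat_lit 1,nat_lit 1,nat_lit 2,nat_lit 1,nat_lit 2,nat_lit 1,nat_lit 1,nat_lit 1,nat_lit 2,nat_lit 1,nat_lit 4,nat_lit 2,nat_lit 4])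
)) (.node (.node (.leaf [nat_lit 12,nat_lit 4,nat_lit 1,nat_lit 1,nat_lit 2,nat_lit 1,nat_lit 3,nat_lit 0,nat_lit 3,nat_lit 0,nat_lit 0,nat_lit 3,nat_lit 1,nat_lit 1,nat_lit 3,nat_lit 2,nat_lit 1,nat_lit 3])
 (.leaf [nat_lit 12,nat_lit 3,nat_lit 1,nat_lit 3,nat_lit 0,nat_lit 2,nat_lit 1,nat_lit 3,nat_lit 0,nat_lit 3,nat_lit 0,nat_lit 0,nat_lit 3,nat_lit 1,nat_lit 1,nat_lit 3,nat_lit 2,nat_lit 1])
) (.node (.leaf [nat_lit 14,nat_lit 13,nat_lit 1,nat_lit 4,nat_lit 2,nat_lit 1,nat_lit 1,nat_lit 2,nat_lit 0,nat_lit 3,nat_lit 2,nat_lit 3,nat_lit 0,nat_lit 4,nat_lit 2,nat_lit 4,nat_lit 1,nat_lit 2,nat_lit 0,nat_lit 2])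
 (.leaf [nat_lit 24,nat_lit 11,nat_lit 1,nat_lit 2,nat_lit 1,nat_lit 3,nat_lit 0,nat_lit 5,nat_lit 1,nat_lit 3,nat_lit 0,nat_lit 5,nat_lit 2,nat_lit 1,nat_lit 3,nat_lit 0])
))) (.node (.node (.node (.leaf [nat_lit 8,nat_lit 0,nat_lit 1,nat_lit 2,nat_lit 0,nat_lit 3,nat_lit 1,nat_lit 2,nat_lit 0,nat_lit 2,nat_lit 3,nat_lit 2,nat_lit 1])
 (.leaf [nat_lit 17,nat_lit 11,nat_lit 0,nat_lit 3,nat_lit 4,nat_lit 0,nat_lit 2,nat_lit 1,nat_lit 1,nat_lit 3,nat_lit 0,nat_lit 0,nat_lit 4,nat_lit 0,nat_lit 0,nat_lit 2,nat_lit 0,nat_lit 2,nat_lit 0,nat_lit 3,nat_lit 0,nat_lit 2,nat_lit 1,nat_lit 2])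
) (.node (.leaf [nat_lit 17,nat_lit 12,nat_lit 0,nat_lit 4,nat_lit 0,nat_lit 2,nat_lit 1,nat_lit 1,nat_lit 3,nat_lit 0,nat_lit 0,nat_lit 4,nat_lit 0,nat_lit 0,nat_lit 2,nat_lit 0,nat_lit 2,nat_lit 0,nat_lit 3,nat_lit 0,nat_lit 2,nat_lit 1,nat_lit 2,nat_lit 3])
 (.leaf [nat_lit 16,nat_lit 7,nat_lit 1,nat_lit 1,nat_lit 4,nat_lit 1,nat_lit 2,nat_lit 0,nat_lit 0,nat_lit 2,nat_lit 3,nat_lit 0,nat_lit 3,nat_lit 1,nat_lit 1,nat_lit 1,nat_lit 3,nat_lit 4,nat_lit 1,nat_lit 4,nat_lit 0,nat_lit 4,nat_lit 0])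
)) (.node (.node (.leaf [nat_lit 12,nat_lit 12,nat_lit 1,nat_lit 3,nat_lit 1,nat_lit 1,nat_lit 3,nat_lit 2,nat_lit 1,nat_lit 3,nat_lit 0,nat_lit 2,nat_lit 1,nat_lit 3,nat_lit 0,nat_lit 3,nat_lit 0,nat_lit 0])
 (.leaf [nat_lit 15,nat_lit 13,nat_lit 0,nat_lit 2,nat_lit 4,nat_lit 3,nat_lit 4,nat_lit 2,nat_lit 0,nat_lit 0,nat_lit 0,nat_lit 2,nat_lit 0,nat_lit 0,nat_lit 0,nat_lit 2,nat_lit 1,nat_lit 3,nat_lit 0,nat_lit 2,nat_lit 0])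
) (.leaf [nat_lit 23,nat_lit 8,nat_lit 1,nat_lit 5,nat_lit 2,nat_lit 1,nat_lit 1,nat_lit 2,nat_lit 0,nat_lit 0,nat_lit 2,nat_lit 5,nat_lit 1,nat_lit 2,nat_lit 0])
)))) (.node (.node (.node (.node (.node (.leaf [nat_lit 26,nat_lit 1,nat_lit 1,nat_lit 4,nat_lit 5,nat_lit 2,nat_lit 5,nat_lit 4,nat_lit 5,nat_lit 2,nat_lit 0,nat_lit 0,nat_lit 5,nat_lit 1,nat_lit 1,nat_lit 5])
 (.leaf [nat_lit 16,nat_lit 2,nat_lit 1,nat_lit 0,nat_lit 4,nat_lit 0,nat_lit 4,nat_lit 0,nat_lit 0,nat_lit 4,nat_lit 1,nat_lit 2,nat_lit 0,nat_lit 0,nat_lit 2,nat_lit 3,nat_lit 0,nat_lit 3,nat_lit 1,nat_lit 1,nat_lit 1,nat_lit 3,nat_lit 4])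
) (.node (.leaf [nat_lit 18,nat_lit 3,nat_lit 1,nat_lit 2,nat_lit 4,nat_lit 0,nat_lit 2,nat_lit 0,nat_lit 4,nat_lit 1,nat_lit 3,nat_lit 2,nat_lit 3,nat_lit 1,nat_lit 2,nat_lit 1,nat_lit 1,nat_lit 2,nat_lit 1,nat_lit 2,nat_lit 1,nat_lit 1,nat_lit 1,nat_lit 2,nat_lit 1,nat_lit 4])
 (.leaf [nat_lit 11,nat_lit 9,nat_lit 1,nat_lit 1,nat_lit 2,nat_lit 1,nat_lit 1,nat_lit 1,nat_lit 2,nat_lit 3,nat_lit 1,nat_lit 3,nat_lit 0,nat_lit 3,nat_lit 2,nat_lit 0,nat_lit 0])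
)) (.node (.node (.leaf [nat_lit 22,nat_lit 5,nat_lit 1,nat_lit 3,nat_lit 1,nat_lit 5,nat_lit 3,nat_lit 0,nat_lit 5,nat_lit 0,nat_lit 3,nat_lit 1,nat_lit 5,nat_lit 1,nat_lit 3,nat_lit 5,nat_lit 0])
 (.leaf [nat_lit 15,nat_lit 10,nat_lit 0,nat_lit 1,nat_lit 2,nat_lit 0,nat_lit 2,nat_lit 4,nat_lit 3,nat_lit 4,nat_lit 2,nat_lit 0,nat_lit 0,nat_lit 0,nat_lit 2,nat_lit 0,nat_lit 0,nat_lit 0,nat_lit 2,nat_lit 1,nat_lit 3])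
) (.node (.leaf [nat_lit 26,nat_lit 3,nat_lit 0,nat_lit 0,nat_lit 1,nat_lit 2,nat_lit 5,nat_lit 4,nat_lit 5,nat_lit 2,nat_lit 5,nat_lit 4,nat_lit 5,nat_lit 0,nat_lit 0,nat_lit 5])
 (.leaf [nat_lit 21,nat_lit 9,nat_lit 1,nat_lit 1,nat_lit 3,nat_lit 1,nat_lit 5,nat_lit 0,nat_lit 3,nat_lit 1,nat_lit 5,nat_lit 0,nat_lit 3,nat_lit 1,nat_lit 5])
))) (.node (.node (.node (.leaf [nat_lit 15,nat_lit 8,nat_lit 1,nat_lit 3,nat_lit 0,nat_lit 2,nat_lit 1,nat_lit 1,nat_lit 1,nat_lit 2,nat_lit 1,nat_lit 1,nat_lit 1,nat_lit 2,nat_lit 4,nat_lit 3,nat_lit 4,nat_lit 2,nat_lit 1,nat_lit 2,nat_lit 1])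
 (.leaf [nat_lit 27,nat_lit 9,nat_lit 1,nat_lit 2,nat_lit 5,nat_lit 1,nat_lit 3,nat_lit 1,nat_lit 5,nat_lit 0,nat_lit 3,nat_lit 0,nat_lit 5,nat_lit 2,nat_lit 4,nat_lit 3,nat_lit 4])
) (.node (.leaf [nat_lit 24,nat_lit 3,nat_lit 1,nat_lit 0,nat_lit 3,nat_lit 0,nat_lit 5,nat_lit 2,nat_lit 1,nat_lit 3,nat_lit 0,nat_lit 2,nat_lit 1,nat_lit 3,nat_lit 0,nat_lit 5])
 (.leaf [nat_lit 9,nat_lit 6,nat_lit 1,nat_lit 3,nat_lit 2,nat_lit 3,nat_lit 0,nat_lit 2,nat_lit 1,nat_lit 3,nat_lit 2,nat_lit 3,nat_lit 0,nat_lit 2,nat_lit 1])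
)) (.node (.node (.leaf [nat_lit 16,nat_lit 14,nat_lit 0,nat_lit 4,nat_lit 1,nat_lit 4,nat_lit 0,nat_lit 4,nat_lit 3,nat_lit 0,nat_lit 0,nat_lit 0,nat_lit 3,nat_lit 1,nat_lit 3,nat_lit 2,nat_lit 1,nat_lit 1,nat_lit 2,nat_lit 0,nat_lit 4,nat_lit 1,nat_lit 1])
 (.leaf [nat_lit 25,nat_lit 0,nat_lit 1,nat_lit 5,nat_lit 2,nat_lit 3,nat_lit 2,nat_lit 5,nat_lit 0,nat_lit 5,nat_lit 1,nat_lit 3,nat_lit 5,nat_lit 3,nat_lit 0,nat_lit 5,nat_lit 1])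
) (.leaf [nat_lit 16,nat_lit 10,nat_lit 0,nat_lit 1,nat_lit 4,nat_lit 1,nat_lit 1,nat_lit 4,nat_lit 1,nat_lit 4,nat_lit 0,nat_lit 4,nat_lit 3,nat_lit 0,nat_lit 0,nat_lit 0,nat_lit 3,nat_lit 1,nat_lit 3,nat_lit 2,nat_lit 1,nat_lit 1,nat_lit 2])
))) (.node (.node (.node (.node (.leaf [nat_lit 17,nat_lit 19,nat_lit 0,nat_lit 1,nat_lit 4,nat_lit 0,nat_lit 0,nat_lit 2,nat_lit 0,nat_lit 2,nat_lit 0,nat_lit 3,nat_lit 0,nat_lit 2,nat_lit 1,nat_lit 2,nat_lit 3,nat_lit 4,nat_lit 0,nat_lit 2,nat_lit 1,nat_lit 1,nat_lit 3,nat_lit 0])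
 (.leaf [nat_lit 17,nat_lit 0,nat_lit 1,nat_lit 4,nat_lit 1,nat_lit 1,nat_lit 3,nat_lit 0,nat_lit 0,nat_lit 2,nat_lit 1,nat_lit 4,nat_lit 3,nat_lit 2,nat_lit 0,nat_lit 2,nat_lit 1,nat_lit 3,nat_lit 1,nat_lit 2,nat_lit 1,nat_lit 2,nat_lit 1,nat_lit 1])
) (.node (.leaf [nat_lit 27,nat_lit 4,nat_lit 1,nat_lit 5,nat_lit 2,nat_lit 4,nat_lit 3,nat_lit 4,nat_lit 2,nat_lit 5,nat_lit 1,nat_lit 3,nat_lit 1,nat_lit 5,nat_lit 0,nat_lit 3,nat_lit 0])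
 (.leaf [nat_lit 23,nat_lit 10,nat_lit 1,nat_lit 0,nat_lit 1,nat_lit 2,nat_lit 0,nat_lit 0,nat_lit 2,nat_lit 5,nat_lit 1,nat_lit 2,nat_lit 0,nat_lit 5,nat_lit 2])
)) (.node (.node (.leaf [nat_lit 15,nat_lit 3,nat_lit 1,nat_lit 4,nat_lit 2,nat_lit 1,nat_lit 2,nat_lit 1,nat_lit 3,nat_lit 0,nat_lit 2,nat_lit 1,nat_lit 1,nat_lit 1,nat_lit 2,nat_lit 1,nat_lit 1,nat_lit 1,nat_lit 2,nat_lit 4,nat_lit 3])
 (.leaf [nat_lit 26,nat_lit 5,nat_lit 1,nat_lit 4,nat_lit 5,nat_lit 2,nat_lit 0,nat_lit 0,nat_lit 5,nat_lit 1,nat_lit 1,nat_lit 5,nat_lit 4,nat_lit 5,nat_lit 2,nat_lit 5])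
) (.node (.leaf [nat_lit 12,nat_lit 11,nat_lit 0,nat_lit 3,nat_lit 0,nat_lit 2,nat_lit 3,nat_lit 0,nat_lit 0,nat_lit 3,nat_lit 1,nat_lit 1,nat_lit 3,nat_lit 1,nat_lit 3,nat_lit 0,nat_lit 2,nat_lit 1])
 (.leaf [nat_lit 4,nat_lit 10,nat_lit 1,nat_lit 2,nat_lit 1,nat_lit 1,nat_lit 2,nat_lit 0,nat_lit 2,nat_lit 0,nat_lit 2,nat_lit 1,nat_lit 1,nat_lit 2,nat_lit 0,nat_lit 0])
))) (.node (.node (.node (.leaf [nat_lit 10,nat_lit 1,nat_lit 1,nat_lit 2,nat_lit 3,nat_lit 0,nat_lit 0,nat_lit 0,nat_lit 2,nat_lit 1,nat_lit 3,nat_lit 0,nat_lit 2,nat_lit 1,nat_lit 1,nat_lit 1,nat_lit 3])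
 (.leaf [nat_lit 8,nat_lit 4,nat_lit 1,nat_lit 2,nat_lit 0,nat_lit 2,nat_lit 3,nat_lit 2,nat_lit 1,nat_lit 2,nat_lit 0,nat_lit 3,nat_lit 1])
) (.node (.leaf [nat_lit 27,nat_lit 13,nat_lit 1,nat_lit 0,nat_lit 5,nat_lit 0,nat_lit 3,nat_lit 0,nat_lit 5,nat_lit 2,nat_lit 4,nat_lit 3,nat_lit 4,nat_lit 2,nat_lit 5,nat_lit 1,nat_lit 3])
 (.leaf [nat_lit 22,nat_lit 13,nat_lit 1,nat_lit 0,nat_lit 5,nat_lit 1,nat_lit 3,nat_lit 5,nat_lit 0,nat_lit 3,nat_lit 1,nat_lit 5,nat_lit 3,nat_lit 0,nat_lit 5,nat_lit 0,nat_lit 3])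
)) (.node (.node (.leaf [nat_lit 12,nat_lit 11,nat_lit 1,nat_lit 1,nat_lit 3,nat_lit 1,nat_lit 1,nat_lit 3,nat_lit 2,nat_lit 1,nat_lit 3,nat_lit 0,nat_lit 2,nat_lit 1,nat_lit 3,nat_lit 0,nat_lit 3,nat_lit 0])
 (.leaf [nat_lit 16,nat_lit 18,nat_lit 0,nat_lit 4,nat_lit 3,nat_lit 0,nat_lit 0,nat_lit 0,nat_lit 3,nat_lit 1,nat_lit 3,nat_lit 2,nat_lit 1,nat_lit 1,nat_lit 2,nat_lit 0,nat_lit 4,nat_lit 1,nat_lit 1,nat_lit 4,nat_lit 1,nat_lit 4,nat_lit 0])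
) (.leaf [nat_lit 16,nat_lit 8,nat_lit 1,nat_lit 4,nat_lit 1,nat_lit 2,nat_lit 0,nat_lit 0,nat_lit 2,nat_lit 3,nat_lit 0,nat_lit 3,nat_lit 1,nat_lit 1,nat_lit 1,nat_lit 3,nat_lit 4,nat_lit 1,nat_lit 4,nat_lit 0,nat_lit 4,nat_lit 0,nat_lit 0])
))))) (.node (.node (.node (.node (.node (.node (.leaf [nat_lit 24,nat_lit 4,nat_lit 1,nat_lit 3,nat_lit 0,nat_lit 5,nat_lit 2,nat_lit 1,nat_lit 3,nat_lit 0,nat_lit 2,nat_lit 1,nat_lit 3,nat_lit 0,nat_lit 5,nat_lit 1])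
 (.leaf [nat_lit 4,nat_lit 9,nat_lit 0,nat_lit 0,nat_lit 2,nat_lit 1,nat_lit 2,nat_lit 0,nat_lit 0,nat_lit 2,nat_lit 1,nat_lit 1,nat_lit 2,nat_lit 0,nat_lit 0,nat_lit 2])
) (.node (.leaf [nat_lit 23,nat_lit 9,nat_lit 1,nat_lit 2,nat_lit 1,nat_lit 1,nat_lit 2,nat_lit 0,nat_lit 0,nat_lit 2,nat_lit 5,nat_lit 1,nat_lit 2,nat_lit 0,nat_lit 5])
 (.leaf [nat_lit 26,nat_lit 7,nat_lit 1,nat_lit 2,nat_lit 0,nat_lit 0,nat_lit 5,nat_lit 1,nat_lit 1,nat_lit 5,nat_lit 4,nat_lit 5,nat_lit 2,nat_lit 5,nat_lit 4,nat_lit 5])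
)) (.node (.node (.leaf [nat_lit 9,nat_lit 4,nat_lit 1,nat_lit 2,nat_lit 1,nat_lit 3,nat_lit 2,nat_lit 3,nat_lit 0,nat_lit 2,nat_lit 1,nat_lit 3,nat_lit 2,nat_lit 3,nat_lit 0])
 (.leaf [nat_lit 23,nat_lit 1,nat_lit 1,nat_lit 1,nat_lit 0,nat_lit 2,nat_lit 5,nat_lit 1,nat_lit 2,nat_lit 0,nat_lit 5,nat_lit 2,nat_lit 1,nat_lit 1,nat_lit 2])
) (.node (.leaf [nat_lit 8,nat_lit 2,nat_lit 1,nat_lit 3,nat_lit 1,nat_lit 2,nat_lit 0,nat_lit 2,nat_lit 3,nat_lit 2,nat_lit 1,nat_lit 2,nat_lit 0])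
 (.leaf [nat_lit 28,nat_lit 6,nat_lit 0,nat_lit 4,nat_lit 0,nat_lit 2,nat_lit 1,nat_lit 2,nat_lit 4,nat_lit 5,nat_lit 4,nat_lit 0,nat_lit 2,nat_lit 1,nat_lit 2,nat_lit 4,nat_lit 5])
))) (.node (.node (.node (.leaf [nat_lit 14,nat_lit 9,nat_lit 0,nat_lit 2,nat_lit 4,nat_lit 1,nat_lit 3,nat_lit 2,nat_lit 3,nat_lit 1,nat_lit 2,nat_lit 0,nat_lit 0,nat_lit 2,nat_lit 4,nat_lit 2,nat_lit 1,nat_lit 2,nat_lit 0,nat_lit 4])
 (.leaf [nat_lit 27,nat_lit 1,nat_lit 1,nat_lit 1,nat_lit 3,nat_lit 0,nat_lit 5,nat_lit 2,nat_lit 4,nat_lit 3,nat_lit 4,nat_lit 2,nat_lit 5,nat_lit 1,nat_lit 3,nat_lit 1,nat_lit 5])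
) (.node (.leaf [nat_lit 17,nat_lit 20,nat_lit 1,nat_lit 0,nat_lit 4,nat_lit 1,nat_lit 1,nat_lit 3,nat_lit 0,nat_lit 0,nat_lit 2,nat_lit 1,nat_lit 4,nat_lit 3,nat_lit 2,nat_lit 0,nat_lit 2,nat_lit 1,nat_lit 3,nat_lit 1,nat_lit 2,nat_lit 1,nat_lit 2,nat_lit 1])
 (.leaf [nat_lit 24,nat_lit 2,nat_lit 0,nat_lit 0,nat_lit 3,nat_lit 0,nat_lit 2,nat_lit 5,nat_lit 1,nat_lit 3,nat_lit 0,nat_lit 5,nat_lit 1,nat_lit 3,nat_lit 0,nat_lit 2])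
)) (.node (.node (.leaf [nat_lit 11,nat_lit 7,nat_lit 1,nat_lit 1,nat_lit 0,nat_lit 0,nat_lit 2,nat_lit 1,nat_lit 1,nat_lit 1,nat_lit 2,nat_lit 3,nat_lit 1,nat_lit 3,nat_lit 0,nat_lit 3,nat_lit 2])
 (.leaf [nat_lit 18,nat_lit 7,nat_lit 1,nat_lit 1,nat_lit 4,nat_lit 1,nat_lit 3,nat_lit 2,nat_lit 3,nat_lit 1,nat_lit 2,nat_lit 1,nat_lit 1,nat_lit 2,nat_lit 1,nat_lit 2,nat_lit 1,nat_lit 1,nat_lit 1,nat_lit 2,nat_lit 1,nat_lit 4,nat_lit 2,nat_lit 4,nat_lit 0,nat_lit 2])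
) (.leaf [nat_lit 16,nat_lit 1,nat_lit 1,nat_lit 4,nat_lit 1,nat_lit 4,nat_lit 0,nat_lit 4,nat_lit 0,nat_lit 0,nat_lit 4,nat_lit 1,nat_lit 2,nat_lit 0,nat_lit 0,nat_lit 2,nat_lit 3,nat_lit 0,nat_lit 3,nat_lit 1,nat_lit 1,nat_lit 1,nat_lit 3])
))) (.node (.node (.node (.node (.leaf [nat_lit 17,nat_lit 20,nat_lit 0,nat_lit 4,nat_lit 0,nat_lit 0,nat_lit 2,nat_lit 0,nat_lit 2,nat_lit 0,nat_lit 3,nat_lit 0,nat_lit 2,nat_lit 1,nat_lit 2,nat_lit 3,nat_lit 4,nat_lit 0,nat_lit 2,nat_lit 1,nat_lit 1,nat_lit 3,nat_lit 0,nat_lit 0])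
 (.leaf [nat_lit 17,nat_lit 13,nat_lit 0,nat_lit 1,nat_lit 2,nat_lit 1,nat_lit 1,nat_lit 3,nat_lit 0,nat_lit 0,nat_lit 4,nat_lit 0,nat_lit 0,nat_lit 2,nat_lit 0,nat_lit 2,nat_lit 0,nat_lit 3,nat_lit 0,nat_lit 2,nat_lit 1,nat_lit 2,nat_lit 3,nat_lit 4])
) (.node (.leaf [nat_lit 2,nat_lit 5,nat_lit 1,nat_lit 0,nat_lit 1,nat_lit 1,nat_lit 1,nat_lit 1,nat_lit 1,nat_lit 1])
 (.leaf [nat_lit 14,nat_lit 8,nat_lit 0,nat_lit 4,nat_lit 2,nat_lit 4,nat_lit 1,nat_lit 3,nat_lit 2,nat_lit 3,nat_lit 1,nat_lit 2,nat_lit 0,nat_lit 0,nat_lit 2,nat_lit 4,nat_lit 2,nat_lit 1,nat_lit 2,nat_lit 0])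
)) (.node (.node (.leaf [nat_lit 24,nat_lit 6,nat_lit 0,nat_lit 5,nat_lit 1,nat_lit 3,nat_lit 0,nat_lit 5,nat_lit 1,nat_lit 3,nat_lit 0,nat_lit 2,nat_lit 1,nat_lit 3,nat_lit 0,nat_lit 2])
 (.leaf [nat_lit 26,nat_lit 11,nat_lit 0,nat_lit 4,nat_lit 5,nat_lit 0,nat_lit 0,nat_lit 5,nat_lit 1,nat_lit 1,nat_lit 2,nat_lit 5,nat_lit 4,nat_lit 5,nat_lit 2,nat_lit 5])
) (.node (.leaf [nat_lit 18,nat_lit 13,nat_lit 0,nat_lit 1,nat_lit 4,nat_lit 1,nat_lit 2,nat_lit 1,nat_lit 4,nat_lit 2,nat_lit 4,nat_lit 0,nat_lit 2,nat_lit 0,nat_lit 0,nat_lit 0,nat_lit 2,nat_lit 0,nat_lit 2,nat_lit 0,nat_lit 0,nat_lit 2,nat_lit 0,nat_lit 3,nat_lit 2,nat_lit 3])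
 (.leaf [nat_lit 24,nat_lit 5,nat_lit 0,nat_lit 2,nat_lit 5,nat_lit 1,nat_lit 3,nat_lit 0,nat_lit 5,nat_lit 1,nat_lit 3,nat_lit 0,nat_lit 2,nat_lit 1,nat_lit 3,nat_lit 0])
))) (.node (.node (.node (.leaf [nat_lit 23,nat_lit 0,nat_lit 1,nat_lit 2,nat_lit 0,nat_lit 0,nat_lit 2,nat_lit 5,nat_lit 1,nat_lit 2,nat_lit 0,nat_lit 5,nat_lit 2,nat_lit 1,nat_lit 1])
 (.leaf [nat_lit 28,nat_lit 7,nat_lit 0,nat_lit 1,nat_lit 2,nat_lit 1,nat_lit 2,nat_lit 4,nat_lit 5,nat_lit 4,nat_lit 0,nat_lit 2,nat_lit 1,nat_lit 2,nat_lit 4,nat_lit 5,nat_lit 4])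
) (.node (.leaf [nat_lit 10,nat_lit 2,nat_lit 1,nat_lit 3,nat_lit 0,nat_lit 0,nat_lit 0,nat_lit 2,nat_lit 1,nat_lit 3,nat_lit 0,nat_lit 2,nat_lit 1,nat_lit 1,nat_lit 1,nat_lit 3,nat_lit 2])
 (.leaf [nat_lit 23,nat_lit 7,nat_lit 1,nat_lit 1,nat_lit 5,nat_lit 2,nat_lit 1,nat_lit 1,nat_lit 2,nat_lit 0,nat_lit 0,nat_lit 2,nat_lit 5,nat_lit 1,nat_lit 2])
)) (.node (.node (.leaf [nat_lit 25,nat_lit 6,nat_lit 1,nat_lit 5,nat_lit 1,nat_lit 3,nat_lit 5,nat_lit 3,nat_lit 0,nat_lit 5,nat_lit 1,nat_lit 5,nat_lit 2,nat_lit 3,nat_lit 2,nat_lit 5,nat_lit 0])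
 (.leaf [nat_lit 22,nat_lit 1,nat_lit 1,nat_lit 0,nat_lit 3,nat_lit 5,nat_lit 0,nat_lit 3,nat_lit 1,nat_lit 5,nat_lit 3,nat_lit 0,nat_lit 5,nat_lit 0,nat_lit 3,nat_lit 1,nat_lit 5])
) (.leaf [nat_lit 17,nat_lit 16,nat_lit 1,nat_lit 2,nat_lit 1,nat_lit 2,nat_lit 1,nat_lit 1,nat_lit 4,nat_lit 1,nat_lit 1,nat_lit 3,nat_lit 0,nat_lit 0,nat_lit 2,nat_lit 1,nat_lit 4,nat_lit 3,nat_lit 2,nat_lit 0,nat_lit 2,nat_lit 1,nat_lit 3,nat_lit 1])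
)))) (.node (.node (.node (.node (.node (.leaf [nat_lit 8,nat_lit 5,nat_lit 1,nat_lit 1,nat_lit 2,nat_lit 3,nat_lit 2,nat_lit 1,nat_lit 2,nat_lit 0,nat_lit 3,nat_lit 1,nat_lit 2])
 (.leaf [nat_lit 25,nat_lit 13,nat_lit 1,nat_lit 0,nat_lit 5,nat_lit 2,nat_lit 3,nat_lit 2,nat_lit 5,nat_lit 0,nat_lit 5,nat_lit 1,nat_lit 3,nat_lit 5,nat_lit 3,nat_lit 0,nat_lit 5])
) (.node (.leaf [nat_lit 16,nat_lit 16,nat_lit 0,nat_lit 4,nat_lit 0,nat_lit 4,nat_lit 3,nat_lit 0,nat_lit 0,nat_lit 0,nat_lit 3,nat_lit 1,nat_lit 3,nat_lit 2,nat_lit 1,nat_lit 1,nat_lit 2,nat_lit 0,nat_lit 4,nat_lit 1,nat_lit 1,nat_lit 4,nat_lit 1])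
 (.leaf [nat_lit 16,nat_lit 9,nat_lit 1,nat_lit 0,nat_lit 2,nat_lit 0,nat_lit 0,nat_lit 2,nat_lit 3,nat_lit 0,nat_lit 3,nat_lit 1,nat_lit 1,nat_lit 1,nat_lit 3,nat_lit 4,nat_lit 1,nat_lit 4,nat_lit 0,nat_lit 4,nat_lit 0,nat_lit 0,nat_lit 4])
)) (.node (.node (.leaf [nat_lit 15,nat_lit 1,nat_lit 1,nat_lit 4,nat_lit 3,nat_lit 4,nat_lit 2,nat_lit 1,nat_lit 2,nat_lit 1,nat_lit 3,nat_lit 0,nat_lit 2,nat_lit 1,nat_lit 1,nat_lit 1,nat_lit 2,nat_lit 1,nat_lit 1,nat_lit 1,nat_lit 2])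
 (.leaf [nat_lit 16,nat_lit 4,nat_lit 1,nat_lit 1,nat_lit 4,nat_lit 0,nat_lit 0,nat_lit 4,nat_lit 1,nat_lit 2,nat_lit 0,nat_lit 0,nat_lit 2,nat_lit 3,nat_lit 0,nat_lit 3,nat_lit 1,nat_lit 1,nat_lit 1,nat_lit 3,nat_lit 4,nat_lit 1,nat_lit 4])
) (.node (.leaf [nat_lit 14,nat_lit 8,nat_lit 1,nat_lit 4,nat_lit 1,nat_lit 2,nat_lit 0,nat_lit 2,nat_lit 4,nat_lit 2,nat_lit 1,nat_lit 1,nat_lit 2,nat_lit 0,nat_lit 3,nat_lit 2,nat_lit 3,nat_lit 0,nat_lit 4,nat_lit 2])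
 (.leaf [nat_lit 15,nat_lit 12,nat_lit 0,nat_lit 1,nat_lit 2,nat_lit 4,nat_lit 3,nat_lit 4,nat_lit 2,nat_lit 0,nat_lit 0,nat_lit 0,nat_lit 2,nat_lit 0,nat_lit 0,nat_lit 0,nat_lit 2,nat_lit 1,nat_lit 3,nat_lit 0,nat_lit 2])
))) (.node (.node (.node (.leaf [nat_lit 16,nat_lit 3,nat_lit 1,nat_lit 4,nat_lit 0,nat_lit 4,nat_lit 0,nat_lit 0,nat_lit 4,nat_lit 1,nat_lit 2,nat_lit 0,nat_lit 0,nat_lit 2,nat_lit 3,nat_lit 0,nat_lit 3,nat_lit 1,nat_lit 1,nat_lit 1,nat_lit 3,nat_lit 4,nat_lit 1])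
 (.leaf [nat_lit 26,nat_lit 7,nat_lit 0,nat_lit 4,nat_lit 5,nat_lit 2,nat_lit 5,nat_lit 4,nat_lit 5,nat_lit 0,nat_lit 0,nat_lit 5,nat_lit 1,nat_lit 1,nat_lit 2,nat_lit 5])
) (.node (.leaf [nat_lit 4,nat_lit 4,nat_lit 1,nat_lit 2,nat_lit 1,nat_lit 1,nat_lit 2,nat_lit 0,nat_lit 0,nat_lit 2,nat_lit 1,nat_lit 1,nat_lit 2,nat_lit 0,nat_lit 2,nat_lit 0])
 (.leaf [nat_lit 8,nat_lit 1,nat_lit 1,nat_lit 1,nat_lit 3,nat_lit 1,nat_lit 2,nat_lit 0,nat_lit 2,nat_lit 3,nat_lit 2,nat_lit 1,nat_lit 2])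
)) (.node (.node (.leaf [nat_lit 15,nat_lit 15,nat_lit 0,nat_lit 3,nat_lit 4,nat_lit 2,nat_lit 0,nat_lit 0,nat_lit 0,nat_lit 2,nat_lit 0,nat_lit 0,nat_lit 0,nat_lit 2,nat_lit 1,nat_lit 3,nat_lit 0,nat_lit 2,nat_lit 0,nat_lit 2,nat_lit 4])
 (.leaf [nat_lit 11,nat_lit 6,nat_lit 1,nat_lit 2,nat_lit 0,nat_lit 0,nat_lit 0,nat_lit 2,nat_lit 1,nat_lit 1,nat_lit 1,nat_lit 2,nat_lit 3,nat_lit 1,nat_lit 3,nat_lit 0,nat_lit 3])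
) (.leaf [nat_lit 14,nat_lit 4,nat_lit 0,nat_lit 2,nat_lit 1,nat_lit 2,nat_lit 0,nat_lit 4,nat_lit 2,nat_lit 4,nat_lit 1,nat_lit 3,nat_lit 2,nat_lit 3,nat_lit 1,nat_lit 2,nat_lit 0,nat_lit 0,nat_lit 2,nat_lit 4])
))) (.node (.node (.node (.node (.leaf [nat_lit 4,nat_lit 0,nat_lit 1,nat_lit 2,nat_lit 0,nat_lit 2,nat_lit 0,nat_lit 2,nat_lit 1,nat_lit 1,nat_lit 2,nat_lit 0,nat_lit 0,nat_lit 2,nat_lit 1,nat_lit 1])
 (.leaf [nat_lit 15,nat_lit 5,nat_lit 1,nat_lit 0,nat_lit 2,nat_lit 1,nat_lit 3,nat_lit 0,nat_lit 2,nat_lit 1,nat_lit 1,nat_lit 1,nat_lit 2,nat_lit 1,nat_lit 1,nat_lit 1,nat_lit 2,nat_lit 4,nat_lit 3,nat_lit 4,nat_lit 2])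
) (.node (.leaf [nat_lit 26,nat_lit 2,nat_lit 1,nat_lit 5,nat_lit 2,nat_lit 5,nat_lit 4,nat_lit 5,nat_lit 2,nat_lit 0,nat_lit 0,nat_lit 5,nat_lit 1,nat_lit 1,nat_lit 5,nat_lit 4])
 (.leaf [nat_lit 15,nat_lit 17,nat_lit 1,nat_lit 0,nat_lit 2,nat_lit 4,nat_lit 3,nat_lit 4,nat_lit 2,nat_lit 1,nat_lit 2,nat_lit 1,nat_lit 3,nat_lit 0,nat_lit 2,nat_lit 1,nat_lit 1,nat_lit 1,nat_lit 2,nat_lit 1,nat_lit 1])
)) (.node (.node (.leaf [nat_lit 28,nat_lit 8,nat_lit 1,nat_lit 5,nat_lit 4,nat_lit 2,nat_lit 0,nat_lit 2,nat_lit 1,nat_lit 4,nat_lit 5,nat_lit 4,nat_lit 2,nat_lit 0,nat_lit 2,nat_lit 1,nat_lit 4])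
 (.leaf [nat_lit 10,nat_lit 10,nat_lit 1,nat_lit 2,nat_lit 1,nat_lit 1,nat_lit 1,nat_lit 3,nat_lit 2,nat_lit 3,nat_lit 0,nat_lit 0,nat_lit 0,nat_lit 2,nat_lit 1,nat_lit 3,nat_lit 0])
) (.leaf [nat_lit 10,nat_lit 6,nat_lit 1,nat_lit 2,nat_lit 1,nat_lit 3,nat_lit 0,nat_lit 2,nat_lit 1,nat_lit 1,nat_lit 1,nat_lit 3,nat_lit 2,nat_lit 3,nat_lit 0,nat_lit 0,nat_lit 0])
)) (.node (.node (.node (.leaf [nat_lit 10,nat_lit 8,nat_lit 1,nat_lit 3,nat_lit 0,nat_lit 2,nat_lit 1,nat_lit 1,nat_lit 1,nat_lit 3,nat_lit 2,nat_lit 3,nat_lit 0,nat_lit 0,nat_lit 0,nat_lit 2,nat_lit 1])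
 (.leaf [nat_lit 17,nat_lit 9,nat_lit 1,nat_lit 3,nat_lit 2,nat_lit 0,nat_lit 2,nat_lit 1,nat_lit 3,nat_lit 1,nat_lit 2,nat_lit 1,nat_lit 2,nat_lit 1,nat_lit 1,nat_lit 4,nat_lit 1,nat_lit 1,nat_lit 3,nat_lit 0,nat_lit 0,nat_lit 2,nat_lit 1,nat_lit 4])
) (.node (.leaf [nat_lit 24,nat_lit 1,nat_lit 0,nat_lit 2,nat_lit 1,nat_lit 3,nat_lit 0,nat_lit 2,nat_lit 5,nat_lit 1,nat_lit 3,nat_lit 0,nat_lit 5,nat_lit 1,nat_lit 3,nat_lit 0])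
 (.leaf [nat_lit 22,nat_lit 4,nat_lit 1,nat_lit 1,nat_lit 3,nat_lit 1,nat_lit 5,nat_lit 3,nat_lit 0,nat_lit 5,nat_lit 0,nat_lit 3,nat_lit 1,nat_lit 5,nat_lit 1,nat_lit 3,nat_lit 5])
)) (.node (.node (.leaf [nat_lit 15,nat_lit 16,nat_lit 0,nat_lit 4,nat_lit 2,nat_lit 0,nat_lit 0,nat_lit 0,nat_lit 2,nat_lit 0,nat_lit 0,nat_lit 0,nat_lit 2,nat_lit 1,nat_lit 3,nat_lit 0,nat_lit 2,nat_lit 0,nat_lit 2,nat_lit 4,nat_lit 3])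
 (.leaf [nat_lit 12,nat_lit 14,nat_lit 1,nat_lit 0,nat_lit 3,nat_lit 2,nat_lit 1,nat_lit 3,nat_lit 0,nat_lit 2,nat_lit 1,nat_lit 3,nat_lit 0,nat_lit 3,nat_lit 0,nat_lit 0,nat_lit 3,nat_lit 1])
) (.leaf [nat_lit 18,nat_lit 11,nat_lit 0,nat_lit 2,nat_lit 3,nat_lit 0,nat_lit 4,nat_lit 1,nat_lit 2,nat_lit 1,nat_lit 4,nat_lit 2,nat_lit 4,nat_lit 0,nat_lit 2,nat_lit 0,nat_lit 0,nat_lit 0,nat_lit 2,nat_lit 0,nat_lit 2,nat_lit 0,nat_lit 0,nat_lit 2,nat_lit 0,nat_lit 3])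
)))))) (.node (.node (.node (.node (.node (.node (.node (.leaf [nat_lit 23,nat_lit 6,nat_lit 1,nat_lit 2,nat_lit 0,nat_lit 5,nat_lit 2,nat_lit 1,nat_lit 1,nat_lit 2,nat_lit 0,nat_lit 0,nat_lit 2,nat_lit 5,nat_lit 1])
 (.leaf [nat_lit 4,nat_lit 1,nat_lit 1,nat_lit 1,nat_lit 2,nat_lit 0,nat_lit 2,nat_lit 1,nat_lit 1,nat_lit 2,nat_lit 0,nat_lit 0,nat_lit 2,nat_lit 1,nat_lit 1,nat_lit 2])
) (.node (.leaf [nat_lit 14,nat_lit 14,nat_lit 0,nat_lit 3,nat_lit 1,nat_lit 2,nat_lit 0,nat_lit 0,nat_lit 2,nat_lit 4,nat_lit 2,nat_lit 1,nat_lit 2,nat_lit 0,nat_lit 4,nat_lit 2,nat_lit 4,nat_lit 1,nat_lit 3,nat_lit 2])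
 (.leaf [nat_lit 25,nat_lit 10,nat_lit 1,nat_lit 3,nat_lit 0,nat_lit 5,nat_lit 1,nat_lit 5,nat_lit 2,nat_lit 3,nat_lit 2,nat_lit 5,nat_lit 0,nat_lit 5,nat_lit 1,nat_lit 3,nat_lit 5])
)) (.node (.node (.leaf [nat_lit 15,nat_lit 2,nat_lit 1,nat_lit 3,nat_lit 4,nat_lit 2,nat_lit 1,nat_lit 2,nat_lit 1,nat_lit 3,nat_lit 0,nat_lit 2,nat_lit 1,nat_lit 1,nat_lit 1,nat_lit 2,nat_lit 1,nat_lit 1,nat_lit 1,nat_lit 2,nat_lit 4])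
 (.leaf [nat_lit 27,nat_lit 6,nat_lit 1,nat_lit 4,nat_lit 3,nat_lit 4,nat_lit 2,nat_lit 5,nat_lit 1,nat_lit 3,nat_lit 1,nat_lit 5,nat_lit 0,nat_lit 3,nat_lit 0,nat_lit 5,nat_lit 2])
) (.node (.leaf [nat_lit 22,nat_lit 8,nat_lit 1,nat_lit 3,nat_lit 0,nat_lit 5,nat_lit 0,nat_lit 3,nat_lit 1,nat_lit 5,nat_lit 1,nat_lit 3,nat_lit 5,nat_lit 0,nat_lit 3,nat_lit 1,nat_lit 5])
 (.leaf [nat_lit 25,nat_lit 8,nat_lit 1,nat_lit 3,nat_lit 5,nat_lit 3,nat_lit 0,nat_lit 5,nat_lit 1,nat_lit 5,nat_lit 2,nat_lit 3,nat_lit 2,nat_lit 5,nat_lit 0,nat_lit 5,nat_lit 1])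
))) (.node (.node (.node (.leaf [nat_lit 24,nat_lit 9,nat_lit 1,nat_lit 3,nat_lit 0,nat_lit 2,nat_lit 1,nat_lit 3,nat_lit 0,nat_lit 5,nat_lit 1,nat_lit 3,nat_lit 0,nat_lit 5,nat_lit 2,nat_lit 1])
 (.leaf [nat_lit 21,nat_lit 11,nat_lit 1,nat_lit 0,nat_lit 5,nat_lit 0,nat_lit 3,nat_lit 1,nat_lit 5,nat_lit 0,nat_lit 3,nat_lit 1,nat_lit 5,nat_lit 0,nat_lit 3])
) (.node (.leaf [nat_lit 23,nat_lit 4,nat_lit 1,nat_lit 5,nat_lit 1,nat_lit 2,nat_lit 0,nat_lit 5,nat_lit 2,nat_lit 1,nat_lit 1,nat_lit 2,nat_lit 0,nat_lit 0,nat_lit 2])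
 (.leaf [nat_lit 28,nat_lit 9,nat_lit 1,nat_lit 4,nat_lit 2,nat_lit 0,nat_lit 2,nat_lit 1,nat_lit 4,nat_lit 5,nat_lit 4,nat_lit 2,nat_lit 0,nat_lit 2,nat_lit 1,nat_lit 4,nat_lit 5])
)) (.node (.node (.leaf [nat_lit 26,nat_lit 12,nat_lit 1,nat_lit 0,nat_lit 5,nat_lit 4,nat_lit 5,nat_lit 2,nat_lit 5,nat_lit 4,nat_lit 5,nat_lit 2,nat_lit 0,nat_lit 0,nat_lit 5,nat_lit 1])
 (.leaf [nat_lit 11,nat_lit 13,nat_lit 1,nat_lit 0,nat_lit 2,nat_lit 3,nat_lit 1,nat_lit 3,nat_lit 0,nat_lit 3,nat_lit 2,nat_lit 0,nat_lit 0,nat_lit 0,nat_lit 2,nat_lit 1,nat_lit 1])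
) (.leaf [nat_lit 17,nat_lit 19,nat_lit 1,nat_lit 0,nat_lit 1,nat_lit 4,nat_lit 1,nat_lit 1,nat_lit 3,nat_lit 0,nat_lit 0,nat_lit 2,nat_lit 1,nat_lit 4,nat_lit 3,nat_lit 2,nat_lit 0,nat_lit 2,nat_lit 1,nat_lit 3,nat_lit 1,nat_lit 2,nat_lit 1,nat_lit 2])
))) (.node (.node (.node (.node (.leaf [nat_lit 18,nat_lit 9,nat_lit 1,nat_lit 0,nat_lit 3,nat_lit 2,nat_lit 3,nat_lit 1,nat_lit 2,nat_lit 1,nat_lit 1,nat_lit 2,nat_lit 1,nat_lit 2,nat_lit 1,nat_lit 1,nat_lit 1,nat_lit 2,nat_lit 1,nat_lit 4,nat_lit 2,nat_lit 4,nat_lit 0,nat_lit 2,nat_lit 0,nat_lit 4])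
 (.leaf [nat_lit 18,nat_lit 14,nat_lit 0,nat_lit 4,nat_lit 1,nat_lit 2,nat_lit 1,nat_lit 4,nat_lit 2,nat_lit 4,nat_lit 0,nat_lit 2,nat_lit 0,nat_lit 0,nat_lit 0,nat_lit 2,nat_lit 0,nat_lit 2,nat_lit 0,nat_lit 0,nat_lit 2,nat_lit 0,nat_lit 3,nat_lit 2,nat_lit 3,nat_lit 0])
) (.node (.leaf [nat_lit 11,nat_lit 10,nat_lit 1,nat_lit 2,nat_lit 1,nat_lit 1,nat_lit 1,nat_lit 2,nat_lit 3,nat_lit 1,nat_lit 3,nat_lit 0,nat_lit 3,nat_lit 2,nat_lit 0,nat_lit 0,nat_lit 0])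
 (.leaf [nat_lit 22,nat_lit 3,nat_lit 1,nat_lit 5,nat_lit 0,nat_lit 3,nat_lit 1,nat_lit 5,nat_lit 3,nat_lit 0,nat_lit 5,nat_lit 0,nat_lit 3,nat_lit 1,nat_lit 5,nat_lit 1,nat_lit 3])
)) (.node (.node (.leaf [nat_lit 25,nat_lit 2,nat_lit 1,nat_lit 3,nat_lit 2,nat_lit 5,nat_lit 0,nat_lit 5,nat_lit 1,nat_lit 3,nat_lit 5,nat_lit 3,nat_lit 0,nat_lit 5,nat_lit 1,nat_lit 5,nat_lit 2])
 (.leaf [nat_lit 10,nat_lit 0,nat_lit 1,nat_lit 3,nat_lit 2,nat_lit 3,nat_lit 0,nat_lit 0,nat_lit 0,nat_lit 2,nat_lit 1,nat_lit 3,nat_lit 0,nat_lit 2,nat_lit 1,nat_lit 1,nat_lit 1])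
) (.node (.leaf [nat_lit 16,nat_lit 13,nat_lit 0,nat_lit 0,nat_lit 4,nat_lit 1,nat_lit 4,nat_lit 0,nat_lit 4,nat_lit 3,nat_lit 0,nat_lit 0,nat_lit 0,nat_lit 3,nat_lit 1,nat_lit 3,nat_lit 2,nat_lit 1,nat_lit 1,nat_lit 2,nat_lit 0,nat_lit 4,nat_lit 1])
 (.leaf [nat_lit 15,nat_lit 0,nat_lit 0,nat_lit 1,nat_lit 0,nat_lit 0,nat_lit 2,nat_lit 0,nat_lit 0,nat_lit 0,nat_lit 2,nat_lit 1,nat_lit 3,nat_lit 0,nat_lit 2,nat_lit 0,nat_lit 2,nat_lit 4,nat_lit 3,nat_lit 4,nat_lit 2])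
))) (.node (.node (.node (.leaf [nat_lit 28,nat_lit 11,nat_lit 0,nat_lit 4,nat_lit 5,nat_lit 4,nat_lit 0,nat_lit 2,nat_lit 1,nat_lit 2,nat_lit 4,nat_lit 5,nat_lit 4,nat_lit 0,nat_lit 2,nat_lit 1,nat_lit 2])
 (.leaf [nat_lit 28,nat_lit 10,nat_lit 1,nat_lit 2,nat_lit 0,nat_lit 2,nat_lit 1,nat_lit 4,nat_lit 5,nat_lit 4,nat_lit 2,nat_lit 0,nat_lit 2,nat_lit 1,nat_lit 4,nat_lit 5,nat_lit 4])
) (.node (.leaf [nat_lit 26,nat_lit 3,nat_lit 1,nat_lit 2,nat_lit 5,nat_lit 4,nat_lit 5,nat_lit 2,nat_lit 0,nat_lit 0,nat_lit 5,nat_lit 1,nat_lit 1,nat_lit 5,nat_lit 4,nat_lit 5])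
 (.leaf [nat_lit 4,nat_lit 12,nat_lit 0,nat_lit 2,nat_lit 0,nat_lit 0,nat_lit 2,nat_lit 1,nat_lit 1,nat_lit 2,nat_lit 0,nat_lit 0,nat_lit 2,nat_lit 1,nat_lit 2,nat_lit 1])
)) (.node (.node (.leaf [nat_lit 14,nat_lit 6,nat_lit 1,nat_lit 4,nat_lit 2,nat_lit 4,nat_lit 1,nat_lit 2,nat_lit 0,nat_lit 2,nat_lit 4,nat_lit 2,nat_lit 1,nat_lit 1,nat_lit 2,nat_lit 0,nat_lit 3,nat_lit 2,nat_lit 3,nat_lit 0])
 (.leaf [nat_lit 15,nat_lit 16,nat_lit 1,nat_lit 0,nat_lit 1,nat_lit 2,nat_lit 4,nat_lit 3,nat_lit 4,nat_lit 2,nat_lit 1,nat_lit 2,nat_lit 1,nat_lit 3,nat_lit 0,nat_lit 2,nat_lit 1,nat_lit 1,nat_lit 1,nat_lit 2,nat_lit 1])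
) (.leaf [nat_lit 27,nat_lit 11,nat_lit 1,nat_lit 0,nat_lit 3,nat_lit 1,nat_lit 5,nat_lit 0,nat_lit 3,nat_lit 0,nat_lit 5,nat_lit 2,nat_lit 4,nat_lit 3,nat_lit 4,nat_lit 2,nat_lit 5])
)))) (.node (.node (.node (.node (.node (.leaf [nat_lit 21,nat_lit 8,nat_lit 1,nat_lit 5,nat_lit 0,nat_lit 3,nat_lit 1,nat_lit 5,nat_lit 0,nat_lit 3,nat_lit 1,nat_lit 5,nat_lit 0,nat_lit 3,nat_lit 1])
 (.leaf [nat_lit 18,nat_lit 6,nat_lit 1,nat_lit 2,nat_lit 0,nat_lit 4,nat_lit 1,nat_lit 3,nat_lit 2,nat_lit 3,nat_lit 1,nat_lit 2,nat_lit 1,nat_lit 1,nat_lit 2,nat_lit 1,nat_lit 2,nat_lit 1,nat_lit 1,nat_lit 1,nat_lit 2,nat_lit 1,nat_lit 4,nat_lit 2,nat_lit 4,nat_lit 0])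
) (.node (.leaf [nat_lit 17,nat_lit 3,nat_lit 1,nat_lit 3,nat_lit 0,nat_lit 0,nat_lit 2,nat_lit 1,nat_lit 4,nat_lit 3,nat_lit 2,nat_lit 0,nat_lit 2,nat_lit 1,nat_lit 3,nat_lit 1,nat_lit 2,nat_lit 1,nat_lit 2,nat_lit 1,nat_lit 1,nat_lit 4,nat_lit 1,nat_lit 1])
 (.leaf [nat_lit 14,nat_lit 12,nat_lit 1,nat_lit 2,nat_lit 4,nat_lit 2,nat_lit 1,nat_lit 1,nat_lit 2,nat_lit 0,nat_lit 3,nat_lit 2,nat_lit 3,nat_lit 0,nat_lit 4,nat_lit 2,nat_lit 4,nat_lit 1,nat_lit 2,nat_lit 0])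
)) (.node (.node (.leaf [nat_lit 12,nat_lit 13,nat_lit 0,nat_lit 2,nat_lit 3,nat_lit 0,nat_lit 0,nat_lit 3,nat_lit 1,nat_lit 1,nat_lit 3,nat_lit 1,nat_lit 3,nat_lit 0,nat_lit 2,nat_lit 1,nat_lit 3,nat_lit 0])
 (.leaf [nat_lit 26,nat_lit 6,nat_lit 1,nat_lit 5,nat_lit 2,nat_lit 0,nat_lit 0,nat_lit 5,nat_lit 1,nat_lit 1,nat_lit 5,nat_lit 4,nat_lit 5,nat_lit 2,nat_lit 5,nat_lit 4])
) (.node (.leaf [nat_lit 28,nat_lit 0,nat_lit 1,nat_lit 4,nat_lit 5,nat_lit 4,nat_lit 2,nat_lit 0,nat_lit 2,nat_lit 1,nat_lit 4,nat_lit 5,nat_lit 4,nat_lit 2,nat_lit 0,nat_lit 2,nat_lit 1])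
 (.leaf [nat_lit 16,nat_lit 7,nat_lit 0,nat_lit 0,nat_lit 1,nat_lit 2,nat_lit 0,nat_lit 4,nat_lit 1,nat_lit 1,nat_lit 4,nat_lit 1,nat_lit 4,nat_lit 0,nat_lit 4,nat_lit 3,nat_lit 0,nat_lit 0,nat_lit 0,nat_lit 3,nat_lit 1,nat_lit 3,nat_lit 2])
))) (.node (.node (.node (.leaf [nat_lit 14,nat_lit 10,nat_lit 1,nat_lit 2,nat_lit 0,nat_lit 2,nat_lit 4,nat_lit 2,nat_lit 1,nat_lit 1,nat_lit 2,nat_lit 0,nat_lit 3,nat_lit 2,nat_lit 3,nat_lit 0,nat_lit 4,nat_lit 2,nat_lit 4,nat_lit 1])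
 (.leaf [nat_lit 17,nat_lit 10,nat_lit 1,nat_lit 2,nat_lit 0,nat_lit 2,nat_lit 1,nat_lit 3,nat_lit 1,nat_lit 2,nat_lit 1,nat_lit 2,nat_lit 1,nat_lit 1,nat_lit 4,nat_lit 1,nat_lit 1,nat_lit 3,nat_lit 0,nat_lit 0,nat_lit 2,nat_lit 1,nat_lit 4,nat_lit 3])
) (.node (.leaf [nat_lit 7,nat_lit 5,nat_lit 1,nat_lit 2,nat_lit 3,nat_lit 2,nat_lit 3,nat_lit 2,nat_lit 3,nat_lit 2,nat_lit 3])
 (.leaf [nat_lit 26,nat_lit 9,nat_lit 1,nat_lit 1,nat_lit 5,nat_lit 1,nat_lit 1,nat_lit 5,nat_lit 4,nat_lit 5,nat_lit 2,nat_lit 5,nat_lit 4,nat_lit 5,nat_lit 2,nat_lit 0])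
)) (.node (.node (.leaf [nat_lit 17,nat_lit 7,nat_lit 1,nat_lit 0,nat_lit 4,nat_lit 3,nat_lit 2,nat_lit 0,nat_lit 2,nat_lit 1,nat_lit 3,nat_lit 1,nat_lit 2,nat_lit 1,nat_lit 2,nat_lit 1,nat_lit 1,nat_lit 4,nat_lit 1,nat_lit 1,nat_lit 3,nat_lit 0,nat_lit 0,nat_lit 2])
 (.leaf [nat_lit 27,nat_lit 8,nat_lit 1,nat_lit 4,nat_lit 2,nat_lit 5,nat_lit 1,nat_lit 3,nat_lit 1,nat_lit 5,nat_lit 0,nat_lit 3,nat_lit 0,nat_lit 5,nat_lit 2,nat_lit 4,nat_lit 3])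
) (.leaf [nat_lit 4,nat_lit 7,nat_lit 1,nat_lit 2,nat_lit 0,nat_lit 0,nat_lit 2,nat_lit 1,nat_lit 1,nat_lit 2,nat_lit 0,nat_lit 2,nat_lit 0,nat_lit 2,nat_lit 1,nat_lit 1])
))) (.node (.node (.node (.node (.leaf [nat_lit 21,nat_lit 10,nat_lit 1,nat_lit 3,nat_lit 1,nat_lit 5,nat_lit 0,nat_lit 3,nat_lit 1,nat_lit 5,nat_lit 0,nat_lit 3,nat_lit 1,nat_lit 5,nat_lit 0])
 (.leaf [nat_lit 26,nat_lit 10,nat_lit 1,nat_lit 5,nat_lit 1,nat_lit 1,nat_lit 5,nat_lit 4,nat_lit 5,nat_lit 2,nat_lit 5,nat_lit 4,nat_lit 5,nat_lit 2,nat_lit 0,nat_lit 0])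
) (.node (.leaf [nat_lit 14,nat_lit 13,nat_lit 0,nat_lit 2,nat_lit 3,nat_lit 1,nat_lit 2,nat_lit 0,nat_lit 0,nat_lit 2,nat_lit 4,nat_lit 2,nat_lit 1,nat_lit 2,nat_lit 0,nat_lit 4,nat_lit 2,nat_lit 4,nat_lit 1,nat_lit 3])
 (.leaf [nat_lit 9,nat_lit 5,nat_lit 1,nat_lit 0,nat_lit 3,nat_lit 2,nat_lit 3,nat_lit 0,nat_lit 2,nat_lit 1,nat_lit 3,nat_lit 2,nat_lit 3,nat_lit 0,nat_lit 2])
)) (.node (.node (.leaf [nat_lit 17,nat_lit 18,nat_lit 0,nat_lit 1,nat_lit 0,nat_lit 4,nat_lit 0,nat_lit 0,nat_lit 2,nat_lit 0,nat_lit 2,nat_lit 0,nat_lit 3,nat_lit 0,nat_lit 2,nat_lit 1,nat_lit 2,nat_lit 3,nat_lit 4,nat_lit 0,nat_lit 2,nat_lit 1,nat_lit 1,nat_lit 3])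
 (.leaf [nat_lit 25,nat_lit 9,nat_lit 1,nat_lit 5,nat_lit 3,nat_lit 0,nat_lit 5,nat_lit 1,nat_lit 5,nat_lit 2,nat_lit 3,nat_lit 2,nat_lit 5,nat_lit 0,nat_lit 5,nat_lit 1,nat_lit 3])
) (.leaf [nat_lit 24,nat_lit 5,nat_lit 1,nat_lit 1,nat_lit 5,nat_lit 2,nat_lit 1,nat_lit 3,nat_lit 0,nat_lit 2,nat_lit 1,nat_lit 3,nat_lit 0,nat_lit 5,nat_lit 1,nat_lit 3])
)) (.node (.node (.node (.leaf [nat_lit 22,nat_lit 0,nat_lit 1,nat_lit 5,nat_lit 1,nat_lit 3,nat_lit 5,nat_lit 0,nat_lit 3,nat_lit 1,nat_lit 5,nat_lit 3,nat_lit 0,nat_lit 5,nat_lit 0,nat_lit 3,nat_lit 1])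
 (.leaf [nat_lit 9,nat_lit 8,nat_lit 1,nat_lit 3,nat_lit 0,nat_lit 2,nat_lit 1,nat_lit 3,nat_lit 2,nat_lit 3,nat_lit 0,nat_lit 2,nat_lit 1,nat_lit 3,nat_lit 2])
) (.node (.leaf [nat_lit 11,nat_lit 12,nat_lit 1,nat_lit 0,nat_lit 1,nat_lit 2,nat_lit 3,nat_lit 1,nat_lit 3,nat_lit 0,nat_lit 3,nat_lit 2,nat_lit 0,nat_lit 0,nat_lit 0,nat_lit 2,nat_lit 1])
 (.leaf [nat_lit 24,nat_lit 12,nat_lit 1,nat_lit 0,nat_lit 3,nat_lit 0,nat_lit 5,nat_lit 1,nat_lit 3,nat_lit 0,nat_lit 5,nat_lit 2,nat_lit 1,nat_lit 3,nat_lit 0,nat_lit 2])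
)) (.node (.node (.leaf [nat_lit 8,nat_lit 6,nat_lit 1,nat_lit 2,nat_lit 3,nat_lit 2,nat_lit 1,nat_lit 2,nat_lit 0,nat_lit 3,nat_lit 1,nat_lit 2,nat_lit 0])
 (.leaf [nat_lit 27,nat_lit 3,nat_lit 1,nat_lit 1,nat_lit 5,nat_lit 2,nat_lit 4,nat_lit 3,nat_lit 4,nat_lit 2,nat_lit 5,nat_lit 1,nat_lit 3,nat_lit 1,nat_lit 5,nat_lit 0,nat_lit 3])
) (.leaf [nat_lit 17,nat_lit 6,nat_lit 1,nat_lit 2,nat_lit 1,nat_lit 4,nat_lit 3,nat_lit 2,nat_lit 0,nat_lit 2,nat_lit 1,nat_lit 3,nat_lit 1,nat_lit 2,nat_lit 1,nat_lit 2,nat_lit 1,nat_lit 1,nat_lit 4,nat_lit 1,nat_lit 1,nat_lit 3,nat_lit 0,nat_lit 0])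
))))) (.node (.node (.node (.node (.node (.node (.leaf [nat_lit 7,nat_lit 2,nat_lit 1,nat_lit 3,nat_lit 2,nat_lit 3,nat_lit 2,nat_lit 3,nat_lit 2,nat_lit 3,nat_lit 2])
 (.leaf [nat_lit 14,nat_lit 4,nat_lit 1,nat_lit 3,nat_lit 0,nat_lit 4,nat_lit 2,nat_lit 4,nat_lit 1,nat_lit 2,nat_lit 0,nat_lit 2,nat_lit 4,nat_lit 2,nat_lit 1,nat_lit 1,nat_lit 2,nat_lit 0,nat_lit 3,nat_lit 2])
) (.node (.leaf [nat_lit 27,nat_lit 7,nat_lit 1,nat_lit 3,nat_lit 4,nat_lit 2,nat_lit 5,nat_lit 1,nat_lit 3,nat_lit 1,nat_lit 5,nat_lit 0,nat_lit 3,nat_lit 0,nat_lit 5,nat_lit 2,nat_lit 4])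
 (.leaf [nat_lit 10,nat_lit 13,nat_lit 1,nat_lit 0,nat_lit 3,nat_lit 2,nat_lit 3,nat_lit 0,nat_lit 0,nat_lit 0,nat_lit 2,nat_lit 1,nat_lit 3,nat_lit 0,nat_lit 2,nat_lit 1,nat_lit 1])
)) (.node (.node (.leaf [nat_lit 20,nat_lit 3,nat_lit 1,nat_lit 3,nat_lit 5,nat_lit 3,nat_lit 5,nat_lit 3,nat_lit 5])
 (.leaf [nat_lit 16,nat_lit 0,nat_lit 1,nat_lit 3,nat_lit 4,nat_lit 1,nat_lit 4,nat_lit 0,nat_lit 4,nat_lit 0,nat_lit 0,nat_lit 4,nat_lit 1,nat_lit 2,nat_lit 0,nat_lit 0,nat_lit 2,nat_lit 3,nat_lit 0,nat_lit 3,nat_lit 1,nat_lit 1,nat_lit 1])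
) (.node (.leaf [nat_lit 16,nat_lit 12,nat_lit 0,nat_lit 0,nat_lit 1,nat_lit 4,nat_lit 1,nat_lit 4,nat_lit 0,nat_lit 4,nat_lit 3,nat_lit 0,nat_lit 0,nat_lit 0,nat_lit 3,nat_lit 1,nat_lit 3,nat_lit 2,nat_lit 1,nat_lit 1,nat_lit 2,nat_lit 0,nat_lit 4])
 (.leaf [nat_lit 22,nat_lit 10,nat_lit 1,nat_lit 5,nat_lit 0,nat_lit 3,nat_lit 1,nat_lit 5,nat_lit 1,nat_lit 3,nat_lit 5,nat_lit 0,nat_lit 3,nat_lit 1,nat_lit 5,nat_lit 3,nat_lit 0])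
))) (.node (.node (.node (.leaf [nat_lit 28,nat_lit 12,nat_lit 1,nat_lit 2,nat_lit 1,nat_lit 4,nat_lit 5,nat_lit 4,nat_lit 2,nat_lit 0,nat_lit 2,nat_lit 1,nat_lit 4,nat_lit 5,nat_lit 4,nat_lit 2,nat_lit 0])
 (.leaf [nat_lit 28,nat_lit 13,nat_lit 1,nat_lit 0,nat_lit 4,nat_lit 5,nat_lit 4,nat_lit 2,nat_lit 0,nat_lit 2,nat_lit 1,nat_lit 4,nat_lit 5,nat_lit 4,nat_lit 2,nat_lit 0,nat_lit 2])
) (.node (.leaf [nat_lit 26,nat_lit 4,nat_lit 1,nat_lit 5,nat_lit 4,nat_lit 5,nat_lit 2,nat_lit 0,nat_lit 0,nat_lit 5,nat_lit 1,nat_lit 1,nat_lit 5,nat_lit 4,nat_lit 5,nat_lit 2])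
 (.leaf [nat_lit 4,nat_lit 3,nat_lit 1,nat_lit 1,nat_lit 2,nat_lit 1,nat_lit 1,nat_lit 2,nat_lit 0,nat_lit 0,nat_lit 2,nat_lit 1,nat_lit 1,nat_lit 2,nat_lit 0,nat_lit 2])
)) (.node (.node (.leaf [nat_lit 26,nat_lit 9,nat_lit 0,nat_lit 2,nat_lit 5,nat_lit 4,nat_lit 5,nat_lit 0,nat_lit 0,nat_lit 5,nat_lit 1,nat_lit 1,nat_lit 2,nat_lit 5,nat_lit 4,nat_lit 5])
 (.leaf [nat_lit 24,nat_lit 4,nat_lit 0,nat_lit 1,nat_lit 2,nat_lit 5,nat_lit 1,nat_lit 3,nat_lit 0,nat_lit 5,nat_lit 1,nat_lit 3,nat_lit 0,nat_lit 2,nat_lit 1,nat_lit 3])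
) (.leaf [nat_lit 23,nat_lit 11,nat_lit 1,nat_lit 0,nat_lit 2,nat_lit 0,nat_lit 0,nat_lit 2,nat_lit 5,nat_lit 1,nat_lit 2,nat_lit 0,nat_lit 5,nat_lit 2,nat_lit 1])
))) (.node (.node (.node (.node (.leaf [nat_lit 24,nat_lit 2,nat_lit 1,nat_lit 5,nat_lit 1,nat_lit 3,nat_lit 0,nat_lit 5,nat_lit 2,nat_lit 1,nat_lit 3,nat_lit 0,nat_lit 2,nat_lit 1,nat_lit 3,nat_lit 0])
 (.leaf [nat_lit 15,nat_lit 6,nat_lit 1,nat_lit 2,nat_lit 1,nat_lit 3,nat_lit 0,nat_lit 2,nat_lit 1,nat_lit 1,nat_lit 1,nat_lit 2,nat_lit 1,nat_lit 1,nat_lit 1,nat_lit 2,nat_lit 4,nat_lit 3,nat_lit 4,nat_lit 2,nat_lit 1])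
) (.node (.leaf [nat_lit 24,nat_lit 7,nat_lit 1,nat_lit 2,nat_lit 1,nat_lit 3,nat_lit 0,nat_lit 2,nat_lit 1,nat_lit 3,nat_lit 0,nat_lit 5,nat_lit 1,nat_lit 3,nat_lit 0,nat_lit 5])
 (.leaf [nat_lit 8,nat_lit 3,nat_lit 1,nat_lit 0,nat_lit 2,nat_lit 0,nat_lit 2,nat_lit 3,nat_lit 2,nat_lit 1,nat_lit 2,nat_lit 0,nat_lit 3])
)) (.node (.node (.leaf [nat_lit 5,nat_lit 19,nat_lit 0,nat_lit 1,nat_lit 0,nat_lit 2,nat_lit 0,nat_lit 2,nat_lit 0,nat_lit 0,nat_lit 2,nat_lit 0,nat_lit 0,nat_lit 2,nat_lit 0,nat_lit 2,nat_lit 0,nat_lit 0,nat_lit 2,nat_lit 0,nat_lit 0,nat_lit 2,nat_lit 0,nat_lit 2,nat_lit 0,nat_lit 0,nat_lit 2])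
 (.leaf [nat_lit 23,nat_lit 5,nat_lit 1,nat_lit 0,nat_lit 2,nat_lit 0,nat_lit 5,nat_lit 2,nat_lit 1,nat_lit 1,nat_lit 2,nat_lit 0,nat_lit 0,nat_lit 2,nat_lit 5])
) (.node (.leaf [nat_lit 16,nat_lit 3,nat_lit 0,nat_lit 3,nat_lit 1,nat_lit 3,nat_lit 2,nat_lit 1,nat_lit 1,nat_lit 2,nat_lit 0,nat_lit 4,nat_lit 1,nat_lit 1,nat_lit 4,nat_lit 1,nat_lit 4,nat_lit 0,nat_lit 4,nat_lit 3,nat_lit 0,nat_lit 0,nat_lit 0])
 (.leaf [nat_lit 26,nat_lit 0,nat_lit 1,nat_lit 5,nat_lit 4,nat_lit 5,nat_lit 2,nat_lit 5,nat_lit 4,nat_lit 5,nat_lit 2,nat_lit 0,nat_lit 0,nat_lit 5,nat_lit 1,nat_lit 1])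
))) (.node (.node (.node (.leaf [nat_lit 11,nat_lit 4,nat_lit 1,nat_lit 1,nat_lit 3,nat_lit 2,nat_lit 0,nat_lit 0,nat_lit 0,nat_lit 2,nat_lit 1,nat_lit 1,nat_lit 1,nat_lit 2,nat_lit 3,nat_lit 1,nat_lit 3])
 (.leaf [nat_lit 4,nat_lit 8,nat_lit 1,nat_lit 1,nat_lit 0,nat_lit 2,nat_lit 1,nat_lit 1,nat_lit 2,nat_lit 0,nat_lit 2,nat_lit 0,nat_lit 2,nat_lit 1,nat_lit 1,nat_lit 2])
) (.node (.leaf [nat_lit 28,nat_lit 12,nat_lit 0,nat_lit 5,nat_lit 4,nat_lit 0,nat_lit 2,nat_lit 1,nat_lit 2,nat_lit 4,nat_lit 5,nat_lit 4,nat_lit 0,nat_lit 2,nat_lit 1,nat_lit 2,nat_lit 4])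
 (.leaf [nat_lit 23,nat_lit 3,nat_lit 1,nat_lit 2,nat_lit 5,nat_lit 1,nat_lit 2,nat_lit 0,nat_lit 5,nat_lit 2,nat_lit 1,nat_lit 1,nat_lit 2,nat_lit 0,nat_lit 0])
)) (.node (.node (.leaf [nat_lit 8,nat_lit 7,nat_lit 1,nat_lit 3,nat_lit 2,nat_lit 1,nat_lit 2,nat_lit 0,nat_lit 3,nat_lit 1,nat_lit 2,nat_lit 0,nat_lit 2])
 (.leaf [nat_lit 4,nat_lit 2,nat_lit 1,nat_lit 2,nat_lit 0,nat_lit 2,nat_lit 1,nat_lit 1,nat_lit 2,nat_lit 0,nat_lit 0,nat_lit 2,nat_lit 1,nat_lit 1,nat_lit 2,nat_lit 0])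
) (.leaf [nat_lit 24,nat_lit 3,nat_lit 0,nat_lit 3,nat_lit 0,nat_lit 2,nat_lit 5,nat_lit 1,nat_lit 3,nat_lit 0,nat_lit 5,nat_lit 1,nat_lit 3,nat_lit 0,nat_lit 2,nat_lit 1])
)))) (.node (.node (.node (.node (.node (.leaf [nat_lit 14,nat_lit 7,nat_lit 1,nat_lit 2,nat_lit 4,nat_lit 1,nat_lit 2,nat_lit 0,nat_lit 2,nat_lit 4,nat_lit 2,nat_lit 1,nat_lit 1,nat_lit 2,nat_lit 0,nat_lit 3,nat_lit 2,nat_lit 3,nat_lit 0,nat_lit 4])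
 (.leaf [nat_lit 25,nat_lit 11,nat_lit 1,nat_lit 1,nat_lit 5,nat_lit 1,nat_lit 5,nat_lit 2,nat_lit 3,nat_lit 2,nat_lit 5,nat_lit 0,nat_lit 5,nat_lit 1,nat_lit 3,nat_lit 5,nat_lit 3])
) (.node (.leaf [nat_lit 16,nat_lit 11,nat_lit 0,nat_lit 4,nat_lit 1,nat_lit 1,nat_lit 4,nat_lit 1,nat_lit 4,nat_lit 0,nat_lit 4,nat_lit 3,nat_lit 0,nat_lit 0,nat_lit 0,nat_lit 3,nat_lit 1,nat_lit 3,nat_lit 2,nat_lit 1,nat_lit 1,nat_lit 2,nat_lit 0])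
 (.leaf [nat_lit 14,nat_lit 12,nat_lit 0,nat_lit 3,nat_lit 2,nat_lit 3,nat_lit 1,nat_lit 2,nat_lit 0,nat_lit 0,nat_lit 2,nat_lit 4,nat_lit 2,nat_lit 1,nat_lit 2,nat_lit 0,nat_lit 4,nat_lit 2,nat_lit 4,nat_lit 1])
)) (.node (.node (.leaf [nat_lit 17,nat_lit 1,nat_lit 1,nat_lit 0,nat_lit 1,nat_lit 3,nat_lit 0,nat_lit 0,nat_lit 2,nat_lit 1,nat_lit 4,nat_lit 3,nat_lit 2,nat_lit 0,nat_lit 2,nat_lit 1,nat_lit 3,nat_lit 1,nat_lit 2,nat_lit 1,nat_lit 2,nat_lit 1,nat_lit 1,nat_lit 4])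
 (.leaf [nat_lit 16,nat_lit 8,nat_lit 0,nat_lit 0,nat_lit 2,nat_lit 0,nat_lit 4,nat_lit 1,nat_lit 1,nat_lit 4,nat_lit 1,nat_lit 4,nat_lit 0,nat_lit 4,nat_lit 3,nat_lit 0,nat_lit 0,nat_lit 0,nat_lit 3,nat_lit 1,nat_lit 3,nat_lit 2,nat_lit 1])
) (.node (.leaf [nat_lit 25,nat_lit 1,nat_lit 1,nat_lit 2,nat_lit 3,nat_lit 2,nat_lit 5,nat_lit 0,nat_lit 5,nat_lit 1,nat_lit 3,nat_lit 5,nat_lit 3,nat_lit 0,nat_lit 5,nat_lit 1,nat_lit 5])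
 (.leaf [nat_lit 26,nat_lit 12,nat_lit 0,nat_lit 5,nat_lit 0,nat_lit 0,nat_lit 5,nat_lit 1,nat_lit 1,nat_lit 2,nat_lit 5,nat_lit 4,nat_lit 5,nat_lit 2,nat_lit 5,nat_lit 4])
))) (.node (.node (.node (.leaf [nat_lit 18,nat_lit 19,nat_lit 0,nat_lit 2,nat_lit 4,nat_lit 0,nat_lit 2,nat_lit 0,nat_lit 0,nat_lit 0,nat_lit 2,nat_lit 0,nat_lit 2,nat_lit 0,nat_lit 0,nat_lit 2,nat_lit 0,nat_lit 3,nat_lit 2,nat_lit 3,nat_lit 0,nat_lit 4,nat_lit 1,nat_lit 2,nat_lit 1,nat_lit 4])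
 (.leaf [nat_lit 18,nat_lit 4,nat_lit 1,nat_lit 4,nat_lit 0,nat_lit 2,nat_lit 0,nat_lit 4,nat_lit 1,nat_lit 3,nat_lit 2,nat_lit 3,nat_lit 1,nat_lit 2,nat_lit 1,nat_lit 1,nat_lit 2,nat_lit 1,nat_lit 2,nat_lit 1,nat_lit 1,nat_lit 1,nat_lit 2,nat_lit 1,nat_lit 4,nat_lit 2])
) (.node (.leaf [nat_lit 4,nat_lit 11,nat_lit 1,nat_lit 0,nat_lit 1,nat_lit 2,nat_lit 0,nat_lit 2,nat_lit 0,nat_lit 2,nat_lit 1,nat_lit 1,nat_lit 2,nat_lit 0,nat_lit 0,nat_lit 2])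
 (.leaf [nat_lit 12,nat_lit 2,nat_lit 1,nat_lit 0,nat_lit 3,nat_lit 0,nat_lit 2,nat_lit 1,nat_lit 3,nat_lit 0,nat_lit 3,nat_lit 0,nat_lit 0,nat_lit 3,nat_lit 1,nat_lit 1,nat_lit 3,nat_lit 2])
)) (.node (.node (.leaf [nat_lit 11,nat_lit 11,nat_lit 1,nat_lit 0,nat_lit 1,nat_lit 1,nat_lit 2,nat_lit 3,nat_lit 1,nat_lit 3,nat_lit 0,nat_lit 3,nat_lit 2,nat_lit 0,nat_lit 0,nat_lit 0,nat_lit 2])
 (.leaf [nat_lit 22,nat_lit 2,nat_lit 1,nat_lit 3,nat_lit 5,nat_lit 0,nat_lit 3,nat_lit 1,nat_lit 5,nat_lit 3,nat_lit 0,nat_lit 5,nat_lit 0,nat_lit 3,nat_lit 1,nat_lit 5,nat_lit 1])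
) (.leaf [nat_lit 22,nat_lit 12,nat_lit 1,nat_lit 3,nat_lit 1,nat_lit 5,nat_lit 1,nat_lit 3,nat_lit 5,nat_lit 0,nat_lit 3,nat_lit 1,nat_lit 5,nat_lit 3,nat_lit 0,nat_lit 5,nat_lit 0])
))) (.node (.node (.node (.node (.leaf [nat_lit 27,nat_lit 0,nat_lit 1,nat_lit 5,nat_lit 0,nat_lit 3,nat_lit 0,nat_lit 5,nat_lit 2,nat_lit 4,nat_lit 3,nat_lit 4,nat_lit 2,nat_lit 5,nat_lit 1,nat_lit 3,nat_lit 1])
 (.leaf [nat_lit 8,nat_lit 8,nat_lit 1,nat_lit 2,nat_lit 1,nat_lit 2,nat_lit 0,nat_lit 3,nat_lit 1,nat_lit 2,nat_lit 0,nat_lit 2,nat_lit 3])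
) (.node (.leaf [nat_lit 18,nat_lit 8,nat_lit 1,nat_lit 4,nat_lit 1,nat_lit 3,nat_lit 2,nat_lit 3,nat_lit 1,nat_lit 2,nat_lit 1,nat_lit 1,nat_lit 2,nat_lit 1,nat_lit 2,nat_lit 1,nat_lit 1,nat_lit 1,nat_lit 2,nat_lit 1,nat_lit 4,nat_lit 2,nat_lit 4,nat_lit 0,nat_lit 2,nat_lit 0])
 (.leaf [nat_lit 14,nat_lit 5,nat_lit 1,nat_lit 1,nat_lit 4,nat_lit 2,nat_lit 4,nat_lit 1,nat_lit 2,nat_lit 0,nat_lit 2,nat_lit 4,nat_lit 2,nat_lit 1,nat_lit 1,nat_lit 2,nat_lit 0,nat_lit 3,nat_lit 2,nat_lit 3])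
)) (.node (.node (.leaf [nat_lit 18,nat_lit 18,nat_lit 0,nat_lit 4,nat_lit 2,nat_lit 4,nat_lit 0,nat_lit 2,nat_lit 0,nat_lit 0,nat_lit 0,nat_lit 2,nat_lit 0,nat_lit 2,nat_lit 0,nat_lit 0,nat_lit 2,nat_lit 0,nat_lit 3,nat_lit 2,nat_lit 3,nat_lit 0,nat_lit 4,nat_lit 1,nat_lit 2,nat_lit 1])
 (.leaf [nat_lit 12,nat_lit 7,nat_lit 1,nat_lit 3,nat_lit 0,nat_lit 3,nat_lit 0,nat_lit 0,nat_lit 3,nat_lit 1,nat_lit 1,nat_lit 3,nat_lit 2,nat_lit 1,nat_lit 3,nat_lit 0,nat_lit 2,nat_lit 1])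
) (.leaf [nat_lit 25,nat_lit 7,nat_lit 1,nat_lit 0,nat_lit 3,nat_lit 5,nat_lit 3,nat_lit 0,nat_lit 5,nat_lit 1,nat_lit 5,nat_lit 2,nat_lit 3,nat_lit 2,nat_lit 5,nat_lit 0,nat_lit 5])
)) (.node (.node (.node (.leaf [nat_lit 2,nat_lit 5,nat_lit 0,nat_lit 1,nat_lit 0,nat_lit 0,nat_lit 0,nat_lit 0,nat_lit 0,nat_lit 0])
 (.leaf [nat_lit 22,nat_lit 7,nat_lit 1,nat_lit 5,nat_lit 3,nat_lit 0,nat_lit 5,nat_lit 0,nat_lit 3,nat_lit 1,nat_lit 5,nat_lit 1,nat_lit 3,nat_lit 5,nat_lit 0,nat_lit 3,nat_lit 1])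
) (.node (.leaf [nat_lit 26,nat_lit 6,nat_lit 0,nat_lit 5,nat_lit 4,nat_lit 5,nat_lit 2,nat_lit 5,nat_lit 4,nat_lit 5,nat_lit 0,nat_lit 0,nat_lit 5,nat_lit 1,nat_lit 1,nat_lit 2])
 (.leaf [nat_lit 24,nat_lit 8,nat_lit 1,nat_lit 0,nat_lit 3,nat_lit 0,nat_lit 2,nat_lit 1,nat_lit 3,nat_lit 0,nat_lit 5,nat_lit 1,nat_lit 3,nat_lit 0,nat_lit 5,nat_lit 2])
)) (.node (.node (.leaf [nat_lit 12,nat_lit 13,nat_lit 1,nat_lit 0,nat_lit 1,nat_lit 3,nat_lit 2,nat_lit 1,nat_lit 3,nat_lit 0,nat_lit 2,nat_lit 1,nat_lit 3,nat_lit 0,nat_lit 3,nat_lit 0,nat_lit 0,nat_lit 3])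
 (.leaf [nat_lit 26,nat_lit 11,nat_lit 1,nat_lit 0,nat_lit 1,nat_lit 5,nat_lit 4,nat_lit 5,nat_lit 2,nat_lit 5,nat_lit 4,nat_lit 5,nat_lit 2,nat_lit 0,nat_lit 0,nat_lit 5])
) (.leaf [nat_lit 16,nat_lit 5,nat_lit 1,nat_lit 4,nat_lit 0,nat_lit 0,nat_lit 4,nat_lit 1,nat_lit 2,nat_lit 0,nat_lit 0,nat_lit 2,nat_lit 3,nat_lit 0,nat_lit 3,nat_lit 1,nat_lit 1,nat_lit 1,nat_lit 3,nat_lit 4,nat_lit 1,nat_lit 4,nat_lit 0])
)))))))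

noncomputable def s8_U_subs : LT :=
(.leaf [nat_lit 0,nat_lit 0,nat_lit 0,nat_lit 6])


noncomputable def s8_U : TC :=
  ⟨fun x c => Nat.shiftRight (BT.get s8_U_t x) (Nat.mul (nat_lit 32) c),
  (nat_lit 9), (nat_lit 511), (nat_lit 0x1fffff), (nat_lit 21), (nat_lit 2047), (nat_lit 0x1ffe00), (nat_lit 272), (nat_lit 272), (nat_lit 6), (nat_lit 5), (nat_lit 6), (nat_lit 7), s8_inv, s8_U_rules, s8_U_subs⟩

theorem s8_b : s8_C.base = true := by decide +kernel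

theorem s8_s0 : s8_C.slots (nat_lit 0) (nat_lit 1) = true := by decide +kernel

theorem s8_U_c1 : s8_U.rules.all (ruleOK s8_U.m s8_U.inv s8_rels) = true := by decide +kernel
theorem s8_U_c2 : s8_U.subs.all (subOK s8_U.m s8_U.inv (LT.leaf [])) = true := by decide +kernel
theorem s8_U_c3 : s8_U.base = true := by decide +kernel

theorem s8_U_s0 : s8_U.slots (nat_lit 0) (nat_lit 272) = true := by decide +kernel

theorem s8_U_c6 : s8_U.rules.all (fun l => goodB (nat_lit 19) (nat_lit 10) s8_U.mH s8_rels (hdL l)) = true := by decide +kernel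

theorem s8_up : s8_C.Upto s8_C.T.N := ((LC.upto_zero s8_C).step _ s8_s0)

theorem s8_U_c4 : s8_U.Upto s8_U.N := ((TC.upto_zero s8_U).step _ s8_U_s0)
theorem s8_U_c5 : s8_U.UptoE s8_U.N := (TC.uptoE_n s8_U)

theorem s8_idx : Idx.{u} s8_rels (nat_lit 19) (nat_lit 10) s8_inv (nat_lit 5) (nat_lit 6) (nat_lit 272) :=
  idx_of_tc s8_U_c1 s8_U_c2 s8_U_c3 s8_U_c4 s8_U_c5 s8_U_c6

theorem s8_low {G : Type u} [Group G] {g : ℕ → G} (h : ∀ i, evalW g (s8_rels.get i) = 1) : ∀ i, evalW g (o8p_rels.get i) = 1 :=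
  rels_of_sub (by decide +kernel) h

theorem s8_bnd {G : Type u} [Group G] {g : ℕ → G} (h : ∀ i, evalW g (s8_rels.get i) = 1) : Bnd g 6 47377612800 :=
  Bnd.step (C := s8_C) h (o8p_bnd (s8_low h)) s8_b s8_idx


end Cfsg.Agent.Spor.MX
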