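import Mathlib
import Cfsg.Agent.Spor.MX.S82
import Cfsg.Agent.Spor.MX.S82Ch
import Cfsg.Agent.Spor.MX.ClLink2
import Cfsg.Agent.S0270
import Cfsg.Agent.S2092

/-! Generated by tools/mx: letters in S8(2), whose multiplier is trivial -/

set_option autoImplicit false
set_option maxRecDepth 100000
set_option linter.unusedVariables false
set_option exponentiation.threshold 100000

namespace Cfsg.Agent.Spor.MX

open Cfsg.Agent.Spor

universe u

noncomputable def s8k_M : ℕ → ℕ := BT.get (.node (.leaf (nat_lit 0x10100010101010101010100000000000100000100010001000100000000000100000100010001000101000101010001010100000100010001000000000101))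
   (.leaf (nat_lit 0x1010101000000000101000001010000000100010100000100000101000001010101000100000100000000010100000100000000010100000101010000000101))
  )

noncomputable def s8k_P : ℕ → ℕ := getP (nat_lit 64) (nat_lit 18446744073709551615) (nat_lit 0x10101010101010100010101010101010100010101010101000001010101010101010001010101010001000101010101010000010101010100000001010101010101010001010101000101000101010101000100010101010000010001010101010100000101010100010000010101010100000001010101000000000101010101010101000101010001010100010101010001010001010100000101000101010101000100010101000100010001010101000001000101010000000100010101010101000001010100010100000101010100010000010101000001000001010101010000000101010001000000010101010000000001010100000000000101010101010101000101000101010100010101000101010001010000010101000101010100010100010100010001010001010100000101000101000000010100010101010100010001010001010001000101010001000100010100000100010001010101000001000101000100000100010101000000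01000101000000000100010101010101000001010001010100000101010001010000010100000101000001010101000100000101000100010000010101000001000001010000000100000101010101000000010100010100000001010100010000000101000001000000010101010000000001010001000000000101010000000000010100000000000001010101010101010001000101010101000101000101010100010000010101010001010100010101000100010001010100010100000101010001000000010101000101010100010100010001010001010001010001000101000100000100010100010101000001010001000100000101000101000000010100010000000001010001010101010001000100010101000100010100010100010001000001010001000101010001000100010001000100010001010000010001000100000001000100010101010000010001000101000001000101000100000100010000010000010001010100000001000100010000000100010100000000010001000000000001000101010101010000010001010101000001010001010100000100000101010000010101000101000001000100010100000101000001010000010000000101000001010101000100000100010100010000010100010001000001000001000100000101010000010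00001000100000100000101000000010000010000000001000001010101010000000100010101000000010100010100000001000001010000000101010001000000010001000100000001010000010000000100000001000000010101010000000001000101000000000101000100000000010000010000000001010100000000000100010000000000010100000000000001000000000000000101010101010101000001010101010100010001010101010000000101010101000101000101010100000100010101010001000001010101000000000101010100010101000101010000010100010101000100010001010100000001000101010001010000010101000001000001010100010000000101010000000000010101000101010100010100000101010001010001000101000101000000010100010100010100010001010000010001000101000100000100010100000000010001010001010100000101000001010000010100010001000001010000000100000101000101000000010100000100000001010001000000000101000000000000010100010101010100010000010101010001000100010101000100000001010100010001010001010001000001000101000100010000010100010000000001010001000101010001000100000101000100010001000100010001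00000001000100010001010000010001000001000001000100010000000100010000000000010001000101010100000100000101010000010001000101000001000000010100000100010100010000010000010001000001000100000100000100000000010000010001010100000001000001010000000100010001000000010000000100000001000101000000000100000100000000010001000000000001000000000000000100010101010101000000010101010100000100010101010000000001010101000001010001010100000001000101010000010000010101000000000001010100000101010001010000000101000101000001000100010100000000010001010000010100000101000000010000010100000100000001010000000000000101000001010101000100000001010100010000010001010001000000000101000100000101000100010000000100010001000001000001000100000000000100010000010101000001000000010100000100000100010000010000000001000001000001010000000100000001000000010000010000000001000000000000000100000101010101000000000101010100000001000101010000000000010101000000010100010100000000010001010000000100000101000000000000010100000001010100010000000001010001000000010001000100000000000100010000000101000001000000000100000100000001000000010000000000000001000000010101010000000000010101000000000100010100000000000001010000000001010001000000000001000100000000010000010000000000000001000000000101010000000000000101000000000001000100000000000000010000000000010100000000000000010000000000000100000000000000)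

noncomputable def s8k_A : ℕ → ℕ → ℕ := tabS (.node (.leaf (nat_lit 0x111111111111111111111111111111111111111111111111111111111111111111111111111111111111111111111111111111111111111111111111111111111111111111111111111111111111111111111111111111111111111111111111111111111111111111111111111111111111111111111111111111111111111))
   (.leaf (nat_lit 0x111111111111111111111111111111111111111111111111111111111111111111111111111111111111111111111111111111111111111111111111111111111111111111111111111111111111111111111111111111111111111111111111111111111111111111111111111111111111111111111111111111111111111))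
  ) (nat_lit 4) (nat_lit 15)

/-- The generators. -/
noncomputable def s8k_a : ℕ → PSp 4 Cl.GF2 := fun x => QuotientGroup.mk (PM.pick (finSumFinEquiv (m := 4) (n := 4)) (Matrix.symplecticGroup (Fin 4) Cl.GF2).subtype (s8k_M x))

/-- The points. -/
noncomputable def s8k_e : ℕ → Submodule Cl.GF2 (Fin 4 ⊕ Fin 4 → Cl.GF2) := fun i => PM.ptOf Cl.gf2 (finSumFinEquiv (m := 4) (n := 4)) (s8k_P i)

/-- The strong letters. -/
noncomputable def s8k_k : ℕ → PSp 4 Cl.GF2 := s8k_g s8k_a

noncomputable def s8m_ws : LT :=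
(.node (.node (.node (.leaf [nat_lit 0,nat_lit 8,nat_lit 10,nat_lit 8,nat_lit 3,nat_lit 8,nat_lit 3,nat_lit 7,nat_lit 4,nat_lit 6,nat_lit 2,nat_lit 5,nat_lit 4,nat_lit 3,nat_lit 4,nat_lit 1,nat_lit 0])
 (.leaf [nat_lit 12,nat_lit 2,nat_lit 10,nat_lit 8,nat_lit 3,nat_lit 9,nat_lit 4,nat_lit 5,nat_lit 7,nat_lit 5,nat_lit 1,nat_lit 0,nat_lit 5,nat_lit 4,nat_lit 3,nat_lit 4,nat_lit 0,nat_lit 3,nat_lit 0])
) (.leaf [nat_lit 11,nat_lit 6,nat_lit 10,nat_lit 9,nat_lit 1,nat_lit 0,nat_lit 8,nat_lit 2,nat_lit 5,nat_lit 7,nat_lit 5,nat_lit 3,nat_lit 4,nat_lit 2,nat_lit 1,nat_lit 0])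
) (.node (.node (.leaf [nat_lit 5,nat_lit 1,nat_lit 11,nat_lit 6,nat_lit 8,nat_lit 3,nat_lit 8,nat_lit 4,nat_lit 6,nat_lit 5,nat_lit 7,nat_lit 5,nat_lit 4,nat_lit 1,nat_lit 0,nat_lit 5,nat_lit 3,nat_lit 4,nat_lit 0,nat_lit 4,nat_lit 3,nat_lit 0])
 (.leaf [nat_lit 8,nat_lit 4,nat_lit 11,nat_lit 5,nat_lit 9,nat_lit 0,nat_lit 8,nat_lit 7,nat_lit 0,nat_lit 4,nat_lit 6,nat_lit 1,nat_lit 5,nat_lit 3,nat_lit 4,nat_lit 5,nat_lit 3,nat_lit 4,nat_lit 0,nat_lit 4,nat_lit 0,nat_lit 3,nat_lit 0,nat_lit 1,nat_lit 0])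
) (.leaf [nat_lit 4,nat_lit 8,nat_lit 8,nat_lit 5,nat_lit 4,nat_lit 2,nat_lit 5,nat_lit 4,nat_lit 1,nat_lit 4,nat_lit 0,nat_lit 3])
))

noncomputable def s8m_back : LT :=
(.node (.node (.node (.node (.leaf [nat_lit 2,nat_lit 0,nat_lit 0,nat_lit 0,nat_lit 2,nat_lit 0,nat_lit 2,nat_lit 0,nat_lit 0,nat_lit 2,nat_lit 1,nat_lit 3,nat_lit 2,nat_lit 0,nat_lit 0,nat_lit 0,nat_lit 4,nat_lit 1,nat_lit 2,nat_lit 4,nat_lit 0,nat_lit 4,nat_lit 5,nat_lit 4,nat_lit 5,nat_lit 3,nat_lit 4])
 (.leaf [nat_lit 0,nat_lit 2,nat_lit 1,nat_lit 1,nat_lit 2,nat_lit 1,nat_lit 1,nat_lit 2,nat_lit 1,nat_lit 1,nat_lit 1,nat_lit 2,nat_lit 1,nat_lit 1,nat_lit 1,nat_lit 2,nat_lit 0,nat_lit 3,nat_lit 1,nat_lit 2,nat_lit 3,nat_lit 1,nat_lit 2,nat_lit 1,nat_lit 4,nat_lit 2,nat_lit 1,nat_lit 4,nat_lit 3,nat_lit 5,nat_lit 4,nat_lit 0,nat_lit 4,nat_lit 5])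
) (.node (.leaf [nat_lit 0,nat_lit 2,nat_lit 0,nat_lit 2,nat_lit 0,nat_lit 0,nat_lit 2,nat_lit 1,nat_lit 1,nat_lit 3,nat_lit 0,nat_lit 3,nat_lit 0,nat_lit 0,nat_lit 0,nat_lit 3,nat_lit 1,nat_lit 4,nat_lit 1,nat_lit 3,nat_lit 0,nat_lit 5,nat_lit 1,nat_lit 4,nat_lit 0,nat_lit 2])
 (.leaf [nat_lit 1,nat_lit 1,nat_lit 2,nat_lit 0,nat_lit 2,nat_lit 0,nat_lit 0,nat_lit 0,nat_lit 2,nat_lit 1,nat_lit 1,nat_lit 1,nat_lit 2,nat_lit 1,nat_lit 1,nat_lit 2,nat_lit 1,nat_lit 2,nat_lit 3,nat_lit 0,nat_lit 3,nat_lit 0,nat_lit 2,nat_lit 0,nat_lit 4,nat_lit 0,nat_lit 0,nat_lit 3,nat_lit 5,nat_lit 2,nat_lit 1,nat_lit 1,nat_lit 5,nat_lit 3])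
)) (.node (.node (.leaf [nat_lit 1,nat_lit 2,nat_lit 1,nat_lit 1,nat_lit 2,nat_lit 1,nat_lit 2,nat_lit 1,nat_lit 2,nat_lit 1,nat_lit 1,nat_lit 2,nat_lit 3,nat_lit 0,nat_lit 2,nat_lit 0,nat_lit 0,nat_lit 3,nat_lit 0,nat_lit 4,nat_lit 0,nat_lit 4,nat_lit 0,nat_lit 2,nat_lit 5,nat_lit 0,nat_lit 2,nat_lit 5,nat_lit 0,nat_lit 4,nat_lit 0,nat_lit 5])
 (.leaf [nat_lit 1,nat_lit 1,nat_lit 1,nat_lit 2,nat_lit 0,nat_lit 2,nat_lit 0,nat_lit 0,nat_lit 2,nat_lit 0,nat_lit 2,nat_lit 0,nat_lit 0,nat_lit 2,nat_lit 0,nat_lit 3,nat_lit 0,nat_lit 3,nat_lit 2,nat_lit 3,nat_lit 0,nat_lit 2,nat_lit 4,nat_lit 1,nat_lit 4,nat_lit 2,nat_lit 3,nat_lit 5,nat_lit 0,nat_lit 0,nat_lit 4,nat_lit 3,nat_lit 4])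
) (.leaf [nat_lit 0,nat_lit 2,nat_lit 0,nat_lit 0,nat_lit 2,nat_lit 0,nat_lit 2,nat_lit 0,nat_lit 2,nat_lit 0,nat_lit 0,nat_lit 2,nat_lit 0,nat_lit 0,nat_lit 2,nat_lit 3,nat_lit 0,nat_lit 0,nat_lit 0,nat_lit 3,nat_lit 0,nat_lit 3,nat_lit 4,nat_lit 1,nat_lit 3,nat_lit 4,nat_lit 2,nat_lit 5,nat_lit 3,nat_lit 2,nat_lit 1,nat_lit 4])
)) (.node (.node (.node (.leaf [nat_lit 1,nat_lit 1,nat_lit 2,nat_lit 1,nat_lit 1,nat_lit 1,nat_lit 2,nat_lit 0,nat_lit 0,nat_lit 0,nat_lit 2,nat_lit 0,nat_lit 2,nat_lit 0,nat_lit 0,nat_lit 3,nat_lit 0,nat_lit 0,nat_lit 3,nat_lit 2,nat_lit 1,nat_lit 2,nat_lit 4,nat_lit 1,nat_lit 2,nat_lit 4,nat_lit 0,nat_lit 5,nat_lit 0,nat_lit 2,nat_lit 5,nat_lit 0,nat_lit 4,nat_lit 0,nat_lit 5])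
 (.leaf [nat_lit 0,nat_lit 0,nat_lit 2,nat_lit 1,nat_lit 1,nat_lit 2,nat_lit 1,nat_lit 2,nat_lit 1,nat_lit 1,nat_lit 1,nat_lit 2,nat_lit 0,nat_lit 0,nat_lit 3,nat_lit 0,nat_lit 2,nat_lit 3,nat_lit 0,nat_lit 2,nat_lit 0,nat_lit 4,nat_lit 2,nat_lit 0,nat_lit 3,nat_lit 5,nat_lit 0,nat_lit 4,nat_lit 5,nat_lit 0])
) (.node (.leaf [nat_lit 2,nat_lit 0,nat_lit 0,nat_lit 0,nat_lit 2,nat_lit 1,nat_lit 2,nat_lit 1,nat_lit 1,nat_lit 2,nat_lit 1,nat_lit 2,nat_lit 1,nat_lit 1,nat_lit 3,nat_lit 1,nat_lit 1,nat_lit 1,nat_lit 3,nat_lit 0,nat_lit 3,nat_lit 4,nat_lit 0,nat_lit 2,nat_lit 0,nat_lit 0,nat_lit 4,nat_lit 5,nat_lit 1,nat_lit 4,nat_lit 2])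
 (.leaf [nat_lit 1,nat_lit 2,nat_lit 0,nat_lit 0,nat_lit 2,nat_lit 0,nat_lit 0,nat_lit 0,nat_lit 2,nat_lit 1,nat_lit 2,nat_lit 1,nat_lit 1,nat_lit 3,nat_lit 0,nat_lit 3,nat_lit 2,nat_lit 3,nat_lit 0,nat_lit 4,nat_lit 1,nat_lit 3,nat_lit 4,nat_lit 3,nat_lit 5,nat_lit 1,nat_lit 4,nat_lit 3,nat_lit 5])
)) (.node (.node (.leaf [nat_lit 0,nat_lit 0,nat_lit 0,nat_lit 2,nat_lit 0,nat_lit 0,nat_lit 2,nat_lit 0,nat_lit 0,nat_lit 2,nat_lit 0,nat_lit 0,nat_lit 0,nat_lit 2,nat_lit 1,nat_lit 1,nat_lit 1,nat_lit 3,nat_lit 0,nat_lit 0,nat_lit 3,nat_lit 1,nat_lit 1,nat_lit 2,nat_lit 4,nat_lit 0,nat_lit 4,nat_lit 0,nat_lit 2,nat_lit 5,nat_lit 0,nat_lit 2,nat_lit 5,nat_lit 0,nat_lit 4,nat_lit 0,nat_lit 5])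
 (.leaf [nat_lit 0,nat_lit 0,nat_lit 2,nat_lit 1,nat_lit 1,nat_lit 2,nat_lit 1,nat_lit 2,nat_lit 1,nat_lit 1,nat_lit 1,nat_lit 2,nat_lit 0,nat_lit 0,nat_lit 2,nat_lit 3,nat_lit 1,nat_lit 1,nat_lit 1,nat_lit 3,nat_lit 1,nat_lit 2,nat_lit 0,nat_lit 4,nat_lit 0,nat_lit 3,nat_lit 4,nat_lit 5,nat_lit 4,nat_lit 1,nat_lit 1])
) (.leaf [nat_lit 0,nat_lit 0,nat_lit 0,nat_lit 2,nat_lit 1,nat_lit 2,nat_lit 1,nat_lit 1,nat_lit 2,nat_lit 1,nat_lit 1,nat_lit 2,nat_lit 1,nat_lit 1,nat_lit 3,nat_lit 1,nat_lit 1,nat_lit 1,nat_lit 3,nat_lit 0,nat_lit 2,nat_lit 0,nat_lit 4,nat_lit 0,nat_lit 2,nat_lit 0,nat_lit 0,nat_lit 5,nat_lit 0,nat_lit 3,nat_lit 0,nat_lit 0])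
)))

/-- The letters of the chain. -/
noncomputable def s8m_g : ℕ → PSp 4 Cl.GF2 := fun x => evalW s8k_k (s8m_ws.get x)

theorem s8k_p0 : allRange (nat_lit 0) (nat_lit 255) (PM.ptsOK Cl.gf2 (nat_lit 8) (nat_lit 255) s8k_M s8k_P s8k_S s8k_A (nat_lit 0)) = true := by decide +kernel

theorem s8k_p1 : allRange (nat_lit 0) (nat_lit 255) (PM.ptsOK Cl.gf2 (nat_lit 8) (nat_lit 255) s8k_M s8k_P s8k_S s8k_A (nat_lit 1)) = true := by decide +kernel

theorem s8k_srt : allRange 0 255 (fun i => band (Nat.beq (PM.lead Cl.gf2 (s8k_P i) 8) 1)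
    (bor (Nat.beq (Nat.succ i) 255) (blt (PM.key Cl.gf2 (s8k_P i) 8) (PM.key Cl.gf2 (s8k_P (Nat.succ i)) 8)))) = true := by decide +kernel

theorem s8k_sp : ∀ x < 2, PM.matOf Cl.gf2 (finSumFinEquiv (m := 4) (n := 4)) (s8k_M x) * Matrix.J (Fin 4) Cl.GF2 * (PM.matOf Cl.gf2 (finSumFinEquiv (m := 4) (n := 4)) (s8k_M x)).transpose = Matrix.J (Fin 4) Cl.GF2 := by decide +kernel

theorem s8m_k0 : allRange (nat_lit 0) (nat_lit 14) (backB s8k_T s8m_ws s8m_back [nat_lit 127,nat_lit 7,nat_lit 63,nat_lit 3,nat_lit 31,nat_lit 1,nat_lit 15,nat_lit 0]) = true := by decide +kernel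

theorem s8m_r0 : fixAll (tabW s8k_T s8m_ws) s8_rels (nat_lit 0) = true := by decide +kernel

theorem s8m_r15 : fixAll (tabW s8k_T s8m_ws) s8_rels (nat_lit 15) = true := by decide +kernel

theorem s8m_r1 : fixAll (tabW s8k_T s8m_ws) s8_rels (nat_lit 1) = true := by decide +kernel

theorem s8m_r31 : fixAll (tabW s8k_T s8m_ws) s8_rels (nat_lit 31) = true := by decide +kernel

theorem s8m_r3 : fixAll (tabW s8k_T s8m_ws) s8_rels (nat_lit 3) = true := by decide +kernel

theorem s8m_r63 : fixAll (tabW s8k_T s8m_ws) s8_rels (nat_lit 63) = true := by decide +kernel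

theorem s8m_r7 : fixAll (tabW s8k_T s8m_ws) s8_rels (nat_lit 7) = true := by decide +kernel

theorem s8m_r127 : fixAll (tabW s8k_T s8m_ws) s8_rels (nat_lit 127) = true := by decide +kernel

theorem s8k_cardG : Nat.card (PSp 4 Cl.GF2) = 47377612800 := card_PSp82

noncomputable local instance s8k_act : MulAction (PSp 4 Cl.GF2) (Submodule Cl.GF2 (Fin 4 ⊕ Fin 4 → Cl.GF2)) := Cl.Sm.pspAct 4 Cl.GF2

theorem s8k_h0 : Tabs s8k_e 255 s8k_S s8k_a 2 :=
  Cl.Sm.tabs_psp s8k_sp (Nat.forall_lt_succ_right.2 ⟨(Nat.forall_lt_succ_right.2 ⟨(fun _ h => absurd h (Nat.not_lt_zero _)), s8k_p0⟩), s8k_p1⟩)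

theorem s8k_he : Set.InjOn s8k_e (Set.Iio 255) := PM.injOn_pts (finSumFinEquiv (m := 4) (n := 4)) s8k_srt

theorem s8k_ktabs : Tabs s8k_e 255 s8k_T s8k_k 14 := s8k_tabs s8k_h0

theorem s8k_basek : IsBase s8k_e (genLt s8k_k 14) [127, 7, 63, 3, 31, 1, 15, 0] := s8k_base0 s8k_he s8k_h0 (hub_of_card _ _ s8k_cardG)

theorem s8k_topk : genLt s8k_k 14 = ⊤ := top_of_chain s8k_cardG (s8k_gen _) (s8k_card s8k_he s8k_h0 (hub_of_card _ _ s8k_cardG))

theorem s8m_tabs : Tabs s8k_e 255 (tabW s8k_T s8m_ws) s8m_g 6 := tabs_tabW s8k_ktabs (by decide +kernel) 6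

theorem s8m_eq : genLt s8m_g 6 = genLt s8k_k 14 :=
  genLt_tabW s8k_ktabs s8k_basek (back := s8m_back) (by decide +kernel) (range_append _ (allLt_of_zero _) s8m_k0 rfl)

theorem s8m_base : IsBase s8k_e (genLt s8m_g 6) [127, 7, 63, 3, 31, 1, 15, 0] := s8m_eq ▸ s8k_basek

theorem s8m_gen : Gen ⊤ s8m_g s8_rels 6 47377612800 :=
  gen_of_fixAll s8m_tabs (s8m_eq.trans s8k_topk) (s8k_topk ▸ s8k_basek) (Subgroup.card_top.trans s8k_cardG) (by decide +kernel) (forall_mem_cons' s8m_r127 (forall_mem_cons' s8m_r7 (forall_mem_cons' s8m_r63 (forall_mem_cons' s8m_r3 (forall_mem_cons' s8m_r31 (forall_mem_cons' s8m_r1 (forall_mem_cons' s8m_r15 (forall_mem_cons' s8m_r0 forall_mem_nil'))))))))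

theorem s8_l4 {G : Type u} [Group G] {g : ℕ → G} (h : ∀ i, evalW g (s8_rels.get i) = 1) : Lifts 4 g 6 47377612800 :=
  s8m_gen.lifts_of_trivial (s8_bnd (wp_rels _)) (S0270.result 4 (by norm_num) (by norm_num))
    (S2092.result Cl.card_GF2 4 (by norm_num) (by norm_num) (by norm_num)) (by decide +kernel) (p := 2) (by norm_num) 2 h

theorem s8_l8 {G : Type u} [Group G] {g : ℕ → G} (h : ∀ i, evalW g (s8_rels.get i) = 1) : Lifts 8 g 6 47377612800 :=
  s8m_gen.lifts_of_trivial (s8_bnd (wp_rels _)) (S0270.result 4 (by norm_num) (by norm_num))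
    (S2092.result Cl.card_GF2 4 (by norm_num) (by norm_num) (by norm_num)) (by decide +kernel) (p := 2) (by norm_num) 3 h

theorem s8_l3 {G : Type u} [Group G] {g : ℕ → G} (h : ∀ i, evalW g (s8_rels.get i) = 1) : Lifts 3 g 6 47377612800 :=
  s8m_gen.lifts_of_trivial (s8_bnd (wp_rels _)) (S0270.result 4 (by norm_num) (by norm_num))
    (S2092.result Cl.card_GF2 4 (by norm_num) (by norm_num) (by norm_num)) (by decide +kernel) (p := 3) (by norm_num) 1 h

theorem s8_l9 {G : Type u} [Group G] {g : ℕ → G} (h : ∀ i, evalW g (s8_rels.get i) = 1) : Lifts 9 g 6 47377612800 :=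
  s8m_gen.lifts_of_trivial (s8_bnd (wp_rels _)) (S0270.result 4 (by norm_num) (by norm_num))
    (S2092.result Cl.card_GF2 4 (by norm_num) (by norm_num) (by norm_num)) (by decide +kernel) (p := 3) (by norm_num) 2 h

theorem s8_l5 {G : Type u} [Group G] {g : ℕ → G} (h : ∀ i, evalW g (s8_rels.get i) = 1) : Lifts 5 g 6 47377612800 :=
  s8m_gen.lifts_of_trivial (s8_bnd (wp_rels _)) (S0270.result 4 (by norm_num) (by norm_num))
    (S2092.result Cl.card_GF2 4 (by norm_num) (by norm_num) (by norm_num)) (by decide +kernel) (p := 5) (by norm_num) 1 h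

theorem s8_l7 {G : Type u} [Group G] {g : ℕ → G} (h : ∀ i, evalW g (s8_rels.get i) = 1) : Lifts 7 g 6 47377612800 :=
  s8m_gen.lifts_of_trivial (s8_bnd (wp_rels _)) (S0270.result 4 (by norm_num) (by norm_num))
    (S2092.result Cl.card_GF2 4 (by norm_num) (by norm_num) (by norm_num)) (by decide +kernel) (p := 7) (by norm_num) 1 h


end Cfsg.Agent.Spor.MX
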