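import Mathlib
import Cfsg.Agent.Spor.MX.Glue

/-! Generated by tools/mx: a subgroup of order 2688 of the Thompson group -/

set_option autoImplicit false
set_option maxRecDepth 100000
set_option linter.unusedVariables false
set_option exponentiation.threshold 100000

namespace Cfsg.Agent.Spor.MX

open Cfsg.Agent.Spor

universe u

noncomputable def ths_rels : LT :=
(.node (.node (.node (.node (.leaf [])
 (.leaf [nat_lit 0,nat_lit 5,nat_lit 2,nat_lit 4,nat_lit 2,nat_lit 5])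
) (.node (.leaf [nat_lit 4,nat_lit 5])
 (.leaf [nat_lit 1,nat_lit 6,nat_lit 0,nat_lit 6,nat_lit 2])
)) (.node (.node (.leaf [nat_lit 2,nat_lit 2])
 (.leaf [nat_lit 0,nat_lit 0,nat_lit 5,nat_lit 5,nat_lit 3,nat_lit 4,nat_lit 4])
) (.node (.leaf [nat_lit 0,nat_lit 2,nat_lit 1,nat_lit 2])
 (.leaf [nat_lit 0,nat_lit 0,nat_lit 3,nat_lit 6,nat_lit 3,nat_lit 6])
))) (.node (.node (.node (.leaf [nat_lit 0,nat_lit 1])
 (.leaf [nat_lit 0,nat_lit 4,nat_lit 0,nat_lit 4,nat_lit 0,nat_lit 4])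
) (.node (.leaf [nat_lit 2,nat_lit 3,nat_lit 2,nat_lit 3])
 (.leaf [nat_lit 5,nat_lit 6,nat_lit 4,nat_lit 6,nat_lit 3,nat_lit 2,nat_lit 5,nat_lit 6,nat_lit 2,nat_lit 1])
)) (.node (.node (.leaf [nat_lit 3,nat_lit 3])
 (.leaf [nat_lit 6,nat_lit 6])
) (.node (.leaf [nat_lit 4,nat_lit 4,nat_lit 4,nat_lit 4])
 (.leaf [nat_lit 4,nat_lit 4,nat_lit 6,nat_lit 4,nat_lit 4,nat_lit 6,nat_lit 5,nat_lit 5,nat_lit 6])
))))
noncomputable def ths_inv : ℕ → ℕ := getP (nat_lit 8) (nat_lit 255) (nat_lit 0x6040503020001)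
noncomputable def ths_pi : ℕ → ℕ := getP (nat_lit 16) (nat_lit 65535) (nat_lit 0xb000400040003000200010001)

noncomputable def ths_L_t : BT :=
(.node (.node (.node (.leaf (nat_lit 0x680000019000339055800000000000000000001ff8000000000000000000003ff00000000000000000000101f00000000000001a00008101c80000000000000000000e000))
 (.leaf (nat_lit 0x3400010002001c03080072000000d000000328005000c50000000000000000000000d2000000000000000000007fe00000000000000000000202900000000000000000000e020))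
) (.node (.leaf (nat_lit 0x51000000d0000003200065208b00000004000000500c60012800000000000000000001027400000000000019c0010902080000000000000000000e010))
 (.leaf (nat_lit 0x2001003180069000000000000000000001ff80000000003400660008840e60000000006800ca0014c833400000000000000003400018000000000000000000004029))
)) (.node (.node (.leaf (nat_lit 0xffc00000000000000000000008200000004000000500c60016a000000000000000000007fe000000000000000000000ffc00000000000000000000e008))
 (.leaf (nat_lit 0x1000000100324105e000100d001a00310008620dd000000000000000000003ff000000000000000000000016400000000000000000002031800000000000000000001ff8))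
) (.node (.leaf (nat_lit 0xffc000000000000000000001ff8000000000000000000003ff0000000000000000000007fe00000068000000000009102480000000000000000000e018))
 (.leaf (nat_lit 0xc0900000000000000000000180200000000000000000000205200000000000000000000408400000000000000000000418000000000000000000000000))
)))

noncomputable def ths_L_rules : LT :=
(.node (.node (.node (.node (.leaf [nat_lit 0x340002,nat_lit 12,nat_lit 2,nat_lit 1,nat_lit 0,nat_lit 6,nat_lit 0,nat_lit 2,nat_lit 6])
 (.leaf [nat_lit 0,nat_lit 8,nat_lit 3,nat_lit 0,nat_lit 5,nat_lit 2,nat_lit 5,nat_lit 0,nat_lit 5,nat_lit 2])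
) (.leaf [nat_lit 0x1a00000002,nat_lit 13,nat_lit 8,nat_lit 1,nat_lit 6,nat_lit 4,nat_lit 0,nat_lit 2,nat_lit 6,nat_lit 4,nat_lit 2,nat_lit 3,nat_lit 6,nat_lit 5])
) (.node (.leaf [nat_lit 0xd000000000002,nat_lit 14,nat_lit 1,nat_lit 1,nat_lit 3,nat_lit 6,nat_lit 3,nat_lit 1,nat_lit 1,nat_lit 6])
 (.leaf [nat_lit 0x1000000000000000,nat_lit 15,nat_lit 3,nat_lit 0,nat_lit 5,nat_lit 4,nat_lit 6,nat_lit 5,nat_lit 5,nat_lit 6,nat_lit 4,nat_lit 4,nat_lit 6])
)) (.node (.node (.leaf [nat_lit 0x340002,nat_lit 12,nat_lit 0,nat_lit 1,nat_lit 2,nat_lit 6,nat_lit 1,nat_lit 6,nat_lit 0])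
 (.leaf [nat_lit 0x40000000,nat_lit 13,nat_lit 8,nat_lit 0,nat_lit 2,nat_lit 1,nat_lit 5,nat_lit 6,nat_lit 4,nat_lit 6,nat_lit 3,nat_lit 2,nat_lit 5,nat_lit 6])
) (.node (.leaf [nat_lit 0x340001,nat_lit 12,nat_lit 3,nat_lit 1,nat_lit 6,nat_lit 0,nat_lit 2,nat_lit 6,nat_lit 1])
 (.leaf [nat_lit 0,nat_lit 6,nat_lit 3,nat_lit 1,nat_lit 0,nat_lit 2,nat_lit 0,nat_lit 2])
)))

noncomputable def ths_L_R : LT :=
(.node (.node (.leaf [nat_lit 2,nat_lit 1,nat_lit 0x328004])
 (.leaf [nat_lit 11,nat_lit 3,nat_lit 0x19c0318009])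
) (.node (.leaf [nat_lit 3,nat_lit 1,nat_lit 0xce00000000002])
 (.leaf [nat_lit 7,nat_lit 5,nat_lit 0x67000000080030063])
))

noncomputable def ths_C : LC :=
  ⟨⟨fun x c => Nat.shiftRight (BT.get ths_L_t x) (Nat.mul (nat_lit 95) c),
  (nat_lit 3), (nat_lit 7), (nat_lit 8191), (nat_lit 13), (nat_lit 127), (nat_lit 8184), (nat_lit 0), (nat_lit 6), (nat_lit 7), (nat_lit 6), (nat_lit 0), (nat_lit 7), ths_inv, ths_L_rules, .leaf []⟩,
  (nat_lit 20), (nat_lit 0x7f00fe01fc03f807f), (nat_lit 0xff01fe03fc07f80ff), (nat_lit 15), (nat_lit 5), (nat_lit 105), (nat_lit 11), (nat_lit 127), (nat_lit 255), (nat_lit 10), ths_pi, ths_rels, ths_L_R⟩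

noncomputable def ths_A3 : LA :=
  ⟨(nat_lit 3), (nat_lit 0x1fff3ffe7ffcfff9fff), (nat_lit 8191), (nat_lit 4), (nat_lit 0), BT.get (.node (.node (.node (.leaf (nat_lit 0))
 (.leaf (nat_lit 0))
) (.node (.leaf (nat_lit 0))
 (.leaf (nat_lit 0x1))
)) (.node (.node (.leaf (nat_lit 0))
 (.leaf (nat_lit 0))
) (.leaf (nat_lit 0))
)), BT.get (.leaf (nat_lit 0)), BT.get (.leaf (nat_lit 0)),
(.node (.node (.node (.leaf [])
 (.leaf [nat_lit 131074,nat_lit 131075])
) (.leaf [nat_lit 131074])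
) (.node (.leaf [nat_lit 65536])
 (.leaf [nat_lit 131073])
)),
(.leaf [])⟩

noncomputable def ths_A5 : LA :=
  ⟨(nat_lit 5), (nat_lit 0xfff1ffe3ffc7ff8fff), (nat_lit 4095), (nat_lit 4), (nat_lit 0), BT.get (.node (.node (.node (.leaf (nat_lit 0))
 (.leaf (nat_lit 0))
) (.node (.leaf (nat_lit 0))
 (.leaf (nat_lit 0x2))
)) (.node (.node (.leaf (nat_lit 0))
 (.leaf (nat_lit 0))
) (.leaf (nat_lit 0))
)), BT.get (.leaf (nat_lit 0)), BT.get (.leaf (nat_lit 0)),
(.node (.node (.node (.leaf [])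
 (.leaf [nat_lit 196610,nat_lit 196611])
) (.leaf [nat_lit 196608,nat_lit 196610])
) (.node (.leaf [nat_lit 262144])
 (.leaf [nat_lit 196609])
)),
(.leaf [])⟩

noncomputable def ths_A7 : LA :=
  ⟨(nat_lit 7), (nat_lit 0xfff1ffe3ffc7ff8fff), (nat_lit 4095), (nat_lit 4), (nat_lit 0), BT.get (.node (.node (.node (.leaf (nat_lit 0))
 (.leaf (nat_lit 0))
) (.node (.leaf (nat_lit 0))
 (.leaf (nat_lit 0x3))
)) (.node (.node (.leaf (nat_lit 0))
 (.leaf (nat_lit 0))
) (.leaf (nat_lit 0))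
)), BT.get (.leaf (nat_lit 0)), BT.get (.leaf (nat_lit 0)),
(.node (.node (.node (.leaf [])
 (.leaf [nat_lit 262146,nat_lit 262147])
) (.leaf [nat_lit 65536,nat_lit 262146])
) (.node (.leaf [nat_lit 131072])
 (.leaf [nat_lit 262145])
)),
(.leaf [])⟩

theorem ths_b : ths_C.base = true := by decide +kernel

theorem ths_s0 : ths_C.slots (nat_lit 0) (nat_lit 6) = true := by decide +kernel

theorem ths_A3_ok : ths_A3.ok ths_C = true := by decide +kernel

theorem ths_A5_ok : ths_A5.ok ths_C = true := by decide +kernel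

theorem ths_A7_ok : ths_A7.ok ths_C = true := by decide +kernel

theorem ths_up : ths_C.Upto ths_C.T.N := ((LC.upto_zero ths_C).step _ ths_s0)


end Cfsg.Agent.Spor.MX
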