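import Mathlib
import Cfsg.Agent.Spor.Th.Main
import Cfsg.Agent.Spor.MX.ThC
import Cfsg.Agent.Spor.MX.ThS

/-! Relators of two subgroups of the Thompson group, checked in degree 248. -/

set_option autoImplicit false
set_option maxRecDepth 100000
set_option exponentiation.threshold 100000
set_option Elab.async false

namespace Cfsg.Agent.Spor.MTh.Mu

open Cfsg.Agent.Spor Cfsg.Agent.Spor.MX Cfsg.Agent.Spor.NM Cfsg.Agent.Spor.NM.F3x248 Cfsg.Spor

/-- The matrix of the word is the identity. -/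
noncomputable def oneB (ws : ℕ → List ℕ) (w : List ℕ) : Bool :=
  DC.forceL (expandW ws w) fun v => band (lettersLt 11 v) (Nat.beq (evN mul one gM v) one)

theorem one_of {ws : ℕ → List ℕ} {W : List (List ℕ)} (h : allL W (oneB ws) = true) :
    ∀ w ∈ W, evalW (fun x => evalW gG (ws x)) w = 1 := fun w hw => by
  have h1 := (allL_iff _ _).1 h w hw
  rw [oneB, DC.forceL_eq] at h1
  rw [← evalW_expandW]
  exact rho_inj (by rw [rho_evalW ((band_iff _ _).1 h1).1, lets11.eq_one h1, map_one])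

/-- The letters of the centraliser of `a`. -/
def wC (x : ℕ) : List ℕ := [[5], [6], [4], [3], [2], [0], [9], [10]].getD x []

/-- The letters of the subgroup of order 2688. -/
def wS (x : ℕ) : List ℕ := [[9], [10], [4], [2], [3, 9, 3], [3, 10, 3], [1, 0, 2, 1]].getD x []

theorem rC0 : allL [[0, 1], [2, 2], [3, 3], [3, 2, 3, 2, 3, 2], [0, 0, 0, 0, 0, 0, 0], [0, 3, 0, 3]] (oneB wC) = true := by decide +kernel

theorem rC1 : allL [[2, 1, 2, 0, 1, 1, 1, 2, 0, 0, 0], [4, 4], [5, 5], [5, 2, 5, 2], [5, 3, 4, 3, 4, 3, 4, 3, 4], [4, 2, 4, 2]] (oneB wC) = true := by decide +kernel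

theorem rC2 : allL [[1, 4, 0, 4]] (oneB wC) = true := by decide +kernel

theorem rC3 : allL [[0, 3, 2, 0, 4, 3, 2, 0, 4, 3, 2, 0, 4, 3, 2, 0, 4, 3, 4, 2, 3, 4, 1, 2, 3, 4, 1, 2, 3, 4, 1, 2, 3, 4, 1, 2]] (oneB wC) = true := by decide +kernel

theorem rC4 : allL [[6, 7], [6, 6, 4, 5], [7, 2, 6, 2], [3, 2, 7, 3, 6, 3, 2, 7, 3, 6], [5, 4, 1, 7, 1, 7, 1, 7]] (oneB wC) = true := by decide +kernel

theorem rC5 : allL [[0, 2, 1, 7, 1, 2, 0, 2, 6]] (oneB wC) = true := by decide +kernel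

theorem rC6 : allL [[0, 0, 2, 0, 3, 2, 0, 2, 0, 4, 3, 2, 1, 4, 3, 2, 0, 0, 4, 3, 2, 1, 4, 6, 3, 4, 3, 7]] (oneB wC) = true := by decide +kernel

theorem rC7 : allL [[0, 3, 6, 3, 6, 1, 6, 3, 7, 1, 2, 3, 7, 3, 4, 2, 3, 4, 0, 6]] (oneB wC) = true := by decide +kernel

theorem relC : ∀ i, evalW (fun x => evalW gG (wC x)) (thc_rels.get i) = 1 :=
  hrels_of_relTest (m := 0) (inv := id) (fun _ h => absurd h (by omega))
    (List.forall_mem_append.2 ⟨one_of rC0, (List.forall_mem_append.2 ⟨one_of rC1, (List.forall_mem_append.2 ⟨one_of rC2, (List.forall_mem_append.2 ⟨one_of rC3, (List.forall_mem_append.2 ⟨one_of rC4, (List.forall_mem_append.2 ⟨one_of rC5, (List.forall_mem_append.2 ⟨one_of rC6, (one_of rC7)⟩)⟩)⟩)⟩)⟩)⟩)⟩) (by decide +kernel)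

theorem rS0 : allL [[0, 1], [2, 2], [3, 3], [4, 5], [2, 3, 2, 3], [0, 2, 1, 2], [4, 4, 4, 4]] (oneB wS) = true := by decide +kernel

theorem rS1 : allL [[0, 5, 2, 4, 2, 5], [0, 4, 0, 4, 0, 4]] (oneB wS) = true := by decide +kernel

theorem rS2 : allL [[0, 0, 5, 5, 3, 4, 4], [6, 6]] (oneB wS) = true := by decide +kernel

theorem rS3 : allL [[1, 6, 0, 6, 2]] (oneB wS) = true := by decide +kernel

theorem rS4 : allL [[5, 6, 4, 6, 3, 2, 5, 6, 2, 1]] (oneB wS) = true := by decide +kernel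

theorem rS5 : allL [[0, 0, 3, 6, 3, 6]] (oneB wS) = true := by decide +kernel

theorem rS6 : allL [[4, 4, 6, 4, 4, 6, 5, 5, 6]] (oneB wS) = true := by decide +kernel

theorem relS : ∀ i, evalW (fun x => evalW gG (wS x)) (ths_rels.get i) = 1 :=
  hrels_of_relTest (m := 0) (inv := id) (fun _ h => absurd h (by omega))
    (List.forall_mem_append.2 ⟨one_of rS0, (List.forall_mem_append.2 ⟨one_of rS1, (List.forall_mem_append.2 ⟨one_of rS2, (List.forall_mem_append.2 ⟨one_of rS3, (List.forall_mem_append.2 ⟨one_of rS4, (List.forall_mem_append.2 ⟨one_of rS5, (one_of rS6)⟩)⟩)⟩)⟩)⟩)⟩) (by decide +kernel)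

theorem rT : allL [[6, 6, 9, 5, 5, 5, 9, 6, 6, 9, 8]] (oneB fun x => [x]) = true := by decide +kernel

theorem rE : allL [[3, 4, 2, 3, 10, 1, 9, 1, 2, 3, 1, 10, 1, 0, 1, 9, 1, 3, 2, 1, 10, 1, 9, 3, 2, 4, 3, 4]] (oneB fun x => [x]) = true := by decide +kernel

end Cfsg.Agent.Spor.MTh.Mu
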