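import Mathlib
import Cfsg.Agent.Spor.Comp.Pres

/-! Generated by tools/pg: stabiliser chain u5k -/

set_option autoImplicit false
set_option maxRecDepth 100000
set_option linter.unusedVariables false
set_option exponentiation.threshold 100000

namespace Cfsg.Agent.Spor.MX

open Cfsg.Agent.Spor

noncomputable def u5k_S_t0 : BT :=
(.node (.node (.node (.node (.node (.leaf (nat_lit 0x9b2b214707527c3ca1a602645033a76d39109d93af276a86971e0e7a9c0b1b705c7218420f3d79882e985f0a49693880113426a92894894e565b5419718e73901741a0536b99822a4c0465a43b151f3185233e8f7600585940771a756caa22a313784d6746308314ac4b4505168c6e57015d8aa8633a9f813706297ea20c604a09871d2cae68357b9a7d25085e51ad0d61962d1c9155748d6f4362484f127f9e8b95203292842f24ab36446603a53f5a))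
 (.leaf (nat_lit 0x6f71707577767274736e838584898b8a86888782797b7a7f81807c7e7d786b6d6c686a69a1a0a29e9d9fa4a3a59c9796989493959a999b92abaaaca8a7a9aeadafa6908f918d8c8e67666564636261605f5e5d5c5b5a595857565554535251504f4e4d4c4b4a49484746454427262524232221201f1e1d1c1b1a191817161514131211100f0e0d0c434241403f3e3d3c3b3a393837363534333231302f2e2d2c2b2a29280b0a09080706050403020100))
) (.leaf (nat_lit 0x636264605f616665675ea5a4a3a2a1a09f9e9d9c292b2a2f31302c2e2d28272625242322838584898b8a868887820b0a09080706050403027d7c7e7a797b807f81786d6c6b6a69680d0f0e1315141012110c939594999b9a96989792535251504f4e4d4c4b4a363537333234434241403f3e908f918d8c8e1a191b1716185557565b5d5c585a59543b3d3c383a3921201f1e1d1c484749454446afaeadacabaaa9a8a7a66f71707577767274736e0100))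
) (.node (.leaf (nat_lit 0x4f4e50a4a3a569686a410403051618170f0e0d265756558b8a892e2d2c925e378f7c7e7d0b0a0910121124232219605f618d8c8e807f8136585a59292b2a999b9a824a6c439f9e9d6766657b7a79343332905153523e403fa0a2a16b5c5b5d9796988483852802271b141315473ca6757776486e3bafaead011f201d1c1e454446a8a7a97372743d6d9c424b4d4c9135786463620c1a25060807302f318786889493955439383a706f71abaaac492100))
 (.leaf (nat_lit 0x7e7d7c7b7a7981807f7874737271706f7776756e8887868584838b8a89826c6b6d6a6968adafaeaaacaba7a9a8a6a3a5a4a0a2a19d9f9e9c999b9a9698979395949291908f8c8e8d4c4b4d5251534f4e504a605f616665676362645e5655575c5b5d59585a54474948454446191b1a1716182527262322241f21201d1c1e0e0d0f1413151110120c3537363332344143423f3e403b3d3c39383a2a292b302f312d2c2e28090b0a060807030504020100))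
)) (.node (.node (.leaf (nat_lit 0x87ae601367aaa98911a66ba0531f4ca49c6a1e9f7f95482444929a7d259618755d561973638aa80eaf8685651582477c9b2694807846227b5b7190168c6e76591a721c51a59e204fab6684128b6261ad0d5e8f58771b705c548e1757a34d6c1d684a52a1214e2399817a27970141423e0040082d3236032f0b3a2a31043b342838073c2b2c350930457e939849794b69a29d506d5a6f8d9155748314ac64a7100f885f0c3706293d2e0a02333905433f))
 (.leaf (nat_lit 0x4b4d4c5153524e504f4a5f61606567666264635e5557565b5d5c585a5954474948444645939594999b9a96989792a7a9a8adafaeaaacaba69d9f9ea3a5a4a0a2a19c8f91908c8e8d6f71707577767274736e838584898b8a86888782797b7a7f81807c7e7d786b6d6c686a693537363234334143423e403f3b3d3c383a39292b2a2f31302c2e2d2827262524232221201f1e1d1c1b1a191817161514131211100f0e0d0c0b0a09080706050403020100))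
) (.node (.leaf (nat_lit 0x1514131211100f0e0d0ca5a4a3a2a1a09f9e9d9c59585a5655575c5b5d543b3d3c383a398786888483858a898b826f71707577767274736e0706080403050a090b026d6c6b6a6968a7a9a8adafaeaaacaba62d2c2e2a292b302f3128535251504f4e4d4c4b4a191b1a161817434241403f3e2625272322244749484446459796989493959a999b9291908f8e8d8c21201f1e1d1c353736323433636264605f616665675e81807f7e7d7c7b7a79780100))
 (.leaf (nat_lit 0x5153524e504f4b4d4c4a6567666264635f61605e5b5d5c585a59555756544948474446457a797b807f817d7c7e78706f717675777372746e8483858a898b878688826b6d6c69686aacabaaa9a8a7afaeada6a2a1a09f9e9da5a4a39c9897969594939b9a9992908f918e8d8c1b1a1916181727262522242321201f1c1e1d1315141012110d0f0e0c424143403f3e3c3b3d3a39383635373433322e2d2c2b2a2931302f280807060504030b0a09020100))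
))) (.node (.node (.node (.leaf (nat_lit 0x9aaea497aba194a89e8d99ada396aaa093a79d8c9bafa598aca295a99f8e91908f92a69c768a8073877d70847a6975897f72867c6f837968778b8174887e71857b6a6d6c6b6e827852665c4f63594c60564551655b4e62584b5f554453675d50645a4d6157464948474a5e54302d2a333f392f2c29323e38312e2b34403a37433d36423c35413b2814110e17231d13100d16221c15120f18241e1b27211a262019251f0c0b030708090405060a000102))
 (.leaf (nat_lit 0x5c5b5d59585a565557540a090b070608040305024d4c4b535251504f4e4a4847494446452b2a2931302f2e2d2c28a0a2a19d9f9ea3a5a49c767577737274706f716e252726242322868887838584898b8a82a9a8a7afaeadacabaaa61413151110120e0d0f0c4342413f3e40201f211c1e1d91908f8d8c8e3635373234337b7a7981807f7e7d7c786d6c6b69686a191b1a1817163b3d3c3a3938969897939594999b9a92666567636264605f615e0100))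
) (.node (.leaf (nat_lit 0x3a39380305042c2e2d41aaacab5655576a696826706f714e504f0d0f0e92215e8f7c7e7d9897961012114b4d4c6e797b7a8d8c8e6463621f3f3e40292b2a0608073c276c54a7a9a86766651e1d1c7f8180915153527675779b9a990c5c5b5dadafae2322246d023d432f31306b25a659585a28423b090b0a90782061605f1315149594937372744a489c19858483013536323433471a82a1a0a24446458786889f9e9d1b8b8a89171618a3a5a4493700))
 (.leaf (nat_lit 0x7d7c7e7a797b807f8178737274706f717675776e8786888483858a898b826c6b6d69686a59585a5655575c5b5d544f4e504c4b4d5251534a636264605f616665675e484749454446a1a0a29e9d9fa4a3a59c9796989493959a999b92abaaaca8a7a9aeadafa6908f918d8c8e3c3b3d39383a3635373332344241433f3e402d2c2e2a292b302f312827262524232221201f1e1d1c1b1a191817161514131211100f0e0d0c0b0a09080706050403020100))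
)) (.node (.node (.leaf (nat_lit 0x7f81809b9a99232224432a292b1110128e8d8c6cacabaa6f717039383a211936829f9e9d2c2e2d6a69680d0f0e8faeadaf1c1e1d7776753d7b7a793e403f979698271a9c358887864b4d4c646362060807544f4e500403055756555e5352515b5d5c66656702014748464544a63b2073727478254293959428906b1514131817168a898ba3a5a4376e1f3ca7a9a89241267d7c7e0c6d9131302f343332a0a2a18483851b0b0a09605f61585a594a4900))
 (.leaf (nat_lit 0x61605f6766656463625e5756555d5c5b5a5958544d4c4b535251504f4e4a4749484645447274736f71707577766e868887838584898b8a827c7e7d797b7a7f8180786c6b6d686a69a4a3a5a1a0a29e9d9f9c9a999b97969894939592aeadafabaaaca8a7a9a691908f8d8c8e2527262423221f21201e1d1c191b1a1817160f0e0d1514131211100c3d3c3b39383a3736353332344342413f3e40302f312d2c2e2a292b280504030b0a09080706020100))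
) (.node (.leaf (nat_lit 0x5a59585756555d5c5b547a797b807f817d7c7e780e0d0f1413151110120c3d3c3b383a39605f616665676362645e2e2d2c2b2a2931302f287577767274736f71706e272625222423090b0a06080703050402adafaeaaacaba7a9a8a69897969594939b9a99928f91908d8c8e4948474446451a191b1817163537363332348887868584838b8a89826c6b6d6a69684143423f3e40201f211e1d1c5153524e504f4b4d4c4aa3a5a4a0a2a19d9f9e9c0100))
 (.leaf (nat_lit 0x8a898b87868884838582807f817d7c7e7a797b78767577737274706f716e6d6c6b69686a9594939b9a9998979692a9a8a7afaeadacabaaa69f9e9da5a4a3a2a1a09c8f91908e8d8c585a595557565b5d5c544e504f4b4d4c5153524a6264635f61606567665e484749444645201f211c1e1d1a191b1618172625272224231012110d0f0e1315140c3c3b3d383a393635373234334241433e403f2c2e2d292b2a2f3130280a090b070608040305020100))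
))))

noncomputable def u5k_S_t : BT :=
u5k_S_t0

noncomputable def u5k_S : ℕ → ℕ → ℕ := fun x i => Nat.land (Nat.shiftRight (BT.get u5k_S_t x) (Nat.mul (nat_lit 8) i)) (nat_lit 255)

noncomputable def u5k_defs : LT :=
(.node (.node (.node (.node (.node (.leaf [nat_lit 0])
 (.leaf [nat_lit 0,nat_lit 15,nat_lit 15,nat_lit 15])
) (.leaf [nat_lit 1,nat_lit 6])
) (.node (.leaf [nat_lit 0,nat_lit 0,nat_lit 2,nat_lit 1,nat_lit 2,nat_lit 0,nat_lit 2,nat_lit 0,nat_lit 1,nat_lit 2,nat_lit 1,nat_lit 0,nat_lit 2,nat_lit 1,nat_lit 0,nat_lit 1])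
 (.leaf [nat_lit 0,nat_lit 6,nat_lit 7,nat_lit 8])
)) (.node (.node (.leaf [nat_lit 0])
 (.leaf [nat_lit 0,nat_lit 9,nat_lit 8,nat_lit 7])
) (.node (.leaf [nat_lit 0,nat_lit 3,nat_lit 4,nat_lit 4,nat_lit 3])
 (.leaf [nat_lit 1,nat_lit 11])
))) (.node (.node (.node (.leaf [nat_lit 0])
 (.leaf [nat_lit 1,nat_lit 7])
) (.node (.leaf [nat_lit 1,nat_lit 4])
 (.leaf [nat_lit 1,nat_lit 10])
)) (.node (.node (.leaf [nat_lit 0,nat_lit 0,nat_lit 2,nat_lit 0,nat_lit 2,nat_lit 0,nat_lit 1,nat_lit 0,nat_lit 1,nat_lit 0,nat_lit 2,nat_lit 0,nat_lit 2,nat_lit 0])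
 (.leaf [nat_lit 0,nat_lit 8,nat_lit 7,nat_lit 7])
) (.node (.leaf [nat_lit 0,nat_lit 4,nat_lit 3,nat_lit 5,nat_lit 3,nat_lit 4,nat_lit 4,nat_lit 3,nat_lit 5,nat_lit 5])
 (.leaf [nat_lit 1,nat_lit 12])
))))
noncomputable def u5k_iota : ℕ → ℕ := getP (nat_lit 8) (nat_lit 255) (nat_lit 0x201000308060f0c0e0b100a0d)
noncomputable def u5k_inv : ℕ → ℕ := getP (nat_lit 8) (nat_lit 255) (nat_lit 0xc0b0a09070805060304020001)
noncomputable def u5k_hws : LT := .leaf []

noncomputable def u5k_T_t0 : BT :=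
(.node (.node (.node (.node (.leaf (nat_lit 0x7d7c7e7a797b807f8178737274706f717675776e8786888483858a898b826c6b6d69686a59585a5655575c5b5d544f4e504c4b4d5251534a636264605f616665675e484749454446a1a0a29e9d9fa4a3a59c9796989493959a999b92abaaaca8a7a9aeadafa6908f918d8c8e3c3b3d39383a3635373332344241433f3e402d2c2e2a292b302f312827262524232221201f1e1d1c1b1a191817161514131211100f0e0d0c0b0a09080706050403020100))
 (.leaf (nat_lit 0x636264605f616665675ea5a4a3a2a1a09f9e9d9c292b2a2f31302c2e2d28272625242322838584898b8a868887820b0a09080706050403027d7c7e7a797b807f81786d6c6b6a69680d0f0e1315141012110c939594999b9a96989792535251504f4e4d4c4b4a363537333234434241403f3e908f918d8c8e1a191b1716185557565b5d5c585a59543b3d3c383a3921201f1e1d1c484749454446afaeadacabaaa9a8a7a66f71707577767274736e0100))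
) (.node (.leaf (nat_lit 0x5153524e504f4b4d4c4a6567666264635f61605e5b5d5c585a59555756544948474446457a797b807f817d7c7e78706f717675777372746e8483858a898b878688826b6d6c69686aacabaaa9a8a7afaeada6a2a1a09f9e9da5a4a39c9897969594939b9a9992908f918e8d8c1b1a1916181727262522242321201f1c1e1d1315141012110d0f0e0c424143403f3e3c3b3d3a39383635373433322e2d2c2b2a2931302f280807060504030b0a09020100))
 (.leaf (nat_lit 0x87ae601367aaa98911a66ba0531f4ca49c6a1e9f7f95482444929a7d259618755d561973638aa80eaf8685651582477c9b2694807846227b5b7190168c6e76591a721c51a59e204fab6684128b6261ad0d5e8f58771b705c548e1757a34d6c1d684a52a1214e2399817a27970141423e0040082d3236032f0b3a2a31043b342838073c2b2c350930457e939849794b69a29d506d5a6f8d9155748314ac64a7100f885f0c3706293d2e0a02333905433f))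
)) (.node (.node (.leaf (nat_lit 0x6f71707577767274736e838584898b8a86888782797b7a7f81807c7e7d786b6d6c686a69a1a0a29e9d9fa4a3a59c9796989493959a999b92abaaaca8a7a9aeadafa6908f918d8c8e67666564636261605f5e5d5c5b5a595857565554535251504f4e4d4c4b4a49484746454427262524232221201f1e1d1c1b1a191817161514131211100f0e0d0c434241403f3e3d3c3b3a393837363534333231302f2e2d2c2b2a29280b0a09080706050403020100))
 (.leaf (nat_lit 0x9b2b214707527c3ca1a602645033a76d39109d93af276a86971e0e7a9c0b1b705c7218420f3d79882e985f0a49693880113426a92894894e565b5419718e73901741a0536b99822a4c0465a43b151f3185233e8f7600585940771a756caa22a313784d6746308314ac4b4505168c6e57015d8aa8633a9f813706297ea20c604a09871d2cae68357b9a7d25085e51ad0d61962d1c9155748d6f4362484f127f9e8b95203292842f24ab36446603a53f5a))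
) (.leaf (nat_lit 0x8a898b87868884838582807f817d7c7e7a797b78767577737274706f716e6d6c6b69686a9594939b9a9998979692a9a8a7afaeadacabaaa69f9e9da5a4a3a2a1a09c8f91908e8d8c585a595557565b5d5c544e504f4b4d4c5153524a6264635f61606567665e484749444645201f211c1e1d1a191b1618172625272224231012110d0f0e1315140c3c3b3d383a393635373234334241433e403f2c2e2d292b2a2f3130280a090b070608040305020100))
)) (.node (.node (.node (.leaf (nat_lit 0x4b4d4c5153524e504f4a5f61606567666264635e5557565b5d5c585a5954474948444645939594999b9a96989792a7a9a8adafaeaaacaba69d9f9ea3a5a4a0a2a19c8f91908c8e8d6f71707577767274736e838584898b8a86888782797b7a7f81807c7e7d786b6d6c686a693537363234334143423e403f3b3d3c383a39292b2a2f31302c2e2d2827262524232221201f1e1d1c1b1a191817161514131211100f0e0d0c0b0a09080706050403020100))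
 (.leaf (nat_lit 0x7f81809b9a99232224432a292b1110128e8d8c6cacabaa6f717039383a211936829f9e9d2c2e2d6a69680d0f0e8faeadaf1c1e1d7776753d7b7a793e403f979698271a9c358887864b4d4c646362060807544f4e500403055756555e5352515b5d5c66656702014748464544a63b2073727478254293959428906b1514131817168a898ba3a5a4376e1f3ca7a9a89241267d7c7e0c6d9131302f343332a0a2a18483851b0b0a09605f61585a594a4900))
) (.leaf (nat_lit 0x7e7d7c7b7a7981807f7874737271706f7776756e8887868584838b8a89826c6b6d6a6968adafaeaaacaba7a9a8a6a3a5a4a0a2a19d9f9e9c999b9a9698979395949291908f8c8e8d4c4b4d5251534f4e504a605f616665676362645e5655575c5b5d59585a54474948454446191b1a1716182527262322241f21201d1c1e0e0d0f1413151110120c3537363332344143423f3e403b3d3c39383a2a292b302f312d2c2e28090b0a060807030504020100))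
) (.node (.node (.leaf (nat_lit 0x61605f6766656463625e5756555d5c5b5a5958544d4c4b535251504f4e4a4749484645447274736f71707577766e868887838584898b8a827c7e7d797b7a7f8180786c6b6d686a69a4a3a5a1a0a29e9d9f9c9a999b97969894939592aeadafabaaaca8a7a9a691908f8d8c8e2527262423221f21201e1d1c191b1a1817160f0e0d1514131211100c3d3c3b39383a3736353332344342413f3e40302f312d2c2e2a292b280504030b0a09080706020100))
 (.leaf (nat_lit 0x9aaea497aba194a89e8d99ada396aaa093a79d8c9bafa598aca295a99f8e91908f92a69c768a8073877d70847a6975897f72867c6f837968778b8174887e71857b6a6d6c6b6e827852665c4f63594c60564551655b4e62584b5f554453675d50645a4d6157464948474a5e54302d2a333f392f2c29323e38312e2b34403a37433d36423c35413b2814110e17231d13100d16221c15120f18241e1b27211a262019251f0c0b030708090405060a000102))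
) (.leaf (nat_lit 0x1514131211100f0e0d0ca5a4a3a2a1a09f9e9d9c59585a5655575c5b5d543b3d3c383a398786888483858a898b826f71707577767274736e0706080403050a090b026d6c6b6a6968a7a9a8adafaeaaacaba62d2c2e2a292b302f3128535251504f4e4d4c4b4a191b1a161817434241403f3e2625272322244749484446459796989493959a999b9291908f8e8d8c21201f1e1d1c353736323433636264605f616665675e81807f7e7d7c7b7a79780100))
)))

noncomputable def u5k_T_t : BT :=
u5k_T_t0

noncomputable def u5k_T : ℕ → ℕ → ℕ := fun x i => Nat.land (Nat.shiftRight (BT.get u5k_T_t x) (Nat.mul (nat_lit 8) i)) (nat_lit 255)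

noncomputable def u5k_E_t0 : BT :=
(.node (.node (.node (.leaf (nat_lit 0x80301a8040b80702605c0ca030018540080900a8040160740a0640ca0940583d0960902a8030180b00a05504a190260450c80701980408a1500a83c078030120140ba0300a0650a80702a0530880d00684407808c2604d0180ac1e8550981902a8040a812c1a01d0ba0d00200c058070060040381082a8040980700204406a0701282d09808c2e04d0160ac260640ca1902a03c0c80901605c0441901604d0c80d0160530180500e0630081901a03c0a80301e04d06a14c2280d0a813432864066050160650ba18c160340261943285b0380ac1a02d06a1540a0240680f00a82c0980700e8540480902d8630980a82d85100))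
 (.leaf (nat_lit 0x180800000001800000000010100000000000000000000000000000000000000000000000000002010000000020100000000080000000000000000000000000000000000000))
) (.leaf (nat_lit 0xc000000000000000000000000003060000000000000000000000000c0800000000000000000000000000000000000000000c10000000000000000000000000208000000000000000000000000081c00000000000000000000000000000000000000000c040000000000000000000000004060000000000000000000000000c0400000000000000000000000000000000000000000000000000000000000000000000000000000000000000000040700000000000000000000000000000000000000000000000000000000000000000000000000408000000000000000000000000040000000))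
) (.node (.node (.leaf (nat_lit 0x142400000000000000000000000050900000000000000000000000014258230180c000000000000000000000000000000001424000000000000000000000000509000000000000000000000000142601405600000000000000000000000000000000001800000000000000000000000000604000000000000000000000000180504b0560c0000000080b40a02000000002044068100000000080ec1e0480000000000000000000000000000000050980f01e0280000000203403a080000000081102184000000000000000000000000000000000509000000000000000000000000181c80000))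
 (.leaf (nat_lit 0x100800000001000000000008000000000000000000000000000000000000000000000000000000000000000000000000000000000000000000000000000000000000000000))
) (.leaf (nat_lit 0x60ac1901b0560c81102a0620000000000))
))

noncomputable def u5k_E_t : BT :=
u5k_E_t0

noncomputable def u5k_E : ℕ → ℕ → ℕ := fun x i => Nat.land (Nat.shiftRight (BT.get u5k_E_t x) (Nat.mul (nat_lit 11) i)) (nat_lit 2047)

theorem u5k_slp0 : allLt (nat_lit 14) (fun i => force (Nat.add (nat_lit 3) i) (slpOK u5k_S u5k_defs (nat_lit 176))) = true := by decide +kernel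

theorem u5k_ren : allLt (nat_lit 13) (fun x => force (u5k_iota x) fun y => band (blt y (nat_lit 17)) (allRange (nat_lit 0) (nat_lit 176) fun i => Nat.beq (u5k_S y i) (u5k_T x i))) = true := by decide +kernel

theorem u5k_L5_o : band (allRange (nat_lit 0) (nat_lit 176) (orbOK u5k_T (nat_lit 2) (u5k_E (nat_lit 5)) (Nat.beq (nat_lit 41)))) (band (Nat.ble (nat_lit 3) (count2 (nat_lit 176) fun p => Nat.ble 256 (u5k_E (nat_lit 5) p))) (allLt (nat_lit 0) (fun x => Nat.beq (u5k_T x (nat_lit 41)) (nat_lit 41)))) = true := by decide +kernel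

theorem u5k_L4_o : band (allRange (nat_lit 0) (nat_lit 176) (orbOK u5k_T (nat_lit 3) (u5k_E (nat_lit 4)) (Nat.beq (nat_lit 13)))) (band (Nat.ble (nat_lit 6) (count2 (nat_lit 176) fun p => Nat.ble 256 (u5k_E (nat_lit 4) p))) (allLt (nat_lit 2) (fun x => Nat.beq (u5k_T x (nat_lit 13)) (nat_lit 13)))) = true := by decide +kernel

theorem u5k_L3_o : band (allRange (nat_lit 0) (nat_lit 176) (orbOK u5k_T (nat_lit 7) (u5k_E (nat_lit 3)) (Nat.beq (nat_lit 3)))) (band (Nat.ble (nat_lit 9) (count2 (nat_lit 176) fun p => Nat.ble 256 (u5k_E (nat_lit 3) p))) (allLt (nat_lit 3) (fun x => Nat.beq (u5k_T x (nat_lit 3)) (nat_lit 3)))) = true := by decide +kernel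

theorem u5k_L2_o : band (allRange (nat_lit 0) (nat_lit 176) (orbOK u5k_T (nat_lit 9) (u5k_E (nat_lit 2)) (Nat.beq (nat_lit 2)))) (band (Nat.ble (nat_lit 12) (count2 (nat_lit 176) fun p => Nat.ble 256 (u5k_E (nat_lit 2) p))) (allLt (nat_lit 7) (fun x => Nat.beq (u5k_T x (nat_lit 2)) (nat_lit 2)))) = true := by decide +kernel

theorem u5k_L1_o : band (allRange (nat_lit 0) (nat_lit 176) (orbOK u5k_T (nat_lit 10) (u5k_E (nat_lit 1)) (Nat.beq (nat_lit 1)))) (band (Nat.ble (nat_lit 40) (count2 (nat_lit 176) fun p => Nat.ble 256 (u5k_E (nat_lit 1) p))) (allLt (nat_lit 9) (fun x => Nat.beq (u5k_T x (nat_lit 1)) (nat_lit 1)))) = true := by decide +kernel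

theorem u5k_L0_o : band (allRange (nat_lit 0) (nat_lit 176) (orbOK u5k_T (nat_lit 13) (u5k_E (nat_lit 0)) (Nat.beq (nat_lit 0)))) (band (Nat.ble (nat_lit 176) (count2 (nat_lit 176) fun p => Nat.ble 256 (u5k_E (nat_lit 0) p))) (allLt (nat_lit 10) (fun x => Nat.beq (u5k_T x (nat_lit 0)) (nat_lit 0)))) = true := by decide +kernel

/-- The letters: a strong generating set, deepest stabiliser first. -/
noncomputable def u5k_g {G : Type*} [Group G] (a : ℕ → G) : ℕ → G := fun x => slp a 3 u5k_defs (u5k_iota x)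

theorem u5k_tabs {G α : Type*} [Group G] [MulAction G α] {e : ℕ → α} {a : ℕ → G} (h0 : Tabs e 176 u5k_S a 3) : Tabs e 176 u5k_T (u5k_g a) 13 :=
  Tabs.rename (ι := u5k_iota) (g := slp a 3 u5k_defs) ((Tabs.slp_base u5k_defs h0).slp_add (by decide) _ u5k_slp0) u5k_ren

theorem u5k_gen {G : Type*} [Group G] (a : ℕ → G) : genLt (u5k_g a) 13 = genLt a 3 :=
  genLt_slp_eq a u5k_defs (back := getP 8 255 (nat_lit 0xc0b0a)) (by decide +kernel)

theorem u5k_low5 {G α : Type*} [Group G] [MulAction G α] {e : ℕ → α} {a : ℕ → G} (he : Set.InjOn e (Set.Iio 176)) (h0 : Tabs e 176 u5k_S a 3) :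
    LowLevel (genLt (u5k_g a) 2) (genLt (u5k_g a) 0) (e 41) 3 :=
  Tabs.lowLevel (u5k_tabs h0) he (by decide) (by decide) (by decide) u5k_L5_o

theorem u5k_ge5 {G α : Type*} [Group G] [MulAction G α] {e : ℕ → α} {a : ℕ → G} (he : Set.InjOn e (Set.Iio 176)) (h0 : Tabs e 176 u5k_S a 3) :
    Finite (genLt (u5k_g a) 2) → 3 ≤ Nat.card (genLt (u5k_g a) 2) := fun hK =>
  (u5k_low5 he h0).card hK (one_le_card_fin _)

theorem u5k_fix5 {G α : Type*} [Group G] [MulAction G α] {e : ℕ → α} {a : ℕ → G} (he : Set.InjOn e (Set.Iio 176)) (h0 : Tabs e 176 u5k_S a 3) :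
    ∀ X : Subgroup G, Finite X → (genLt (u5k_g a) 2) ≤ X → 3 * Nat.card (fixB e X [41]) ≤ Nat.card X :=
  (u5k_low5 he h0).card_fix (card_fix_nil _ _)

theorem u5k_low4 {G α : Type*} [Group G] [MulAction G α] {e : ℕ → α} {a : ℕ → G} (he : Set.InjOn e (Set.Iio 176)) (h0 : Tabs e 176 u5k_S a 3) :
    LowLevel (genLt (u5k_g a) 3) (genLt (u5k_g a) 2) (e 13) 6 :=
  Tabs.lowLevel (u5k_tabs h0) he (by decide) (by decide) (by decide) u5k_L4_o

theorem u5k_ge4 {G α : Type*} [Group G] [MulAction G α] {e : ℕ → α} {a : ℕ → G} (he : Set.InjOn e (Set.Iio 176)) (h0 : Tabs e 176 u5k_S a 3) :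
    Finite (genLt (u5k_g a) 3) → 18 ≤ Nat.card (genLt (u5k_g a) 3) := fun hK =>
  (u5k_low4 he h0).card hK (u5k_ge5 he h0)

theorem u5k_fix4 {G α : Type*} [Group G] [MulAction G α] {e : ℕ → α} {a : ℕ → G} (he : Set.InjOn e (Set.Iio 176)) (h0 : Tabs e 176 u5k_S a 3) :
    ∀ X : Subgroup G, Finite X → (genLt (u5k_g a) 3) ≤ X → 18 * Nat.card (fixB e X [13, 41]) ≤ Nat.card X :=
  (u5k_low4 he h0).card_fix (u5k_fix5 he h0)

theorem u5k_low3 {G α : Type*} [Group G] [MulAction G α] {e : ℕ → α} {a : ℕ → G} (he : Set.InjOn e (Set.Iio 176)) (h0 : Tabs e 176 u5k_S a 3) :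
    LowLevel (genLt (u5k_g a) 7) (genLt (u5k_g a) 3) (e 3) 9 :=
  Tabs.lowLevel (u5k_tabs h0) he (by decide) (by decide) (by decide) u5k_L3_o

theorem u5k_ge3 {G α : Type*} [Group G] [MulAction G α] {e : ℕ → α} {a : ℕ → G} (he : Set.InjOn e (Set.Iio 176)) (h0 : Tabs e 176 u5k_S a 3) :
    Finite (genLt (u5k_g a) 7) → 162 ≤ Nat.card (genLt (u5k_g a) 7) := fun hK =>
  (u5k_low3 he h0).card hK (u5k_ge4 he h0)

theorem u5k_fix3 {G α : Type*} [Group G] [MulAction G α] {e : ℕ → α} {a : ℕ → G} (he : Set.InjOn e (Set.Iio 176)) (h0 : Tabs e 176 u5k_S a 3) :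
    ∀ X : Subgroup G, Finite X → (genLt (u5k_g a) 7) ≤ X → 162 * Nat.card (fixB e X [3, 13, 41]) ≤ Nat.card X :=
  (u5k_low3 he h0).card_fix (u5k_fix4 he h0)

theorem u5k_low2 {G α : Type*} [Group G] [MulAction G α] {e : ℕ → α} {a : ℕ → G} (he : Set.InjOn e (Set.Iio 176)) (h0 : Tabs e 176 u5k_S a 3) :
    LowLevel (genLt (u5k_g a) 9) (genLt (u5k_g a) 7) (e 2) 12 :=
  Tabs.lowLevel (u5k_tabs h0) he (by decide) (by decide) (by decide) u5k_L2_o

theorem u5k_ge2 {G α : Type*} [Group G] [MulAction G α] {e : ℕ → α} {a : ℕ → G} (he : Set.InjOn e (Set.Iio 176)) (h0 : Tabs e 176 u5k_S a 3) :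
    Finite (genLt (u5k_g a) 9) → 1944 ≤ Nat.card (genLt (u5k_g a) 9) := fun hK =>
  (u5k_low2 he h0).card hK (u5k_ge3 he h0)

theorem u5k_fix2 {G α : Type*} [Group G] [MulAction G α] {e : ℕ → α} {a : ℕ → G} (he : Set.InjOn e (Set.Iio 176)) (h0 : Tabs e 176 u5k_S a 3) :
    ∀ X : Subgroup G, Finite X → (genLt (u5k_g a) 9) ≤ X → 1944 * Nat.card (fixB e X [2, 3, 13, 41]) ≤ Nat.card X :=
  (u5k_low2 he h0).card_fix (u5k_fix3 he h0)

theorem u5k_low1 {G α : Type*} [Group G] [MulAction G α] {e : ℕ → α} {a : ℕ → G} (he : Set.InjOn e (Set.Iio 176)) (h0 : Tabs e 176 u5k_S a 3) :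
    LowLevel (genLt (u5k_g a) 10) (genLt (u5k_g a) 9) (e 1) 40 :=
  Tabs.lowLevel (u5k_tabs h0) he (by decide) (by decide) (by decide) u5k_L1_o

theorem u5k_ge1 {G α : Type*} [Group G] [MulAction G α] {e : ℕ → α} {a : ℕ → G} (he : Set.InjOn e (Set.Iio 176)) (h0 : Tabs e 176 u5k_S a 3) :
    Finite (genLt (u5k_g a) 10) → 77760 ≤ Nat.card (genLt (u5k_g a) 10) := fun hK =>
  (u5k_low1 he h0).card hK (u5k_ge2 he h0)

theorem u5k_fix1 {G α : Type*} [Group G] [MulAction G α] {e : ℕ → α} {a : ℕ → G} (he : Set.InjOn e (Set.Iio 176)) (h0 : Tabs e 176 u5k_S a 3) :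
    ∀ X : Subgroup G, Finite X → (genLt (u5k_g a) 10) ≤ X → 77760 * Nat.card (fixB e X [1, 2, 3, 13, 41]) ≤ Nat.card X :=
  (u5k_low1 he h0).card_fix (u5k_fix2 he h0)

theorem u5k_low0 {G α : Type*} [Group G] [MulAction G α] {e : ℕ → α} {a : ℕ → G} (he : Set.InjOn e (Set.Iio 176)) (h0 : Tabs e 176 u5k_S a 3) :
    LowLevel (genLt (u5k_g a) 13) (genLt (u5k_g a) 10) (e 0) 176 :=
  Tabs.lowLevel (u5k_tabs h0) he (by decide) (by decide) (by decide) u5k_L0_o

theorem u5k_ge0 {G α : Type*} [Group G] [MulAction G α] {e : ℕ → α} {a : ℕ → G} (he : Set.InjOn e (Set.Iio 176)) (h0 : Tabs e 176 u5k_S a 3) :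
    Finite (genLt (u5k_g a) 13) → 13685760 ≤ Nat.card (genLt (u5k_g a) 13) := fun hK =>
  (u5k_low0 he h0).card hK (u5k_ge1 he h0)

theorem u5k_fix0 {G α : Type*} [Group G] [MulAction G α] {e : ℕ → α} {a : ℕ → G} (he : Set.InjOn e (Set.Iio 176)) (h0 : Tabs e 176 u5k_S a 3) :
    ∀ X : Subgroup G, Finite X → (genLt (u5k_g a) 13) ≤ X → 13685760 * Nat.card (fixB e X [0, 1, 2, 3, 13, 41]) ≤ Nat.card X :=
  (u5k_low0 he h0).card_fix (u5k_fix1 he h0)

theorem u5k_ub0 {G α : Type*} [Group G] [MulAction G α] {e : ℕ → α} {a : ℕ → G} (he : Set.InjOn e (Set.Iio 176)) (h0 : Tabs e 176 u5k_S a 3) (hub : Nat.card (genLt a 3) ≠ 0 ∧ Nat.card (genLt a 3) ≤ 13685760) :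
    Nat.card (genLt (u5k_g a) 13) ≠ 0 ∧ Nat.card (genLt (u5k_g a) 13) ≤ 13685760 := by rw [u5k_gen]; exact hub

theorem u5k_level0 {G α : Type*} [Group G] [MulAction G α] {e : ℕ → α} {a : ℕ → G} (he : Set.InjOn e (Set.Iio 176)) (h0 : Tabs e 176 u5k_S a 3) (hub : Nat.card (genLt a 3) ≠ 0 ∧ Nat.card (genLt a 3) ≤ 13685760) :
    Level (genLt (u5k_g a) 13) (genLt (u5k_g a) 10) (e 0) 176 :=
  ((u5k_low0 he h0).level (c := 77760) (u5k_ub0 he h0 hub) (u5k_ge1 he h0)).1

theorem u5k_ub1 {G α : Type*} [Group G] [MulAction G α] {e : ℕ → α} {a : ℕ → G} (he : Set.InjOn e (Set.Iio 176)) (h0 : Tabs e 176 u5k_S a 3) (hub : Nat.card (genLt a 3) ≠ 0 ∧ Nat.card (genLt a 3) ≤ 13685760) :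
    Nat.card (genLt (u5k_g a) 10) ≠ 0 ∧ Nat.card (genLt (u5k_g a) 10) ≤ 77760 :=
  ((u5k_low0 he h0).level (c := 77760) (u5k_ub0 he h0 hub) (u5k_ge1 he h0)).2

theorem u5k_level1 {G α : Type*} [Group G] [MulAction G α] {e : ℕ → α} {a : ℕ → G} (he : Set.InjOn e (Set.Iio 176)) (h0 : Tabs e 176 u5k_S a 3) (hub : Nat.card (genLt a 3) ≠ 0 ∧ Nat.card (genLt a 3) ≤ 13685760) :
    Level (genLt (u5k_g a) 10) (genLt (u5k_g a) 9) (e 1) 40 :=
  ((u5k_low1 he h0).level (c := 1944) (u5k_ub1 he h0 hub) (u5k_ge2 he h0)).1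

theorem u5k_ub2 {G α : Type*} [Group G] [MulAction G α] {e : ℕ → α} {a : ℕ → G} (he : Set.InjOn e (Set.Iio 176)) (h0 : Tabs e 176 u5k_S a 3) (hub : Nat.card (genLt a 3) ≠ 0 ∧ Nat.card (genLt a 3) ≤ 13685760) :
    Nat.card (genLt (u5k_g a) 9) ≠ 0 ∧ Nat.card (genLt (u5k_g a) 9) ≤ 1944 :=
  ((u5k_low1 he h0).level (c := 1944) (u5k_ub1 he h0 hub) (u5k_ge2 he h0)).2

theorem u5k_level2 {G α : Type*} [Group G] [MulAction G α] {e : ℕ → α} {a : ℕ → G} (he : Set.InjOn e (Set.Iio 176)) (h0 : Tabs e 176 u5k_S a 3) (hub : Nat.card (genLt a 3) ≠ 0 ∧ Nat.card (genLt a 3) ≤ 13685760) :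
    Level (genLt (u5k_g a) 9) (genLt (u5k_g a) 7) (e 2) 12 :=
  ((u5k_low2 he h0).level (c := 162) (u5k_ub2 he h0 hub) (u5k_ge3 he h0)).1

theorem u5k_ub3 {G α : Type*} [Group G] [MulAction G α] {e : ℕ → α} {a : ℕ → G} (he : Set.InjOn e (Set.Iio 176)) (h0 : Tabs e 176 u5k_S a 3) (hub : Nat.card (genLt a 3) ≠ 0 ∧ Nat.card (genLt a 3) ≤ 13685760) :
    Nat.card (genLt (u5k_g a) 7) ≠ 0 ∧ Nat.card (genLt (u5k_g a) 7) ≤ 162 :=
  ((u5k_low2 he h0).level (c := 162) (u5k_ub2 he h0 hub) (u5k_ge3 he h0)).2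

theorem u5k_level3 {G α : Type*} [Group G] [MulAction G α] {e : ℕ → α} {a : ℕ → G} (he : Set.InjOn e (Set.Iio 176)) (h0 : Tabs e 176 u5k_S a 3) (hub : Nat.card (genLt a 3) ≠ 0 ∧ Nat.card (genLt a 3) ≤ 13685760) :
    Level (genLt (u5k_g a) 7) (genLt (u5k_g a) 3) (e 3) 9 :=
  ((u5k_low3 he h0).level (c := 18) (u5k_ub3 he h0 hub) (u5k_ge4 he h0)).1

theorem u5k_ub4 {G α : Type*} [Group G] [MulAction G α] {e : ℕ → α} {a : ℕ → G} (he : Set.InjOn e (Set.Iio 176)) (h0 : Tabs e 176 u5k_S a 3) (hub : Nat.card (genLt a 3) ≠ 0 ∧ Nat.card (genLt a 3) ≤ 13685760) :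
    Nat.card (genLt (u5k_g a) 3) ≠ 0 ∧ Nat.card (genLt (u5k_g a) 3) ≤ 18 :=
  ((u5k_low3 he h0).level (c := 18) (u5k_ub3 he h0 hub) (u5k_ge4 he h0)).2

theorem u5k_level4 {G α : Type*} [Group G] [MulAction G α] {e : ℕ → α} {a : ℕ → G} (he : Set.InjOn e (Set.Iio 176)) (h0 : Tabs e 176 u5k_S a 3) (hub : Nat.card (genLt a 3) ≠ 0 ∧ Nat.card (genLt a 3) ≤ 13685760) :
    Level (genLt (u5k_g a) 3) (genLt (u5k_g a) 2) (e 13) 6 :=
  ((u5k_low4 he h0).level (c := 3) (u5k_ub4 he h0 hub) (u5k_ge5 he h0)).1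

theorem u5k_ub5 {G α : Type*} [Group G] [MulAction G α] {e : ℕ → α} {a : ℕ → G} (he : Set.InjOn e (Set.Iio 176)) (h0 : Tabs e 176 u5k_S a 3) (hub : Nat.card (genLt a 3) ≠ 0 ∧ Nat.card (genLt a 3) ≤ 13685760) :
    Nat.card (genLt (u5k_g a) 2) ≠ 0 ∧ Nat.card (genLt (u5k_g a) 2) ≤ 3 :=
  ((u5k_low4 he h0).level (c := 3) (u5k_ub4 he h0 hub) (u5k_ge5 he h0)).2

theorem u5k_level5 {G α : Type*} [Group G] [MulAction G α] {e : ℕ → α} {a : ℕ → G} (he : Set.InjOn e (Set.Iio 176)) (h0 : Tabs e 176 u5k_S a 3) (hub : Nat.card (genLt a 3) ≠ 0 ∧ Nat.card (genLt a 3) ≤ 13685760) :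
    Level (genLt (u5k_g a) 2) (genLt (u5k_g a) 0) (e 41) 3 :=
  ((u5k_low5 he h0).level (c := 1) (u5k_ub5 he h0 hub) (one_le_card_fin _)).1

theorem u5k_card5 {G α : Type*} [Group G] [MulAction G α] {e : ℕ → α} {a : ℕ → G} (he : Set.InjOn e (Set.Iio 176)) (h0 : Tabs e 176 u5k_S a 3) (hub : Nat.card (genLt a 3) ≠ 0 ∧ Nat.card (genLt a 3) ≤ 13685760) :
    Nat.card (genLt (u5k_g a) 2) = 3 :=
  (u5k_level5 he h0 hub).card (card_genLt_zero _)

theorem u5k_base5 {G α : Type*} [Group G] [MulAction G α] {e : ℕ → α} {a : ℕ → G} (he : Set.InjOn e (Set.Iio 176)) (h0 : Tabs e 176 u5k_S a 3) (hub : Nat.card (genLt a 3) ≠ 0 ∧ Nat.card (genLt a 3) ≤ 13685760) :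
    IsBase e (genLt (u5k_g a) 2) [41] :=
  (u5k_level5 he h0 hub).base (isBase_genLt_zero _ _)

theorem u5k_card4 {G α : Type*} [Group G] [MulAction G α] {e : ℕ → α} {a : ℕ → G} (he : Set.InjOn e (Set.Iio 176)) (h0 : Tabs e 176 u5k_S a 3) (hub : Nat.card (genLt a 3) ≠ 0 ∧ Nat.card (genLt a 3) ≤ 13685760) :
    Nat.card (genLt (u5k_g a) 3) = 18 :=
  (u5k_level4 he h0 hub).card (u5k_card5 he h0 hub)

theorem u5k_base4 {G α : Type*} [Group G] [MulAction G α] {e : ℕ → α} {a : ℕ → G} (he : Set.InjOn e (Set.Iio 176)) (h0 : Tabs e 176 u5k_S a 3) (hub : Nat.card (genLt a 3) ≠ 0 ∧ Nat.card (genLt a 3) ≤ 13685760) :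
    IsBase e (genLt (u5k_g a) 3) [13, 41] :=
  (u5k_level4 he h0 hub).base (u5k_base5 he h0 hub)

theorem u5k_card3 {G α : Type*} [Group G] [MulAction G α] {e : ℕ → α} {a : ℕ → G} (he : Set.InjOn e (Set.Iio 176)) (h0 : Tabs e 176 u5k_S a 3) (hub : Nat.card (genLt a 3) ≠ 0 ∧ Nat.card (genLt a 3) ≤ 13685760) :
    Nat.card (genLt (u5k_g a) 7) = 162 :=
  (u5k_level3 he h0 hub).card (u5k_card4 he h0 hub)

theorem u5k_base3 {G α : Type*} [Group G] [MulAction G α] {e : ℕ → α} {a : ℕ → G} (he : Set.InjOn e (Set.Iio 176)) (h0 : Tabs e 176 u5k_S a 3) (hub : Nat.card (genLt a 3) ≠ 0 ∧ Nat.card (genLt a 3) ≤ 13685760) :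
    IsBase e (genLt (u5k_g a) 7) [3, 13, 41] :=
  (u5k_level3 he h0 hub).base (u5k_base4 he h0 hub)

theorem u5k_card2 {G α : Type*} [Group G] [MulAction G α] {e : ℕ → α} {a : ℕ → G} (he : Set.InjOn e (Set.Iio 176)) (h0 : Tabs e 176 u5k_S a 3) (hub : Nat.card (genLt a 3) ≠ 0 ∧ Nat.card (genLt a 3) ≤ 13685760) :
    Nat.card (genLt (u5k_g a) 9) = 1944 :=
  (u5k_level2 he h0 hub).card (u5k_card3 he h0 hub)

theorem u5k_base2 {G α : Type*} [Group G] [MulAction G α] {e : ℕ → α} {a : ℕ → G} (he : Set.InjOn e (Set.Iio 176)) (h0 : Tabs e 176 u5k_S a 3) (hub : Nat.card (genLt a 3) ≠ 0 ∧ Nat.card (genLt a 3) ≤ 13685760) :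
    IsBase e (genLt (u5k_g a) 9) [2, 3, 13, 41] :=
  (u5k_level2 he h0 hub).base (u5k_base3 he h0 hub)

theorem u5k_card1 {G α : Type*} [Group G] [MulAction G α] {e : ℕ → α} {a : ℕ → G} (he : Set.InjOn e (Set.Iio 176)) (h0 : Tabs e 176 u5k_S a 3) (hub : Nat.card (genLt a 3) ≠ 0 ∧ Nat.card (genLt a 3) ≤ 13685760) :
    Nat.card (genLt (u5k_g a) 10) = 77760 :=
  (u5k_level1 he h0 hub).card (u5k_card2 he h0 hub)

theorem u5k_base1 {G α : Type*} [Group G] [MulAction G α] {e : ℕ → α} {a : ℕ → G} (he : Set.InjOn e (Set.Iio 176)) (h0 : Tabs e 176 u5k_S a 3) (hub : Nat.card (genLt a 3) ≠ 0 ∧ Nat.card (genLt a 3) ≤ 13685760) :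
    IsBase e (genLt (u5k_g a) 10) [1, 2, 3, 13, 41] :=
  (u5k_level1 he h0 hub).base (u5k_base2 he h0 hub)

theorem u5k_card0 {G α : Type*} [Group G] [MulAction G α] {e : ℕ → α} {a : ℕ → G} (he : Set.InjOn e (Set.Iio 176)) (h0 : Tabs e 176 u5k_S a 3) (hub : Nat.card (genLt a 3) ≠ 0 ∧ Nat.card (genLt a 3) ≤ 13685760) :
    Nat.card (genLt (u5k_g a) 13) = 13685760 :=
  (u5k_level0 he h0 hub).card (u5k_card1 he h0 hub)

theorem u5k_base0 {G α : Type*} [Group G] [MulAction G α] {e : ℕ → α} {a : ℕ → G} (he : Set.InjOn e (Set.Iio 176)) (h0 : Tabs e 176 u5k_S a 3) (hub : Nat.card (genLt a 3) ≠ 0 ∧ Nat.card (genLt a 3) ≤ 13685760) :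
    IsBase e (genLt (u5k_g a) 13) [0, 1, 2, 3, 13, 41] :=
  (u5k_level0 he h0 hub).base (u5k_base1 he h0 hub)

theorem u5k_hinv {G α : Type*} [Group G] [MulAction G α] {e : ℕ → α} {a : ℕ → G} (he : Set.InjOn e (Set.Iio 176)) (h0 : Tabs e 176 u5k_S a 3) (hub : Nat.card (genLt a 3) ≠ 0 ∧ Nat.card (genLt a 3) ≤ 13685760) : ∀ x < 13, u5k_g a x * u5k_g a (u5k_inv x) = 1 :=
  (u5k_tabs h0).hinv_of_base (u5k_base0 he h0 hub) (by decide +kernel)

theorem u5k_card {G α : Type*} [Group G] [MulAction G α] {e : ℕ → α} {a : ℕ → G} (he : Set.InjOn e (Set.Iio 176)) (h0 : Tabs e 176 u5k_S a 3) (hub : Nat.card (genLt a 3) ≠ 0 ∧ Nat.card (genLt a 3) ≤ 13685760) :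
    Nat.card (genLt a 3) = 13685760 := by
  rw [← u5k_gen]; exact u5k_card0 he h0 hub

end Cfsg.Agent.Spor.MX
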