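import Mathlib
import Cfsg.Agent.Spor.MX.W52
import Cfsg.Agent.Spor.MX.W52Ch
import Cfsg.Agent.Spor.MX.ClLink2
import Cfsg.Agent.Cl.USimple
import Cfsg.Agent.S2089

/-! Generated by tools/mx: letters in U5(2), whose multiplier is trivial -/

set_option autoImplicit false
set_option maxRecDepth 100000
set_option linter.unusedVariables false
set_option exponentiation.threshold 100000

namespace Cfsg.Agent.Spor.MX

open Cfsg.Agent.Spor

universe u

noncomputable def u5k_M : ℕ → ℕ := BT.get (.node (.node (.leaf (nat_lit 0x1020203030300020001030301030202000200020201030301))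
   (.leaf (nat_lit 0x1000300020001010003020101000000000001000302000001))
  ) (.leaf (nat_lit 0x300000001000000020000000000000001000000000001))
  )

noncomputable def u5k_P : ℕ → ℕ := getP (nat_lit 40) (nat_lit 1099511627775) (nat_lit 0x3030303010203030301010303030103020303010202030301010203030103010303010201030301010103030100000303010303020301020302030101030203010302020301020202030101020203010301020301020102030101010203010000020301030301030102030103010103010301030201030102020103010102010301030101030102010103010101010301000001030100030003010002000301000100030103000003010200000301010000030103030302010203030201010303020103020302010202030201010203020103010302010201030201010103020100000302010303020201020302020101030202010302020201020202020101020202010301020201020102020101010202010000020201030301020102030102010103010201030201020102020102010102010201030101020102010102010101010201000001020100030002010002000201000100020103000002010200000201010000020103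030301010203030101010303010103020301010202030101010203010103010301010201030101010103010100000301010303020101020302010101030201010302020101020202010101020201010301020101020102010101010201010000020101030301010102030101010103010101030201010102020101010102010101030101010102010101010101010101000001010100030001010002000101000100010103000001010200000101010000010100030300010002030001000103000103000300010200030001010003000100030200010002020001000102000103000200010200020001010002000100030100010002010001000101000103000100010200010001010001000103030000010203000001010300000103020000010202000001010200000103010000010201000001010100000100000000010003030100000203010000010301000300030100020003010001000301000003020100000202010000010201000300020100020002010001000201000003010100000201010000010101000300010100020001010001000101000303000100020300010001030001000302000100020200010001020001000301000100020100010001010001000000000100030301000002030100000103010000030201000002020100000102010000030101000002010100000101010000000001000000010000000100000000)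

noncomputable def u5k_A : ℕ → ℕ → ℕ := tabS (.node (.node (.leaf (nat_lit 0x31123113212231322212231312123121221122313222123132211321132123312332113221131122331323233133312231132112331231221132113212331231321113212312231333113211321321233123132323311312))
   (.leaf (nat_lit 0x21333112312133311231213331123132333221323112212132311221213231122122332221313112112131311211213131121112331232332212331222332221333112311322131322131322133121211311312121131123))
  ) (.leaf (nat_lit 0x11111111111111111111111111111111111111111111111111111111111111111111111111111111111111111111111111111111111111111111111111111111111111111111111111111111111111111111132132132312))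
  ) (nat_lit 4) (nat_lit 15)

/-- The generators. -/
noncomputable def u5k_a : ℕ → PSU 5 Cl.GF4 2 := fun x => (PM.suOf Cl.gf4 5 2 (u5k_M x) : PSU 5 Cl.GF4 2)

/-- The points. -/
noncomputable def u5k_e : ℕ → Submodule Cl.GF4 (Fin 5 → Cl.GF4) := fun i => PM.ptOf Cl.gf4 (Equiv.refl (Fin 5)) (u5k_P i)

/-- The strong letters. -/
noncomputable def u5k_k : ℕ → PSU 5 Cl.GF4 2 := u5k_g u5k_a

noncomputable def u5m_ws : LT :=
(.node (.node (.leaf [nat_lit 2,nat_lit 0,nat_lit 9,nat_lit 3,nat_lit 7,nat_lit 3,nat_lit 1,nat_lit 2,nat_lit 0])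
 (.leaf [nat_lit 9,nat_lit 5,nat_lit 8,nat_lit 9,nat_lit 0,nat_lit 8,nat_lit 5,nat_lit 4])
) (.node (.leaf [nat_lit 5,nat_lit 8,nat_lit 9,nat_lit 5,nat_lit 0,nat_lit 7,nat_lit 5,nat_lit 3,nat_lit 0,nat_lit 2,nat_lit 1])
 (.leaf [nat_lit 12,nat_lit 10,nat_lit 11,nat_lit 3,nat_lit 7,nat_lit 0,nat_lit 9,nat_lit 5,nat_lit 0,nat_lit 7,nat_lit 5,nat_lit 2,nat_lit 0,nat_lit 2])
))

noncomputable def u5m_back : LT :=
(.node (.node (.node (.node (.leaf [nat_lit 0,nat_lit 2,nat_lit 0,nat_lit 0,nat_lit 2,nat_lit 0,nat_lit 2,nat_lit 1,nat_lit 1,nat_lit 2,nat_lit 0,nat_lit 0,nat_lit 2,nat_lit 0,nat_lit 2,nat_lit 0,nat_lit 0,nat_lit 3,nat_lit 1,nat_lit 2,nat_lit 0,nat_lit 0,nat_lit 2,nat_lit 1,nat_lit 3])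
 (.leaf [nat_lit 2,nat_lit 0,nat_lit 0,nat_lit 2,nat_lit 0,nat_lit 2,nat_lit 1,nat_lit 1,nat_lit 2,nat_lit 0,nat_lit 0,nat_lit 2,nat_lit 0,nat_lit 2,nat_lit 3,nat_lit 0,nat_lit 2,nat_lit 1,nat_lit 1,nat_lit 2,nat_lit 0,nat_lit 3])
) (.node (.leaf [nat_lit 2,nat_lit 0,nat_lit 2,nat_lit 1,nat_lit 2,nat_lit 1,nat_lit 1,nat_lit 2,nat_lit 1,nat_lit 1,nat_lit 2,nat_lit 0,nat_lit 2,nat_lit 0,nat_lit 0,nat_lit 2,nat_lit 0,nat_lit 2,nat_lit 1,nat_lit 3,nat_lit 1,nat_lit 2,nat_lit 0,nat_lit 0,nat_lit 2,nat_lit 1,nat_lit 3])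
 (.leaf [nat_lit 2,nat_lit 1,nat_lit 1,nat_lit 2,nat_lit 1,nat_lit 2,nat_lit 1,nat_lit 2,nat_lit 3,nat_lit 0,nat_lit 2,nat_lit 0,nat_lit 3,nat_lit 0,nat_lit 0,nat_lit 2])
)) (.node (.node (.leaf [nat_lit 0,nat_lit 0,nat_lit 2,nat_lit 1,nat_lit 2,nat_lit 1,nat_lit 1,nat_lit 2,nat_lit 0,nat_lit 0,nat_lit 2,nat_lit 0,nat_lit 2,nat_lit 1,nat_lit 1])
 (.leaf [nat_lit 0,nat_lit 0,nat_lit 2,nat_lit 0,nat_lit 2,nat_lit 0,nat_lit 0,nat_lit 2,nat_lit 1,nat_lit 2,nat_lit 1,nat_lit 1,nat_lit 2,nat_lit 1,nat_lit 1,nat_lit 2,nat_lit 1,nat_lit 1,nat_lit 2,nat_lit 1,nat_lit 2,nat_lit 3,nat_lit 1,nat_lit 3])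
) (.leaf [nat_lit 1,nat_lit 1,nat_lit 2,nat_lit 0,nat_lit 0,nat_lit 2,nat_lit 0,nat_lit 0,nat_lit 2,nat_lit 0,nat_lit 0,nat_lit 2,nat_lit 1,nat_lit 1,nat_lit 2,nat_lit 1,nat_lit 2,nat_lit 0,nat_lit 2,nat_lit 0])
)) (.node (.node (.node (.leaf [nat_lit 1,nat_lit 1,nat_lit 2,nat_lit 1,nat_lit 1,nat_lit 2,nat_lit 1,nat_lit 2,nat_lit 0,nat_lit 0,nat_lit 2,nat_lit 1,nat_lit 1,nat_lit 2,nat_lit 1,nat_lit 2,nat_lit 1,nat_lit 3,nat_lit 0,nat_lit 2,nat_lit 1,nat_lit 1,nat_lit 2,nat_lit 0,nat_lit 3])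
 (.leaf [nat_lit 0,nat_lit 0,nat_lit 2,nat_lit 0,nat_lit 2,nat_lit 0,nat_lit 0,nat_lit 2,nat_lit 0,nat_lit 0,nat_lit 2,nat_lit 0,nat_lit 0,nat_lit 2,nat_lit 1,nat_lit 1,nat_lit 2,nat_lit 1,nat_lit 2,nat_lit 0,nat_lit 0,nat_lit 2,nat_lit 0,nat_lit 2])
) (.leaf [nat_lit 1,nat_lit 1,nat_lit 2,nat_lit 0,nat_lit 2,nat_lit 1,nat_lit 2,nat_lit 1,nat_lit 1,nat_lit 2,nat_lit 1,nat_lit 1,nat_lit 2,nat_lit 1,nat_lit 1,nat_lit 2,nat_lit 1,nat_lit 1,nat_lit 2,nat_lit 0,nat_lit 0])
) (.node (.node (.leaf [nat_lit 0,nat_lit 2,nat_lit 1,nat_lit 2,nat_lit 1,nat_lit 1,nat_lit 2,nat_lit 1,nat_lit 2,nat_lit 0,nat_lit 0,nat_lit 2,nat_lit 0,nat_lit 0,nat_lit 2,nat_lit 0,nat_lit 2,nat_lit 1,nat_lit 2,nat_lit 3,nat_lit 0,nat_lit 2,nat_lit 1,nat_lit 1,nat_lit 2,nat_lit 0,nat_lit 3])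
 (.leaf [nat_lit 0,nat_lit 0,nat_lit 2,nat_lit 0,nat_lit 0,nat_lit 2,nat_lit 0,nat_lit 0,nat_lit 2,nat_lit 0,nat_lit 2,nat_lit 0,nat_lit 2,nat_lit 0,nat_lit 0,nat_lit 2,nat_lit 1,nat_lit 2,nat_lit 1,nat_lit 2,nat_lit 1,nat_lit 3,nat_lit 0,nat_lit 0,nat_lit 3,nat_lit 1,nat_lit 2,nat_lit 3,nat_lit 1])
) (.leaf [nat_lit 1,nat_lit 2,nat_lit 0,nat_lit 0,nat_lit 2,nat_lit 1,nat_lit 2,nat_lit 0,nat_lit 0,nat_lit 2,nat_lit 0,nat_lit 2,nat_lit 1,nat_lit 1,nat_lit 2,nat_lit 1,nat_lit 2,nat_lit 1,nat_lit 2,nat_lit 1,nat_lit 1,nat_lit 2,nat_lit 3,nat_lit 1,nat_lit 2,nat_lit 0,nat_lit 0,nat_lit 2,nat_lit 1,nat_lit 3])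
)))

/-- The letters of the chain. -/
noncomputable def u5m_g : ℕ → PSU 5 Cl.GF4 2 := fun x => evalW u5k_k (u5m_ws.get x)

theorem u5k_p0 : allRange (nat_lit 0) (nat_lit 176) (PM.ptsOK Cl.gf4 (nat_lit 5) (nat_lit 176) u5k_M u5k_P u5k_S u5k_A (nat_lit 0)) = true := by decide +kernel

theorem u5k_p1 : allRange (nat_lit 0) (nat_lit 176) (PM.ptsOK Cl.gf4 (nat_lit 5) (nat_lit 176) u5k_M u5k_P u5k_S u5k_A (nat_lit 1)) = true := by decide +kernel

theorem u5k_p2 : allRange (nat_lit 0) (nat_lit 176) (PM.ptsOK Cl.gf4 (nat_lit 5) (nat_lit 176) u5k_M u5k_P u5k_S u5k_A (nat_lit 2)) = true := by decide +kernel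

theorem u5k_srt : allRange 0 176 (fun i => band (Nat.beq (PM.lead Cl.gf4 (u5k_P i) 5) 1)
    (bor (Nat.beq (Nat.succ i) 176) (blt (PM.key Cl.gf4 (u5k_P i) 5) (PM.key Cl.gf4 (u5k_P (Nat.succ i)) 5)))) = true := by decide +kernel

theorem u5k_uni : allLt 3 (fun x => PM.uniOK Cl.gf4 5 2 (u5k_M x)) = true := by decide +kernel

theorem u5k_inv2 : ∀ x < 3, PM.invOK Cl.gf4 5 (u5k_M x) (u5k_M x) = true := by decide +kernel

theorem u5m_k0 : allRange (nat_lit 0) (nat_lit 13) (backB u5k_T u5m_ws u5m_back [nat_lit 0,nat_lit 1,nat_lit 2,nat_lit 3,nat_lit 13,nat_lit 41]) = true := by decide +kernel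

theorem u5m_r41 : fixAll (tabW u5k_T u5m_ws) w52_rels (nat_lit 41) = true := by decide +kernel

theorem u5m_r13 : fixAll (tabW u5k_T u5m_ws) w52_rels (nat_lit 13) = true := by decide +kernel

theorem u5m_r3 : fixAll (tabW u5k_T u5m_ws) w52_rels (nat_lit 3) = true := by decide +kernel

theorem u5m_r2 : fixAll (tabW u5k_T u5m_ws) w52_rels (nat_lit 2) = true := by decide +kernel

theorem u5m_r1 : fixAll (tabW u5k_T u5m_ws) w52_rels (nat_lit 1) = true := by decide +kernel

theorem u5m_r0 : fixAll (tabW u5k_T u5m_ws) w52_rels (nat_lit 0) = true := by decide +kernel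

theorem u5k_cardG : Nat.card (PSU 5 Cl.GF4 2) = 13685760 := card_PSU52

noncomputable local instance u5k_act : MulAction (PSU 5 Cl.GF4 2) (Submodule Cl.GF4 (Fin 5 → Cl.GF4)) := PM.psuAct (n := 5) (q := 2) (Cl.TF.card_eq (D := Cl.gf4)) (by norm_num)

theorem u5k_h0 : Tabs u5k_e 176 u5k_S u5k_a 3 :=
  PM.tabs_psu (D := Cl.gf4) (n := 5) (q := 2) rfl (by norm_num) u5k_uni (fun x hx => PM.det_eq_one_of_sq _ (u5k_inv2 x hx)) (A := u5k_A) (Nat.forall_lt_succ_right.2 ⟨(Nat.forall_lt_succ_right.2 ⟨(Nat.forall_lt_succ_right.2 ⟨(fun _ h => absurd h (Nat.not_lt_zero _)), u5k_p0⟩), u5k_p1⟩), u5k_p2⟩)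

theorem u5k_he : Set.InjOn u5k_e (Set.Iio 176) := PM.injOn_pts (Equiv.refl (Fin 5)) u5k_srt

theorem u5k_ktabs : Tabs u5k_e 176 u5k_T u5k_k 13 := u5k_tabs u5k_h0

theorem u5k_basek : IsBase u5k_e (genLt u5k_k 13) [0, 1, 2, 3, 13, 41] := u5k_base0 u5k_he u5k_h0 (hub_of_card _ _ u5k_cardG)

theorem u5k_topk : genLt u5k_k 13 = ⊤ := top_of_chain u5k_cardG (u5k_gen _) (u5k_card u5k_he u5k_h0 (hub_of_card _ _ u5k_cardG))

theorem u5m_tabs : Tabs u5k_e 176 (tabW u5k_T u5m_ws) u5m_g 4 := tabs_tabW u5k_ktabs (by decide +kernel) 4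

theorem u5m_eq : genLt u5m_g 4 = genLt u5k_k 13 :=
  genLt_tabW u5k_ktabs u5k_basek (back := u5m_back) (by decide +kernel) (range_append _ (allLt_of_zero _) u5m_k0 rfl)

theorem u5m_base : IsBase u5k_e (genLt u5m_g 4) [0, 1, 2, 3, 13, 41] := u5m_eq ▸ u5k_basek

theorem u5m_gen : Gen ⊤ u5m_g w52_rels 4 13685760 :=
  gen_of_fixAll u5m_tabs (u5m_eq.trans u5k_topk) (u5k_topk ▸ u5k_basek) (Subgroup.card_top.trans u5k_cardG) (by decide +kernel) (forall_mem_cons' u5m_r0 (forall_mem_cons' u5m_r1 (forall_mem_cons' u5m_r2 (forall_mem_cons' u5m_r3 (forall_mem_cons' u5m_r13 (forall_mem_cons' u5m_r41 forall_mem_nil'))))))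

theorem w52_l8 {G : Type u} [Group G] {g : ℕ → G} (h : ∀ i, evalW g (w52_rels.get i) = 1) : Lifts 8 g 4 13685760 :=
  u5m_gen.lifts_of_trivial (w52_bnd (wp_rels _)) ((Cl.uField_uConj (F := Cl.GF4) (q := 2) Cl.card_GF4).isSimpleGroup_PSU (by norm_num) (by norm_num))
    (S2089.result 5 2 Cl.card_GF4 (by norm_num) (by norm_num) (by decide)) (by decide +kernel) (p := 2) (by norm_num) 3 h

theorem w52_l9 {G : Type u} [Group G] {g : ℕ → G} (h : ∀ i, evalW g (w52_rels.get i) = 1) : Lifts 9 g 4 13685760 :=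
  u5m_gen.lifts_of_trivial (w52_bnd (wp_rels _)) ((Cl.uField_uConj (F := Cl.GF4) (q := 2) Cl.card_GF4).isSimpleGroup_PSU (by norm_num) (by norm_num))
    (S2089.result 5 2 Cl.card_GF4 (by norm_num) (by norm_num) (by decide)) (by decide +kernel) (p := 3) (by norm_num) 2 h

theorem w52_l5 {G : Type u} [Group G] {g : ℕ → G} (h : ∀ i, evalW g (w52_rels.get i) = 1) : Lifts 5 g 4 13685760 :=
  u5m_gen.lifts_of_trivial (w52_bnd (wp_rels _)) ((Cl.uField_uConj (F := Cl.GF4) (q := 2) Cl.card_GF4).isSimpleGroup_PSU (by norm_num) (by norm_num))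
    (S2089.result 5 2 Cl.card_GF4 (by norm_num) (by norm_num) (by decide)) (by decide +kernel) (p := 5) (by norm_num) 1 h


end Cfsg.Agent.Spor.MX
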